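import Cfsg.Agent.H6.ChevChk
import Cfsg.Prelude.Def_ChevD4

/-! Packed tables for type D4. -/

set_option autoImplicit false
set_option maxRecDepth 100000

noncomputable section

namespace CfsgH6
namespace Chev

open Cfsg.Lie

def ftD4 : FT where
  l := 4
  n := 24
  W := 11
  mask := 2047
  rows := [0xc268450760c0028230360540400000000000000000000000000000000000000, 0x61c00185b0a000c1a8280000000281d02000002800000000000000000000000000, 0xa1ec3000000614c1c0050500000282000a02000003000000000000000000000000, 0xa20c3400000616c2000000a0a00000504001404000006000000000000000000000, 0x62200186b0c000c240000000141400000a07408000000014000000000000000000, 0xc458830f61c000000000000000000000000282503a054040000000000000000, 0xa27448000000000000030b614002845070000000000000000180b0000000000000, 0x6280028900000000186000000c2a84800a0c0000000000000181000a0000000000, 0x62a0000051200000186800000c2c00509001418000000000018180000140000000, 0xa2c00000000a240000030d61800000000a1141c000000000018200000000180000, 0x14528980000000287d0e0000000000000000183b060000000030260200000000, 0x14540051300000288000a1c000000000000018400060c00000303000c0400000, 0x28b000a280000051100143c0000000000000309000c1c0000060800181000,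 0x516a2a00000000a234400000000000000000612c2000000000c1181800, 0x145c0000000144c000000000018830f0000000050ba140000030500000000301, 0x18b800001450000000000018880061c002860000014280000060a00000502, 0x3170014540000000000000311000c3a8680000142c00000000c1400503, 0xa2f4580000000000000000620c3c0050da180000000000000182b04, 0x18b315628c4c000000000000000000000000509a1141e83000, 0x18b8000000018ab140000018900000000287000a1742800506, 0x5170000018b0006260000031200000287d0c00000285307, 0xa2e00000316000c4c000006240028850d00000285b08, 0xc5c0000062ac5000000000c4a88800a1b43000509, 0x18b515a28c4c00511620c3e87000]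
  coT := 0x99a999998999989988998889999889989898889889889888788887888878787887787778888788777877877777777767
  carT := 0x95d72bae652bae575c96b72d6f48ad6e5adcae4ae5b9bb5372b92b96db9b6e492db536dc
  rtT := 0x99a999998999989988998889999889989898889889889888788887888878787887787778888788777877877777777767
  simT := 0xc0d0e12
  wT := 0x17151613141210110e0f0d0b0c0a080906070503040102001714131615120f0e11100a0c0b0d07060908050201040300161715141213110d0c09100f08070e0b0a060405030200011711100f0e05161514130d0c0b0a04030201120908070600
  etaT := 0x52994a6324c6887e1107c3e0

def depD4 : List ℕ := [0x430e43b0c4310ec310cc290c4330a42910c390ec310a43b0c4330a400, 0x12c000c8430a82a10c2a0ec4b0a83b0c843088220882a10c220a83b00022, 0x1043a000320e4320c839104310c83a0c4390a82a0c82a0e4320a8000c42a, 0x14c4b080000a02010c5312c2012c430a020060200601812c430001808018, 0x124281043000028124390a041104300e4280a02008020104000e42808020, 0xc0420e8380c0001083a0e0300c8300a0280e8320c0280003a0c8300a028, 0x14c4b0884314c4b0002a12c22088430a84b0682210c000881a0681a0881a, 0x1242a104490e4410c8000a8410a8320e4410a822000390a8220882a08822, 0x16c4b16c530645314c190002114c4b0841912c0004419064110641104411, 0x144511042112449084490a40012429104210004108419084210641906419,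 0xc8420e8420e8320e8320e832000320a8000e8320e8320a8320a8320a82a, 0x14c6318c5b16c1316c5b14c5304c000000b06c1b04c1302c1304c0b02c0b, 0x1245916451144081445112449028000000004812020080000a0280000000, 0xa4380c0380c0280c4290c42900029084000c0280c028084290842908421, 0x1284a0e81b1084206c4208c00108230e81b0003a06c1306c1b04c1304c13, 0x148421484a0444a128110001912842064111080002411044090440902409, 0x100230e0400c0380ac0008c3808c2b0c03808c1b0003008c1b06c2306c1b, 0x120400683812040000211001906838084400481a0e000064120481206412, 0xa43a0c8310a4000e8320c4290a829084210c82a0a421000320a82908421, 0x108230e82b000231083208c3a0e82b0c82308c1b06c1b0e8000c82306c1b, 0x1284206000080180e84a108181083a0801804018040101083a0001006010, 0xe4330002b0c42b0ac310e4290ac330a43108c230ac230c42b08c000a423, 0x104000a039080200e4220c441088310a0390681a068200e41a088310001a, 0x3b0c0330a0280cc290ac210a42b084210ec300cc28084330a42b08400]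

def abD4 : ℕ := 0x160e170917081707170616061704170317021701160316021501140116001500140013001101110010000f000e000901

end Chev
end CfsgH6
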