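import Cfsg.Agent.H6.TF4
import Cfsg.Agent.H6.Lg8

/-! Alternating sections of the large Ree groups. -/

set_option autoImplicit false

namespace CfsgH6

open PreSt Cfsg.Lie

theorem pgroup_conj_le {G P : Type*} [Group G] [Group P] {p : ℕ} [Fact p.Prime] (A : Subgroup G) (hA : ¬ p ∣ A.index)
    (hP : IsPGroup p P) (f : P →* G) : ∃ y : G, ∀ x, y⁻¹ * f x * y ∈ A := by
  obtain ⟨q, hq⟩ := (hP.of_surjective _ f.rangeRestrict_surjective).nonempty_fixed_point_of_prime_not_dvd_card (G ⧸ A) hA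
  obtain ⟨y, rfl⟩ := QuotientGroup.mk_surjective q
  exact ⟨y, fun x => by simpa [mul_assoc] using QuotientGroup.eq.1 (hq ⟨f x, x, rfl⟩).symm⟩

theorem frattini_lift {H A : Type*} [Group H] [Finite H] [Group A] (π : H →* A) (hπ : Function.Surjective π)
    {p : ℕ} [hp : Fact p.Prime] {x y : A} (hx : orderOf x = p) {j : ℕ} (e : y * x * y⁻¹ = x ^ j) :
    ∃ P : Subgroup H, IsPGroup p P ∧ ∃ g ∈ Subgroup.normalizer (P : Set H), ∃ a ∈ P, orderOf (π a) = p ∧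
      π g * π a * (π g)⁻¹ = π a ^ j := by
  set K := (Subgroup.zpowers x).comap π
  obtain ⟨a, rfl⟩ := hπ x
  obtain ⟨g, rfl⟩ := hπ y
  have hg : g ∈ Subgroup.normalizer (K : Set H) := Subgroup.mem_normalizer_fintype (by
    rintro n ⟨k, hk⟩
    exact ⟨j * k, by simp [← hk, zpow_mul, ← e]⟩)
  obtain ⟨k, m, h1, h2⟩ := Nat.exists_eq_pow_mul_and_not_dvd (orderOf_pos a).ne' p hp.out.ne_one
  set L := Subgroup.normalizer (K : Set H)
  have ha : a ^ m ∈ K := pow_mem (show a ∈ K from Subgroup.mem_zpowers _) _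
  let b : K.subgroupOf L := ⟨⟨a ^ m, Subgroup.le_normalizer ha⟩, ha⟩
  obtain ⟨P, hP⟩ := (IsPGroup.iff_orderOf.2 fun z => (Nat.dvd_prime_pow hp.out).1 (show orderOf z ∣ p ^ k by
    refine (orderOf_dvd_natCard z).trans ?_
    rw [Nat.card_zpowers, orderOf_dvd_iff_pow_eq_one]
    exact Subtype.ext (Subtype.ext (show (a ^ m) ^ p ^ k = 1 by rw [← pow_mul, mul_comm, ← h2, pow_orderOf_eq_one]))) |>.imp
      fun _ h => h.2 : IsPGroup p (Subgroup.zpowers b)).exists_le_sylow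
  have h3 : (⟨g, hg⟩ : L) ∈ _ := P.normalizer_sup_eq_top ▸ Subgroup.mem_top _
  obtain ⟨n, hn, c, ⟨i, hi⟩, e'⟩ := Subgroup.mem_sup_of_normal_right.1 h3
  refine ⟨(P.1.map (K.subgroupOf L).subtype).map L.subtype, (P.2.map _).map _, n,
    Subgroup.le_normalizer_map _ ⟨n, hn, rfl⟩, a ^ m, ⟨_, ⟨b, hP (Subgroup.mem_zpowers b), rfl⟩, rfl⟩, ?_, ?_⟩
  · rw [map_pow, Nat.Coprime.orderOf_pow (hx ▸ (hp.out.coprime_iff_not_dvd.2 h1)), hx]
  · have h4 : π n = π g * (π a ^ i)⁻¹ := by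
      rw [show π a ^ i = π c from hi, eq_mul_inv_iff_mul_eq, ← map_mul]; exact congrArg (π ·.1) e'
    rw [h4, map_pow, ← pow_mul, mul_comm m, pow_mul, ← e, conj_pow]
    group

theorem PreSt.IsSt.pow_commute {I R : Type} [Fintype I] [DecidableEq I] {Φ : CD I R} {F : Type*} [Field F]
    {Γ : Type*} [Group Γ] {X : PreSt Φ F Γ} [Finite R] (hX : X.IsSt) (hM : X.Mult)
    (hi : Function.Injective (hX.hh hM)) (T : X.Tw) {e : ℕ} (he : ∀ w ∈ T.WF, w ^ e = 1) {g : Γ} (hg : g ∈ X.G ⊓ T.Fix)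
    {Q : Set Γ} (hQ : ∀ a ∈ Q, a ∈ X.H ∧ g * a * g⁻¹ ∈ Q) {a : Γ} (ha : a ∈ Q) : g ^ e * a * (g ^ e)⁻¹ = a := by
  obtain ⟨w, u, hu, h, hh, u', hu', e1⟩ := hX.nf hg.1
  have hc : X.Cell w g := ⟨_, X.nw_mem w, hX.act_nw w, _, mul_mem (X.U_le_B hu) (X.H_le_B hh), _,
    X.U_le_B (IsSt.Um_le_U _ hu'), e1⟩
  have hw : w.1 ∈ T.WF := ⟨w.2, hX.cell_unique (T.cell hX hc) (by rwa [show T.σ g = g from hg.2])⟩
  obtain ⟨d, rfl⟩ := hX.exists_hh hM hh
  have k : ∀ c c', g * hX.hh hM c * g⁻¹ = hX.hh hM c' → c' = Φ.wa w c := fun c c' e => by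
    have := (hX.nf_unique (hX.H_conj_mem_XS (hX.hh_mem hM c') hu) (hX.hh_mem hM (c' * d)) hu' hu
      (hX.hh_mem hM (d * Φ.wa w c)) (hX.H_conj_mem_XS (inv_mem (hX.hh_mem hM c)) hu') (by
        rw [map_mul, map_mul, ← hX.conj_hh hM (hX.act_nw w), ← e, e1]; group)).2.1
    exact mul_right_cancel ((hi this).trans (mul_comm _ _))
  obtain ⟨c, rfl⟩ := hX.exists_hh hM (hQ a ha).1
  have : ∀ n, hX.hh hM (Φ.wa (w.1 ^ n) c) ∈ Q ∧ g ^ n * hX.hh hM c * (g ^ n)⁻¹ = hX.hh hM (Φ.wa (w.1 ^ n) c) := fun n => by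
    induction n with
    | zero => simpa using ha
    | succ n ih =>
      obtain ⟨c', e2⟩ := hX.exists_hh hM (hQ _ (hQ _ ih.1).2).1
      rw [pow_succ', RS.wa_mul w.2, ← k _ _ e2.symm, e2]
      exact ⟨(hQ _ ih.1).2, by rw [← ih.2, pow_succ']; group⟩
  simpa [he _ hw] using (this e).2

theorem exists_alt {n r : ℕ} (h : n ≤ r) {x y : Equiv.Perm (Fin n)} {p j k : ℕ} (hx : orderOf x = p) (hp : Odd p)
    (hy : y ^ k = 1) (hk : Odd k) (e : y * x * y⁻¹ = x ^ j) :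
    ∃ x y : alternatingGroup (Fin r), orderOf x = p ∧ y * x * y⁻¹ = x ^ j := by
  let f := Equiv.Perm.viaEmbeddingHom (Fin.castLEEmb h)
  have k : ∀ {z k}, z ^ k = 1 → Odd k → f z ∈ alternatingGroup (Fin r) := fun {z k} h1 h2 => by
    have := congrArg (fun z => Equiv.Perm.sign (f z)) h1
    rcases Int.units_eq_one_or (Equiv.Perm.sign (f z)) with e | e
    · exact e
    · simp [e, h2.neg_one_pow] at this
  exact ⟨⟨f x, k (hx ▸ pow_orderOf_eq_one x) hp⟩, ⟨f y, k hy hk⟩, by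
    rw [Subgroup.orderOf_mk, orderOf_injective _ (Equiv.Perm.viaEmbeddingHom_injective _), hx],
    Subtype.ext (by simpa using congrArg f e)⟩

theorem ree_index (n : ℕ) :
    ¬ 7 ∣ (2 ^ n) ^ 12 * ((2 ^ n) ^ 3 + 1) * ((2 ^ n + 1) * ((2 ^ n) ^ 2 + 1)) * ((2 ^ n) ^ 6 + 1) := by
  have h5 : ∀ n : ℕ, (2 : ZMod 7) ^ n = 1 ∨ (2 : ZMod 7) ^ n = 2 ∨ (2 : ZMod 7) ^ n = 4 := fun n => by
    induction n with
    | zero => simp
    | succ n ih => rcases ih with e | e | e <;> rw [pow_succ, e] <;> decide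
  rw [← ZMod.natCast_eq_zero_iff]
  push_cast
  rcases h5 n with e | e | e <;> rw [e] <;> decide

theorem conj_cancel {G : Type*} [Group G] {z g a : G} {n : ℕ}
    (h : (z⁻¹ * g * z) ^ n * (z⁻¹ * a * z) * ((z⁻¹ * g * z) ^ n)⁻¹ = z⁻¹ * a * z) : g ^ n * a * (g ^ n)⁻¹ = a := by
  have := @conj_pow _ _ n z⁻¹ g
  rw [inv_inv] at this
  rw [this] at h
  simpa [mul_assoc] using congrArg (z * · * z⁻¹) h

namespace Chev

theorem ree_alt {K : Type*} [Field K] [Fintype K] {m : ℕ} (hK : Fintype.card K = 2 ^ (2 * m + 1)) (r : ℕ)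
    (H : Subgroup ↥(twistedF4 K (2 ^ m))) (N : Subgroup ↥H) [N.Normal]
    (h : Nonempty (↥H ⧸ N ≃* ↥(alternatingGroup (Fin r)))) : r ≤ 6 := by
  by_contra hr
  obtain ⟨e⟩ := h
  obtain ⟨φ, T, h⟩ := exists_isF4 hK
  haveI : Fact (Nat.Prime 7) := ⟨by norm_num⟩
  obtain ⟨x, y, hx, hy⟩ := exists_alt (show 7 ≤ r by omega) (x := finRotate 7) (p := 7) (j := 2) (k := 3)
    (y := ⟨![0, 2, 4, 6, 1, 3, 5], ![0, 4, 1, 5, 2, 6, 3], by decide, by decide⟩)
    (orderOf_eq_prime (by decide) (by decide)) (by decide) (by decide) (by decide) (by decide)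
  obtain ⟨P, hP, g, hg, a, ha, h1, h2⟩ := frattini_lift (e.toMonoidHom.comp (QuotientGroup.mk' N))
    (e.surjective.comp (QuotientGroup.mk'_surjective N)) hx hy
  have h0 : 1 < Fintype.card K := Fintype.one_lt_card
  obtain ⟨z, hz⟩ := pgroup_conj_le (p := 7) ((gF4.adjG K).H.comap h.set.ι) (by
    have h3 := ((gF4.adjG K).H.comap h.set.ι).card_mul_index
    rw [← Subgroup.card_map_of_injective h.set.ι_inj, Subgroup.map_comap_eq, h.set.range_ι, inf_comm, ← h.set.card_H,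
      h.card_H, h.card] at h3
    have h4 : ((gF4.adjG K).H.comap h.set.ι).index = Fintype.card K ^ 12 * (Fintype.card K ^ 3 + 1) *
        ((Fintype.card K + 1) * (Fintype.card K ^ 2 + 1)) * (Fintype.card K ^ 6 + 1) := by
      refine Nat.eq_of_mul_eq_mul_left (pow_pos (Nat.sub_pos_of_lt h0) 2) (h3.trans ?_)
      zify [h0.le, Nat.one_le_pow 4 _ (one_pos.trans h0)]
      ring
    rw [h4, hK]
    exact ree_index _) hP (H.subtype.comp P.subtype)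
  obtain ⟨d, -⟩ := h.dih
  have h3 := (gF4.isStG K).pow_commute (gF4.multG K) ((MonoidHom.ker_eq_bot_iff _).1 IsF4.ker_eq) T (e := 8)
    (fun w hw => by
      obtain ⟨v, hv⟩ := d.surjective ⟨w, hw⟩
      have : v ^ 8 = 1 := Monoid.exponent_dvd_iff_forall_pow_eq_one.1 (by rw [DihedralGroup.exponent]; decide) v
      simpa [hv] using congrArg (fun v => (d v).1) this) (g := h.set.ι (z⁻¹ * g * z)) (h.set.h2 ⟨_, rfl⟩)
    (Q := {b | ∃ a ∈ P, h.set.ι (z⁻¹ * a * z) = b}) (by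
      rintro _ ⟨b, hb, rfl⟩
      exact ⟨hz ⟨b, hb⟩, _, (Subgroup.mem_normalizer_iff.1 hg b).1 hb, by simp [mul_assoc]⟩) ⟨a, ha, rfl⟩
  rw [← map_pow, ← map_inv, ← map_mul, ← map_mul, h.set.ι_inj.eq_iff] at h3
  have h4 : g ^ 8 * a * (g ^ 8)⁻¹ = a := Subtype.ext (conj_cancel h3)
  generalize e.toMonoidHom.comp (QuotientGroup.mk' N) = π at h1 h2
  have h5 : ∀ n, π g ^ n * π a * (π g ^ n)⁻¹ = π a ^ 2 ^ n := fun n => by
    induction n with
    | zero => simp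
    | succ n ih => rw [pow_succ' 2, pow_mul, ← h2, conj_pow, ← ih, pow_succ']; group
  have h6 := congrArg π h4
  rw [map_mul, map_mul, map_inv, map_pow, h5, ← pow_one (π a), ← pow_mul, pow_eq_pow_iff_modEq, h1] at h6
  exact absurd h6 (by decide)

end Chev

end CfsgH6
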