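import Cfsg.Agent.H6.Num
import Cfsg.Agent.H6.Opp

/-! Centres and small generating sets of the exceptional Weyl groups. -/

set_option autoImplicit false

namespace CfsgH6

namespace RS
variable {I R : Type} [Fintype I] [DecidableEq I] {Φ : RS I R}

theorem W_ext {v w : Φ.W} (h : ∀ i, v.1 (Φ.sim i) = w.1 (Φ.sim i)) : v = w :=
  (inv_mul_eq_one.1 (Subtype.ext (W_eq_one_of_pos (w⁻¹ * v).2 fun i => by
    simpa [h] using Φ.pos_sim i))).symm

theorem central_sim {z : Φ.W} (hz : z ∈ Subgroup.center Φ.W) (i : I) :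
    z.1 (Φ.sim i) = Φ.sim i ∨ z.1 (Φ.sim i) = Φ.neg (Φ.sim i) := by
  have e : Φ.w i (z.1 (Φ.sim i)) = Φ.neg (z.1 (Φ.sim i)) := by
    have := congrArg (fun x : Φ.W => x.1 (Φ.sim i)) (Subgroup.mem_center_iff.1 hz (Φ.sW i))
    simpa [w_sim_self, W_neg z.2] using this
  by_contra hc
  push Not at hc
  by_cases hp : Φ.Pos (z.1 (Φ.sim i))
  · have := Φ.pos_w i _ hp hc.1
    rw [e] at this
    exact (Φ.pos_neg_iff _).1 this hp
  · have := Φ.pos_w i _ ((Φ.pos_neg_iff _).2 hp) fun e => hc.2 (Φ.neg_eq_iff.1 e)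
    rw [Φ.w_neg, e, Φ.neg_neg] at this
    exact hp this

theorem central_cases (hr : ∃ r, ∀ i, Φ.rt r i ≠ 0) {z : Φ.W} (hz : z ∈ Subgroup.center Φ.W) :
    z = 1 ∨ ∀ i, z.1 (Φ.sim i) = Φ.neg (Φ.sim i) := by
  by_cases h : ∃ i, z.1 (Φ.sim i) = Φ.sim i
  · obtain ⟨i, hi⟩ := h
    refine Or.inl (W_ext (Φ.connected hr (P := fun i => z.1 (Φ.sim i) = Φ.sim i) hi fun a b _ h0 ha => ?_))
    refine (central_sim hz b).resolve_right fun hb => h0 ?_
    have := W_A z.2 (Φ.sim a) (Φ.sim b)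
    rw [ha, hb, A_neg_right, A_sim_sim] at this
    omega
  · exact Or.inr fun i => (central_sim hz i).resolve_left fun e => h ⟨i, e⟩

theorem minus_central {z : Φ.W} (h : ∀ i, z.1 (Φ.sim i) = Φ.neg (Φ.sim i)) : z ∈ Subgroup.center Φ.W := by
  have e : ∀ r, z.1 r = Φ.neg r := fun r => Φ.rt_inj <| by
    rw [W_rt z.2, Φ.rt_neg]
    ext j
    simp [h, Φ.rt_neg, Φ.rt_sim, Pi.single_apply]
  exact Subgroup.mem_center_iff.2 fun w => Subtype.ext (Equiv.ext fun r => by simp [e, W_neg w.2])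

theorem center_two [Nonempty I] (hr : ∃ r, ∀ i, Φ.rt r i ≠ 0) {z : Φ.W} (h : ∀ i, z.1 (Φ.sim i) = Φ.neg (Φ.sim i)) :
    Nat.card (Subgroup.center Φ.W) = 2 ∧ Subgroup.center Φ.W ≤ Subgroup.zpowers z := by
  have e : ∀ w, w ∈ Subgroup.center Φ.W ↔ w = 1 ∨ w = z := fun w =>
    ⟨fun hw => (central_cases hr hw).imp_right fun h' => W_ext fun i => (h' i).trans (h i).symm,
      by rintro (rfl | rfl); exacts [one_mem _, minus_central h]⟩
  refine ⟨?_, fun w hw => by rcases (e w).1 hw with rfl | rfl <;> simp⟩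
  have : (Subgroup.center Φ.W : Set Φ.W) = {1, z} := Set.ext e
  rw [← SetLike.coe_sort_coe, this, Nat.card_coe_set_eq, Set.ncard_pair]
  rintro rfl
  exact Φ.neg_ne _ (h (Classical.arbitrary I)).symm

theorem center_one (hr : ∃ r, ∀ i, Φ.rt r i ≠ 0) {z : Φ.W} (h : ∀ i, ¬ Φ.Pos (z.1 (Φ.sim i))) {i : I}
    (hi : z.1 (Φ.sim i) ≠ Φ.neg (Φ.sim i)) : Subgroup.center Φ.W = ⊥ := by
  refine eq_bot_iff.2 fun w hw => (central_cases hr hw).resolve_right fun h' => hi ?_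
  have e : z * w = 1 := Subtype.ext (W_eq_one_of_pos (z * w).2 fun j => by
    simpa [h', W_neg z.2, pos_neg_iff] using h j)
  have := congrArg (fun x : Φ.W => x.1 (Φ.sim i)) e
  simp only [Subgroup.coe_mul, Equiv.Perm.mul_apply, h', W_neg z.2] at this
  exact Φ.neg_eq_iff.1 this

end RS

theorem center_transfer {G H : Type*} [Group G] [Group H] (e : G ≃* H) {c : G} {k : ℕ}
    (h : Nat.card (Subgroup.center G) = k ∧ Subgroup.center G ≤ Subgroup.zpowers c) :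
    Nat.card (Subgroup.center H) = k ∧ Subgroup.center H ≤ Subgroup.zpowers (e c) := by
  refine ⟨(Nat.card_congr (Subgroup.centerCongr e).toEquiv).symm.trans h.1, fun x hx => ?_⟩
  obtain ⟨m, hm⟩ := h.2 ((Subgroup.centerCongr e).symm ⟨x, hx⟩).2
  exact ⟨m, (map_zpow e c m).symm.trans ((congrArg e hm).trans (e.apply_symm_apply x))⟩

namespace Chev
open Cfsg.Lie

/-- letters: a fundamental reflection or the Coxeter element -/
def ltr (n k : ℕ) : List (Fin n) := if h : k < n then [⟨k, h⟩] else List.finRange n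

namespace Good
variable {D : ChevalleyDatum} (g : Good D) {M : CoxeterMatrix (Fin D.rank)}
  (hc : ∃ cs : CoxeterSystem M g.cd.W, ∀ i, cs.simple i = g.cd.sW i)
include hc

theorem cox_equiv : ∃ e : g.cd.W ≃* M.Group, ∀ l, e (g.cd.EW.wp l) = (l.map M.simple).prod := by
  obtain ⟨cs, h⟩ := hc
  refine ⟨cs.mulEquiv, fun l => ?_⟩
  induction l with
  | nil => simp
  | cons i l ih =>
    rw [ExchSys.wp_cons, map_mul, ih, RS.EW_s, ← h]
    exact congrArg (· * _) (cs.mulEquiv.apply_symm_apply (M.simple i))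

omit hc in
theorem full (h0 : 0 < D.nroots) (h : ∀ i < D.rank, co D 0 i ≠ 0) : ∃ r, ∀ i, g.cd.rt r i ≠ 0 :=
  ⟨⟨0, h0⟩, fun i => mt (g.cd.zero_iff _ i).1 (h i i.2)⟩

theorem cox_two (h0 : 0 < D.nroots) (h1 : 0 < D.rank) (h : ∀ i < D.rank, co D 0 i ≠ 0) (k : ℕ)
    (hk : ∀ i < D.rank, iterL g.T ((List.finRange D.rank).map Fin.val) k (g.T.sim i) = g.T.neg (g.T.sim i)) :
    Nat.card (Subgroup.center M.Group) = 2 ∧
      Subgroup.center M.Group ≤ Subgroup.zpowers ((List.finRange D.rank).map M.simple).prod := by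
  obtain ⟨e, he⟩ := g.cox_equiv hc
  have : Nonempty (Fin D.rank) := ⟨⟨0, h1⟩⟩
  have := RS.center_two (g.full h0 h) (z := g.cd.EW.wp (List.finRange D.rank) ^ k) fun i => Fin.ext <| by
    rw [← iterL_eq, cd_neg, cd_sim, g.ag.neg _ (g.sim_lt i.2), g.ag.sim i i.2, hk i i.2]
  rw [← he]
  exact center_transfer e ⟨this.1, this.2.trans (Subgroup.zpowers_le.2 (Subgroup.npow_mem_zpowers _ _))⟩

theorem cox_one (h0 : 0 < D.nroots) (h1 : 0 < D.rank) (h : ∀ i < D.rank, co D 0 i ≠ 0) (l : List ℕ)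
    (hl : ∀ i < D.rank, actL g.T ((l.flatMap (ltr D.rank)).map Fin.val) (g.T.sim i) < g.T.n / 2)
    (hl' : actL g.T ((l.flatMap (ltr D.rank)).map Fin.val) (g.T.sim 0) ≠ g.T.neg (g.T.sim 0)) (c : M.Group) :
    Nat.card (Subgroup.center M.Group) = 1 ∧ Subgroup.center M.Group ≤ Subgroup.zpowers c := by
  obtain ⟨e, he⟩ := g.cox_equiv hc
  have := RS.center_one (g.full h0 h) (z := g.cd.EW.wp (l.flatMap (ltr D.rank))) (i := ⟨0, h1⟩) (fun i => by
    rw [pos_iff, ← actL_eq, cd_sim, g.ag.sim i i.2, ← g.ag.n, not_le]; exact hl i i.2) fun e => hl' <| by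
      have := congrArg Fin.val e
      rwa [← actL_eq, cd_neg, cd_sim, g.ag.neg _ (g.sim_lt h1), g.ag.sim 0 h1] at this
  simpa using center_transfer e (c := e.symm c) (k := 1) (by simp [this])

theorem cox_gen (ts : List ℕ) (k : ℕ) (hk : (Finset.univ.filter fun i : Fin D.rank => i.val ∈ ts).card = k)
    (ce : List (List ℕ × List ℕ))
    (h : ∀ i < D.rank, ∃ p ∈ ce, (∀ x ∈ p.1 ++ p.2, x < D.rank → x ∈ ts) ∧ ∀ j < D.rank,
      actL g.T (((i :: p.1).flatMap (ltr D.rank)).map Fin.val) (g.T.sim j) =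
        actL g.T ((p.2.flatMap (ltr D.rank)).map Fin.val) (g.T.sim j)) :
    ∃ T : Finset M.Group, T.card = k ∧ (∀ t ∈ T, ∃ (a : M.Group) (i : Fin D.rank), t = a * M.simple i * a⁻¹) ∧
      Subgroup.closure (({((List.finRange D.rank).map M.simple).prod} : Set M.Group) ∪ ↑T) = ⊤ := by
  obtain ⟨e, he⟩ := g.cox_equiv hc
  have hs : ∀ i, M.simple i = e (g.cd.sW i) := fun i => by simpa [RS.EW_s] using (he [i]).symm
  have inj : Function.Injective M.simple := fun i j hij =>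
    g.cd.mem_of_sw_mem (J := {j}) <| by
      rw [hs, hs] at hij
      rw [← RS.coe_sW, e.injective hij]; exact g.cd.sw_mem_WJ rfl
  refine ⟨(Finset.univ.filter fun i : Fin D.rank => i.val ∈ ts).map ⟨_, inj⟩, by simpa using hk, fun t ht => ?_, ?_⟩
  · obtain ⟨i, -, rfl⟩ := Finset.mem_map.1 ht
    exact ⟨1, i, by simp⟩
  generalize hH : Subgroup.closure (G := M.Group) _ = H
  have k1 : ∀ u : List ℕ, (∀ x ∈ u, x < D.rank → x ∈ ts) → e (g.cd.EW.wp (u.flatMap (ltr D.rank))) ∈ H := fun u hu => by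
    induction u with
    | nil => simp
    | cons x u ih =>
      rw [List.flatMap_cons, ExchSys.wp_append, map_mul]
      refine mul_mem (hH ▸ Subgroup.subset_closure ?_) (ih fun y hy => hu y (by simp [hy]))
      rw [he, ltr]
      split_ifs with hx
      · exact Or.inr (by simpa using ⟨⟨x, hx⟩, hu x (by simp) hx, rfl⟩)
      · exact Or.inl rfl
  rw [eq_top_iff, ← M.toCoxeterSystem.subgroup_closure_range_simple, Subgroup.closure_le]
  rintro _ ⟨i, rfl⟩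
  obtain ⟨p, -, h1, h2⟩ := h i i.2
  have e2 : g.cd.EW.wp ((i.1 :: p.1).flatMap (ltr D.rank)) = g.cd.EW.wp (p.2.flatMap (ltr D.rank)) :=
    RS.W_ext fun j => Fin.ext <| by rw [← actL_eq, ← actL_eq, cd_sim, g.ag.sim j j.2, h2 j j.2]
  have := k1 p.2 fun x hx => h1 x (by simp [hx])
  rw [← e2, List.flatMap_cons, ExchSys.wp_append, map_mul,
    H.mul_mem_cancel_right (k1 p.1 fun x hx => h1 x (by simp [hx])), he] at this
  simpa [ltr] using this

end Good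
end Chev

open Chev Cfsg.Lie in
theorem weyl_center (c : (Σ n : ℕ, CoxeterMatrix (Fin n)) × ℕ)
    (hc : c ∈ [(⟨2, CoxeterMatrix.B 2⟩, 2), (⟨2, CoxeterMatrix.G₂⟩, 2), (⟨4, Cfsg.Lie.coxeterD4⟩, 2), (⟨4, CoxeterMatrix.F₄⟩, 2),
      (⟨6, CoxeterMatrix.E₆⟩, 1), (⟨7, CoxeterMatrix.E₇⟩, 2), (⟨8, CoxeterMatrix.E₈⟩, 2)]) :
    Nat.card (Subgroup.center c.1.2.Group) = c.2 ∧
      Subgroup.center c.1.2.Group ≤ Subgroup.zpowers ((List.finRange c.1.1).map c.1.2.simple).prod := by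
  simp only [List.mem_cons, List.not_mem_nil, or_false] at hc
  rcases hc with rfl | rfl | rfl | rfl | rfl | rfl | rfl
  · exact gB2.cox_two coxB2 (by decide +kernel) (by decide) highB2 2 (by decide +kernel)
  · exact gG2.cox_two coxG2 (by decide +kernel) (by decide) highG2 3 (by decide +kernel)
  · exact gD4.cox_two coxD4 (by decide +kernel) (by decide) highD4 3 (by decide +kernel)
  · exact gF4.cox_two coxF4 (by decide +kernel) (by decide) highF4 6 (by decide +kernel)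
  · exact gE6.cox_one coxE6 (by decide +kernel) (by decide) highE6 [0, 1, 2, 0, 3, 1, 2, 0, 3, 2, 4, 3, 1, 2, 0, 3, 2, 4,
      3, 1, 5, 4, 3, 1, 2, 0, 3, 2, 4, 3, 1, 5, 4, 3, 2, 0] (by decide +kernel) (by decide +kernel) _
  · exact gE7.cox_two coxE7 (by decide +kernel) (by decide) highE7 9 (by decide +kernel)
  · exact gE8.cox_two coxE8 (by decide +kernel) (by decide) highE8 15 (by decide +kernel)

open Chev Cfsg.Lie in
theorem weyl_gen (c : (Σ n : ℕ, CoxeterMatrix (Fin n)) × ℕ)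
    (hc : c ∈ [(⟨2, CoxeterMatrix.B 2⟩, 1), (⟨2, CoxeterMatrix.G₂⟩, 1), (⟨4, Cfsg.Lie.coxeterD4⟩, 2), (⟨4, CoxeterMatrix.F₄⟩, 2),
      (⟨6, CoxeterMatrix.E₆⟩, 1), (⟨7, CoxeterMatrix.E₇⟩, 1), (⟨8, CoxeterMatrix.E₈⟩, 1)]) :
    ∃ T : Finset c.1.2.Group, T.card = c.2 ∧ (∀ t ∈ T, ∃ (g : c.1.2.Group) (i : Fin c.1.1), t = g * c.1.2.simple i * g⁻¹) ∧
      Subgroup.closure (({((List.finRange c.1.1).map c.1.2.simple).prod} : Set c.1.2.Group) ∪ ↑T) = ⊤ := by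
  simp only [List.mem_cons, List.not_mem_nil, or_false] at hc
  rcases hc with rfl | rfl | rfl | rfl | rfl | rfl | rfl
  · exact gB2.cox_gen coxB2 [0] 1 (by decide +kernel) [([], [0]), ([], [0, 9])] (by decide +kernel)
  · exact gG2.cox_gen coxG2 [0] 1 (by decide +kernel) [([], [0]), ([], [0, 9])] (by decide +kernel)
  · exact gD4.cox_gen coxD4 [0, 2] 2 (by decide +kernel)
      [([], [0]),
      ([9], [9, 0]),
      ([], [2]),
      ([9, 2, 9], [9, 2, 9, 0])]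
      (by decide +kernel)
  · exact gF4.cox_gen coxF4 [0, 2] 2 (by decide +kernel)
      [([], [0]),
      ([9], [9, 0]),
      ([], [2]),
      ([9], [9, 2])]
      (by decide +kernel)
  · exact gE6.cox_gen coxE6 [0] 1 (by decide +kernel)
      [([], [0]),
      ([9, 9, 0, 9, 9, 9], [9, 9, 0, 9, 9, 9, 0]),
      ([9], [9, 0]),
      ([9, 9, 9, 9, 9], [9, 9, 9, 9, 9, 0]),
      ([9, 9, 9, 9, 9, 9], [9, 9, 9, 9, 9, 9, 0]),
      ([9, 9, 9, 9, 9, 9, 9], [9, 9, 9, 9, 9, 9, 9, 0])]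
      (by decide +kernel)
  · exact gE7.cox_gen coxE7 [1] 1 (by decide +kernel)
      [([9, 9, 9, 1, 9, 9], [9, 9, 9, 1, 9, 9, 1]),
      ([], [1]),
      ([9, 9, 9, 9, 1, 9, 9], [9, 9, 9, 9, 1, 9, 9, 1]),
      ([1, 9, 9, 9, 9, 9, 1, 9, 9], [1, 9, 9, 9, 9, 9, 1, 9, 9, 1]),
      ([9, 1, 9, 9, 9, 9, 9, 1, 9, 9], [9, 1, 9, 9, 9, 9, 9, 1, 9, 9, 1]),
      ([9, 9, 1, 9, 9, 9, 9, 9, 1, 9, 9], [9, 9, 1, 9, 9, 9, 9, 9, 1, 9, 9, 1]),
      ([9, 9, 9, 1, 9, 9, 9, 9, 9, 1, 9, 9], [9, 9, 9, 1, 9, 9, 9, 9, 9, 1, 9, 9, 1])]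
      (by decide +kernel)
  · exact gE8.cox_gen coxE8 [0] 1 (by decide +kernel)
      [([], [0]),
      ([9, 9, 0, 9, 9, 0, 9, 9, 9], [9, 9, 0, 9, 9, 0, 9, 9, 9, 0]),
      ([9], [9, 0]),
      ([9, 9, 9, 9, 0, 9, 9, 9], [9, 9, 9, 9, 0, 9, 9, 9, 0]),
      ([9, 9, 9, 9, 9, 0, 9, 9, 9], [9, 9, 9, 9, 9, 0, 9, 9, 9, 0]),
      ([9, 9, 9, 9, 9, 9, 0, 9, 9, 9], [9, 9, 9, 9, 9, 9, 0, 9, 9, 9, 0]),
      ([9, 9, 9, 9, 9, 9, 9, 0, 9, 9, 9], [9, 9, 9, 9, 9, 9, 9, 0, 9, 9, 9, 0]),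
      ([9, 9, 9, 9, 9, 9, 9, 9, 0, 9, 9, 9], [9, 9, 9, 9, 9, 9, 9, 9, 0, 9, 9, 9, 0])]
      (by decide +kernel)

end CfsgH6
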