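import Cfsg.Agent.H6.Alt1
import Cfsg.Agent.H6.Lg16
import Cfsg.Agent.H6.Cox1

/-! Alternating sections of the groups of type `F₄`. -/

set_option autoImplicit false

namespace CfsgH6

open Finset PreSt Cfsg.Lie

universe u

theorem frat1 {H A : Type*} [Group H] [Finite H] [Group A] (π : H →* A) {p : ℕ} [hp : Fact p.Prime] {a : H}
    (hx : orderOf (π a) = p) : ∃ P : Subgroup H, IsPGroup p P ∧ (∃ b ∈ P, π b = π a) ∧
      ∀ g (j : ℕ), π g * π a * (π g)⁻¹ = π a ^ j → ∃ n ∈ Subgroup.normalizer (P : Set H), π n = π g := by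
  set K := (Subgroup.zpowers (π a)).comap π
  obtain ⟨k, m, h1, h2⟩ := Nat.exists_eq_pow_mul_and_not_dvd (orderOf_pos a).ne' p hp.out.ne_one
  set L := Subgroup.normalizer (K : Set H)
  have ha : a ^ m ∈ K := pow_mem (show a ∈ K from Subgroup.mem_zpowers _) _
  let b : K.subgroupOf L := ⟨⟨a ^ m, Subgroup.le_normalizer ha⟩, ha⟩
  obtain ⟨P, hP⟩ := (IsPGroup.iff_orderOf.2 fun z => (Nat.dvd_prime_pow hp.out).1 (show orderOf z ∣ p ^ k by
    refine (orderOf_dvd_natCard z).trans ?_
    rw [Nat.card_zpowers, orderOf_dvd_iff_pow_eq_one]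
    exact Subtype.ext (Subtype.ext (show (a ^ m) ^ p ^ k = 1 by rw [← pow_mul, mul_comm, ← h2, pow_orderOf_eq_one]))) |>.imp
      fun _ h => h.2 : IsPGroup p (Subgroup.zpowers b)).exists_le_sylow
  obtain ⟨t, ht⟩ := exists_pow_eq_self_of_coprime (x := π a) (hx ▸ (hp.out.coprime_iff_not_dvd.2 h1).symm)
  have hb : (a ^ m) ^ t ∈ (P.1.map (K.subgroupOf L).subtype).map L.subtype :=
    pow_mem (Subgroup.mem_map_of_mem L.subtype (Subgroup.mem_map_of_mem _ (hP (Subgroup.mem_zpowers b)))) _
  refine ⟨_, (P.2.map _).map _, ⟨_, hb, by rw [map_pow, map_pow, ht]⟩, fun g j e => ?_⟩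
  have hg : g ∈ L := Subgroup.mem_normalizer_fintype (by
    rintro n ⟨k, hk⟩
    exact ⟨j * k, by simp [← hk, zpow_mul, ← e]⟩)
  have h3 : (⟨g, hg⟩ : L) ∈ _ := P.normalizer_sup_eq_top ▸ Subgroup.mem_top _
  obtain ⟨n, hn, c, ⟨i, hi⟩, e'⟩ := Subgroup.mem_sup_of_normal_right.1 h3
  refine ⟨n * ((a ^ m) ^ t) ^ i, mul_mem (Subgroup.le_normalizer_map _ ⟨n, hn, rfl⟩)
    (Subgroup.le_normalizer (zpow_mem hb i)), ?_⟩
  rw [map_mul, map_zpow, map_pow, map_pow, ht, show π a ^ i = π c from hi, ← map_mul]
  exact congrArg (π ·.1) e'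

theorem conj_iter {G : Type*} [Group G] {g a : G} {j : ℕ} (h : g * a * g⁻¹ = a ^ j) (n : ℕ) :
    g ^ n * a * (g ^ n)⁻¹ = a ^ j ^ n := by
  induction n with
  | zero => simp
  | succ n ih => rw [pow_succ' j, pow_mul, ← h, conj_pow, ← ih, pow_succ']; group

theorem exists_altHom {n r : ℕ} (h : n ≤ r) :
    ∃ f : alternatingGroup (Fin n) →* alternatingGroup (Fin r), Function.Injective f :=
  ⟨((Equiv.Perm.viaEmbeddingHom (Fin.castLEEmb h)).comp (Subgroup.subtype _)).codRestrict _ fun x => by
    rw [Equiv.Perm.mem_alternatingGroup]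
    exact (@Equiv.Perm.sign_extendDomain _ _ _ _ _ _ x.1 _ (fun _ => Classical.propDecidable _)
      (Equiv.ofInjective _ (Fin.castLEEmb h).2)).trans x.2, fun _ _ e => Subtype.ext (Equiv.Perm.viaEmbeddingHom_injective _ (congrArg Subtype.val e))⟩

namespace PreSt.IsSt
variable {I R : Type} [Fintype I] [DecidableEq I] {Φ : CD I R} {F : Type*} [Field F]
  {Γ : Type*} [Group Γ] {X : PreSt Φ F Γ} [Finite R] (hX : X.IsSt) (hM : X.Mult)
  (hi : Function.Injective (hX.hh hM)) (hG : X.G = ⊤)
include hi hG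

theorem exists_wa_set (g : Γ) {Q : Set Γ} (hQ : ∀ a ∈ Q, a ∈ X.H ∧ g * a * g⁻¹ ∈ Q) :
    ∃ w : Φ.W, ∀ n c, hX.hh hM c ∈ Q → g ^ n * hX.hh hM c * (g ^ n)⁻¹ = hX.hh hM (Φ.wa (w ^ n).1 c) := by
  obtain ⟨w, u, hu, h, hh, u', hu', e1⟩ := hX.nf (g := g) (hG ▸ trivial)
  obtain ⟨d, rfl⟩ := hX.exists_hh hM hh
  have k : ∀ c c', g * hX.hh hM c * g⁻¹ = hX.hh hM c' → c' = Φ.wa w c := fun c c' e => by
    have := (hX.nf_unique (hX.H_conj_mem_XS (hX.hh_mem hM c') hu) (hX.hh_mem hM (c' * d)) hu' hu
      (hX.hh_mem hM (d * Φ.wa w c)) (hX.H_conj_mem_XS (inv_mem (hX.hh_mem hM c)) hu') (by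
        rw [map_mul, map_mul, ← hX.conj_hh hM (hX.act_nw w), ← e, e1]; group)).2.1
    exact mul_right_cancel ((hi this).trans (mul_comm _ _))
  refine ⟨w, fun n c ha => (?_ : hX.hh hM (Φ.wa (w.1 ^ n) c) ∈ Q ∧ _).2⟩
  induction n with
  | zero => simpa using ha
  | succ n ih =>
    obtain ⟨c', e2⟩ := hX.exists_hh hM (hQ _ (hQ _ ih.1).2).1
    rw [Subgroup.coe_pow, pow_succ', RS.wa_mul w.2, ← k _ _ e2.symm, e2]
    exact ⟨(hQ _ ih.1).2, by rw [← Subgroup.coe_pow, ← ih.2, pow_succ']; group⟩

theorem toral [Finite F] {l : ℕ} [Fact l.Prime] (h1 : l ∣ Nat.card F - 1) (h2 : ¬ l ∣ Nat.card Φ.W) (A : Set (I → Fˣ))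
    {P : Type*} [Group P] (hP : IsPGroup l P) (f : P →* Γ) (hf : ∀ x, f x ∈ hX.Cen hM A) :
    ∃ y ∈ hX.Cen hM A, ∀ x, y⁻¹ * f x * y ∈ X.H := by
  classical
  haveI := Fintype.ofFinite Φ.W
  refine (pgroup_conj_le (X.H.subgroupOf (hX.Cen hM A)) (fun h => h2 ?_) hP (f.codRestrict _ hf)).elim
    fun y hy => ⟨y, y.2, hy⟩
  have h3 := (X.H.subgroupOf (hX.Cen hM A)).card_mul_index
  rw [Nat.card_congr (Subgroup.subgroupOfEquivOfLe (hX.H_le_Cen hM A)).toEquiv, ← hX.range_hh hM,
    ← Nat.card_congr (MonoidHom.ofInjective hi).toEquiv, hX.card_Cen hM hi hG, Nat.card_fun, Nat.card_units,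
    Nat.card_eq_fintype_card (α := I), mul_comm (Nat.card F ^ _), mul_assoc, hX.range_hh hM] at h3
  have h0 : 1 < Nat.card F := Finite.one_lt_card
  have h4 : (Nat.card F : ZMod l) = 1 := by
    rw [← Nat.sub_add_cancel h0.le, Nat.cast_add, (ZMod.natCast_eq_zero_iff _ _).2 h1]; simp
  rw [Nat.eq_of_mul_eq_mul_left (pow_pos (Nat.sub_pos_of_lt h0) _) h3, ← ZMod.natCast_eq_zero_iff] at h
  simp only [Nat.cast_mul, Nat.cast_pow, Nat.cast_sum, h4, one_pow, one_mul, sum_const, nsmul_one,
    ZMod.natCast_eq_zero_iff] at h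
  refine h.trans (Dvd.dvd.trans (Eq.dvd ?_) ((Φ.WS A).subgroupOf Φ.W).card_subgroup_dvd_card)
  rw [Nat.card_eq_fintype_card, Fintype.card_subtype]; rfl

theorem toral2 [Finite F] {l l' : ℕ} [Fact l.Prime] [hl : Fact l'.Prime] (h1 : l ∣ Nat.card F - 1)
    (h2 : ¬ l ∣ Nat.card Φ.W) (h1' : l' ∣ Nat.card F - 1) (h2' : ¬ l' ∣ Nat.card Φ.W) {H : Type*} [Group H]
    (f : H →* Γ) {P Q : Subgroup H} (hP : IsPGroup l P) (hQ : IsPGroup l' Q)
    (h : Q ≤ Subgroup.normalizer (P : Set H)) : ∃ z, ∀ x, x ∈ P ∨ x ∈ Q → z⁻¹ * f x * z ∈ X.H := by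
  obtain ⟨y, -, hy⟩ := hX.toral hM hi hG h1 h2 ∅ hP (f.comp P.subtype) fun x => (hX.mem_Cen hM).2 (by simp)
  let f' := (MulAut.conj y⁻¹).toMonoidHom.comp f
  have e : ∀ x, f' x = y⁻¹ * f x * y := fun x => by simp [f']
  obtain ⟨z, hz, h3⟩ := hX.toral hM hi hG h1' h2' {c | hX.hh hM c ∈ P.map f'} hQ (f'.comp Q.subtype) fun b =>
    (hX.mem_Cen hM).2 fun c hc => by
      obtain ⟨w, hw⟩ := hX.exists_wa_set hM hi hG (f' b) (Q := P.map f') (by
        rintro _ ⟨a, ha, rfl⟩
        exact ⟨e a ▸ hy ⟨a, ha⟩, _, (Subgroup.mem_normalizer_iff.1 (h b.2) a).1 ha, by simp⟩)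
      obtain ⟨k, hk⟩ := IsPGroup.iff_orderOf.1 hQ b
      obtain ⟨t, ht⟩ := exists_pow_eq_self_of_coprime (x := b) (n := Nat.card Φ.W)
        (hk ▸ ((hl.out.coprime_iff_not_dvd.2 h2').symm.pow_right k))
      have := hw (Nat.card Φ.W * t) c hc
      rw [← map_pow, ← Subgroup.coe_pow, pow_mul, ht, pow_mul, pow_card_eq_one', one_pow] at this
      exact (mul_inv_eq_iff_eq_mul.1 (by simpa using this)).symm
  refine ⟨y * z, fun x hx => (by rw [e]; group : z⁻¹ * f' x * z = (y * z)⁻¹ * f x * (y * z)) ▸ ?_⟩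
  rcases hx with hx | hx
  · obtain ⟨c, hc⟩ := hX.exists_hh hM (e x ▸ hy ⟨x, hx⟩ : f' x ∈ X.H)
    rw [← hc, mul_assoc, (hX.mem_Cen hM).1 hz c ⟨x, hx, hc.symm⟩, inv_mul_cancel_left]
    exact hX.hh_mem hM c
  · exact h3 ⟨x, hx⟩

end PreSt.IsSt

theorem exists_ext (F : Type u) [Field F] [Finite F] {n : ℕ} (hn : (n : F) ≠ 0) :
    ∃ (L : Type u) (_ : Field L) (_ : Finite L) (_ : F →+* L), n ∣ Nat.card L - 1 := by
  haveI : NeZero (n : F) := ⟨hn⟩
  haveI : NeZero n := ⟨by rintro rfl; simp at hn⟩
  haveI := IsCyclotomicExtension.finiteDimensional {n} F (CyclotomicField n F)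
  haveI : Finite (CyclotomicField n F) := Module.finite_of_finite F
  have h := IsCyclotomicExtension.zeta_spec n F (CyclotomicField n F)
  exact ⟨CyclotomicField n F, inferInstance, inferInstance, algebraMap _ _, by
    rw [← Nat.card_units]
    exact (h.isUnit_unit (NeZero.ne n)).eq_orderOf.dvd.trans (orderOf_dvd_natCard _)⟩

namespace Chev

/-- digits of a packed word -/
def dl (f n : ℕ) : List ℕ := Nat.rec (fun _ => []) (fun _ ih n => Bool.rec (n % 4 :: ih (n / 4)) [] (Nat.ble n 1)) f n

theorem dl_eq (f n : ℕ) : ((dl f n).flatMap (ltr 4)).map Fin.val = dl f n := by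
  induction f generalizing n with
  | zero => rfl
  | succ f ih =>
    have : dl (f + 1) n = Bool.rec (n % 4 :: dl f (n / 4)) [] (Nat.ble n 1) := rfl
    rw [this]
    cases Nat.ble n 1
    · simp [ih, ltr, Nat.mod_lt]
    · rfl

/-- the elements of `W(F₄)` -/
def wdF4 : List ℕ :=
  [127037001, 31759250, 328363593, 7939814, 82090898, 20522726, 508148006, 7939812, 1313454374, 1984953, 20522724,
   5130681, 1581889830, 24717028, 4803115302, 496238, 75048676, 1282670, 395472457, 98868114, 1200778825, 124059,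
   300194706, 320667, 5608421670, 6179257, 18493323558, 1544814, 18762169, 4690542, 1402105417, 24717030,
   4623330889, 386203, 75048678, 1172635, 350526354, 87631590, 1155832722, 1369243, 288958182, 4514971, 87631588,
   21907897, 288958180, 5476974, 72239545, 18059886, 462581321, 115645330, 1267887689, 28911334, 316971922,
   79242982, 2032592027, 1984996, 5253817499, 496249, 5130724, 1282681, 6327559323, 6179300, 19212461211, 124062,
   18762212, 320670, 1536323145, 384080786, 4757548617, 31014, 1189387154, 80166, 22433686683, 1544825,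
   73973294235, 386206, 4690553, 1172638, 5562854985, 96020198, 18447756873, 96550, 297346790, 293158, 1390713746,
   347678438, 4611939218, 342310, 1152984806, 1128742, 21907940, 5476985, 72239588, 1369246, 18059897, 4514974,
   1850325286, 28911332, 5071550758, 7227833, 79242980, 19810745, 7401301147, 7227876, 20286203035, 1806969,
   19810788, 4952697, 24581170331, 24005092, 76120777883, 31015, 74336740, 80167, 6145292582, 96020196,
   19030194470, 7753, 297346788, 20041, 89005679771, 6001273, 295164109979, 96551, 18584185, 293159, 22251419942,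
   24005049, 73791027494, 24137, 74336697, 73289, 347678436, 86919609, 1152984804, 85577, 288246201, 282185,
   86919652, 21729913, 288246244, 342311, 72061561, 1128743, 6950598950, 108603108, 19835500838, 1806958,
   309929700, 4952686, 27802395803, 27150820, 79342003355, 451742, 77482468, 1238174, 96521872539, 94259684,
   302680302747, 7755, 295586276, 20043, 24130468134, 377038564, 75670075686, 1938, 1182344932, 5010,
   354219910299, 1500318, 1178853631131, 24139, 4646046, 73291, 88554977574, 6001262, 294713407782, 6034,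
   18584174, 18322, 1383671524, 21729902, 4604896996, 21394, 72061550, 70546, 345917924, 5432478, 1151224292,
   85579, 18015390, 282187, 1737649737, 434412434, 4958875209, 451739, 1239718802, 1238171, 110480516251,
   107891172, 316638946459, 112935, 309217764, 309543, 385358423195, 376326628, 1209992144027, 28235, 1181632996,
   77387, 6032617033, 1508154258, 18917518921, 484, 4729379730, 1252, 1416150574235, 375079, 4714685457563, 93771,
   1161511, 290379, 22138744393, 1500315, 73678351945, 1508, 4646043, 4580, 5534686098, 5432475, 18419587986,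
   5348, 18015387, 17636, 1382959588, 1358119, 4604185060, 339531, 4503847, 1125963, 6905032265, 1726258066,
   19789934153, 112934, 4947483538, 309542, 27620129062, 431564516, 79159736614, 28233, 1236870884, 77385,
   96339605798, 1505306340, 302498036006, 7058, 4726531812, 19346, 24084901449, 6021225362, 75624509001, 1764,
   18906127250, 4836, 354037643558, 93769, 1178671364390, 23442, 290377, 72594, 88509410889, 375078, 294667841097,
   5860, 1161510, 18148, 22127352722, 1358118, 73666960274, 21220, 4503846, 70372, 5531838180, 339529,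
   18416740068, 84882, 1125961, 281490, 27083258150, 27150777, 78622865702, 6787694, 77482425, 19370606,
   108333032603, 6787705, 314491462811, 1696926, 19370617, 4842654, 383210939547, 23564921, 1207844660379, 1947,
   73896569, 5019, 95802734886, 94259641, 301961165094, 486, 295586233, 1254, 1414003090587, 5891230,
   4712537973915, 6043, 18474142, 18331, 353500772646, 23564910, 1178134493478, 1510, 73896558, 4582, 345917881,
   86479470, 1151224249, 5350, 287806062, 17638, 86479481, 21619870, 287806073, 21403, 71951518, 70555,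
   6770814537, 108603110, 19655716425, 1696923, 309929702, 4842651, 432603063451, 26972793, 1257236784283, 424231,
   77304441, 1210663, 1532114691227, 94081657, 4830649574555, 7067, 295408249, 19355, 23950683721, 377038566,
   75490291273, 121, 1182344934, 313, 5655283295387, 1472807, 18849422828699, 23451, 4618535, 72603, 88375193161,
   5891227, 294533623369, 377, 18474139, 1145, 1383671526, 21619867, 4604896998, 1337, 71951515, 4409, 345739897,
   5404967, 1151046265, 84891, 17987879, 281499, 27037691465, 431564518, 78577299017, 424230, 1236870886, 1210662,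
   108150765862, 107891129, 314309196070, 106057, 309217721, 302665, 383028672806, 376326585, 1207662393638, 1766,
   1181632953, 4838, 95757168201, 1505306342, 301915598409, 441, 4726531814, 1209, 1413820823846, 368201,
   4712355707174, 5862, 1154633, 18150, 353455205961, 1472806, 1178088926793, 1465, 4618534, 4537, 5531838182,
   5404966, 18416740070, 5305, 17987878, 17593, 1382959545, 1351241, 4604185017, 21222, 4496969, 70374,
   1692703634, 423175910, 4913929106, 6612123, 1228482278, 19195035, 1728609445019, 6743198, 5027144328347,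
   106059, 19326110, 302667, 6126655956123, 23520414, 19320795489435, 26523, 73852062, 75675, 5987670930,
   1496917734, 18872572818, 30, 4718143206, 78, 22619330372763, 368203, 75395888506011, 92059, 1154635, 288667,
   22093798290, 23389339, 73633405842, 94, 73720987, 286, 5523449574, 86303899, 18408351462, 334, 287630491, 1102,
   86434974, 1351243, 287761566, 337819, 4496971, 1124251, 6759422866, 1689855718, 19644324754, 1653030,
   4911081190, 4798758, 432152361254, 26972782, 1256786082086, 26514, 77304430, 75666, 1531663989030, 94081646,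
   4830198872358, 6630, 295408238, 18918, 23939292050, 5984823014, 75478899602, 110, 18869724902, 302,
   5654832593190, 92050, 18848972126502, 23014, 288658, 72166, 88363801490, 5847334, 294522231698, 366, 18430246,
   1134, 22090950374, 21575974, 73630557926, 1326, 71907622, 4398, 345739886, 337810, 1151046254, 84454, 1124242,
   281062, 423175908, 105793977, 1228482276, 26448494, 307120569, 76780142, 6913708713115, 1685799,
   20107848246427, 421451, 4831527, 1207883, 24505894757531, 5880103, 77282452890779, 105371, 18463015, 301979,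
   90476592424091, 1470027, 301582824957083, 367515, 4615755, 1153947, 1496917732, 374229433, 4718143204, 7,
   1179535801, 19, 5523449572, 93557358, 18408351460, 23, 294883950, 71, 1380862393, 345215598, 4602087865, 83,
   1150521966, 275, 21608743, 5402187, 71940391, 1350555, 17985099, 4496283, 105794020, 26448505, 307120612,
   6612126, 76780153, 19195038, 1728427178278, 421449, 5026962061606, 105362, 1207881, 301970, 6126473689382,
   1470025, 19320613222694, 26342, 4615753, 75494, 22619148106022, 367506, 75395706239270, 91878, 1153938, 288486,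
   374229476, 93557369, 1179535844, 1, 294883961, 4, 1380862436, 23389342, 4602087908, 5, 73720990, 17, 345215609,
   86303902, 1150521977, 20, 287630494, 68, 5402185, 1350546, 17985097, 337638, 4496274, 1124070, 1689855716,
   422463929, 4911081188, 413257, 1227770297, 1199689, 108038090313, 6743195, 314196520521, 6628, 19326107, 18916,
   382915997257, 23520411, 1207549718089, 1657, 73852059, 4729, 5984823012, 1496205753, 18869724900, 27,
   4717431225, 75, 1413708148297, 23012, 4712243031625, 5753, 72164, 18041, 22090950372, 1461833, 73630557924, 91,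
   4607561, 283, 5522737593, 5393993, 18407639481, 331, 17976905, 1099, 86434971, 84452, 287761563, 21113, 281060,
   70265, 422463972, 105615993, 1227770340, 1653031, 306942585, 4798759, 432106794569, 1685798, 1256740515401,
   26340, 4831526, 75492, 1531618422345, 5880102, 4830153305673, 6585, 18463014, 18873, 1496205796, 374051449,
   4717431268, 6, 1179357817, 18, 5654787026505, 91876, 18848926559817, 22969, 288484, 72121, 5522737636, 5847335,
   18407639524, 22, 18430247, 70, 1380684409, 21575975, 4601909881, 82, 71907623, 274, 21608742, 337636, 71940390,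
   84409, 1124068, 281017, 6752380644, 105615982, 19637282532, 103314, 306942574, 299922, 27009522578, 26403995,
   78549130130, 25828, 76735643, 74980, 95728999314, 93512859, 301887429522, 414, 294839451, 1182, 23932249828,
   374051438, 75471857380, 103, 1179357806, 295, 353427037074, 91364, 1178060757906, 1438, 287972, 4510,
   88356759268, 365458, 294515189476, 359, 1151890, 1127, 1380684398, 1348498, 4601909870, 1319, 4494226, 4391,
   345171099, 337124, 1150477467, 5278, 1123556, 17566, 1688095204, 26403998, 4909320676, 413259, 76735646,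
   1199691, 108026698642, 6600998, 314185128850, 103140, 19183910, 299748, 382904605586, 23378214, 1207538326418,
   1646, 73709862, 4718, 5983062500, 93512862, 18867964388, 25, 294839454, 73, 1413696756626, 365284,
   4712231639954, 5742, 1151716, 18030, 22089189860, 1461835, 73628797412, 89, 4607563, 281, 345171102, 5393995,
   1150477470, 329, 17976907, 1097, 86292774, 1348324, 287619366, 21102, 4494052, 70254, 6751668708, 6600999,
   19636570596, 1650251, 19183911, 4795979, 27006674660, 1650249, 78546282212, 412562, 4795977, 1198994,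
   95726151396, 5844553, 301884581604, 411, 18427465, 1179, 23931537892, 23378215, 75471145444, 102, 73709863,
   294, 353424189156, 1461138, 1178057909988, 1435, 4606866, 4507, 88356047332, 5844555, 294514477540, 358,
   18427467, 1126, 86292775, 21573195, 287619367, 1318, 71904843, 4390, 21573193, 5393298, 71904841, 5275,
   17976210, 17563, 1688095161, 422023790, 4909320633, 25830, 1227330158, 74982, 6752380646, 105505947,
   19637282534, 6457, 306832539, 18745, 23932249830, 373941403, 75471857382, 1614, 1179247771, 4686, 5983062457,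
   1495765614, 18867964345, 403, 4716991086, 1171, 88356759270, 22841, 294515189478, 5710, 71993, 17998,
   22089189817, 91366, 73628797369, 1427, 287974, 4499, 5522297454, 337126, 18407199342, 5267, 1123558, 17555,
   1380574363, 84281, 4601799835, 21070, 280889, 70222, 422023801, 105505950, 1227330169, 103323, 306832542,
   299931, 27006674662, 26376486, 78546282214, 25785, 76708134, 74937, 95726151398, 93485350, 301884581606, 6446,
   294811942, 18734, 1495765625, 373941406, 4716991097, 100, 1179247774, 292, 353424189158, 91321, 1178057909990,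
   22830, 287929, 71982, 5522297465, 365467, 18407199353, 356, 1151899, 1124, 1380574366, 1348507, 4601799838,
   1316, 4494235, 4388, 345143590, 337081, 1150449958, 84270, 1123513, 280878, 1687917177, 26376487, 4909142649,
   412571, 76708135, 1199003, 6751668665, 6594121, 19636570553, 103142, 19177033, 299750, 23931537849, 23371337,
   75471145401, 1611, 73702985, 4683, 5982884473, 93485351, 18867786361, 402, 294811943, 1170, 88356047289,
   365286, 294514477497, 5707, 1151718, 17995, 22089011833, 1461147, 73628619385, 1426, 4606875, 4498, 345143591,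
   5393307, 1150449959, 5266, 17976219, 17554, 86285897, 1348326, 287612489, 21067, 4494054, 70219, 421979294,
   6594123, 1227285662, 1648539, 19177035, 4794267, 1687917166, 1648530, 4909142638, 412134, 4794258, 1198566,
   5982884462, 5842834, 18867786350, 6439, 18425746, 18727, 1495721118, 23371339, 4716946590, 1609, 73702987,
   4681, 22089011822, 1460710, 73628619374, 22823, 4606438, 71975, 5522252958, 5842843, 18407154846, 5705,
   18425755, 17993, 86285899, 21571483, 287612491, 21065, 71903131, 70217, 21571474, 5392870, 71903122, 84263,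
   17975782, 280871, 105494823, 26373707, 306821415, 6593435, 76705355, 19176347, 421979291, 412132, 1227285659,
   103033, 1198564, 299641, 1495721115, 1460708, 4716946587, 25758, 4606436, 74910, 373930279, 93482571,
   1179236647, 6438, 294809163, 18726, 5522252955, 365177, 18407154843, 91294, 1151609, 287902, 1380563239,
   23370651, 4601788711, 22822, 73702299, 71974, 345140811, 86285211, 1150447179, 84262, 287611803, 280870,
   5392868, 1348217, 17975780, 337054, 4493945, 1123486, 26373705, 6593426, 76705353, 1648358, 19176338, 4794086,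
   105494822, 1648356, 306821414, 412089, 4794084, 1198521, 373930278, 5842660, 1179236646, 103022, 18425572,
   299630, 93482569, 23370642, 294809161, 25755, 73702290, 74907, 1380563238, 1460665, 4601788710, 365166,
   4606393, 1151598, 345140809, 5842662, 1150447177, 91291, 18425574, 287899, 86285202, 21571302, 287611794,
   337051, 71902950, 1123483, 21571300, 5392825, 71902948, 1348206, 17975737, 4493934]

theorem wdF4_chain : (wdF4.map fun n => actL ftF4 (dl 24 n) (ftF4.sim 0) + 64 * actL ftF4 (dl 24 n) (ftF4.sim 1) +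
    4096 * actL ftF4 (dl 24 n) (ftF4.sim 2) + 262144 * actL ftF4 (dl 24 n) (ftF4.sim 3)).IsChain (· < ·) := by
  decide +kernel

theorem wdF4_chk : ∀ n ∈ wdF4, forceL strict (dl 24 n) (fun l =>
    allLt (fun i => Nat.beq (iterL ftF4 l 6 (ftF4.sim i)) (ftF4.sim i)) 4 ||
    allLt (fun i => Nat.beq (iterL ftF4 l 8 (ftF4.sim i)) (ftF4.sim i)) 4 ||
    allLt (fun i => Nat.beq (iterL ftF4 l 6 (ftF4.sim i)) (ftF4.neg (ftF4.sim i))) 4) = true := by decide +kernel

theorem wF4_cases (w : gF4.cd.W) : w ^ 6 = 1 ∨ w ^ 8 = 1 ∨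
    ∀ {A : Type u} [CommGroup A] (c : Fin chevF4.rank → A), gF4.cd.wa (w ^ 6).1 c = c⁻¹ := by
  classical
  haveI := Fintype.ofFinite gF4.cd.W
  let f : ℕ → gF4.cd.W := fun n => gF4.cd.EW.wp ((dl 24 n).flatMap (ltr 4))
  have e : ∀ n k (i : Fin 4), iterL ftF4 (dl 24 n) k (ftF4.sim i) = (f n ^ k).1 (gF4.cd.sim i) := fun n k i => by
    erw [← gF4.iterL_eq, gF4.cd_sim, gF4.ag.sim i i.2]
    exact congrArg (iterL _ · _ _) (dl_eq _ _).symm
  have h1 : (wdF4.map f).Nodup := List.Nodup.of_map (fun w : gF4.cd.W => (w.1 (gF4.cd.sim (0 : Fin 4))).val +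
      64 * w.1 (gF4.cd.sim (1 : Fin 4)) + 4096 * w.1 (gF4.cd.sim (2 : Fin 4)) + 262144 * w.1 (gF4.cd.sim (3 : Fin 4))) (by
    have e' : ∀ n (i : Fin 4), actL ftF4 (dl 24 n) (ftF4.sim i) = (f n).1 (gF4.cd.sim i) := fun n i => by
      simpa [iterL] using e n 1 i
    convert (List.isChain_iff_pairwise.1 wdF4_chain).nodup using 1
    rw [List.map_map]
    exact List.map_congr_left fun n _ => by simp only [Function.comp_apply, ← e']; rfl)
  have h2 := Finset.eq_univ_of_card (wdF4.map f).toFinset (by
    rw [List.toFinset_card_of_nodup h1, ← Nat.card_eq_fintype_card, cardWF4, List.length_map]; decide +kernel)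
  obtain ⟨n, hn, rfl⟩ := List.mem_map.1 (List.mem_toFinset.1 (h2 ▸ Finset.mem_univ w))
  have := wdF4_chk n hn
  simp only [forceL_eq strict_eq, Bool.or_eq_true, allLt_iff, Nat.beq_eq, or_assoc] at this
  refine this.imp (fun h => RS.W_ext fun i => Fin.ext ?_) (.imp (fun h => RS.W_ext fun i => Fin.ext ?_) fun h A _ c => ?_)
  · exact (e n 6 i).symm.trans ((h i i.2).trans (gF4.ag.sim i i.2).symm)
  · exact (e n 8 i).symm.trans ((h i i.2).trans (gF4.ag.sim i i.2).symm)
  have : gF4.cd.wm (f n ^ 6).1 = -1 := Matrix.ext fun i j => by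
    rw [RS.wm, Matrix.of_apply, show (f n ^ 6).1 (gF4.cd.sim i) = gF4.cd.neg (gF4.cd.sim i) from Fin.ext <| by
      erw [← e, h i i.2, gF4.cd_neg, gF4.cd_sim, gF4.ag.neg _ (gF4.sim_lt i.2), gF4.ag.sim i i.2]; rfl,
      RS.co_neg, RS.co_sim]
    simp [Pi.single_apply, Matrix.one_apply, eq_comm]
  rw [RS.wa_eq, this, ma_neg, ma_one]

theorem f4_alt {F : Type u} [Field F] [Fintype F] (p : ℕ) [hp : Fact p.Prime] [CharP F p] (r : ℕ)
    (H : Subgroup ↥(chevF4.group F)) (K : Subgroup ↥H) [K.Normal]
    (h : Nonempty (↥H ⧸ K ≃* ↥(alternatingGroup (Fin r)))) : r ≤ 10 + (if p = 11 then 1 else 0) := by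
  by_contra hr
  obtain ⟨e⟩ := h
  haveI : Finite (chevF4.group F) := inferInstance
  have hπ : Function.Surjective (e.toMonoidHom.comp (QuotientGroup.mk' K)) :=
    e.surjective.comp (QuotientGroup.mk'_surjective K)
  generalize e.toMonoidHom.comp (QuotientGroup.mk' K) = π at hπ
  have key : ∀ {l l' : ℕ} [Fact l.Prime] [Fact l'.Prime], ((l * l' : ℕ) : F) ≠ 0 → ¬ l ∣ 1152 → ¬ l' ∣ 1152 →
      ∀ {P Q : Subgroup H}, IsPGroup l P → IsPGroup l' Q → Q ≤ Subgroup.normalizer (P : Set H) →
      ∀ g ∈ Subgroup.normalizer (P : Set H), g ∈ Subgroup.normalizer (Q : Set H) →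
      (∀ a, a ∈ P ∨ a ∈ Q → g ^ 6 * a * (g ^ 6)⁻¹ = a) ∨ (∀ a, a ∈ P ∨ a ∈ Q → g ^ 8 * a * (g ^ 8)⁻¹ = a) ∨
        ∀ a, a ∈ P ∨ a ∈ Q → g ^ 6 * a * (g ^ 6)⁻¹ = a⁻¹ := fun {l l'} _ _ h0 h1 h2 P Q hP hQ h3 g h4 h5 => by
    obtain ⟨L, _, _, φ, hL⟩ := exists_ext F h0
    let 𝒢 : Fam.{u} gF4.cd := gF4.fam (by simp)
    let f := ((𝒢.map φ).comp (gF4.iso (by simp) adF4_C F).symm.toMonoidHom).comp H.subtype
    obtain ⟨z, hz⟩ := (𝒢.st L).toral2 (𝒢.mu L) (𝒢.inj L) (𝒢.top L) ((dvd_mul_right _ _).trans hL) (cardWF4 ▸ h1)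
      ((dvd_mul_left _ _).trans hL) (cardWF4 ▸ h2) f hP hQ h3
    let f' := (MulAut.conj z⁻¹).toMonoidHom.comp f
    have hf : Function.Injective f' := (MulAut.conj z⁻¹).injective.comp
      (((𝒢.map_injective φ).comp (MulEquiv.injective _)).comp H.subtype_injective)
    replace hz : ∀ x, x ∈ P ∨ x ∈ Q → f' x ∈ (𝒢.X L).H := fun x hx => by simpa [f'] using hz x hx
    clear_value f'
    obtain ⟨w, hw⟩ := (𝒢.st L).exists_wa_set (𝒢.mu L) (𝒢.inj L) (𝒢.top L) (f' g) (Q := f' '' {x | x ∈ P ∨ x ∈ Q}) (by
      rintro _ ⟨a, ha, rfl⟩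
      exact ⟨hz a ha, _, ha.imp (Subgroup.mem_normalizer_iff.1 h4 a).1 (Subgroup.mem_normalizer_iff.1 h5 a).1, by simp⟩)
    refine (wF4_cases w).imp (fun h a ha => hf ?_) (.imp (fun h a ha => hf ?_) fun h a ha => hf ?_) <;>
      obtain ⟨c, hc⟩ := (𝒢.st L).exists_hh (𝒢.mu L) (hz a ha) <;>
      rw [map_mul, map_mul, map_inv, map_pow, ← hc, hw _ c ⟨a, ha, hc.symm⟩, h] <;> simp [hc]
  have ne : ∀ n : ℕ, ¬ p ∣ n → (n : F) ≠ 0 := fun n h => by rwa [Ne, CharP.cast_eq_zero_iff F p]
  split_ifs at hr with h11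
  · subst h11
    haveI : Fact (Nat.Prime 7) := ⟨by norm_num⟩
    haveI : Fact (Nat.Prime 5) := ⟨by norm_num⟩
    obtain ⟨f, hf⟩ := exists_altHom (show 12 ≤ r by omega)
    obtain ⟨x, y, g, hx, hy, e1, e2, e3⟩ : ∃ x y g : alternatingGroup (Fin 12), orderOf x = 7 ∧ orderOf y = 5 ∧
        g * x * g⁻¹ = x ^ 3 ∧ g * y * g⁻¹ = y ^ 2 ∧ y * x * y⁻¹ = x ^ 1 :=
      ⟨⟨⟨![1, 2, 3, 4, 5, 6, 0, 7, 8, 9, 10, 11], ![6, 0, 1, 2, 3, 4, 5, 7, 8, 9, 10, 11], by decide, by decide⟩,
          Equiv.Perm.mem_alternatingGroup.2 (by decide +kernel)⟩,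
        ⟨⟨![0, 1, 2, 3, 4, 5, 6, 8, 9, 10, 11, 7], ![0, 1, 2, 3, 4, 5, 6, 11, 7, 8, 9, 10], by decide, by decide⟩,
          Equiv.Perm.mem_alternatingGroup.2 (by decide +kernel)⟩,
        ⟨⟨![0, 3, 6, 2, 5, 1, 4, 7, 9, 11, 8, 10], ![0, 5, 3, 1, 6, 4, 2, 7, 10, 8, 11, 9], by decide, by decide⟩,
          Equiv.Perm.mem_alternatingGroup.2 (by decide +kernel)⟩, orderOf_eq_prime (by decide +kernel) (by decide +kernel),
        orderOf_eq_prime (by decide +kernel) (by decide +kernel), by decide +kernel, by decide +kernel, by decide +kernel⟩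
    rw [← orderOf_injective f hf] at hx hy
    replace e1 := congrArg f e1
    replace e2 := congrArg f e2
    replace e3 := congrArg f e3
    simp only [map_mul, map_inv, map_pow] at e1 e2 e3
    obtain ⟨a, ha⟩ := hπ (f x)
    obtain ⟨b, hb⟩ := hπ (f y)
    obtain ⟨c, hc⟩ := hπ (f g)
    simp only [← ha, ← hb, ← hc] at hx hy e1 e2 e3
    obtain ⟨P, hP, ⟨a', ha', e4⟩, h1⟩ := frat1 π hx
    obtain ⟨b', hb', e5⟩ := h1 b 1 e3
    obtain ⟨c', hc', e6⟩ := h1 c 3 e1
    obtain ⟨Q, hQ, ⟨b'', hb'', e7⟩, h2⟩ := frat1 (π.comp (Subgroup.normalizer (P : Set H)).subtype) (a := ⟨b', hb'⟩)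
      (p := 5) (e5 ▸ hy :)
    obtain ⟨g', hg', e8⟩ := h2 ⟨c', hc'⟩ 2 (by simpa [e5, e6] using e2)
    replace e7 : π b'' = π b := e7.trans e5
    replace e8 : π g' = π c := e8.trans e6
    rcases key (ne (7 * 5) (by norm_num)) (by norm_num) (by norm_num) hP (hQ.map _) (Subgroup.map_subtype_le _) g' g'.2
      (Subgroup.le_normalizer_map _ ⟨g', hg', rfl⟩) with h | h | h
    · have := congrArg π (h b'' (.inr ⟨b'', hb'', rfl⟩))
      rw [map_mul, map_mul, map_inv, map_pow, e7, e8, conj_iter e2, ← pow_one (π b), ← pow_mul, pow_eq_pow_iff_modEq,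
        hy] at this
      exact absurd this (by decide)
    · have := congrArg π (h a' (.inl ha'))
      rw [map_mul, map_mul, map_inv, map_pow, e4, e8, conj_iter e1, ← pow_one (π a), ← pow_mul, pow_eq_pow_iff_modEq,
        hx] at this
      exact absurd this (by decide)
    · have := congrArg π (h a' (.inl ha'))
      rw [map_mul, map_mul, map_inv, map_pow, e4, e8, conj_iter e1, map_inv, e4, eq_inv_iff_mul_eq_one, ← pow_succ,
        ← orderOf_dvd_iff_pow_eq_one, hx] at this
      exact absurd this (by decide)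
  haveI : Fact (Nat.Prime 11) := ⟨by norm_num⟩
  obtain ⟨x, y, hx, hy⟩ := exists_alt (show 11 ≤ r by omega) (x := finRotate 11) (p := 11) (j := 3) (k := 5)
    (y := ⟨![0, 3, 6, 9, 1, 4, 7, 10, 2, 5, 8], ![0, 4, 8, 1, 5, 9, 2, 6, 10, 3, 7], by decide, by decide⟩)
    (orderOf_eq_prime (by decide +kernel) (by decide +kernel)) (by decide) (by decide +kernel) (by decide)
    (by decide +kernel)
  obtain ⟨P, hP, g, hg, a, ha, h1, h2⟩ := frattini_lift π hπ hx hy
  rcases key (ne (11 * 11) fun h => h11 ((Nat.prime_dvd_prime_iff_eq hp.out (by norm_num)).1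
    ((hp.out.dvd_mul.1 h).elim id id))) (by norm_num) (by norm_num) hP hP Subgroup.le_normalizer g hg hg with h | h | h <;>
    have := congrArg π (h a (.inl ha)) <;> rw [map_mul, map_mul, map_inv, map_pow, conj_iter h2] at this
  · rw [← pow_one (π a), ← pow_mul, pow_eq_pow_iff_modEq, h1] at this
    exact absurd this (by decide)
  · rw [← pow_one (π a), ← pow_mul, pow_eq_pow_iff_modEq, h1] at this
    exact absurd this (by decide)
  · rw [map_inv, eq_inv_iff_mul_eq_one, ← pow_succ, ← orderOf_dvd_iff_pow_eq_one, h1] at this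
    exact absurd this (by decide)

end Chev

end CfsgH6
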