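import Cfsg.Agent.H6.Oct2

/-! The automorphism group of the split octonions is the Chevalley group of type `G₂`. -/

set_option autoImplicit false

noncomputable section

namespace CfsgH6
namespace Chev

open Cfsg.Lie Matrix

universe u

variable {F : Type u} [Field F]

theorem card_SL3 [Fintype F] : Nat.card (SpecialLinearGroup (Fin 3) F) =
    Fintype.card F ^ 3 * ((Fintype.card F ^ 2 - 1) * (Fintype.card F ^ 3 - 1)) := by
  have h := CfsgH5.card_SL_mul (ι := Fin 3) (F := F)
  rw [Matrix.card_GL_field, Fin.prod_univ_three] at h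
  have h1 : 1 < Fintype.card F := Fintype.one_lt_card
  generalize Fintype.card F = q at *
  refine Nat.eq_of_mul_eq_mul_left (by omega : 0 < q - 1) (h.trans ?_)
  have a1 : q ^ 1 ≤ q ^ 3 := Nat.pow_le_pow_right h1.le (by norm_num)
  have a2 : q ^ 2 ≤ q ^ 3 := Nat.pow_le_pow_right h1.le (by norm_num)
  have b2 : 1 ≤ q ^ 2 := Nat.one_le_pow _ _ (by omega)
  have b3 : 1 ≤ q ^ 3 := Nat.one_le_pow _ _ (by omega)
  simp only [Fin.val_zero, Fin.val_one, Fin.val_two, pow_zero]
  zify [a1, a2, b2, b3, h1.le]; ring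

/-- the action on the octonions -/
@[reducible] def octAct (F : Type u) [Field F] : MulAction (G2 F) (Fin 8 → F) where
  smul g v := ((g : GL (Fin 8) F) : Matrix (Fin 8) (Fin 8) F) *ᵥ v
  one_smul v := one_mulVec v
  mul_smul _ _ v := (mulVec_mulVec v _ _).symm

attribute [local instance] octAct

theorem oct_smul (g : G2 F) (v : Fin 8 → F) : g • v = ((g : GL (Fin 8) F) : Matrix (Fin 8) (Fin 8) F) *ᵥ v := rfl

theorem oct_mul (g : G2 F) (x y : Fin 8 → F) : g • zornMul x y = zornMul (g • x) (g • y) := g.2 x y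

theorem oct_add (g : G2 F) (x y : Fin 8 → F) : g • (x + y) = g • x + g • y := mulVec_add _ _ _

theorem oct_zero (g : G2 F) : g • (0 : Fin 8 → F) = 0 := mulVec_zero _

/-- basis -/
def oe (F : Type u) [Field F] (i : Fin 8) : Fin 8 → F := Pi.single i 1

theorem zone (x : Fin 8 → F) : zornMul (oe F 0 + oe F 7) x = x := by
  ext i; fin_cases i <;> simp [zornMul, dot3, cross3, oe]

theorem zone' (x : Fin 8 → F) : zornMul x (oe F 0 + oe F 7) = x := by
  ext i; fin_cases i <;> simp [zornMul, dot3, cross3, oe]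

theorem oct_one (g : G2 F) : g • (oe F 0 + oe F 7) = oe F 0 + oe F 7 := by
  have := oct_mul g (oe F 0 + oe F 7) (g⁻¹ • (oe F 0 + oe F 7))
  rw [zone, smul_inv_smul, zone'] at this
  exact this.symm

theorem idem {x : Fin 8 → F} (h : zornMul x x = x) (h0 : x ≠ 0) (h1 : x ≠ oe F 0 + oe F 7) :
    x 7 = 1 - x 0 ∧ x 1 * x 4 + x 2 * x 5 + x 3 * x 6 = x 0 * (1 - x 0) := by
  have e := fun i => congrFun h i
  have e0 := e 0; have e1 := e 1; have e2 := e 2; have e3 := e 3
  have e4 := e 4; have e5 := e 5; have e6 := e 6; have e7 := e 7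
  simp [zornMul, dot3, cross3] at e0 e1 e2 e3 e4 e5 e6 e7
  refine ⟨by_contra fun hn => ?_, by linear_combination e0⟩
  have hn' : x 0 + x 7 - 1 ≠ 0 := fun h => hn (by linear_combination h)
  have z1 : x 1 = 0 := (mul_eq_zero.1 (show _ * x 1 = 0 by linear_combination e1)).resolve_left hn'
  have z2 : x 2 = 0 := (mul_eq_zero.1 (show _ * x 2 = 0 by linear_combination e2)).resolve_left hn'
  have z3 : x 3 = 0 := (mul_eq_zero.1 (show _ * x 3 = 0 by linear_combination e3)).resolve_left hn'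
  have z4 : x 4 = 0 := (mul_eq_zero.1 (show _ * x 4 = 0 by linear_combination e4)).resolve_left hn'
  have z5 : x 5 = 0 := (mul_eq_zero.1 (show _ * x 5 = 0 by linear_combination e5)).resolve_left hn'
  have z6 : x 6 = 0 := (mul_eq_zero.1 (show _ * x 6 = 0 by linear_combination e6)).resolve_left hn'
  have z7 : x 7 = x 0 := sub_eq_zero.1 ((mul_eq_zero.1 (show _ * (x 7 - x 0) = 0 by
    linear_combination e7 - e0)).resolve_left hn')
  rcases mul_eq_zero.1 (show x 0 * (x 0 - 1) = 0 by rw [z1, z2, z3] at e0; linear_combination e0) with a | a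
  · apply h0; ext i; fin_cases i <;> simp [*]
  · apply h1; ext i; fin_cases i <;> simp [oe, z1, z2, z3, z4, z5, z6, z7, sub_eq_zero.1 a]

/-- parametrisation of the idempotents -/
def idP : (Bool × F × F × F) ⊕ (Fˣ × F × F × F × F × F) ⊕ (Fˣ × F × F × F × F) ⊕ (Fˣ × F × F × F) → Fin 8 → F
  | .inl (s, b, c, d) => ![cond s 1 0, 0, 0, 0, b, c, d, 1 - cond s 1 0]
  | .inr (.inl (u, a, b, c, d, e)) => ![a, u, b, c, (a * (1 - a) - b * d - c * e) / u, d, e, 1 - a]
  | .inr (.inr (.inl (u, a, b, c, d))) => ![a, 0, u, b, c, (a * (1 - a) - b * d) / u, d, 1 - a]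
  | .inr (.inr (.inr (u, a, b, c))) => ![a, 0, 0, u, b, c, a * (1 - a) / u, 1 - a]

theorem mem_idP {x : Fin 8 → F} (h1 : x 7 = 1 - x 0)
    (h2 : x 1 * x 4 + x 2 * x 5 + x 3 * x 6 = x 0 * (1 - x 0)) : x ∈ Set.range (idP (F := F)) := by
  by_cases z1 : x 1 = 0
  · by_cases z2 : x 2 = 0
    · by_cases z3 : x 3 = 0
      · rw [z1, z2, z3] at h2
        rcases mul_eq_zero.1 (show x 0 * (x 0 - 1) = 0 by linear_combination h2) with a | a
        · exact ⟨.inl (false, x 4, x 5, x 6), by ext i; fin_cases i <;> simp [idP, *]⟩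
        · exact ⟨.inl (true, x 4, x 5, x 6), by
            ext i; fin_cases i <;> simp [idP, z1, z2, z3, h1, sub_eq_zero.1 a]⟩
      · refine ⟨.inr (.inr (.inr (Units.mk0 _ z3, x 0, x 4, x 5))), ?_⟩
        ext i; fin_cases i <;> simp [idP, z1, z2, h1]
        rw [← h2, z1, z2]; field_simp; ring
    · refine ⟨.inr (.inr (.inl (Units.mk0 _ z2, x 0, x 3, x 4, x 6))), ?_⟩
      ext i; fin_cases i <;> simp [idP, z1, h1]
      rw [← h2, z1]; field_simp; ring
  · refine ⟨.inr (.inl (Units.mk0 _ z1, x 0, x 2, x 3, x 5, x 6)), ?_⟩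
    ext i; fin_cases i <;> simp [idP, h1]
    rw [← h2]; field_simp; ring

theorem orbit_le [Finite F] : (MulAction.orbit (G2 F) (oe F 0)).ncard ≤ Nat.card F ^ 3 * (Nat.card F ^ 3 + 1) := by
  have h : MulAction.orbit (G2 F) (oe F 0) ⊆ Set.range (idP (F := F)) := by
    rintro _ ⟨g, rfl⟩
    have e : zornMul (oe F 0) (oe F 0) = oe F 0 := by
      ext i; fin_cases i <;> simp [zornMul, dot3, cross3, oe]
    obtain ⟨h1, h2⟩ := idem (x := g • oe F 0) (by rw [← oct_mul, e]) (fun h => by
      have := congrFun (MulAction.injective g (h.trans (oct_zero g).symm)) 0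
      simp [oe] at this) fun h => by
      have := congrFun (MulAction.injective g (h.trans (oct_one g).symm)) 7
      simp [oe] at this
    exact mem_idP h1 h2
  refine (Set.ncard_le_ncard h).trans ?_
  rw [← Set.image_univ]
  refine (Set.ncard_image_le).trans (le_of_eq ?_)
  have hq : 1 ≤ Nat.card F := Nat.card_pos
  simp only [Set.ncard_univ, Nat.card_sum, Nat.card_prod, Nat.card_units, Nat.card_eq_fintype_card (α := Bool),
    Fintype.card_bool]
  zify [hq]; ring

theorem stab_col {g : G2 F} (hg : g • oe F 0 = oe F 0) {j : Fin 8} (hj : j = 1 ∨ j = 2 ∨ j = 3) :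
    g • oe F j = ![0, (g • oe F j) 1, (g • oe F j) 2, (g • oe F j) 3, 0, 0, 0, 0] := by
  have e1 : zornMul (oe F 0) (oe F j) = oe F j := by
    rcases hj with rfl | rfl | rfl <;> ext i <;> fin_cases i <;> simp [zornMul, dot3, cross3, oe]
  have e2 : zornMul (oe F j) (oe F 0) = 0 := by
    rcases hj with rfl | rfl | rfl <;> ext i <;> fin_cases i <;> simp [zornMul, dot3, cross3, oe]
  have a1 := oct_mul g (oe F 0) (oe F j)
  have a2 := congrFun (oct_mul g (oe F j) (oe F 0)) 0
  rw [e2, oct_zero, hg] at a2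
  rw [e1, hg] at a1
  generalize g • oe F j = x at a1 a2
  have b := fun i => congrFun a1 i
  have b4 := b 4; have b5 := b 5; have b6 := b 6; have b7 := b 7
  simp [zornMul, dot3, cross3, oe] at a2 b4 b5 b6 b7
  ext i; fin_cases i <;> simp [b4, b5, b6, b7, ← a2]

/-- the stabiliser of the idempotent in `SL₃` -/
def stabSL (g : MulAction.stabilizer (G2 F) (oe F 0)) : SpecialLinearGroup (Fin 3) F :=
  ⟨Matrix.of fun i j => (g.1 • oe F (![1, 2, 3] j)) (![1, 2, 3] i), by
    have e : zornMul (oe F 3) (zornMul (oe F 1) (oe F 2)) = oe F 0 := by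
      ext i; fin_cases i <;> simp [zornMul, dot3, cross3, oe]
    have a := congrFun (congrArg (g.1 • ·) e) 0
    simp only [oct_mul] at a
    rw [g.2, stab_col g.2 (j := 1) (by simp), stab_col g.2 (j := 2) (by simp), stab_col g.2 (j := 3) (by simp)] at a
    simp [zornMul, dot3, cross3, oe] at a
    simp [det_fin_three, oe]
    linear_combination a⟩

theorem stabSL_inj : Function.Injective (stabSL (F := F)) := by
  intro g g' h
  have e := fun i j => congrFun (congrFun (congrArg Subtype.val h) i) j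
  have c : ∀ j : Fin 3, g.1 • oe F (![1, 2, 3] j) = g'.1 • oe F (![1, 2, 3] j) := fun j => by
    rw [stab_col g.2 (j := ![1, 2, 3] j) (by fin_cases j <;> simp),
      stab_col g'.2 (j := ![1, 2, 3] j) (by fin_cases j <;> simp)]
    have e0 := e 0 j; have e1 := e 1 j; have e2 := e 2 j
    simp only [stabSL, of_apply, cons_val_zero, cons_val_one, cons_val] at e0 e1 e2
    rw [e0, e1, e2]
  have c1 : g.1 • oe F 1 = g'.1 • oe F 1 := c 0
  have c2 : g.1 • oe F 2 = g'.1 • oe F 2 := c 1
  have c3 : g.1 • oe F 3 = g'.1 • oe F 3 := c 2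
  have c0 : g.1 • oe F 0 = g'.1 • oe F 0 := g.2.trans g'.2.symm
  have e4 : oe F 4 = zornMul (oe F 2) (oe F 3) := by ext i; fin_cases i <;> simp [zornMul, dot3, cross3, oe]
  have e5 : oe F 5 = zornMul (oe F 3) (oe F 1) := by ext i; fin_cases i <;> simp [zornMul, dot3, cross3, oe]
  have e6 : oe F 6 = zornMul (oe F 1) (oe F 2) := by ext i; fin_cases i <;> simp [zornMul, dot3, cross3, oe]
  have c7 : g.1 • oe F 7 = g'.1 • oe F 7 := by
    have := (oct_one g.1).trans (oct_one g'.1).symm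
    rwa [oct_add, oct_add, c0, add_right_inj] at this
  have cc : ∀ j, g.1 • oe F j = g'.1 • oe F j := fun j => by
    fin_cases j
    exacts [c0, c1, c2, c3, by simp only [Fin.reduceFinMk, e4, oct_mul, c2, c3],
      by simp only [Fin.reduceFinMk, e5, oct_mul, c1, c3], by simp only [Fin.reduceFinMk, e6, oct_mul, c2, c1], c7]
  refine Subtype.ext (Subtype.ext (Units.ext (Matrix.ext fun i j => ?_)))
  simpa [oct_smul, oe] using congrFun (cc j) i

theorem card_G2_le [Fintype F] : Nat.card (G2 F) ≤ Nat.card (chevG2.group F) := by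
  have h := cardG2 F
  rw [pow_zero, one_mul] at h
  have h1 := Nat.card_le_card_of_injective _ (stabSL_inj (F := F))
  rw [← (MulAction.stabilizer (G2 F) (oe F 0)).index_mul_card, MulAction.index_stabilizer, h]
  refine (Nat.mul_le_mul orbit_le h1).trans (le_of_eq ?_)
  rw [card_SL3, ← Nat.card_eq_fintype_card]
  have hq : 1 ≤ Nat.card F := Nat.card_pos
  zify [Nat.one_le_pow _ _ hq]; ring

theorem inj_of_simple {G H : Type*} [Group G] [Group H] [IsSimpleGroup G] (φ : G →* H) {x : G} (h : φ x ≠ 1) :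
    Function.Injective φ :=
  (MonoidHom.ker_eq_bot_iff _).1 ((φ.normal_ker.eq_bot_or_eq_top).resolve_right fun e =>
    h (MonoidHom.mem_ker.1 (e ▸ Subgroup.mem_top x)))

theorem simpleG2 (hF : ∃ a : F, a ≠ 0 ∧ a ≠ 1) : IsSimpleGroup (chevG2.group F) :=
  (gG2.simple F (by decide +kernel) (perfG2 F hF)).1

/-- the isomorphism -/
theorem isoG2 [Fintype F] (hF : ∃ a : F, a ≠ 0 ∧ a ≠ 1) : Nonempty (chevG2.group F ≃* G2 F) := by
  haveI := simpleG2 hF
  let φ : chevG2.group F →* G2 F := (ρ8 F).codRestrict _ ρ8_mem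
  have hi : Function.Injective φ := inj_of_simple φ (x := (gG2.adjG F).x ⟨6, by decide⟩ 1) fun h => by
    have h1 : ρ8 F _ = 1 := congrArg Subtype.val h
    rw [ρ8_x] at h1
    have h2 : XM 8 cl8 6 (1 : F) = 1 := congrArg Units.val h1
    have := congrFun (o6 (1 : F) (oe F 1)) 2
    simp [h2, oe] at this
  exact ⟨.ofBijective φ ((Nat.bijective_iff_injective_and_card φ).2
    ⟨hi, le_antisymm (Nat.card_le_card_of_injective φ hi) card_G2_le⟩)⟩

end Chev
end CfsgH6
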