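import Cfsg.Agent.H6.Alt2
import Cfsg.Agent.H6.Oct3

/-! Elements of order three acting on the octonions. -/

set_option autoImplicit false

namespace CfsgH6

open Cfsg.Lie Matrix

universe u

theorem exists_comm {Q : Type*} [Group Q] [Group.IsNilpotent Q] (A : Subgroup Q) [hA : A.Normal] {t : Q} (ht : t ∈ A)
    (h1 : t ≠ 1) (y : Q) : ∃ z ∈ A, z ≠ 1 ∧ z * y = y * z := by
  obtain ⟨n, hn⟩ := Group.IsNilpotent.nilpotent Q
  have h2 : t ∈ Subgroup.upperCentralSeries Q n := hn ▸ Subgroup.mem_top t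
  clear hn
  induction n generalizing t with
  | zero => exact (h1 (by simpa using h2)).elim
  | succ n ih =>
    by_cases h : t * y = y * t
    · exact ⟨t, ht, h1, h⟩
    refine ih (t := t * y * t⁻¹ * y⁻¹) ?_ (fun e => h ?_) (Subgroup.mem_upperCentralSeries_succ_iff.1 h2 y)
    · rw [mul_assoc, mul_assoc, ← mul_assoc y]
      exact mul_mem ht (hA.conj_mem _ (inv_mem ht) y)
    · rwa [mul_inv_eq_one, mul_inv_eq_iff_eq_mul] at e

theorem nil3 {L : Type*} [Field L] {ω : L} (h1 : ω ≠ 1) (h3 : ω ^ 2 + ω + 1 = 0) {M S S' N : Matrix (Fin 3) (Fin 3) L}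
    (hM : M ^ 3 = 1) (hS : S' * S = 1) (e : M * S = ω • (S * M)) (hN : N * M = M * N) (h2 : N * N = 0) : N = 0 := by
  have key : ∀ (μ : L) (v : Fin 3 → L), μ ≠ 0 → M *ᵥ v = μ • v → N *ᵥ v = 0 := fun μ v hμ hv => by
    by_contra h
    have a1 : M *ᵥ (N *ᵥ v) = μ • N *ᵥ v := by rw [mulVec_mulVec, ← hN, ← mulVec_mulVec, hv, mulVec_smul]
    have a2 : ∀ v, M *ᵥ v = μ • v → M *ᵥ (S *ᵥ v) = (ω * μ) • S *ᵥ v := fun v hv => by
      rw [mulVec_mulVec, e, smul_mulVec, ← mulVec_mulVec, hv, mulVec_smul, mul_smul]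
    have a3 : ∀ a b : L, a • v + b • N *ᵥ v = 0 → a = 0 ∧ b = 0 := fun a b hab => by
      have := congrArg (N *ᵥ ·) hab
      simp only [mulVec_add, mulVec_smul, mulVec_mulVec, h2, zero_mulVec, smul_zero, add_zero, mulVec_zero,
        smul_eq_zero, h, or_false] at this
      simpa [this, h] using hab
    have a4 : LinearIndependent L ![v, N *ᵥ v, S *ᵥ v, S *ᵥ (N *ᵥ v)] := Fintype.linearIndependent_iff.2 fun c hc => by
      simp only [Fin.sum_univ_four, cons_val_zero, cons_val_one, cons_val] at hc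
      have b1 := congrArg (M *ᵥ ·) hc
      simp only [mulVec_add, mulVec_smul, hv, a1, a2 _ hv, a2 _ a1, mulVec_zero] at b1
      have b2 : ((1 - ω) * μ) • (c 0 • v + c 1 • N *ᵥ v) = 0 := by
        linear_combination (norm := module) b1 - (ω * μ) • hc
      replace b2 := a3 _ _ ((smul_eq_zero.1 b2).resolve_left (mul_ne_zero (sub_ne_zero.2 h1.symm) hμ))
      have b3 := congrArg (S' *ᵥ ·) hc
      simp only [b2.1, b2.2, zero_smul, zero_add, mulVec_add, mulVec_smul, mulVec_mulVec, ← mul_assoc, hS, one_mul,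
        one_mulVec, mulVec_zero] at b3
      replace b3 := a3 _ _ b3
      intro i
      fin_cases i
      exacts [b2.1, b2.2, b3.1, b3.2]
    simpa using a4.fintype_card_le_finrank
  have h0 : ω ≠ 0 := by rintro rfl; simp at h3
  have h4 : (3 : L) ≠ 0 := fun h => h1 (by
    have : (ω - 1) ^ 2 = 0 := by linear_combination h3 - ω * h
    exact sub_eq_zero.1 (pow_eq_zero_iff two_ne_zero |>.1 this))
  refine Matrix.ext_iff_mulVec.2 fun v => ?_
  have h5 : M *ᵥ M *ᵥ M *ᵥ v = v := by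
    rw [mulVec_mulVec, mulVec_mulVec, ← pow_three', hM, one_mulVec]
  have k : ∀ μ : L, μ ^ 3 = 1 → N *ᵥ (v + μ ^ 2 • M *ᵥ v + μ • M *ᵥ M *ᵥ v) = 0 := fun μ hμ =>
    key μ _ (by rintro rfl; simp at hμ) (by
      simp only [mulVec_add, mulVec_smul, h5]
      linear_combination (norm := module) - hμ • M *ᵥ v)
  have h6 : ω ^ 3 = 1 := by linear_combination (ω - 1) * h3
  have k1 := k 1 (by simp)
  have k2 := k ω h6
  have k3 := k (ω ^ 2) (by rw [← pow_mul, mul_comm, pow_mul, h6, one_pow])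
  simp only [mulVec_add, mulVec_smul] at k1 k2 k3
  rw [zero_mulVec]
  refine (smul_eq_zero.1 (?_ : (3 : L) • N *ᵥ v = 0)).resolve_left h4
  linear_combination (norm := module) k1 + k2 + k3 - ((ω ^ 2 - ω + 1) * h3) • N *ᵥ M *ᵥ v - h3 • N *ᵥ M *ᵥ M *ᵥ v

theorem uni3 {L : Type*} [Field L] {p : ℕ} [Fact p.Prime] [CharP L p] {ω : L} (h1 : ω ≠ 1) (h3 : ω ^ 2 + ω + 1 = 0)
    {M S S' U : Matrix (Fin 3) (Fin 3) L} (hM : M ^ 3 = 1) (hS : S' * S = 1) (e : M * S = ω • (S * M))
    (hU : U * M = M * U) {k : ℕ} (h2 : U ^ p ^ k = 1) : U = 1 := by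
  have h4 : (U - 1) ^ p ^ k = 0 := by rw [sub_pow_char_pow_of_commute _ _ (Commute.one_right U), h2, one_pow, sub_self]
  have h5 : Commute (U - 1) M := Commute.sub_left hU (Commute.one_left M)
  rw [← sub_eq_zero]
  generalize U - 1 = N at h4 h5
  generalize p ^ k = n at h4
  induction n with
  | zero => exact absurd h4 (by simp)
  | succ n ih =>
    rcases n with _ | n
    · simpa using h4
    · exact ih (nil3 h1 h3 hM hS e (h5.pow_left _) (by
        rw [← pow_add, show n + 1 + (n + 1) = n + 1 + 1 + n by ring, pow_add, h4, zero_mul]))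

namespace Chev

variable {F : Type u} [Field F]

attribute [local instance] octAct

/-- the stabiliser of the idempotent in `SL₃` -/
noncomputable def stabHom : MulAction.stabilizer (G2 F) (oe F 0) →* Matrix (Fin 3) (Fin 3) F where
  toFun g := (stabSL g).1
  map_one' := by ext i j; fin_cases i <;> fin_cases j <;> simp [stabSL, oe]
  map_mul' g h := by
    ext i j
    simp only [stabSL, of_apply, Subgroup.coe_mul, mul_smul, mul_apply, Fin.sum_univ_three]
    rw [stab_col h.2 (j := ![1, 2, 3] j) (by fin_cases j <;> simp)]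
    simp [oct_smul, oe, mulVec, dotProduct, Fin.sum_univ_eight]

/-- the centre of the stabiliser -/
def IsZ (ω : F) (z : G2 F) : Prop :=
  ω ≠ 1 ∧ ω ^ 2 + ω + 1 = 0 ∧ ∀ v : Fin 8 → F, z • v = ![v 0, ω * v 1, ω * v 2, ω * v 3, ω ^ 2 * v 4, ω ^ 2 * v 5, ω ^ 2 * v 6, v 7]

theorem oct_ext {g g' : G2 F} (h : ∀ v : Fin 8 → F, g • v = g' • v) : g = g' :=
  Subtype.ext (Units.ext (Matrix.ext_iff_mulVec.2 h))

theorem oct_sc (g : G2 F) (c : F) (x : Fin 8 → F) : g • (c • x) = c • g • x := mulVec_smul _ _ _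

namespace IsZ
variable {ω : F} {z : G2 F} (hz : IsZ ω z)
include hz

theorem cube : ω ^ 3 = 1 := by linear_combination (ω - 1) * hz.2.1

theorem eq_mul (v : Fin 8 → F) : z • v = zornMul (zornMul (oe F 0 + ω ^ 2 • oe F 7) v) (oe F 0 + ω • oe F 7) := by
  rw [hz.2.2]
  ext i; fin_cases i <;> simp [zornMul, dot3, cross3, oe]
  all_goals grind [hz.cube]

theorem fix {g : G2 F} (h : z • g • oe F 0 = g • oe F 0) : g • oe F 0 = oe F 0 ∨ g • oe F 0 = oe F 7 := by
  have e : zornMul (oe F 0) (oe F 0) = oe F 0 := by ext i; fin_cases i <;> simp [zornMul, dot3, cross3, oe]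
  have a := idem (x := g • oe F 0) (by rw [← oct_mul, e]) (fun h => by
      have := congrFun (congrArg (g⁻¹ • ·) h) 0
      simp [oct_zero, oe] at this) (fun h => by
      have := congrFun (congrArg (g⁻¹ • ·) h) 7
      simp only [inv_smul_smul, oct_one] at this
      simp [oe] at this)
  rw [hz.2.2] at h
  generalize g • oe F 0 = x at a h
  have h1 : ω - 1 ≠ 0 := sub_ne_zero.2 hz.1
  have h2 : ω ^ 2 - 1 ≠ 0 := fun h => h1 (by linear_combination hz.cube - ω * h)
  have k : ∀ {c y : F}, c - 1 ≠ 0 → c * y = y → y = 0 := fun hc hy =>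
    (mul_eq_zero.1 ((sub_one_mul _ _).trans (sub_eq_zero.2 hy))).resolve_left hc
  have b1 : x 1 = 0 := k h1 (congrFun h 1)
  have b2 : x 2 = 0 := k h1 (congrFun h 2)
  have b3 : x 3 = 0 := k h1 (congrFun h 3)
  have b4 : x 4 = 0 := k h2 (congrFun h 4)
  have b5 : x 5 = 0 := k h2 (congrFun h 5)
  have b6 : x 6 = 0 := k h2 (congrFun h 6)
  simp only [b1, b2, b3, zero_mul, add_zero] at a
  rcases mul_eq_zero.1 a.2.symm with h | h
  · right; ext i; fin_cases i <;> simp [oe, b1, b2, b3, b4, b5, b6, a.1, h]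
  · have h' : x 0 = 1 := (sub_eq_zero.1 h).symm
    left; ext i; fin_cases i <;> simp [oe, b1, b2, b3, b4, b5, b6, a.1, h']

theorem comm {g : G2 F} (h : g • oe F 0 = oe F 0) : g * z = z * g := oct_ext fun v => by
  have h7 : g • oe F 7 = oe F 7 := by have := oct_one g; rwa [oct_add, h, add_right_inj] at this
  simp only [mul_smul, hz.eq_mul, oct_mul, oct_add, oct_sc, h, h7]

theorem anti {g : G2 F} (h : g • oe F 0 = oe F 7) : z * g * z = g := oct_ext fun v => by
  have h7 : g • oe F 7 = oe F 0 := by have := oct_one g; rwa [oct_add, h, add_comm, add_left_inj] at this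
  rw [mul_smul, mul_smul, hz.eq_mul v]
  simp only [oct_mul, oct_add, oct_sc, h, h7, hz.2.2]
  generalize g • v = x
  ext i; fin_cases i <;> simp [zornMul, dot3, cross3, oe]
  all_goals grind [hz.cube]

theorem sq_ne : z * z ≠ 1 := fun h => by
  have := congrFun (congrArg (· • oe F 1) h) 1
  simp only [mul_smul, hz.2.2, one_smul] at this
  simp [oe] at this
  exact hz.1 (by linear_combination hz.cube - ω * this)

theorem stab {g : G2 F} (h : g * z = z * g) : g • oe F 0 = oe F 0 := by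
  have h0 : z • oe F 0 = oe F 0 := by rw [hz.2.2]; ext i; fin_cases i <;> simp [oe]
  refine (hz.fix (by rw [← mul_smul, ← h, mul_smul, h0])).resolve_right fun e => hz.sq_ne ?_
  have := hz.anti e
  rw [← h, mul_assoc] at this
  exact mul_eq_left.1 this

theorem norm {g : G2 F} (h : g⁻¹ * z * g * z = z * (g⁻¹ * z * g)) : g * z = z * g ∨ z * g * z = g :=
  (hz.fix (by
    have := hz.stab h
    rwa [mul_smul, mul_smul, inv_smul_eq_iff] at this)).imp hz.comm hz.anti

theorem uni {p : ℕ} [Fact p.Prime] [CharP F p] {x s u : G2 F} (hx : x * z = z * x) (hs : s * z = z * s)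
    (hu : u * z = z * u) (h3 : x ^ 3 = 1) (e : x * s = z * (s * x)) (h : u * x = x * u) {k : ℕ} (h2 : u ^ p ^ k = 1) :
    u = 1 := by
  let x' : MulAction.stabilizer (G2 F) (oe F 0) := ⟨x, hz.stab hx⟩
  let s' : MulAction.stabilizer (G2 F) (oe F 0) := ⟨s, hz.stab hs⟩
  let u' : MulAction.stabilizer (G2 F) (oe F 0) := ⟨u, hz.stab hu⟩
  let z' : MulAction.stabilizer (G2 F) (oe F 0) := ⟨z, hz.stab rfl⟩
  have h4 : stabHom z' = ω • 1 := by
    ext i j
    change (z • oe F (![1, 2, 3] j)) (![1, 2, 3] i) = _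
    fin_cases i <;> fin_cases j <;> simp [hz.2.2, oe]
  have := uni3 hz.1 hz.2.1 (M := stabHom x') (S := stabHom s') (S' := stabHom s'⁻¹) (U := stabHom u') (k := k)
    (by rw [← map_pow, show x' ^ 3 = 1 from Subtype.ext h3, map_one]) (by rw [← map_mul, inv_mul_cancel, map_one])
    (by rw [← map_mul, show x' * s' = z' * (s' * x') from Subtype.ext e, map_mul, h4, map_mul]; simp)
    (by rw [← map_mul, show u' * x' = x' * u' from Subtype.ext h, map_mul])
    (by rw [← map_pow, show u' ^ p ^ k = 1 from Subtype.ext h2, map_one])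
  exact congrArg Subtype.val (stabSL_inj (a₁ := u') (a₂ := 1) (Subtype.ext (this.trans stabHom.map_one.symm)))

end IsZ

end Chev
end CfsgH6
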