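import Cfsg.Agent.H6.Alt3

/-! Alternating sections of the groups of type `G₂`. -/

set_option autoImplicit false

namespace CfsgH6

open Finset PreSt Cfsg.Lie
open Matrix hiding zpow_mul zpow_add zpow_neg one_zpow zpow_sub inv_zpow

universe u

theorem ppart {H A : Type*} [Group H] [Finite H] [Group A] (π : H →* A) {p : ℕ} [hp : Fact p.Prime] {a : H}
    (hx : orderOf (π a) = p) : ∃ i k : ℕ, (a ^ i) ^ p ^ k = 1 ∧ π (a ^ i) = π a := by
  obtain ⟨k, m, h1, h2⟩ := Nat.exists_eq_pow_mul_and_not_dvd (orderOf_pos a).ne' p hp.out.ne_one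
  obtain ⟨t, ht⟩ := exists_pow_eq_self_of_coprime (x := π a) (hx ▸ (hp.out.coprime_iff_not_dvd.2 h1).symm)
  refine ⟨m * t, k, ?_, by rw [pow_mul, map_pow, map_pow, ht]⟩
  rw [← pow_mul, mul_right_comm, mul_comm m, ← h2, pow_mul, pow_orderOf_eq_one, one_pow]

theorem frat2 {H A : Type*} [Group H] [Finite H] [Group A] (π : H →* A) {p : ℕ} [hp : Fact p.Prime] (E : Subgroup A)
    {R : Subgroup H} (hR : IsPGroup p R) (h : R ≤ E.comap π) : ∃ Q : Subgroup H, IsPGroup p Q ∧ R ≤ Q ∧ Q ≤ E.comap π ∧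
      (∀ Q' : Subgroup H, IsPGroup p Q' → Q ≤ Q' → Q' ≤ E.comap π → Q' ≤ Q) ∧
      ∀ g, (∀ e ∈ E, π g * e * (π g)⁻¹ ∈ E) → ∃ n ∈ Subgroup.normalizer (Q : Set H), ∃ c ∈ E, π n * c = π g := by
  set K := E.comap π
  set L := Subgroup.normalizer (K : Set H)
  obtain ⟨P, hP⟩ := (hR.comap_subtype (K := L)).comap_subtype (K := K.subgroupOf L) |>.exists_le_sylow
  have h1 : ∀ {Q : Subgroup H}, Q ≤ K → (Q.comap L.subtype).comap (K.subgroupOf L).subtype ≤ P →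
      Q ≤ (P.1.map (K.subgroupOf L).subtype).map L.subtype := fun {Q} h h' x hx =>
    ⟨⟨x, Subgroup.le_normalizer (h hx)⟩, ⟨⟨_, h hx⟩, h' (show (⟨⟨x, Subgroup.le_normalizer (h hx)⟩, h hx⟩ :
      K.subgroupOf L) ∈ _ from hx), rfl⟩, rfl⟩
  refine ⟨_, (P.2.map _).map _, h1 h hP, ?_, fun Q' h2 h3 h4 => h1 h4 (P.3 h2.comap_subtype.comap_subtype
    fun x hx => h3 ⟨_, ⟨x, hx, rfl⟩, rfl⟩).le, fun g e => ?_⟩
  · rintro _ ⟨_, ⟨x, -, rfl⟩, rfl⟩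
    exact x.2
  have hg : g ∈ L := Subgroup.mem_normalizer_fintype fun n hn => by simpa [K] using e _ hn
  have h3 : (⟨g, hg⟩ : L) ∈ _ := P.normalizer_sup_eq_top ▸ Subgroup.mem_top _
  obtain ⟨n, hn, c, hc, e'⟩ := Subgroup.mem_sup_of_normal_right.1 h3
  exact ⟨n, Subgroup.le_normalizer_map _ ⟨n, hn, rfl⟩, π c, hc, (map_mul _ _ _).symm.trans (congrArg (π ·.1) e')⟩

theorem idx3 {Q B : Type*} [Group Q] [Finite Q] [Group B] [Finite B] (hQ : IsPGroup 3 Q) (φ : Q →* B) {k m : ℕ}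
    (h : Nat.card B = 3 ^ k * 2 ^ m) : φ.ker.index ≤ 3 ^ k := by
  obtain ⟨n, hn⟩ := hQ.index φ.ker
  have := φ.range.card_subgroup_dvd_card
  rw [← Subgroup.index_ker, h, hn] at this
  exact hn ▸ Nat.le_of_dvd (by positivity) (Nat.Coprime.dvd_of_dvd_mul_right (Nat.Coprime.pow _ _ (by norm_num)) this)

namespace Chev

variable {F : Type u} [Field F]

attribute [local instance] octAct

variable (F) in
/-- the octonion representation of the Steinberg group -/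
noncomputable def ρS : (gG2.fam (by simp)).Γ F →* G2 F :=
  ((ρ8 F).codRestrict _ ρ8_mem).comp (gG2.iso (by simp) adG2_C F).toMonoidHom

theorem ρS_inj (hF : ∃ a : F, a ≠ 0 ∧ a ≠ 1) : Function.Injective (ρS F) := by
  haveI := simpleG2 hF
  refine (inj_of_simple ((ρ8 F).codRestrict _ ρ8_mem) (x := (gG2.adjG F).x ⟨6, by decide⟩ 1) fun h => ?_).comp
    (MulEquiv.injective _)
  have h1 : ρ8 F _ = 1 := congrArg Subtype.val h
  rw [ρ8_x] at h1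
  have h2 : XM 8 cl8 6 (1 : F) = 1 := congrArg Units.val h1
  have := congrFun (o6 (1 : F) (oe F 1)) 2
  simp [h2, oe] at this

theorem isZ_hh {c : Fin 2 → Fˣ} (h0 : c ≠ 1) (h1 : c 1 = 1) (h3 : c 0 ^ 3 = 1) :
    IsZ ((c 0 : F) ^ 2) (ρS F ((gG2.fam (by simp)).hh F c)) := by
  have e : c = RS.cv (Pi.single 0 1) (c 0) := by
    conv_lhs => rw [RS.eq_prod_cv c, Fin.prod_univ_two, h1]
    simp
  have h4 : (c 0 : F) ^ 3 = 1 := congrArg Units.val h3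
  have h5 : (c 0 : F) ≠ 1 := fun h => h0 (funext (Fin.forall_fin_two.2 ⟨Units.ext h, h1⟩))
  have h : (((ρS F ((gG2.fam (by simp)).hh F c)) : GL (Fin 8) F) : Matrix (Fin 8) (Fin 8) F) =
      diagonal fun b : Fin 8 => (c 0 : F) ^ wt8 (0 : Fin 2) b := by
    refine Eq.trans ?_ (gG2.rep_h (ctx0_sound (F := F) 1).cz chk8 (0 : Fin 2) (c 0).ne_zero)
    exact congrArg Units.val ((congrArg ((G2 F).subtype.comp (ρS F)) ((congrArg ((gG2.fam (by simp)).hh F) e).trans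
      ((gG2.isSt_st F).hh_cv_single (gG2.st_mult F) (0 : Fin 2) _))).trans ((gG2.st F).map_h (oct F) _
        (fun r t => (congrArg (ρ8 F) (gG2.iso_x _ _ F r t)).trans (ρ8_x F r t)) _ _))
  have h6 : (c 0 : F) ^ 2 + c 0 + 1 = 0 :=
    (mul_eq_zero.1 (show ((c 0 : F) - 1) * _ = 0 by linear_combination h4)).resolve_left (sub_ne_zero.2 h5)
  refine ⟨fun h => h5 (by linear_combination h4 - (c 0 : F) * h), by linear_combination h6 + (c 0 : F) * h4, fun v => ?_⟩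
  have h7 : (c 0 : F)⁻¹ = c 0 ^ 2 := inv_eq_of_mul_eq_one_right (by linear_combination h4)
  rw [oct_smul, h]
  ext i
  fin_cases i <;> simp [mulVec_diagonal, wt8, h7, zpow_ofNat, ← inv_pow]
  all_goals left; linear_combination (-(c 0 : F)) * h4

theorem wG2_six (w : rs2.W) : w ^ 6 = 1 := by
  obtain ⟨l, hl, rfl⟩ := wG2_enum w
  refine RS.wm_inj ?_
  rw [Subgroup.coe_pow, RS.wm_pow (wp2 l).2, wm_wp2, Subgroup.coe_one, RS.wm_one]
  revert l; decide +kernel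

theorem wG2_three (w : rs2.W) (h : w ^ 3 = 1) (h1 : w ≠ 1) {A : Type u} [CommGroup A] (c : Fin 2 → A) :
    rs2.wa w.1 c = c ↔ c 1 = 1 ∧ c 0 ^ 3 = 1 := by
  obtain ⟨l, hl, rfl⟩ := wG2_enum w
  replace h := congrArg (fun w : rs2.W => rs2.wm w.1) h
  replace h1 : wM2 l ≠ 1 := fun e => h1 (RS.wm_inj (by rw [wm_wp2, e, Subgroup.coe_one, RS.wm_one]))
  simp only [Subgroup.coe_pow, RS.wm_pow (wp2 l).2, wm_wp2, Subgroup.coe_one, RS.wm_one] at h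
  have : wM2 l = !![1, 3; -1, -2] ∨ wM2 l = !![-2, -3; 1, 1] := by revert l; decide +kernel
  rw [RS.wa_eq, wm_wp2, funext_iff, Fin.forall_fin_two]
  rcases this with e | e <;> simp [e, ma_apply, zpow_ofNat]
  · intro h; simp [h]
  · intro h; rw [inv_mul_eq_iff_eq_mul, ← pow_succ, h]

theorem three_N [Finite F] (h : 3 ∣ Nat.card F - 1) : ¬ 3 ∣ ((gG2.fam (by simp)).X F).N.index := by
  let 𝒢 : Fam.{u} gG2.cd := gG2.fam (by simp)
  have h1 := (𝒢.X F).N.card_mul_index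
  have h2 := (𝒢.st F).pi.ker.card_mul_index
  have h3 := cardG2 F
  rw [Subgroup.index_ker, IsSt.range_pi, cardWG2, IsSt.ker_pi,
    Nat.card_congr (Subgroup.subgroupOfEquivOfLe (𝒢.X F).H_le_N).toEquiv, ← (𝒢.st F).range_hh (𝒢.mu F),
    ← Nat.card_congr (MonoidHom.ofInjective (𝒢.inj F)).toEquiv, Nat.card_fun, Nat.card_units,
    show Nat.card (Fin chevG2.rank) = 2 from Nat.card_fin 2] at h2
  rw [pow_zero, one_mul, ← Nat.card_congr (gG2.iso (by simp) adG2_C F).toEquiv, ← h1, ← h2] at h3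
  rintro ⟨m, hm⟩
  rw [hm] at h3
  have h0 : 1 < Nat.card F := Finite.one_lt_card
  obtain ⟨k, hk⟩ := h
  obtain ⟨q, hq⟩ : ∃ q, Nat.card F = q + 1 := ⟨_, (Nat.sub_add_cancel h0.le).symm⟩
  rw [hq] at h0 h3 hk
  rw [add_tsub_cancel_right] at hk h3
  have h4 : 12 * (3 * m) = (q + 1) ^ 6 * (q + 2) * (q ^ 5 + 6 * q ^ 4 + 15 * q ^ 3 + 20 * q ^ 2 + 15 * q + 6) := by
    refine Nat.eq_of_mul_eq_mul_left (pow_pos (by omega : 0 < q) 2) (((mul_assoc _ _ _).symm.trans h3).trans ?_)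
    zify [Nat.one_le_pow _ _ q.succ_pos]; ring
  have h5 := congrArg (Nat.cast : ℕ → ZMod 9) h4
  rw [hk] at h5
  push_cast at h5
  generalize (k : ZMod 9) = k at h5
  generalize (m : ZMod 9) = m at h5
  revert k m; decide +kernel

theorem g2_core [CharP F 5] {Γ W : Type*} [Group Γ] [Group W] [Finite W] (hW : Nat.card W = 12)
    (η : (Fin 2 → Fˣ) →* Γ) (ρ : Γ →* G2 F) (hρ : Function.Injective ρ) (N : Subgroup Γ)
    (hN : ¬ 3 ∣ N.index) (θ : N →* W) (p1 : ∀ n, θ n = 1 ↔ n.1 ∈ η.range) (p2 : ∀ w : W, w ^ 6 = 1)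
    (p3 : ∀ n, θ n ^ 3 = 1 → θ n ≠ 1 → ∀ c, n.1 * η c = η c * n.1 ↔ c 1 = 1 ∧ c 0 ^ 3 = 1)
    (p4 : ∀ g (S : Set Γ), (∀ a ∈ S, a ∈ η.range ∧ g * a * g⁻¹ ∈ S) → ∀ a ∈ S, g ^ 6 * a * (g ^ 6)⁻¹ = a)
    (p5 : ∀ c, c ≠ 1 → c 1 = 1 → c 0 ^ 3 = 1 → ∃ ω, IsZ ω (ρ (η c))) {H A : Type*} [Group H] [Finite H] [Group A]
    (f₀ : H →* Γ) (hf₀ : Function.Injective f₀) (π : H →* A) (hπ : Function.Surjective π)
    {a b γ : A} (oa : orderOf a = 3) (ob : orderOf b = 5) (hab : Commute a b) (h1 : Commute a (γ * a * γ⁻¹))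
    (h2 : γ * (γ * a * γ⁻¹) * γ⁻¹ = a⁻¹)
    (h3 : Function.Injective fun i : Fin 3 × Fin 3 => a ^ i.1.1 * (γ * a * γ⁻¹) ^ i.2.1) : False := by
  haveI : Fact (Nat.Prime 5) := ⟨by norm_num⟩
  obtain ⟨σ, hσ⟩ : ∃ σ : A →* A, ∀ e, γ * e * γ⁻¹ = σ e := ⟨(MulAut.conj γ).toMonoidHom, fun _ => rfl⟩
  simp only [hσ] at h1 h2 h3
  have a3 : a ^ 3 = 1 := oa ▸ pow_orderOf_eq_one a
  have b5 : b ^ 5 = 1 := ob ▸ pow_orderOf_eq_one b
  have iv : ∀ {e : A}, e ^ 3 = 1 → e⁻¹ = e ^ 2 := fun h => inv_eq_of_mul_eq_one_right (by rw [← pow_succ', h])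
  have a3' : σ a ^ 3 = 1 := by rw [← map_pow, a3, map_one]
  let E : Subgroup A :=
    { carrier := {e | ∃ i j : ℕ, e = a ^ i * σ a ^ j}
      one_mem' := ⟨0, 0, by simp⟩
      mul_mem' := by
        rintro _ _ ⟨i, j, rfl⟩ ⟨i', j', rfl⟩
        exact ⟨i + i', j + j', by rw [pow_add, pow_add, (h1.pow_pow _ _).mul_mul_mul_comm]⟩
      inv_mem' := by
        rintro _ ⟨i, j, rfl⟩
        exact ⟨2 * i, 2 * j, by
          rw [_root_.mul_inv_rev, ← inv_pow, ← inv_pow, iv a3, iv a3', ← pow_mul, ← pow_mul, (h1.pow_pow _ _).eq]⟩ }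
  have Ec : ∀ e ∈ E, ∀ e' ∈ E, Commute e e' := by
    rintro _ ⟨i, j, rfl⟩ _ ⟨i', j', rfl⟩
    exact (((Commute.refl _).pow_pow _ _).mul_right (h1.pow_pow _ _)).mul_left
      ((h1.symm.pow_pow _ _).mul_right ((Commute.refl _).pow_pow _ _))
  have E3 : ∀ e ∈ E, e ^ 3 = 1 := by
    rintro _ ⟨i, j, rfl⟩
    rw [(h1.pow_pow _ _).mul_pow, pow_right_comm, pow_right_comm (σ a), a3, a3']; simp
  have Eγ : ∀ e ∈ E, σ e ∈ E := by
    rintro _ ⟨i, j, rfl⟩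
    exact ⟨2 * j, i, by rw [map_mul, map_pow, map_pow, h2, iv a3, ← pow_mul, (h1.pow_pow _ _).eq]⟩
  have Eγ2 : ∀ e ∈ E, σ (σ e) = e ^ 2 := by
    rintro _ ⟨i, j, rfl⟩
    simp only [map_mul, map_pow, h2, map_inv, iv a3, iv a3', (h1.pow_pow _ _).mul_pow, pow_right_comm _ 2]
  have aE : a ∈ E := ⟨1, 0, by simp⟩
  obtain ⟨Q₀, hQ₀, -, k1, k2, k3⟩ := frat2 π (p := 3) ⊥ IsPGroup.of_bot bot_le
  obtain ⟨n, hn, hn'⟩ : ∃ n ∈ Subgroup.normalizer (Q₀ : Set H), π n = a * b := by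
    obtain ⟨n, e⟩ := hπ (a * b)
    obtain ⟨n', k4, c, rfl, k5⟩ := k3 n (by simp)
    exact ⟨n', k4, by simpa [e] using k5⟩
  have e1 : π (n ^ 10) = a := by
    rw [map_pow, hn', hab.mul_pow, pow_succ, pow_mul a 3 3, pow_mul b 5 2, a3, b5]; simp
  have e2 : π (n ^ 6) = b := by
    rw [map_pow, hn', hab.mul_pow, pow_succ b, pow_mul a 3 2, a3, b5]; simp
  obtain ⟨i, k, x1, x2⟩ := ppart π (e1 ▸ oa : orderOf (π (n ^ 10)) = 3)
  obtain ⟨j, l, u1, u2⟩ := ppart π (e2 ▸ ob : orderOf (π (n ^ 6)) = 5)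
  have xu : Commute ((n ^ 6) ^ j) ((n ^ 10) ^ i) := ((Commute.refl n).pow_pow _ _).pow_pow _ _
  have x3 : (n ^ 10) ^ i ∈ Subgroup.normalizer (Q₀ : Set H) := pow_mem (pow_mem hn _) _
  have u3 : (n ^ 6) ^ j ∈ Subgroup.normalizer (Q₀ : Set H) := pow_mem (pow_mem hn _) _
  rw [e1] at x2
  rw [e2] at u2
  generalize (n ^ 10) ^ i = x at x1 x2 x3 xu
  generalize (n ^ 6) ^ j = u at u1 u2 u3 xu
  clear e1 e2 hn hn' n i j k3
  obtain ⟨Q, hQ, k4, k5, -, k6⟩ := frat2 π E (R := Q₀ ⊔ Subgroup.zpowers x) (hQ₀.to_sup_of_normal_left'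
    (by rintro ⟨_, m, rfl⟩; exact ⟨k, Subtype.ext (show (x ^ m) ^ 3 ^ k = 1 by
      rw [← zpow_natCast, zpow_comm, zpow_natCast, x1, one_zpow])⟩)
      (Subgroup.zpowers_le.2 x3))
    (sup_le (k1.trans (Subgroup.comap_mono bot_le)) (Subgroup.zpowers_le.2 (show π x ∈ E from x2 ▸ aE)))
  have xQ : x ∈ Q := k4 (Subgroup.mem_sup_right (Subgroup.mem_zpowers x))
  replace k4 : Q₀ ≤ Q := le_sup_left.trans k4
  replace k2 : ∀ k ∈ Q, π k = 1 → k ∈ Q₀ := fun k hk hk' =>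
    k2 (Q ⊓ (⊥ : Subgroup A).comap π) hQ.to_inf_left (le_inf k4 k1) inf_le_right ⟨hk, hk'⟩
  obtain ⟨g, hg, hg'⟩ : ∃ g ∈ Subgroup.normalizer (Q : Set H), ∀ t ∈ Q, π (g * t * g⁻¹) = σ (π t) := by
    obtain ⟨n, e⟩ := hπ γ
    obtain ⟨g, k4, c, hc, k7⟩ := k6 n fun e' he' => by rw [e, hσ]; exact Eγ _ he'
    refine ⟨g, k4, fun t ht => ?_⟩
    rw [← hσ, ← e, ← k7, map_mul, map_mul, map_inv, mul_assoc _ c, (Ec _ hc _ (k5 ht)).eq]; group
  have gQ : ∀ t ∈ Q, g * t * g⁻¹ ∈ Q := fun t => (Subgroup.mem_normalizer_iff.1 hg t).1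
  have gQ' : ∀ t ∈ Q, g⁻¹ * t * g ∈ Q := fun t => (Subgroup.mem_normalizer_iff''.1 hg t).1
  have g2 : ∀ t ∈ Q, π g ^ 2 * π t * (π g ^ 2)⁻¹ = π t ^ 2 := fun t ht => by
    rw [← Eγ2 _ (k5 ht), ← hg' t ht, ← hg' _ (gQ t ht)]; simp [pow_two, mul_assoc]
  obtain ⟨y₀, hy₀⟩ := pgroup_conj_le N hN hQ (f₀.comp Q.subtype)
  let f := (MulAut.conj y₀⁻¹).toMonoidHom.comp f₀
  have hf : Function.Injective f := (MulAut.conj y₀⁻¹).injective.comp hf₀
  replace hy₀ : ∀ x : Q, f x ∈ N := fun x => by simpa [f] using hy₀ x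
  clear_value f
  obtain ⟨φ, φ1, φ2⟩ : ∃ φ : Q →* W, (∀ q, φ q = 1 ↔ f q ∈ η.range) ∧
      ∀ q : Q, φ q ^ 3 = 1 → φ q ≠ 1 → ∀ c, f q * η c = η c * f q ↔ c 1 = 1 ∧ c 0 ^ 3 = 1 :=
    ⟨θ.comp ((f.comp Q.subtype).codRestrict _ hy₀), fun q => p1 ⟨f q, hy₀ q⟩, fun q => p3 ⟨f q, hy₀ q⟩⟩
  have Hc : ∀ a ∈ η.range, ∀ b ∈ η.range, a * b = b * a := by
    rintro _ ⟨c, rfl⟩ _ ⟨d, rfl⟩
    rw [← map_mul, mul_comm, map_mul]
  have φ3 : ∀ q, φ q ^ 3 = 1 := fun q => by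
    obtain ⟨m, hm⟩ := hQ q
    have h4 : orderOf (φ q) ∣ 3 ^ m := orderOf_dvd_of_pow_eq_one (by rw [← map_pow, hm, map_one])
    exact orderOf_dvd_iff_pow_eq_one.1 ((Nat.Coprime.coprime_dvd_left h4
      (Nat.Coprime.pow_left m (show Nat.Coprime 3 2 by norm_num))).dvd_of_dvd_mul_right
        (orderOf_dvd_of_pow_eq_one (p2 _)))
  have gen : ∀ i j : ℕ, π (x ^ i * (g * x * g⁻¹) ^ j) = a ^ i * σ a ^ j := fun i j => by
    rw [map_mul, map_pow, map_pow, hg' x xQ, x2]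
  have I9 : 9 ≤ (π.comp Q.subtype).ker.index := by
    haveI := Finite.of_surjective _ (π.comp Q.subtype).rangeRestrict_surjective
    rw [Subgroup.index_ker]
    simpa using Nat.card_le_card_of_injective (β := (π.comp Q.subtype).range) (fun i : Fin 3 × Fin 3 =>
      ⟨_, ⟨_, mul_mem (pow_mem xQ i.1.1) (pow_mem (gQ x xQ) i.2.1)⟩, gen _ _⟩) fun _ _ e => h3 (congrArg Subtype.val e)
  by_cases hA : ∀ t ∈ Q, f t ∈ η.range → f (g * t * g⁻¹) ∈ η.range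
  · have : φ.ker ≤ (π.comp Q.subtype).ker := fun t ht => by
      have := p4 (f g) (f '' {t | t ∈ Q ∧ f t ∈ η.range}) (by
        rintro _ ⟨t, ht, rfl⟩
        exact ⟨ht.2, _, ⟨gQ t ht.1, hA t ht.1 ht.2⟩, by simp⟩) _ ⟨t, ⟨t.2, (φ1 t).1 ht⟩, rfl⟩
      rw [← map_pow, ← map_inv, ← map_mul, ← map_mul] at this
      replace this := congrArg π (hf this)
      rw [map_mul, map_mul, map_inv, map_pow, pow_mul _ 2 3, conj_iter (g2 t t.2),
        show 2 ^ 3 = 3 * 2 + 1 + 1 from rfl, pow_succ, pow_succ, pow_mul, E3 _ (k5 t.2)] at this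
      simpa using this
    have := (Subgroup.index_antitone this).trans (idx3 hQ φ (k := 1) (m := 2) hW)
    omega
  push Not at hA
  obtain ⟨t, ht, tH, hy⟩ := hA
  have cZ : ∀ c : Fin 2 → Fˣ, c 1 = 1 → c 0 ^ 3 = 1 → ∀ q ∈ Q, f q * η c = η c * f q := fun c c1 c0 q hq => by
    by_cases h : φ ⟨q, hq⟩ = 1
    · exact Hc _ ((φ1 _).1 h) _ ⟨c, rfl⟩
    · exact (φ2 _ (φ3 _) h c).2 ⟨c1, c0⟩
  have cT : ∀ s ∈ Q, f s ∈ η.range → s * (g * t * g⁻¹) = g * t * g⁻¹ * s →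
      ∃ c : Fin 2 → Fˣ, η c = f s ∧ c 1 = 1 ∧ c 0 ^ 3 = 1 := fun s hs ⟨c, hc⟩ h5 =>
    ⟨c, hc, (φ2 ⟨_, gQ t ht⟩ (φ3 _) (mt (φ1 _).1 hy) c).1 (by rw [hc, ← map_mul, ← map_mul, h5])⟩
  haveI := hQ.isNilpotent
  obtain ⟨⟨z, zQ⟩, z1, z2, z3⟩ := exists_comm φ.ker (t := ⟨t, ht⟩) ((φ1 _).2 tH) (fun e => hy (by
    rw [show t = 1 from congrArg Subtype.val e]; simp)) ⟨_, gQ t ht⟩
  replace z2 : z ≠ 1 := fun e => z2 (Subtype.ext e)
  obtain ⟨c, hc, c1, c0⟩ := cT z zQ ((φ1 _).1 z1) (congrArg Subtype.val z3)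
  have zc : ∀ q ∈ Q, Commute q z := fun q hq => hf (by rw [map_mul, map_mul, ← hc, cZ c c1 c0 q hq])
  have hψ : Function.Injective (ρ.comp f) := hρ.comp hf
  have iz : ∀ i : ℕ, z ^ i ≠ 1 → ∃ ω, IsZ ω (ρ.comp f (z ^ i)) := fun i hi => by
    have e : f (z ^ i) = η (c ^ i) := by rw [map_pow, map_pow, hc]
    rw [MonoidHom.comp_apply, e]
    exact p5 _ (fun h => hi (hf (by rw [e, h, map_one, map_one]))) (by simp [c1])
      (by rw [Pi.pow_apply, pow_right_comm, c0, one_pow])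
  generalize ρ.comp f = ψ at hψ iz
  have zz : z ^ 3 = 1 := hf (by
    rw [map_pow, ← hc, ← map_pow, show c ^ 3 = 1 from funext (Fin.forall_fin_two.2 ⟨c0, by simp [c1]⟩), map_one, map_one])
  have zg : ∃ i, g * z * g⁻¹ = z ^ i ∧ z ^ i ^ 2 = z := by
    obtain ⟨ω, hz⟩ := iz 1 (by simpa using z2)
    rw [pow_one] at hz
    rcases hz.norm (g := ψ g) (by simpa using congrArg ψ (zc _ (gQ' z zQ)).eq) with h | h
    · exact ⟨1, by rw [pow_one, mul_inv_eq_iff_eq_mul]; exact hψ (by simpa using h), by simp⟩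
    · refine ⟨2, ?_, by rw [show 2 ^ 2 = 3 + 1 from rfl, pow_succ, zz, one_mul]⟩
      replace h : z * g * z = g := hψ (by simpa using h)
      rw [mul_inv_eq_iff_eq_mul, eq_comm, ← mul_right_inj z, ← mul_assoc, ← pow_succ', zz, one_mul, ← mul_assoc, h]
  obtain ⟨m, zg, zg'⟩ := zg
  have zg2 : g ^ 2 * z * (g ^ 2)⁻¹ = z := (conj_iter zg 2).trans zg'
  have πz : π z = 1 := by
    have := congrArg π zg2
    rw [map_mul, map_mul, map_inv, map_pow, g2 z zQ, pow_two] at this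
    simpa using this
  have pz : ∀ s ∈ Q, f s ∈ η.range → s * (g * t * g⁻¹) = g * t * g⁻¹ * s → ∃ i : ℕ, s = z ^ i := fun s hs h4 h5 => by
    obtain ⟨d, hd, d1, d0⟩ := cT s hs h4 h5
    have h6 : c 0 ≠ 1 := fun e => z2 (hf (by
      rw [← hc, show c = 1 from funext (Fin.forall_fin_two.2 ⟨e, c1⟩), map_one, map_one]))
    obtain ⟨i, -, hi⟩ := (IsPrimitiveRoot.coe_units_iff.2 (orderOf_eq_prime c0 h6 ▸ IsPrimitiveRoot.orderOf (c 0))
      ).eq_pow_of_pow_eq_one (congrArg Units.val d0 : (d 0 : F) ^ 3 = 1)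
    exact ⟨i, hf (by
      rw [← hd, map_pow, ← hc, ← map_pow, show d = c ^ i from
        funext (Fin.forall_fin_two.2 ⟨Units.ext hi.symm, by simp [c1, d1]⟩)])⟩
  have kz : ∀ k ∈ Q, π k = 1 → ∃ i : ℕ, k = z ^ i := by
    let Φ := φ.prod (φ.comp (((MulAut.conj g⁻¹).toMonoidHom.comp Q.subtype).codRestrict Q fun s => by
      simpa using gQ' s s.2))
    have h4 : ∀ s ∈ Φ.ker, ∃ i : ℕ, s.1 = z ^ i := fun s hs => by
      have h5 := (φ1 _).1 (congrArg Prod.snd hs)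
      refine pz s s.2 ((φ1 _).1 (congrArg Prod.fst hs)) ?_
      have h6 : g⁻¹ * s * g⁻¹⁻¹ * t = t * (g⁻¹ * s * g⁻¹⁻¹) :=
        hf (by rw [map_mul, map_mul f t]; exact Hc _ h5 _ tH)
      rw [← mul_right_inj g⁻¹, ← mul_left_inj g]
      simpa [mul_assoc] using h6
    have h5 : Φ.ker ≤ (π.comp Q.subtype).ker := fun s hs => by
      obtain ⟨i, hi⟩ := h4 s hs
      exact show π s = 1 by rw [hi, map_pow, πz, one_pow]
    have h6 := idx3 hQ Φ (k := 2) (m := 4) (by rw [Nat.card_prod, hW]; norm_num)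
    have h7 := Subgroup.relIndex_mul_index h5
    have h8 : Φ.ker.index ≠ 0 := Subgroup.index_ne_zero_of_finite
    have h9 : Φ.ker.relIndex (π.comp Q.subtype).ker = 1 := by
      generalize Φ.ker.relIndex (π.comp Q.subtype).ker = r at h7
      rcases r with _ | _ | r
      · omega
      · rfl
      · nlinarith
    exact fun k hk hk' => h4 ⟨k, hk⟩ (Subgroup.relIndex_eq_one.1 h9 hk')
  have uz : Commute (u ^ 2) z := by
    obtain ⟨i, hi⟩ := kz _ (k4 ((Subgroup.mem_normalizer_iff.1 u3 z).1 (k2 z zQ πz))) (by simp [πz])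
    have h4 : i % 3 ≠ 0 := fun e => z2 (by
      rw [← pow_mod_orderOf, orderOf_eq_prime zz z2, e] at hi
      simpa using hi)
    have := conj_iter hi 2
    rw [← pow_mod_orderOf z, orderOf_eq_prime zz z2, show i ^ 2 % 3 = 1 by
      rw [Nat.pow_mod]; rcases (by omega : i % 3 = 1 ∨ i % 3 = 2) with e | e <;> rw [e], pow_one] at this
    exact mul_inv_eq_iff_eq_mul.1 this
  have xx : x ^ 3 = 1 := by
    obtain ⟨i, hi⟩ := kz (x ^ 3) (pow_mem xQ 3) (by rw [map_pow, x2, a3])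
    have h4 : g ^ 2 * x * (g ^ 2)⁻¹ ∈ Q := (Subgroup.mem_normalizer_iff.1 (pow_mem hg 2) x).1 xQ
    obtain ⟨j, hj⟩ := kz (g ^ 2 * x * (g ^ 2)⁻¹ * x) (mul_mem h4 xQ) (by
      rw [map_mul, map_mul, map_mul, map_inv, map_pow, g2 x xQ, ← pow_succ, x2, a3])
    have h5 := congrArg (· ^ 3) (eq_mul_inv_of_mul_eq hj)
    simp only [((zc x xQ).symm.pow_left j).inv_right.mul_pow, conj_pow, pow_right_comm z j, zz, one_pow, one_mul,
      inv_pow, hi] at h5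
    rw [← conj_pow, zg2, eq_inv_iff_mul_eq_one] at h5
    have h6 : (z ^ i) ^ 3 = 1 := by rw [pow_right_comm, zz, one_pow]
    rwa [pow_succ, pow_two, h5, one_mul, ← hi] at h6
  obtain ⟨s, hs, xs⟩ : ∃ s ∈ Q, ¬ Commute x s := by
    by_contra! h4
    obtain ⟨i, j, e⟩ := k5 ht
    obtain ⟨r, hr⟩ := kz (t * (x ^ i * (g * x * g⁻¹) ^ j)⁻¹)
      (mul_mem ht (inv_mem (mul_mem (pow_mem xQ i) (pow_mem (gQ x xQ) j)))) (by rw [map_mul, map_inv, gen, e]; simp)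
    have h5 : Commute (g * x * g⁻¹) (g * t * g⁻¹) := by
      simpa using (h4 t ht).map (MulAut.conj g)
    obtain ⟨r', hr'⟩ := pz t ht tH (by
      have h6 := ((zc _ (gQ t ht)).symm.pow_left r).mul_left (((h4 _ (gQ t ht)).pow_left i).mul_left (h5.pow_left j))
      rwa [← eq_mul_of_mul_inv_eq hr] at h6)
    refine hy ?_
    rw [hr', ← conj_pow, zg, map_pow, map_pow]
    exact pow_mem (pow_mem ((φ1 _).1 z1) _) _
  obtain ⟨i, hi⟩ := kz (x * s * x⁻¹ * s⁻¹) (mul_mem (mul_mem (mul_mem xQ hs) (inv_mem xQ)) (inv_mem hs)) (by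
    simp [(Ec _ (k5 xQ) _ (k5 hs)).eq])
  obtain ⟨ω, hz⟩ := iz i fun e => xs (by rwa [e, mul_inv_eq_one, mul_inv_eq_iff_eq_mul] at hi)
  have := hz.uni (p := 5) (x := ψ x) (s := ψ s) (u := ψ (u ^ 2)) (k := l) (((zc x xQ).pow_right i).map ψ)
    (((zc s hs).pow_right i).map ψ) ((uz.pow_right i).map ψ) (by rw [← map_pow, xx, map_one])
    (by rw [← hi]; simp [mul_assoc]) ((xu.pow_left 2).map ψ) (by rw [← map_pow, pow_right_comm, u1, one_pow, map_one])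
  replace this := congrArg π (hψ (this.trans ψ.map_one.symm))
  rw [map_pow, u2, map_one, ← orderOf_dvd_iff_pow_eq_one, ob] at this
  exact absurd this (by norm_num)

theorem g2_six {Γ : Type*} [Group Γ] {X : PreSt gG2.cd F Γ} (hX : X.IsSt) (hM : X.Mult)
    (hi : Function.Injective (hX.hh hM)) (hG : X.G = ⊤) (g : Γ) (S : Set Γ) (h : ∀ a ∈ S, a ∈ X.H ∧ g * a * g⁻¹ ∈ S) :
    ∀ a ∈ S, g ^ 6 * a * (g ^ 6)⁻¹ = a := fun a ha => by
  obtain ⟨w, hw⟩ := hX.exists_wa_set hM hi hG g h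
  obtain ⟨c, rfl⟩ := hX.exists_hh hM (h a ha).1
  rw [hw 6 c ha, show w ^ 6 = 1 from wG2_six w, Subgroup.coe_one, RS.wa_one]

theorem g2_alt {F : Type u} [Field F] [Fintype F] (p : ℕ) [hp : Fact p.Prime] [CharP F p] (r : ℕ)
    (H : Subgroup ↥(chevG2.group F)) (K : Subgroup ↥H) [K.Normal]
    (h : Nonempty (↥H ⧸ K ≃* ↥(alternatingGroup (Fin r)))) : r ≤ 6 + (if p = 5 then 1 else 0) := by
  by_contra hr
  obtain ⟨e⟩ := h
  haveI : Finite (chevG2.group F) := inferInstance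
  have hπ : Function.Surjective (e.toMonoidHom.comp (QuotientGroup.mk' K)) :=
    e.surjective.comp (QuotientGroup.mk'_surjective K)
  generalize e.toMonoidHom.comp (QuotientGroup.mk' K) = π at hπ
  have ne : ∀ n : ℕ, ¬ p ∣ n → (n : F) ≠ 0 := fun n h => by rwa [Ne, CharP.cast_eq_zero_iff F p]
  let 𝒢 : Fam.{u} gG2.cd := gG2.fam (by simp)
  have em : ∀ {L : Type u} [Field L], (F →+* L) → ∃ f : H →* 𝒢.Γ L, Function.Injective f := fun φ =>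
    ⟨((𝒢.map φ).comp (gG2.iso (by simp) adG2_C F).symm.toMonoidHom).comp H.subtype,
      ((𝒢.map_injective φ).comp (MulEquiv.injective _)).comp H.subtype_injective⟩
  split_ifs at hr with h5
  · subst h5
    obtain ⟨L, _, _, φ, hL⟩ := exists_ext F (ne 3 (by norm_num))
    haveI : CharP L 5 := charP_of_injective_ringHom φ.injective 5
    obtain ⟨f, hf⟩ := em φ
    obtain ⟨ι, hι⟩ := exists_altHom (show 8 ≤ r by omega)
    obtain ⟨a, b, γ, oa, ob, hab, h1, h2, h3⟩ : ∃ a b γ : alternatingGroup (Fin 8), orderOf a = 3 ∧ orderOf b = 5 ∧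
        a * b = b * a ∧ a * (γ * a * γ⁻¹) = γ * a * γ⁻¹ * a ∧ γ * (γ * a * γ⁻¹) * γ⁻¹ = a⁻¹ ∧
        ∀ i j : Fin 3 × Fin 3, a ^ i.1.1 * (γ * a * γ⁻¹) ^ i.2.1 = a ^ j.1.1 * (γ * a * γ⁻¹) ^ j.2.1 → i = j :=
      ⟨⟨⟨![1, 2, 0, 3, 4, 5, 6, 7], ![2, 0, 1, 3, 4, 5, 6, 7], by decide, by decide⟩,
          Equiv.Perm.mem_alternatingGroup.2 (by decide +kernel)⟩,
        ⟨⟨![0, 1, 2, 4, 5, 6, 7, 3], ![0, 1, 2, 7, 3, 4, 5, 6], by decide, by decide⟩,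
          Equiv.Perm.mem_alternatingGroup.2 (by decide +kernel)⟩,
        ⟨⟨![3, 4, 5, 1, 0, 2, 6, 7], ![4, 3, 5, 0, 1, 2, 6, 7], by decide, by decide⟩,
          Equiv.Perm.mem_alternatingGroup.2 (by decide +kernel)⟩, orderOf_eq_prime (by decide +kernel) (by decide +kernel),
        (by haveI : Fact (Nat.Prime 5) := ⟨by norm_num⟩; exact orderOf_eq_prime (by decide +kernel) (by decide +kernel)),
        by decide +kernel, by decide +kernel, by decide +kernel, by decide +kernel⟩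
    refine g2_core cardWG2 (𝒢.hh L) (ρS L) (ρS_inj ⟨2, ?_, fun h => one_ne_zero (by linear_combination h : (1 : L) = 0)⟩) (𝒢.X L).N (three_N hL)
      ((𝒢.st L).pi.codRestrict _ (𝒢.st L).pi_mem) (fun n => ?_) wG2_six (fun n h h' c => ?_) (fun g S h => ?_)
      (fun c h0 h1 h2 => ⟨_, isZ_hh h0 h1 h2⟩) f hf π hπ (a := ι a) (b := ι b) (γ := ι γ)
      ((orderOf_injective ι hι a).trans oa) ((orderOf_injective ι hι b).trans ob) (Commute.map hab ι)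
      (by simpa using Commute.map h1 ι) (by simpa using congrArg ι h2) fun i j e => h3 i j (hι (by simpa using e))
    · exact_mod_cast (CharP.cast_eq_zero_iff L 5 2).not.2 (by norm_num)
    · have h1 : (𝒢.st L).pi n = 1 ↔ n.1 ∈ (𝒢.X L).H := SetLike.ext_iff.1 (𝒢.st L).ker_pi n
      exact (Subtype.ext_iff.trans h1).trans
        (SetLike.ext_iff.1 ((𝒢.st L).range_hh (𝒢.mu L)) n.1).symm
    · exact (mul_inv_eq_iff_eq_mul.symm.trans (((𝒢.st L).conj_hh (𝒢.mu L) ((𝒢.st L).act_pi n) c).congr_left.trans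
        (𝒢.inj L).eq_iff)).trans (wG2_three _ h h' c)
    · exact g2_six (𝒢.st L) (𝒢.mu L) (𝒢.inj L) (𝒢.top L) g S fun a ha =>
        ⟨(𝒢.st L).range_hh (𝒢.mu L) ▸ (h a ha).1, (h a ha).2⟩
  haveI : Fact (Nat.Prime 5) := ⟨by norm_num⟩
  obtain ⟨L, _, _, φ, hL⟩ := exists_ext F (ne 5 fun h => h5 ((Nat.prime_dvd_prime_iff_eq hp.out (by norm_num)).1 h))
  obtain ⟨f, hf⟩ := em φ
  obtain ⟨ι, hι⟩ := exists_altHom (show 7 ≤ r by omega)
  obtain ⟨x, y, hx, e1⟩ : ∃ x y : alternatingGroup (Fin 7), orderOf x = 5 ∧ y * x * y⁻¹ = x ^ 2 :=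
    ⟨⟨⟨![1, 2, 3, 4, 0, 5, 6], ![4, 0, 1, 2, 3, 5, 6], by decide, by decide⟩,
        Equiv.Perm.mem_alternatingGroup.2 (by decide +kernel)⟩,
      ⟨⟨![0, 2, 4, 1, 3, 6, 5], ![0, 3, 1, 4, 2, 6, 5], by decide, by decide⟩,
        Equiv.Perm.mem_alternatingGroup.2 (by decide +kernel)⟩,
      orderOf_eq_prime (by decide +kernel) (by decide +kernel), by decide +kernel⟩
  rw [← orderOf_injective ι hι] at hx
  replace e1 := congrArg ι e1
  simp only [map_mul, map_inv, map_pow] at e1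
  obtain ⟨P, hP, g, hg, a, ha, h1, h2⟩ := frattini_lift π hπ hx e1
  obtain ⟨z, -, hz⟩ := (𝒢.st L).toral (𝒢.mu L) (𝒢.inj L) (𝒢.top L) hL (cardWG2 ▸ by norm_num) ∅ hP (f.comp P.subtype)
    fun x => ((𝒢.st L).mem_Cen (𝒢.mu L)).2 (by simp)
  let f' := (MulAut.conj z⁻¹).toMonoidHom.comp f
  have hf' : Function.Injective f' := (MulAut.conj z⁻¹).injective.comp hf
  replace hz : ∀ x ∈ P, f' x ∈ (𝒢.X L).H := fun x hx => by simpa [f'] using hz ⟨x, hx⟩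
  clear_value f'
  have := g2_six (𝒢.st L) (𝒢.mu L) (𝒢.inj L) (𝒢.top L) (f' g) (f' '' P) (by
    rintro _ ⟨b, hb, rfl⟩
    exact ⟨hz b hb, _, (Subgroup.mem_normalizer_iff.1 hg b).1 hb, by simp⟩) _ ⟨a, ha, rfl⟩
  rw [← map_pow, ← map_inv, ← map_mul, ← map_mul] at this
  replace this := congrArg π (hf' this)
  rw [map_mul, map_mul, map_inv, map_pow, conj_iter h2, ← pow_one (π a), ← pow_mul, pow_eq_pow_iff_modEq, h1] at this
  exact absurd this (by decide)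

end Chev
end CfsgH6
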