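import Cfsg.Agent.H6.Alt4
import Cfsg.Agent.H6.Tri1
import Cfsg.Agent.H6.TD4

/-! Commuting elements of order three in the groups of type `D₄`. -/

set_option autoImplicit false

namespace CfsgH6

open Finset PreSt Cfsg.Lie
open Matrix hiding zpow_mul zpow_add zpow_neg one_zpow zpow_sub inv_zpow

universe u

namespace PreSt.IsSt
variable {I R : Type} [Fintype I] [DecidableEq I] {Φ : CD I R} {F : Type*} [Field F]
  {Γ : Type*} [Group Γ] {X : PreSt Φ F Γ} [Finite R] (hX : X.IsSt) (hM : X.Mult)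
include hX hM

theorem conj_S_hh {m : ℕ} (hm : (m : F) ≠ 0) (c : I → Fˣ) {S₀ : Set R} (h0 : ∀ r ∈ S₀, Φ.Pos r) (hS : Closed Φ S₀)
    {g : Γ} (hg : g ∈ X.XS S₀) (e : (g * hX.hh hM c) ^ m = 1) :
    ∃ v ∈ X.XS S₀, v * (g * hX.hh hM c) * v⁻¹ = hX.hh hM c := by
  refine filt_ind hX.sep1 RS.ht (S := S₀) (P := fun S => S ⊆ S₀ → ∀ g ∈ X.XS S,
    (g * hX.hh hM c) ^ m = 1 → ∃ v ∈ X.XS S₀, v * (g * hX.hh hM c) * v⁻¹ = hX.hh hM c)
    (fun _ g hg _ => ⟨1, one_mem _, by simpa using hg⟩) (fun r S _ _ _ st ih hp g hg e => ?_)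
    (fun r hr => Φ.ht_pos (h0 r hr)) hS (fun _ h => h) g hg e
  have ih := ih fun s hs => hp (Set.mem_insert_of_mem _ hs)
  obtain ⟨t, y, hy, rfl⟩ := st.dec g hg
  have hx : ∀ s, X.x r s ∈ X.XS (insert r S) := X.x_mem_XS (Set.mem_insert _ _)
  have hc : ∀ s, hX.hh hM c * X.x r s = X.x r (Φ.ch r c * s) * hX.hh hM c := fun s => by
    rw [← hX.hh_conj' hM]; group
  by_cases h1 : ((Φ.ch r c : Fˣ) : F) = 1
  · have key : ∀ k : ℕ, ∃ z ∈ X.XS S, (X.x r t * y * hX.hh hM c) ^ k = X.x r (k * t) * z * hX.hh hM (c ^ k) := by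
      intro k
      induction k with
      | zero => exact ⟨1, one_mem _, by simp⟩
      | succ k ih =>
        obtain ⟨z, hz, e⟩ := ih
        refine ⟨_, mul_mem (st.conj _ (inv_mem (hx t)) z hz) (hX.H_conj_mem_XS (hX.hh_mem hM (c ^ k)) hy), ?_⟩
        have e1 := hX.hh_conj' hM (c ^ k) r t
        rw [map_pow (Φ.ch r : (I → Fˣ) →* Fˣ), Units.val_pow_eq_pow_val, h1, one_pow, one_mul] at e1
        rw [pow_succ, e, Nat.cast_succ, add_mul, one_mul, ← X.add, pow_succ, map_mul]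
        nth_rewrite 4 [← e1]
        group
    obtain ⟨z, hz, e1⟩ := key m
    rw [e] at e1
    have e2 := (hX.B_unique (one_mem _) (mul_mem (X.x_mem_U (h0 r (hp (Set.mem_insert _ _))) _)
      (X.XS_mono (fun s hs => h0 s (hp (Set.mem_insert_of_mem _ hs))) hz)) (one_mem _) (hX.hh_mem hM _)
      (by rw [one_mul]; exact e1)).1
    have e3 := st.sep (m * t) (by rw [eq_inv_of_mul_eq_one_left e2.symm]; exact inv_mem hz)
    obtain rfl := (mul_eq_zero.1 e3).resolve_left hm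
    rw [x_zero, one_mul] at e ⊢
    exact ih y hy e
  · set s := t / (Φ.ch r c - 1) with hs
    have e1 : X.x r s * (X.x r t * y * hX.hh hM c) * (X.x r s)⁻¹ =
        X.x r (s + t) * y * (X.x r (s + t))⁻¹ * hX.hh hM c := by
      have : s + t = Φ.ch r c * s := by rw [hs]; field_simp [sub_ne_zero.2 h1]; ring
      rw [X.x_inv r s, X.x_inv r (s + t), mul_assoc _ (X.x r (-(s + t))), this, ← mul_neg, ← hc, ← this, ← X.add]
      group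
    obtain ⟨v, hv, e2⟩ := ih _ (st.conj _ (hx (s + t)) y hy) (by rw [← e1, conj_pow, e]; simp)
    exact ⟨v * X.x r s, mul_mem hv (X.x_mem_XS (hp (Set.mem_insert _ _)) _), Eq.trans (by rw [← e1]; group) e2⟩

theorem exists_wa_all (hi : Function.Injective (hX.hh hM)) (hG : X.G = ⊤) (g : Γ) :
    ∃ w : Φ.W, ∀ c c', g * hX.hh hM c * g⁻¹ = hX.hh hM c' → c' = Φ.wa w c := by
  obtain ⟨w, u, hu, h, hh, u', hu', e1⟩ := hX.nf (g := g) (hG ▸ trivial)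
  obtain ⟨d, rfl⟩ := hX.exists_hh hM hh
  refine ⟨w, fun c c' e => ?_⟩
  have := (hX.nf_unique (hX.H_conj_mem_XS (hX.hh_mem hM c') hu) (hX.hh_mem hM (c' * d)) hu' hu
    (hX.hh_mem hM (d * Φ.wa w c)) (hX.H_conj_mem_XS (inv_mem (hX.hh_mem hM c)) hu') (by
      rw [map_mul, map_mul, ← hX.conj_hh hM (hX.act_nw w), ← e, e1]; group)).2.1
  exact mul_right_cancel ((hi this).trans (mul_comm _ _))

end PreSt.IsSt

theorem Fam.pair_tor {I R : Type} [Fintype I] [DecidableEq I] {Φ : CD I R} (𝒢 : Fam.{u} Φ) [Finite R] {K : Type u}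
    [Field K] {p : ℕ} [Fact p.Prime] [CharP K p] [IsAlgClosed K] (hK : AlgP K p) (hm : Φ.Minus) {r : ℕ} (hr : r.Prime)
    (hp : r ≠ p) {c : I → Kˣ} (hc : c ^ r = 1) {g : 𝒢.Γ K} (hg : g ^ r = 1) (h : 𝒢.hh K c * g = g * 𝒢.hh K c) :
    ∃ y d, y⁻¹ * 𝒢.hh K c * y = 𝒢.hh K c ∧ y⁻¹ * g * y = 𝒢.hh K d := by
  have h0 : (r : K) ≠ 0 := fun h =>
    hp ((Nat.prime_dvd_prime_iff_eq Fact.out hr).1 ((CharP.cast_eq_zero_iff K p r).1 h)).symm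
  obtain ⟨y, h1, h2⟩ := 𝒢.exists_fixed_coset hK (Fam.conn hK hm c) (g := g)
    (((𝒢.st K).mem_Cen _).2 (by rintro _ rfl; exact h)) hr hp (a := 1) (by rwa [pow_one])
  have cp : ∀ {a : 𝒢.Γ K}, a ^ r = 1 → ∀ z : 𝒢.Γ K, (z * a * z⁻¹) ^ r = 1 := fun h z => by rw [conj_pow, h]; simp
  obtain ⟨v, hv, c1, e1⟩ := (𝒢.st K).conj_B (𝒢.mu K) h0 h1 (by
    simpa using cp (a := 𝒢.hh K c) (by rw [← map_pow, hc, map_one]) y⁻¹)
  obtain ⟨u, hu, k, hk, e2⟩ := (𝒢.st K).mem_B.1 (mul_mem (mul_mem ((𝒢.X K).U_le_B hv) h2) (inv_mem ((𝒢.X K).U_le_B hv)))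
  obtain ⟨d, rfl⟩ := (𝒢.st K).exists_hh (𝒢.mu K) hk
  have h3 : 𝒢.hh K c1 * u * (𝒢.hh K c1)⁻¹ = u := by
    have : 𝒢.hh K c1 * (u * 𝒢.hh K d) = u * 𝒢.hh K d * 𝒢.hh K c1 := by
      erw [← e2, ← e1]
      calc _ = v * y⁻¹ * (𝒢.hh K c * g) * y * v⁻¹ := by group
        _ = _ := by rw [h]; group
    rw [mul_assoc u, ← map_mul, mul_comm d, map_mul, ← mul_assoc, ← mul_assoc, mul_left_inj] at this
    rw [this, mul_inv_cancel_right]
  obtain ⟨v', hv', e3⟩ := (𝒢.st K).conj_S_hh (𝒢.mu K) h0 d (fun _ h => h.1) (closed_pos.inter (closed_Psi {c1}))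
    ((𝒢.st K).mem_XS_Psi (𝒢.mu K) (fun _ h => h) closed_pos hu (by rintro _ rfl; exact h3)) (by
      rw [← e2]; simpa [mul_assoc] using cp hg (v * y⁻¹))
  have h4 := ((𝒢.st K).mem_Cen (𝒢.mu K) (A := {c1})).1
    ((𝒢.X K).XS_le.2 (fun r hr t => (𝒢.st K).x_mem_Cen (𝒢.mu K) hr.2 t) hv') c1 rfl
  obtain ⟨w, hw⟩ := Fam.isConj_hh.1 (isConj_iff.2 ⟨y * v⁻¹, by rw [← show _ = 𝒢.hh K c1 from e1]; group⟩ :
    IsConj (𝒢.hh K c1) (𝒢.hh K c))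
  refine ⟨y * v⁻¹ * v'⁻¹ * ((𝒢.X K).nw w)⁻¹, Φ.wa w d, ?_, ?_⟩
  · conv_rhs => rw [hw, ← (𝒢.st K).conj_hh (𝒢.mu K) ((𝒢.st K).act_nw w), ← mul_inv_cancel_right (IsSt.hh _ _ c1) v', h4, ← e1]
    group
  · rw [← (𝒢.st K).conj_hh (𝒢.mu K) ((𝒢.st K).act_nw w), ← e3, ← e2]; group

theorem cv_eq_iff {I A : Type*} [CommGroup A] {ω : A} (hω : orderOf ω = 3) {y y' : I → ℤ} :
    (fun i => ω ^ y i) = (fun i => ω ^ y' i) ↔ ∀ i, (y i - y' i) % 3 = 0 := by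
  simp only [funext_iff, zpow_eq_zpow_iff_modEq, hω]
  exact forall_congr' fun i => Int.emod_eq_emod_iff_emod_sub_eq_zero

namespace Chev

/-- the root system `D₄` -/
def rs4 : RS (Fin 4) (Fin 24) := gD4.cd.toRS

/-- matrices of the elements of `W(D₄)` -/
def wD (t : ℕ) : Matrix (Fin 4) (Fin 4) ℤ := of fun i j => ftD4.co (dg t i) j

theorem wD_all (w : rs4.W) : ∃ t ∈ cW, rs4.wm w.1 = wD t := by
  obtain ⟨t, ht, e⟩ := cW_all w
  refine ⟨t, ht, Matrix.ext fun i j => ?_⟩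
  exact (gD4.ag.co _ (w.1 (gD4.cd.sim i)).2 _ j.2).trans (congrArg (ftD4.co · j) (e i).symm)

/-- the centre of the subsystem `A₂` -/
def y0 : Fin 4 → ℤ := ![1, 0, 1, 1]

/-- the diagram symmetry -/
def tr4 : Fin 4 → Fin 4 := ![2, 1, 3, 0]

theorem wD_six : ∀ t ∈ cW, (wD t).submatrix tr4 tr4 = wD t → wD t ^ 2 = 1 ∨ wD t ^ 3 = -1 ∨
    wD t = !![1, 1, 0, 0; -1, -2, -1, -1; 0, 1, 1, 0; 0, 1, 0, 1] ∨
    wD t = !![0, -1, -1, -1; 1, 1, 1, 1; -1, -1, 0, -1; -1, -1, -1, 0] := by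
  set_option synthInstance.maxSize 1000 in decide +kernel

theorem wD_A : ∀ t ∈ cW, (∀ j, ((y0 ᵥ* wD t) j - y0 j) % 3 = 0) → ∀ s ∈ cW,
    (∀ j, ((y0 ᵥ* wD s ᵥ* wD s) j - -y0 j) % 3 = 0) → ¬ ∀ j, ((y0 ᵥ* wD s ᵥ* wD t) j - -(y0 ᵥ* wD s) j) % 3 = 0 := by
  decide +kernel

theorem wD_B : ∀ t ∈ cW, (∀ j, ((y0 ᵥ* wD t) j - y0 j) % 3 = 0) → ∀ a b c d : Fin 3,
    (∀ j, ((![(a : ℤ), b, c, d] ᵥ* wD t) j - (y0 j + ![(a : ℤ), b, c, d] j)) % 3 = 0) → ∀ r < 24,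
      (y0 ⬝ᵥ gD4.rv r) % 3 = 0 → (![(a : ℤ), b, c, d] ⬝ᵥ gD4.rv r) % 3 ≠ 0 := by
  decide +kernel

theorem cardW4 : Nat.card rs4.W = 192 := cardWD4

theorem wa4 {A : Type*} [CommGroup A] {w : rs4.W} {t : ℕ} (h : rs4.wm w.1 = wD t) (y : Fin 4 → ℤ) (ω : A) :
    rs4.wa w.1 (fun i => ω ^ y i) = fun i => ω ^ (y ᵥ* wD t) i := by
  rw [RS.wa_eq, h]; exact ma_cv _ _ _

theorem wF_comm {F Γ : Type*} [Field F] [Group Γ] {X : PreSt gD4.cd F Γ} (T : X.Tw) (hT : T.π = f2130) {w : rs4.W}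
    (hw : w.1 ∈ T.WF) (i j : Fin 4) : rs4.wm w.1 (tr4 i) (tr4 j) = rs4.wm w.1 i j := by
  have h1 : ∀ r : Fin 24, ∀ i : Fin 4, rs4.co r i = rs4.rt r i := fun r i =>
    (gD4.ag.co _ r.2 _ i.2).trans ((by decide +kernel : ∀ r : Fin 24, ∀ i : Fin 4, ftD4.co r i = ftD4.rt r i) r i)
  have h2 : ∀ i : Fin 4, tr4 i = T.π i := fun i => Fin.ext (by
    rw [hT]; exact (by decide : ∀ i : Fin 4, (tr4 i).val = (f2130 i).val) i)
  have h3 := T.rt_ρ (by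
    rw [hT]
    intro i j
    simp only [Good.cd_C, gD4.ag.sim _ (Fin.is_lt _), gD4.ag.car _ (Fin.is_lt _) _ (gD4.sim_lt (Fin.is_lt _))]
    revert i j; decide +kernel) (w.1 (rs4.sim i)) j
  simp only [RS.wm, of_apply, h1, h2]
  exact (congrArg (rs4.rt · _) ((congrArg w.1 (T.ρ_sim i).symm).trans (Tw.WF_apply hw _))).trans h3

theorem wF_six {F Γ : Type*} [Field F] [Group Γ] {X : PreSt gD4.cd F Γ} (T : X.Tw) (hT : T.π = f2130) :
    ∀ w ∈ T.WF, w ^ 6 = 1 := by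
  refine fun w hw => congrArg Subtype.val ((?_ : ∀ w : rs4.W, w.1 ∈ T.WF → w ^ 6 = 1) ⟨w, hw.1⟩ hw)
  intro w hw
  obtain ⟨t, ht, e⟩ := wD_all w
  refine RS.wm_inj ?_
  rw [Subgroup.coe_pow, RS.wm_pow w.2, e, Subgroup.coe_one, RS.wm_one]
  rcases wD_six t ht (e ▸ Matrix.ext (wF_comm T hT hw)) with h | h | h | h
  · rw [pow_mul _ 2 3, h, one_pow]
  · rw [pow_mul _ 3 2, h]; simp
  all_goals rw [h]; decide +kernel

theorem wF_three {F Γ : Type*} [Field F] [Group Γ] {X : PreSt gD4.cd F Γ} (T : X.Tw) (hT : T.π = f2130) {w : rs4.W}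
    (hw : w.1 ∈ T.WF) (h3 : w ^ 3 = 1) (h1 : w ≠ 1) {A : Type*} [CommGroup A] (c : Fin 4 → A) :
    rs4.wa w.1 c = c ↔ c 1 = 1 ∧ c 0 * c 2 * c 3 = 1 := by
  obtain ⟨t, ht, e⟩ := wD_all w
  replace h3 := congrArg (fun w : rs4.W => rs4.wm w.1) h3
  simp only [Subgroup.coe_pow, RS.wm_pow w.2, e, Subgroup.coe_one, RS.wm_one] at h3
  rw [RS.wa_eq, e, funext_iff]
  rcases wD_six t ht (e ▸ Matrix.ext (wF_comm T hT hw)) with h | h | h | h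
  · rw [pow_succ, h, one_mul] at h3
    exact (h1 (RS.wm_inj (by rw [e, h3, Subgroup.coe_one, RS.wm_one]))).elim
  · exact absurd (h.symm.trans h3) (by decide)
  all_goals simp only [h, ma_apply, Fin.forall_fin_succ, Fin.prod_univ_four]; simp
  · rintro h; simp [h]
  · constructor
    · rintro ⟨h1, h2, -⟩
      rw [show ∀ a b c d : A, a⁻¹ * b * c⁻¹ * d⁻¹ = b * (a * c * d)⁻¹ from fun a b c d => by
        simp [mul_comm, mul_left_comm, mul_assoc], mul_eq_left, inv_eq_one] at h2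
      exact ⟨by rw [← h2, ← h1]; simp [mul_comm, mul_left_comm, mul_assoc], h2⟩
    · rintro ⟨h1, h2⟩
      have : c 0 = (c 2 * c 3)⁻¹ := eq_inv_of_mul_eq_one_left (by rw [← mul_assoc]; exact h2)
      simp [h1, this, mul_comm, mul_left_comm]

section closed
variable {K : Type u} [Field K] [IsAlgClosed K] [CharP K 5] [Fact (Nat.Prime 5)] (hK : AlgP K 5) {ω : Kˣ}
  (hω : orderOf ω = 3) {Γ : Type*} [Group Γ] (η : (Fin 4 → Kˣ) →* Γ)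

/-- the facts on the group over the algebraic closure -/
structure Pk : Prop where
  inj : Function.Injective η
  tor : ∀ c g, c ^ 3 = 1 → g ^ 3 = 1 → η c * g = g * η c → ∃ y d, y⁻¹ * η c * y = η c ∧ y⁻¹ * g * y = η d
  wa : ∀ g, ∃ w : rs4.W, ∀ c c', g * η c * g⁻¹ = η c' → c' = rs4.wa w.1 c
  cen : ∀ c d g k, rs4.Psi {c, d} = ∅ → η c * g = g * η c → η d * g = g * η d → g ^ 5 ^ k = 1 → g = 1

include hK in
theorem pk : Pk (K := K) ((gD4.fam (by simp)).hh K) := by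
  let 𝒢 : Fam.{u} gD4.cd := gD4.fam (by simp)
  refine ⟨𝒢.inj K, fun c g hc hg h => 𝒢.pair_tor hK minusD4 Nat.prime_three (by norm_num) hc hg h,
    (𝒢.st K).exists_wa_all (𝒢.mu K) (𝒢.inj K) (𝒢.top K), fun c d g k h h1 h2 h3 => ?_⟩
  obtain ⟨w, -, u, hu, a, ha, u', hu', e⟩ := (𝒢.st K).nf_Cen (𝒢.mu K) (𝒢.inj K) (A := {c, d}) (𝒢.mem_G g)
    (((𝒢.st K).mem_Cen _).2 (by rintro _ (rfl | rfl); exacts [h1, h2]))
  rw [show gD4.cd.Psi {c, d} = ∅ from h, Set.inter_empty, XS_empty, Subgroup.mem_bot] at hu hu'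
  have hg : g ∈ (𝒢.X K).N := by
    rw [e, hu, hu', one_mul, mul_one]; exact mul_mem ((𝒢.X K).H_le_N ha) ((𝒢.X K).nw_mem w)
  have h4 : (⟨_, (𝒢.st K).pi_mem ⟨g, hg⟩⟩ : gD4.cd.W) = 1 := orderOf_eq_one_iff.1 (Nat.eq_one_of_dvd_coprimes
    (Nat.Coprime.pow_left k (show Nat.Coprime 5 192 by norm_num)) (orderOf_dvd_of_pow_eq_one (Subtype.ext (by
      rw [Subgroup.coe_pow, ← map_pow, show (⟨g, hg⟩ : (𝒢.X K).N) ^ 5 ^ k = 1 from Subtype.ext h3, map_one]; rfl)))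
    (cardWD4 ▸ orderOf_dvd_natCard _))
  obtain ⟨b, rfl⟩ := (𝒢.st K).exists_hh (𝒢.mu K) (g := g)
    ((SetLike.ext_iff.1 (𝒢.st K).ker_pi ⟨g, hg⟩).1 (congrArg Subtype.val h4))
  have h5 : b ^ 5 ^ k = 1 := 𝒢.inj K ((map_pow _ _ _).trans (h3.trans (map_one _).symm))
  rw [show b = 1 from funext fun i => Units.ext <| by
    have := congrArg Units.val (congrFun h5 i)
    rw [← mul_one (5 ^ k), Pi.pow_apply, Units.val_pow_eq_pow_val] at this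
    simpa using (ExpChar.pow_prime_pow_mul_eq_one_iff 5 k 1 _).1 this]
  exact map_one _

variable {η} (h : Pk η)
include hω h

theorem Pk.noA {z g g₁ : Γ} (hz : η (fun i => ω ^ y0 i) = z) (h1 : z * (g * z * g⁻¹) = g * z * g⁻¹ * z)
    (h2 : g * (g * z * g⁻¹) * g⁻¹ = z⁻¹) (h3 : g₁ * z * g₁⁻¹ = z) (h4 : g₁ * (g * z * g⁻¹) * g₁⁻¹ = (g * z * g⁻¹)⁻¹) :
    False := by
  have hc : (fun i => ω ^ y0 i) ^ 3 = 1 := funext fun i => by
    rw [Pi.pow_apply, ← zpow_natCast, zpow_comm, zpow_natCast, ← hω, pow_orderOf_eq_one, one_zpow]; rfl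
  obtain ⟨y, d, e1, e2⟩ := h.tor _ (g * z * g⁻¹) hc (by rw [conj_pow, ← hz, ← map_pow, hc]; simp) (hz ▸ h1)
  obtain ⟨v, hv⟩ := h.wa (y⁻¹ * g * y)
  obtain ⟨w, hw⟩ := h.wa (y⁻¹ * g₁ * y)
  obtain ⟨s, hs, es⟩ := wD_all v
  obtain ⟨t, ht, et⟩ := wD_all w
  have a1 := hv (fun i => ω ^ y0 i) d (by rw [← e2, ← e1, hz]; group)
  have a2 := hv d (fun i => ω ^ y0 i)⁻¹ (by
    rw [map_inv, ← e2, ← e1, hz, show (y⁻¹ * z * y)⁻¹ = y⁻¹ * z⁻¹ * y by group, ← h2]; group)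
  have a3 := hw (fun i => ω ^ y0 i) (fun i => ω ^ y0 i) (by
    rw [← e1, hz]; conv_rhs => rw [← h3]
    group)
  have a4 := hw d d⁻¹ (by
    rw [map_inv, ← e2, show (y⁻¹ * (g * z * g⁻¹) * y)⁻¹ = y⁻¹ * (g * z * g⁻¹)⁻¹ * y by group, ← h4]; group)
  rw [wa4 es] at a1
  rw [a1, wa4 es] at a2
  rw [wa4 et] at a3
  rw [a1, wa4 et] at a4
  exact wD_A t ht ((cv_eq_iff hω).1 a3.symm) s hs ((cv_eq_iff hω).1 (a2.symm.trans (funext fun i => by simp)))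
    ((cv_eq_iff hω).1 (a4.symm.trans (funext fun i => by simp)))

theorem Pk.uni {z x s u : Γ} (hz : η (fun i => ω ^ y0 i) = z) (hx : x * z = z * x) (hs : s * z = z * s)
    (hu : u * z = z * u) (h3 : x ^ 3 = 1) (e : x * s = z * (s * x)) (h1 : u * x = x * u) {k : ℕ} (h2 : u ^ 5 ^ k = 1) :
    u = 1 := by
  have hc : (fun i => ω ^ y0 i) ^ 3 = 1 := funext fun i => by
    rw [Pi.pow_apply, ← zpow_natCast, zpow_comm, zpow_natCast, ← hω, pow_orderOf_eq_one, one_zpow]; rfl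
  obtain ⟨y, d, e1, e2⟩ := h.tor _ x hc h3 (hz ▸ hx.symm)
  have hd : d ^ 3 = 1 := h.inj (by
    rw [map_pow, ← e2, ← inv_inv y, inv_inv y⁻¹, conj_pow, h3]; simp)
  have k : ∀ i, ∃ a : Fin 3, d i = ω ^ (a : ℤ) := fun i => by
    obtain ⟨a, ha, e⟩ := (IsPrimitiveRoot.coe_units_iff.2 (hω ▸ IsPrimitiveRoot.orderOf ω)).eq_pow_of_pow_eq_one
      (congrArg Units.val (congrFun hd i) : (d i : K) ^ 3 = 1)
    exact ⟨⟨a, ha⟩, Units.ext (by simp [← e])⟩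
  choose a ha using k
  obtain rfl : d = fun i => ω ^ ![(a 0 : ℤ), a 1, a 2, a 3] i := funext fun i => by fin_cases i <;> exact ha _
  obtain ⟨w, hw⟩ := h.wa (y⁻¹ * s⁻¹ * y)
  obtain ⟨t, ht, et⟩ := wD_all w
  have a1 := hw (fun i => ω ^ y0 i) (fun i => ω ^ y0 i) (by
    rw [← e1, hz]
    calc _ = y⁻¹ * s⁻¹ * (z * s) * y := by group
      _ = _ := by rw [← hs]; group)
  have a2 := hw (fun i => ω ^ ![(a 0 : ℤ), a 1, a 2, a 3] i) ((fun i => ω ^ y0 i) * fun i => ω ^ ![(a 0 : ℤ), a 1, a 2, a 3] i) (by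
    rw [map_mul, ← e2, ← e1, hz]
    calc _ = y⁻¹ * s⁻¹ * (x * s) * y := by group
      _ = y⁻¹ * s⁻¹ * (z * s) * x * y := by rw [e]; group
      _ = _ := by rw [← hs]; group)
  rw [wa4 et] at a1 a2
  have a3 := wD_B t ht ((cv_eq_iff hω).1 a1.symm) _ _ _ _
    ((cv_eq_iff hω).1 (a2.symm.trans (funext fun i => (zpow_add _ _ _).symm)))
  have ch : ∀ (r : Fin 24) (y : Fin 4 → ℤ), rs4.ch r (fun i => ω ^ y i) = 1 → (y ⬝ᵥ gD4.rv r) % 3 = 0 := fun r y e => by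
    have := ((gD4.ch_eq r _).trans (ca_cv _ y ω)).symm.trans e
    rw [← orderOf_dvd_iff_zpow_eq_one, hω] at this
    exact Int.emod_eq_zero_of_dvd this
  have := h.cen _ _ (y⁻¹ * u * y) k (Set.eq_empty_iff_forall_notMem.2 fun r hr =>
    a3 r r.2 (ch r _ (hr _ (.inl rfl))) (ch r _ (hr _ (.inr rfl)))) (by
      rw [← e1, hz]
      calc _ = y⁻¹ * (z * u) * y := by group
        _ = _ := by rw [← hu]; group) (by
      rw [← e2]
      calc _ = y⁻¹ * (x * u) * y := by group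
        _ = _ := by rw [← h1]; group) (by rw [← inv_inv y, inv_inv y⁻¹, conj_pow, h2]; simp)
  simpa [mul_assoc, inv_mul_eq_iff_eq_mul] using this

end closed

end Chev
end CfsgH6
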