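import Cfsg.Agent.H6.Alt5

/-! A local argument excluding sections `A₈`. -/

set_option autoImplicit false

namespace CfsgH6

theorem sq3 {G : Type*} [Group G] {z : G} {i : ℕ} (h3 : z ^ 3 = 1) (h : z ^ i ≠ 1) : z ^ i ^ 2 = z := by
  have h4 : i % 3 ≠ 0 := fun e => h (by rw [pow_eq_pow_mod _ h3, e, pow_zero])
  rw [pow_eq_pow_mod _ h3, show i ^ 2 % 3 = 1 by
    rw [Nat.pow_mod]; rcases (by omega : i % 3 = 1 ∨ i % 3 = 2) with e | e <;> rw [e], pow_one]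

theorem core3 {Γ W : Type*} [Group Γ] [Group W] [Finite W] {μ : ℕ} (hW : Nat.card W = 3 ^ 1 * 2 ^ μ)
    (T : Subgroup Γ) (Hc : ∀ a ∈ T, ∀ b ∈ T, a * b = b * a) (N : Subgroup Γ)
    (hN : ¬ 3 ∣ N.index) (θ : N →* W) (p1 : ∀ n, θ n = 1 ↔ n.1 ∈ T) {z₀ : Γ} (hz₀ : z₀ ∈ T) (hz₃ : z₀ ^ 3 = 1)
    (p3 : ∀ n, θ n ^ 3 = 1 → θ n ≠ 1 → n.1 * z₀ = z₀ * n.1 ∧
      ∀ t ∈ T, ∀ k, t ^ 3 ^ k = 1 → n.1 * t = t * n.1 → ∃ i : ℕ, t = z₀ ^ i)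
    (p4 : ∀ g (S : Set Γ), (∀ a ∈ S, a ∈ T ∧ g * a * g⁻¹ ∈ S) → ∀ a ∈ S, g ^ 6 * a * (g ^ 6)⁻¹ = a)
    (p5 : ∀ g g₁, z₀ * (g * z₀ * g⁻¹) = g * z₀ * g⁻¹ * z₀ → g * (g * z₀ * g⁻¹) * g⁻¹ = z₀⁻¹ → g₁ * z₀ * g₁⁻¹ = z₀ →
      g₁ * (g * z₀ * g⁻¹) * g₁⁻¹ = (g * z₀ * g⁻¹)⁻¹ → False)
    (p6 : ∀ (i : ℕ) x s u (k : ℕ), z₀ ^ i ≠ 1 → x * z₀ ^ i = z₀ ^ i * x → s * z₀ ^ i = z₀ ^ i * s → u * z₀ ^ i = z₀ ^ i * u →
      x ^ 3 = 1 → x * s = z₀ ^ i * (s * x) → u * x = x * u → u ^ 5 ^ k = 1 → u = 1) {H A : Type*} [Group H] [Finite H] [Group A]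
    (f₀ : H →* Γ) (hf₀ : Function.Injective f₀) (π : H →* A) (hπ : Function.Surjective π)
    {a b γ : A} (oa : orderOf a = 3) (ob : orderOf b = 5) (hab : Commute a b) (h1 : Commute a (γ * a * γ⁻¹))
    (h2 : γ * (γ * a * γ⁻¹) * γ⁻¹ = a⁻¹)
    (h3 : Function.Injective fun i : Fin 3 × Fin 3 => a ^ i.1.1 * (γ * a * γ⁻¹) ^ i.2.1)
    (hδ : ∀ i j : Fin 3, ∃ δ, (∃ k l : Fin 3, δ * a * δ⁻¹ = a ^ k.1 * (γ * a * γ⁻¹) ^ l.1) ∧
      (∃ k l : Fin 3, δ * (γ * a * γ⁻¹) * δ⁻¹ = a ^ k.1 * (γ * a * γ⁻¹) ^ l.1) ∧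
      δ * (a ^ i.1 * (γ * a * γ⁻¹) ^ j.1) * δ⁻¹ = a ^ i.1 * (γ * a * γ⁻¹) ^ j.1 ∧
      δ * (γ * (a ^ i.1 * (γ * a * γ⁻¹) ^ j.1) * γ⁻¹) * δ⁻¹ = (γ * (a ^ i.1 * (γ * a * γ⁻¹) ^ j.1) * γ⁻¹)⁻¹) : False := by
  haveI : Fact (Nat.Prime 5) := ⟨by norm_num⟩
  obtain ⟨σ, hσ⟩ : ∃ σ : A →* A, ∀ e, γ * e * γ⁻¹ = σ e := ⟨(MulAut.conj γ).toMonoidHom, fun _ => rfl⟩
  simp only [hσ] at h1 h2 h3 hδ
  have a3 : a ^ 3 = 1 := oa ▸ pow_orderOf_eq_one a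
  have b5 : b ^ 5 = 1 := ob ▸ pow_orderOf_eq_one b
  have iv : ∀ {e : A}, e ^ 3 = 1 → e⁻¹ = e ^ 2 := fun h => inv_eq_of_mul_eq_one_right (by rw [← pow_succ', h])
  have a3' : σ a ^ 3 = 1 := by rw [← map_pow, a3, map_one]
  let E : Subgroup A :=
    { carrier := {e | ∃ i j : ℕ, e = a ^ i * σ a ^ j}
      one_mem' := ⟨0, 0, by simp⟩
      mul_mem' := by
        rintro _ _ ⟨i, j, rfl⟩ ⟨i', j', rfl⟩
        exact ⟨i + i', j + j', by rw [pow_add, pow_add, (h1.pow_pow _ _).mul_mul_mul_comm]⟩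
      inv_mem' := by
        rintro _ ⟨i, j, rfl⟩
        exact ⟨2 * i, 2 * j, by
          rw [_root_.mul_inv_rev, ← inv_pow, ← inv_pow, iv a3, iv a3', ← pow_mul, ← pow_mul, (h1.pow_pow _ _).eq]⟩ }
  have Ec : ∀ e ∈ E, ∀ e' ∈ E, Commute e e' := by
    rintro _ ⟨i, j, rfl⟩ _ ⟨i', j', rfl⟩
    exact (((Commute.refl _).pow_pow _ _).mul_right (h1.pow_pow _ _)).mul_left
      ((h1.symm.pow_pow _ _).mul_right ((Commute.refl _).pow_pow _ _))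
  have E3 : ∀ e ∈ E, e ^ 3 = 1 := by
    rintro _ ⟨i, j, rfl⟩
    rw [(h1.pow_pow _ _).mul_pow, pow_right_comm, pow_right_comm (σ a), a3, a3']; simp
  have Eγ : ∀ e ∈ E, σ e ∈ E := by
    rintro _ ⟨i, j, rfl⟩
    exact ⟨2 * j, i, by rw [map_mul, map_pow, map_pow, h2, iv a3, ← pow_mul, (h1.pow_pow _ _).eq]⟩
  have Eγ2 : ∀ e ∈ E, σ (σ e) = e ^ 2 := by
    rintro _ ⟨i, j, rfl⟩
    simp only [map_mul, map_pow, h2, map_inv, iv a3, iv a3', (h1.pow_pow _ _).mul_pow, pow_right_comm _ 2]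
  have aE : a ∈ E := ⟨1, 0, by simp⟩
  replace hδ : ∀ e ∈ E, ∃ δ, (∀ e' ∈ E, δ * e' * δ⁻¹ ∈ E) ∧ δ * e * δ⁻¹ = e ∧ δ * σ e * δ⁻¹ = (σ e)⁻¹ := by
    rintro _ ⟨i, j, rfl⟩
    obtain ⟨δ, ⟨k, l, h4⟩, ⟨k', l', h5⟩, h6⟩ := hδ ⟨i % 3, Nat.mod_lt _ three_pos⟩ ⟨j % 3, Nat.mod_lt _ three_pos⟩
    simp only [← pow_eq_pow_mod _ a3, ← pow_eq_pow_mod _ a3'] at h6
    refine ⟨δ, ?_, h6⟩
    rintro _ ⟨i, j, rfl⟩
    rw [← conj_mul, ← conj_pow, ← conj_pow]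
    exact mul_mem (pow_mem (show _ ∈ E from ⟨_, _, h4⟩) _) (pow_mem (show _ ∈ E from ⟨_, _, h5⟩) _)
  obtain ⟨Q₀, hQ₀, -, k1, k2, k3⟩ := frat2 π (p := 3) ⊥ IsPGroup.of_bot bot_le
  obtain ⟨n, hn, hn'⟩ : ∃ n ∈ Subgroup.normalizer (Q₀ : Set H), π n = a * b := by
    obtain ⟨n, e⟩ := hπ (a * b)
    obtain ⟨n', k4, c, rfl, k5⟩ := k3 n (by simp)
    exact ⟨n', k4, by simpa [e] using k5⟩
  have e1 : π (n ^ 10) = a := by
    rw [map_pow, hn', hab.mul_pow, pow_succ, pow_mul a 3 3, pow_mul b 5 2, a3, b5]; simp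
  have e2 : π (n ^ 6) = b := by
    rw [map_pow, hn', hab.mul_pow, pow_succ b, pow_mul a 3 2, a3, b5]; simp
  obtain ⟨i, k, x1, x2⟩ := ppart π (e1 ▸ oa : orderOf (π (n ^ 10)) = 3)
  obtain ⟨j, l, u1, u2⟩ := ppart π (e2 ▸ ob : orderOf (π (n ^ 6)) = 5)
  have xu : Commute ((n ^ 6) ^ j) ((n ^ 10) ^ i) := ((Commute.refl n).pow_pow _ _).pow_pow _ _
  have x3 : (n ^ 10) ^ i ∈ Subgroup.normalizer (Q₀ : Set H) := pow_mem (pow_mem hn _) _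
  have u3 : (n ^ 6) ^ j ∈ Subgroup.normalizer (Q₀ : Set H) := pow_mem (pow_mem hn _) _
  rw [e1] at x2
  rw [e2] at u2
  generalize (n ^ 10) ^ i = x at x1 x2 x3 xu
  generalize (n ^ 6) ^ j = u at u1 u2 u3 xu
  clear e1 e2 hn hn' n i j k3
  obtain ⟨Q, hQ, k4, k5, -, k6⟩ := frat2 π E (R := Q₀ ⊔ Subgroup.zpowers x) (hQ₀.to_sup_of_normal_left'
    (by rintro ⟨_, m, rfl⟩; exact ⟨k, Subtype.ext (show (x ^ m) ^ 3 ^ k = 1 by
      rw [← zpow_natCast, zpow_comm, zpow_natCast, x1, one_zpow])⟩)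
      (Subgroup.zpowers_le.2 x3))
    (sup_le (k1.trans (Subgroup.comap_mono bot_le)) (Subgroup.zpowers_le.2 (show π x ∈ E from x2 ▸ aE)))
  have xQ : x ∈ Q := k4 (Subgroup.mem_sup_right (Subgroup.mem_zpowers x))
  replace k4 : Q₀ ≤ Q := le_sup_left.trans k4
  replace k2 : ∀ k ∈ Q, π k = 1 → k ∈ Q₀ := fun k hk hk' =>
    k2 (Q ⊓ (⊥ : Subgroup A).comap π) hQ.to_inf_left (le_inf k4 k1) inf_le_right ⟨hk, hk'⟩
  replace k6 : ∀ δ, (∀ e ∈ E, δ * e * δ⁻¹ ∈ E) →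
      ∃ g ∈ Subgroup.normalizer (Q : Set H), ∀ t ∈ Q, π (g * t * g⁻¹) = δ * π t * δ⁻¹ := fun δ hδ => by
    obtain ⟨n, rfl⟩ := hπ δ
    obtain ⟨g, k4, c, hc, k7⟩ := k6 n hδ
    refine ⟨g, k4, fun t ht => ?_⟩
    rw [← k7, map_mul, map_mul, map_inv, mul_assoc _ c, (Ec _ hc _ (k5 ht)).eq]; group
  obtain ⟨g, hg, hg'⟩ := k6 γ fun e he => hσ e ▸ Eγ e he
  simp only [hσ] at hg'
  have gQ : ∀ t ∈ Q, g * t * g⁻¹ ∈ Q := fun t => (Subgroup.mem_normalizer_iff.1 hg t).1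
  have gQ' : ∀ t ∈ Q, g⁻¹ * t * g ∈ Q := fun t => (Subgroup.mem_normalizer_iff''.1 hg t).1
  have g2 : ∀ t ∈ Q, π g ^ 2 * π t * (π g ^ 2)⁻¹ = π t ^ 2 := fun t ht => by
    rw [← Eγ2 _ (k5 ht), ← hg' t ht, ← hg' _ (gQ t ht)]; simp [pow_two, mul_assoc]
  obtain ⟨y₀, hy₀⟩ := pgroup_conj_le N hN hQ (f₀.comp Q.subtype)
  let f := (MulAut.conj y₀⁻¹).toMonoidHom.comp f₀
  have hf : Function.Injective f := (MulAut.conj y₀⁻¹).injective.comp hf₀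
  replace hy₀ : ∀ x : Q, f x ∈ N := fun x => by simpa [f] using hy₀ x
  clear_value f
  obtain ⟨φ, φ1, φ2⟩ : ∃ φ : Q →* W, (∀ q, φ q = 1 ↔ f q ∈ T) ∧
      ∀ q : Q, φ q ^ 3 = 1 → φ q ≠ 1 → f q * z₀ = z₀ * f q ∧
        ∀ t ∈ T, ∀ k, t ^ 3 ^ k = 1 → f q * t = t * f q → ∃ i : ℕ, t = z₀ ^ i :=
    ⟨θ.comp ((f.comp Q.subtype).codRestrict _ hy₀), fun q => p1 ⟨f q, hy₀ q⟩, fun q => p3 ⟨f q, hy₀ q⟩⟩
  have φ3 : ∀ q, φ q ^ 3 = 1 := fun q => by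
    obtain ⟨m, hm⟩ := hQ q
    have h4 : orderOf (φ q) ∣ 3 ^ m := orderOf_dvd_of_pow_eq_one (by rw [← map_pow, hm, map_one])
    exact orderOf_dvd_iff_pow_eq_one.1 ((Nat.Coprime.coprime_dvd_left h4
      (Nat.Coprime.pow m μ (show Nat.Coprime 3 2 by norm_num))).dvd_of_dvd_mul_right (hW ▸ orderOf_dvd_natCard _))
  have gen : ∀ i j : ℕ, π (x ^ i * (g * x * g⁻¹) ^ j) = a ^ i * σ a ^ j := fun i j => by
    rw [map_mul, map_pow, map_pow, hg' x xQ, x2]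
  have I9 : 9 ≤ (π.comp Q.subtype).ker.index := by
    haveI := Finite.of_surjective _ (π.comp Q.subtype).rangeRestrict_surjective
    rw [Subgroup.index_ker]
    simpa using Nat.card_le_card_of_injective (β := (π.comp Q.subtype).range) (fun i : Fin 3 × Fin 3 =>
      ⟨_, ⟨_, mul_mem (pow_mem xQ i.1.1) (pow_mem (gQ x xQ) i.2.1)⟩, gen _ _⟩) fun _ _ e => h3 (congrArg Subtype.val e)
  by_cases hA : ∀ t ∈ Q, f t ∈ T → f (g * t * g⁻¹) ∈ T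
  · have : φ.ker ≤ (π.comp Q.subtype).ker := fun t ht => by
      have := p4 (f g) (f '' {t | t ∈ Q ∧ f t ∈ T}) (by
        rintro _ ⟨t, ht, rfl⟩
        exact ⟨ht.2, _, ⟨gQ t ht.1, hA t ht.1 ht.2⟩, by simp⟩) _ ⟨t, ⟨t.2, (φ1 t).1 ht⟩, rfl⟩
      rw [← map_pow, ← map_inv, ← map_mul, ← map_mul] at this
      replace this := congrArg π (hf this)
      rw [map_mul, map_mul, map_inv, map_pow, pow_mul _ 2 3, conj_iter (g2 t t.2),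
        show 2 ^ 3 = 3 * 2 + 1 + 1 from rfl, pow_succ, pow_succ, pow_mul, E3 _ (k5 t.2)] at this
      simpa using this
    have := (Subgroup.index_antitone this).trans (idx3 hQ φ hW)
    omega
  push Not at hA
  obtain ⟨t, ht, tH, hy⟩ := hA
  have cT : ∀ y ∈ Q, f y ∉ T → ∀ s ∈ Q, f s ∈ T → s * y = y * s → ∃ i : ℕ, f s = z₀ ^ i := fun y hy h3 s hs h4 h5 => by
    obtain ⟨m, hm⟩ := hQ ⟨s, hs⟩
    exact (φ2 ⟨y, hy⟩ (φ3 _) (mt (φ1 _).1 h3)).2 _ h4 m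
      (by rw [← map_pow, show s ^ 3 ^ m = 1 from congrArg Subtype.val hm, map_one]) (by rw [← map_mul, ← map_mul, h5])
  haveI := hQ.isNilpotent
  obtain ⟨z, zQ, z2, hc⟩ : ∃ z ∈ Q, z ≠ 1 ∧ f z = z₀ := by
    obtain ⟨⟨z, zQ⟩, z1, z2, z3⟩ := exists_comm φ.ker (t := ⟨t, ht⟩) ((φ1 _).2 tH) (fun e => hy (by
      rw [show t = 1 from congrArg Subtype.val e]; simp)) ⟨_, gQ t ht⟩
    obtain ⟨i, hi⟩ := cT _ (gQ t ht) hy z zQ ((φ1 _).1 z1) (congrArg Subtype.val z3)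
    have h4 : z₀ ^ i ≠ 1 := fun e => z2 (Subtype.ext (hf (by rw [hi, e]; exact f.map_one.symm)))
    have h5 : f (z ^ i) = z₀ := by rw [map_pow, hi, ← pow_mul, ← pow_two, sq3 hz₃ h4]
    exact ⟨_, pow_mem zQ i, fun e => h4 (by rw [← h5, e, map_one, one_pow]), h5⟩
  subst hc
  replace cT : ∀ y ∈ Q, f y ∉ T → ∀ s ∈ Q, f s ∈ T → s * y = y * s → ∃ i : ℕ, s = z ^ i := fun y hy h3 s hs h4 h5 =>
    (cT y hy h3 s hs h4 h5).imp fun i hi => hf (by rw [hi, map_pow])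
  have pz := cT _ (gQ t ht) hy
  have zc : ∀ q ∈ Q, Commute q z := fun q hq => hf (by
    rw [map_mul, map_mul]
    by_cases h : φ ⟨q, hq⟩ = 1
    · exact Hc _ ((φ1 _).1 h) _ hz₀
    · exact (φ2 _ (φ3 _) h).1)
  have zz : z ^ 3 = 1 := hf (by rw [map_pow, hz₃, map_one])
  have nz : ∀ v (i : ℕ), v * z * v⁻¹ = z ^ i → v ^ 2 * z * (v ^ 2)⁻¹ = z := fun v i hi =>
    (conj_iter hi 2).trans (sq3 zz fun e => z2 (by rw [e] at hi; simpa using hi))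
  have zc' : ∀ q ∈ Q, Commute q (g * z * g⁻¹) := fun q hq => by
    simpa [mul_assoc] using (zc _ (gQ' q hq)).map (MulAut.conj g)
  have πz : π z = 1 := by
    by_cases h4 : f (g * z * g⁻¹) ∈ T
    · obtain ⟨i, hi⟩ := pz _ (gQ z zQ) h4 (zc' _ (gQ t ht)).symm
      have := congrArg π (nz g i hi)
      rw [map_mul, map_mul, map_inv, map_pow, g2 z zQ, pow_two] at this
      simpa using this
    have h5 : φ.ker ≤ Subgroup.zpowers ⟨z, zQ⟩ := fun s hs => by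
      obtain ⟨i, hi⟩ := cT _ (gQ z zQ) h4 s s.2 ((φ1 _).1 hs) (zc' _ s.2)
      exact ⟨i, Subtype.ext (by simp [hi])⟩
    have h6 := Subgroup.card_le_of_le h5
    rw [Nat.card_zpowers, ← Subgroup.orderOf_coe, orderOf_eq_prime zz z2] at h6
    have h7 := φ.ker.card_mul_index
    have h8 := idx3 hQ φ hW
    have h9 : Nat.card (π.comp Q.subtype).ker ≤ 1 := by
      have := (π.comp Q.subtype).ker.card_mul_index
      nlinarith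
    have inj : ∀ s ∈ Q, ∀ s' ∈ Q, π s = π s' → s = s' := fun s hs s' hs' e => congrArg Subtype.val
      ((MonoidHom.ker_eq_bot_iff _).1 (Subgroup.card_le_one_iff_eq_bot _ |>.1 h9) (a₁ := ⟨s, hs⟩) (a₂ := ⟨s', hs'⟩) e)
    obtain ⟨δ, d1, d2, d3⟩ := hδ _ (k5 zQ)
    obtain ⟨g₁, hg₁, d4⟩ := k6 δ d1
    have gQ₁ : ∀ t ∈ Q, g₁ * t * g₁⁻¹ ∈ Q := fun t => (Subgroup.mem_normalizer_iff.1 hg₁ t).1
    refine (p5 (f g) (f g₁) (by simpa using congrArg f (zc' z zQ).eq) ?_ ?_ ?_).elim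
    · simpa using congrArg f (inj _ (gQ _ (gQ z zQ)) _ (inv_mem zQ) (by
        rw [hg' _ (gQ z zQ), hg' z zQ, Eγ2 _ (k5 zQ), map_inv, iv (E3 _ (k5 zQ))]))
    · simpa using congrArg f (inj _ (gQ₁ z zQ) _ zQ (by rw [d4 z zQ, d2]))
    · simpa using congrArg f (inj _ (gQ₁ _ (gQ z zQ)) _ (inv_mem (gQ z zQ)) (by
        rw [d4 _ (gQ z zQ), map_inv, hg' z zQ, d3]))
  have kz : ∀ k ∈ Q, π k = 1 → ∃ i : ℕ, k = z ^ i := by
    let Φ := φ.prod (φ.comp (((MulAut.conj g⁻¹).toMonoidHom.comp Q.subtype).codRestrict Q fun s => by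
      simpa using gQ' s s.2))
    have h4 : ∀ s ∈ Φ.ker, ∃ i : ℕ, s.1 = z ^ i := fun s hs => by
      have h5 := (φ1 _).1 (congrArg Prod.snd hs)
      refine pz s s.2 ((φ1 _).1 (congrArg Prod.fst hs)) ?_
      have h6 : g⁻¹ * s * g⁻¹⁻¹ * t = t * (g⁻¹ * s * g⁻¹⁻¹) :=
        hf (by rw [map_mul, map_mul f t]; exact Hc _ h5 _ tH)
      rw [← mul_right_inj g⁻¹, ← mul_left_inj g]
      simpa [mul_assoc] using h6
    have h5 : Φ.ker ≤ (π.comp Q.subtype).ker := fun s hs => by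
      obtain ⟨i, hi⟩ := h4 s hs
      exact show π s = 1 by rw [hi, map_pow, πz, one_pow]
    have h6 := idx3 hQ Φ (k := 2) (m := μ + μ) (by rw [Nat.card_prod, hW]; ring)
    have h7 := Subgroup.relIndex_mul_index h5
    have h8 : Φ.ker.index ≠ 0 := Subgroup.index_ne_zero_of_finite
    have h9 : Φ.ker.relIndex (π.comp Q.subtype).ker = 1 := by
      generalize Φ.ker.relIndex (π.comp Q.subtype).ker = r at h7
      rcases r with _ | _ | r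
      · omega
      · rfl
      · nlinarith
    exact fun k hk hk' => h4 ⟨k, hk⟩ (Subgroup.relIndex_eq_one.1 h9 hk')
  obtain ⟨m, zg⟩ := kz _ (gQ z zQ) (by simp [πz])
  have zg2 := nz g m zg
  have uz : Commute (u ^ 2) z := by
    obtain ⟨i, hi⟩ := kz _ (k4 ((Subgroup.mem_normalizer_iff.1 u3 z).1 (k2 z zQ πz))) (by simp [πz])
    exact mul_inv_eq_iff_eq_mul.1 (nz u i hi)
  have xx : x ^ 3 = 1 := by
    obtain ⟨i, hi⟩ := kz (x ^ 3) (pow_mem xQ 3) (by rw [map_pow, x2, a3])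
    have h4 : g ^ 2 * x * (g ^ 2)⁻¹ ∈ Q := (Subgroup.mem_normalizer_iff.1 (pow_mem hg 2) x).1 xQ
    obtain ⟨j, hj⟩ := kz (g ^ 2 * x * (g ^ 2)⁻¹ * x) (mul_mem h4 xQ) (by
      rw [map_mul, map_mul, map_mul, map_inv, map_pow, g2 x xQ, ← pow_succ, x2, a3])
    have h5 := congrArg (· ^ 3) (eq_mul_inv_of_mul_eq hj)
    simp only [((zc x xQ).symm.pow_left j).inv_right.mul_pow, conj_pow, pow_right_comm z j, zz, one_pow, one_mul,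
      inv_pow, hi] at h5
    rw [← conj_pow, zg2, eq_inv_iff_mul_eq_one] at h5
    have h6 : (z ^ i) ^ 3 = 1 := by rw [pow_right_comm, zz, one_pow]
    rwa [pow_succ, pow_two, h5, one_mul, ← hi] at h6
  obtain ⟨s, hs, xs⟩ : ∃ s ∈ Q, ¬ Commute x s := by
    by_contra! h4
    obtain ⟨i, j, e⟩ := k5 ht
    obtain ⟨r, hr⟩ := kz (t * (x ^ i * (g * x * g⁻¹) ^ j)⁻¹)
      (mul_mem ht (inv_mem (mul_mem (pow_mem xQ i) (pow_mem (gQ x xQ) j)))) (by rw [map_mul, map_inv, gen, e]; simp)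
    have h5 : Commute (g * x * g⁻¹) (g * t * g⁻¹) := by
      simpa using (h4 t ht).map (MulAut.conj g)
    obtain ⟨r', hr'⟩ := pz t ht tH (by
      have h6 := ((zc _ (gQ t ht)).symm.pow_left r).mul_left (((h4 _ (gQ t ht)).pow_left i).mul_left (h5.pow_left j))
      rwa [← eq_mul_of_mul_inv_eq hr] at h6)
    refine hy ?_
    rw [hr', ← conj_pow, zg, map_pow, map_pow]
    exact pow_mem (pow_mem hz₀ _) _
  obtain ⟨i, hi⟩ := kz (x * s * x⁻¹ * s⁻¹) (mul_mem (mul_mem (mul_mem xQ hs) (inv_mem xQ)) (inv_mem hs)) (by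
    simp [(Ec _ (k5 xQ) _ (k5 hs)).eq])
  have := p6 i (f x) (f s) (f (u ^ 2)) l
  simp only [← map_pow f z] at this
  replace this := this (fun e => xs (by
      rwa [hf (e.trans f.map_one.symm), mul_inv_eq_one, mul_inv_eq_iff_eq_mul] at hi)) (((zc x xQ).pow_right i).map f)
    (((zc s hs).pow_right i).map f) ((uz.pow_right i).map f) (by rw [← map_pow, xx, map_one])
    (by rw [← hi]; simp [mul_assoc]) ((xu.pow_left 2).map f) (by rw [← map_pow, pow_right_comm, u1, one_pow, map_one])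
  replace this := congrArg π (hf (this.trans f.map_one.symm))
  rw [map_pow, u2, map_one, ← orderOf_dvd_iff_pow_eq_one, ob] at this
  exact absurd this (by norm_num)

end CfsgH6
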