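import Cfsg.Agent.H6.Alt6

/-! Alternating sections of the groups of type `³D₄`. -/

set_option autoImplicit false

namespace CfsgH6

open Finset PreSt Cfsg.Lie

universe u

namespace Chev
open Good

/-- the family of type `D₄` -/
noncomputable abbrev gD : Fam.{u} gD4.cd := gD4.fam (by simp)

theorem d4_fix {K : Type u} [Field K] [Fintype K] {p k : ℕ} [hp : Fact p.Prime] [CharP K p] (hk : 0 < k)
    (hK : Fintype.card K = (p ^ k) ^ 3) : ∃ σ, gD.IsGr p σ f2130 (fun _ => k) ∧ ∃ T : (gD.X K).Tw, T.σ = σ K ∧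
      T.π = f2130 ∧ Nonempty (T.Fix ≃* twistedD4 K (p ^ k)) ∧
      ((gD.X K).H.subgroupOf T.Fix).index =
        (p ^ k) ^ 12 * (p ^ k + 1) * ((p ^ k) ^ 3 + 1) * ((p ^ k) ^ 8 + (p ^ k) ^ 4 + 1) := by
  obtain ⟨σ, hσ, h⟩ := rz_D4 hk hK
  obtain ⟨e1⟩ := h.equiv σ (algP_closure K p) 1
  obtain ⟨e2, -⟩ := (hσ.se 3 (3 * k) (by omega) fun i => ⟨by revert i; decide, by simp⟩).exists_fix K
    (hK.trans (by rw [← pow_mul, mul_comm]; rfl)) (algebraMap K (AlgebraicClosure K))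
  obtain ⟨T, h1, h2⟩ := Gr.tw gD4 (gD4.isSt_st K) (σ := σ.σ K) (π := f2130) (hσ K)
    (fun _ => Finite.injective_iff_bijective.1 (iterateFrobenius K p k).injective) fun i t _ => by
      rw [← iterateFrobenius_def, ← iterateFrobenius_def, map_neg, map_inv₀]
  have e : T.Fix ≃* twistedD4 K (p ^ k) := (MulEquiv.subgroupCongr (show T.Fix = σ.TF 1 from
    Subgroup.ext fun x => by rw [σ.mem_TF_one, Tw.mem_Fix, h1])).trans ((show σ.TF (1 : gD.Γ K) ≃* _ from e2).trans e1)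
  refine ⟨σ.σ, hσ, T, h1, h2, ⟨e⟩, ?_⟩
  obtain ⟨φ, T', h⟩ := exists_isD4 (q := p ^ k) ⟨p, k, hp.out.prime, hk, rfl⟩ hK
  have hq : 2 ≤ p ^ k := Nat.one_lt_pow hk.ne' hp.out.one_lt
  have h3 := h.card_C hq hK
  rw [h.π, show (fun _ : Fin chevD4.rank => φ.toMonoidWithZeroHom) = fun _ => (iterateFrobenius K p k).toMonoidWithZeroHom
    from funext fun _ => MonoidWithZeroHom.ext fun t => h.hφ t, ← Subgroup.card_map_of_injective (gD.inj K)] at h3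
  have h4 := ((gD.X K).H.subgroupOf T.Fix).card_mul_index
  rw [Nat.card_congr e.toEquiv, h.card hq hK, ← Subgroup.card_map_of_injective T.Fix.subtype_injective,
    Subgroup.subgroupOf_map_subtype, show (gD.X K).H ⊓ T.Fix = Subgroup.map (gD.hh K) _ from le_antisymm (fun x hx => by
      obtain ⟨c, rfl⟩ := (gD.st K).exists_hh (gD.mu K) hx.1
      exact ⟨c, (gD.st K).mem_Cfix _ hσ.σ_h (gD.inj K) (h1 ▸ Tw.mem_Fix.1 hx.2 :), rfl⟩) (by
      rintro _ ⟨c, hc, rfl⟩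
      exact ⟨(gD.st K).hh_mem _ c, show T.σ _ = _ from h1 ▸ (gD.st K).σ_hh_of_mem _ hσ.σ_h hc⟩), h3] at h4
  generalize p ^ k = q at *
  have h5 : ∀ n, 1 ≤ q ^ n := fun n => Nat.one_le_pow _ _ (by omega)
  refine Nat.eq_of_mul_eq_mul_left (mul_pos (Nat.sub_pos_of_lt (Nat.one_lt_pow three_ne_zero hq)) (Nat.sub_pos_of_lt hq))
    (h4.trans ?_)
  zify [h5, show 1 ≤ q by omega]
  ring

theorem d4_emb {K : Type u} [Field K] [Fintype K] {p k : ℕ} [hp : Fact p.Prime] [CharP K p] (hk : 0 < k)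
    (hK : Fintype.card K = (p ^ k) ^ 3) : ∃ (L : Type u) (_ : Field L) (_ : Fintype L) (_ : CharP L p),
      Fintype.card L = (p ^ (4 * k)) ^ 3 ∧ ∃ σ, gD.IsGr p σ f2130 (fun _ => 4 * k) ∧ ∃ T : (gD.X L).Tw, T.σ = σ L ∧
      T.π = f2130 ∧ (∃ f : twistedD4 K (p ^ k) →* T.Fix, Function.Injective f) ∧
      ((gD.X L).H.subgroupOf T.Fix).index = (p ^ (4 * k)) ^ 12 * (p ^ (4 * k) + 1) * ((p ^ (4 * k)) ^ 3 + 1) *
        ((p ^ (4 * k)) ^ 8 + (p ^ (4 * k)) ^ 4 + 1) := by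
  let L := ULift.{u} (FiniteField.Extension K p 4)
  let φ : K →+* L := (ULift.ringEquiv.symm : _ ≃+* L).toRingHom.comp (algebraMap K _)
  haveI : Fintype L := Fintype.ofFinite L
  haveI : CharP L p := charP_of_injective_ringHom φ.injective p
  have hL : Fintype.card L = (p ^ (4 * k)) ^ 3 := by
    rw [← Nat.card_eq_fintype_card, Nat.card_ulift, FiniteField.natCard_extension, Nat.card_eq_fintype_card, hK]; ring
  obtain ⟨σ, hσ, T, h1, -, ⟨e⟩, -⟩ := d4_fix hk hK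
  obtain ⟨σ', hσ', T', h1', h2', -, h3⟩ := d4_fix (k := 4 * k) (by omega) hL
  refine ⟨L, inferInstance, inferInstance, inferInstance, hL, σ', hσ', T', h1', h2',
    ⟨(((gD.map φ).comp T.Fix.subtype).codRestrict _ fun x => ?_).comp e.symm.toMonoidHom, fun x y h =>
      e.symm.injective (Subtype.ext (gD.map_injective φ (congrArg Subtype.val h)))⟩, h3⟩
  let s := hσ.se 3 (3 * k) (by omega) fun i => ⟨by revert i; decide, by simp⟩
  have h4 : σ K x = x := h1 ▸ x.2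
  have h5 : gD.Fr p K (3 * k) x = x := (s.pow K x).symm.trans (Function.iterate_fixed h4 3)
  have h6 : σ' L = (gD.Fr p L (3 * k)).comp (σ L) := (gD.st L).hom_ext_pm' (gD.top L)
    (fun i t => by
      rw [(hσ' L i t).1, MonoidHom.comp_apply, (hσ L i t).1, gD.map_x, iterateFrobenius_def, ← pow_mul, ← pow_add]
      congr 3; ring)
    fun i t => by
      rw [(hσ' L i t).2, MonoidHom.comp_apply, (hσ L i t).2, gD.map_x, iterateFrobenius_def, ← pow_mul, ← pow_add]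
      congr 3; ring
  change T'.σ (gD.map φ x) = gD.map φ x
  rw [h1', h6, MonoidHom.comp_apply, ← show _ = σ L _ from s.nat φ x, show s.σ K x = x from h4, ← gD.map_Fr, h5]

theorem d4_six {L : Type u} [Field L] (T : (gD.X L).Tw) (hT : T.π = f2130) (g : T.Fix) (S : Set T.Fix)
    (h : ∀ a ∈ S, a ∈ (gD.X L).H.subgroupOf T.Fix ∧ g * a * g⁻¹ ∈ S) : ∀ a ∈ S, g ^ 6 * a * (g ^ 6)⁻¹ = a :=
  fun a ha => Subtype.ext ((gD.st L).pow_commute (gD.mu L) (gD.inj L) T (wF_six T hT) (g := g) ⟨gD.mem_G _, g.2⟩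
    (Q := Subtype.val '' S) (by
      rintro _ ⟨b, hb, rfl⟩
      exact ⟨(h b hb).1, _, (h b hb).2, rfl⟩) ⟨a, ha, rfl⟩)

/-- matrices of words -/
def wM4 (l : List (Fin 4)) : Matrix (Fin 4) (Fin 4) ℤ := gD4.wM l id

theorem d4_three {L : Type u} [Field L] {p k : ℕ} [Fact p.Prime] [CharP L p]
    {σ : ∀ (L : Type u) [Field L] [CharP L p], gD.Γ L →* gD.Γ L} (hσ : gD.IsGr p σ f2130 fun _ => k)
    (T : (gD.X L).Tw) (h1 : T.σ = σ L) : ∃ n ∈ (gD.X L).N ⊓ T.Fix, ∃ w, (gD.X L).Act n w ∧ orderOf w = 3 := by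
  have hn : ∀ i, T.σ ((gD.X L).n (gD4.cd.sim i) 1) = (gD.X L).n (gD4.cd.sim (f2130 i)) 1 := fun i => by
    simpa [h1] using map_n_of (f := (iterateFrobenius L p k).toMonoidWithZeroHom) (by simp)
      (fun t => (hσ L i t).1) (fun t => (hσ L i t).2) 1
  have hc : ∀ i j, gD4.cd.C i j = 0 → Commute ((gD.X L).n (gD4.cd.sim i) 1) ((gD.X L).n (gD4.cd.sim j) 1) :=
    fun i j h => comm_orth' h (n_mem_inJ i 1) (n_mem_inJ j 1)
  have hm : ∀ i, (gD.X L).n (gD4.cd.sim i) 1 ∈ (gD.X L).N := fun i => (gD.X L).n_mem_N _ one_ne_zero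
  have ha := (((gD.st L).act_sim (d4i 0)).mul (((gD.st L).act_sim (d4i 2)).mul (((gD.st L).act_sim (d4i 3)).mul
    ((gD.st L).act_sim (d4i 1)))))
  have hf : (gD.X L).n (gD4.cd.sim (d4i 0)) 1 * ((gD.X L).n (gD4.cd.sim (d4i 2)) 1 * ((gD.X L).n (gD4.cd.sim (d4i 3)) 1 *
      (gD.X L).n (gD4.cd.sim (d4i 1)) 1)) ∈ (gD.X L).N ⊓ T.Fix := ⟨mul_mem (hm _) (mul_mem (hm _) (mul_mem (hm _) (hm _))), by
    change T.σ _ = _
    rw [map_mul, map_mul, map_mul, hn, hn, hn, hn]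
    change (gD.X L).n (gD4.cd.sim (d4i 2)) 1 * ((gD.X L).n (gD4.cd.sim (d4i 3)) 1 * ((gD.X L).n (gD4.cd.sim (d4i 0)) 1 *
      (gD.X L).n (gD4.cd.sim (d4i 1)) 1)) = _
    rw [(hc (d4i 3) (d4i 0) (by decide +kernel)).left_comm, (hc (d4i 2) (d4i 0) (by decide +kernel)).left_comm]
    rfl⟩
  refine ⟨_, mul_mem hf hf, _, ha.mul ha, ?_⟩
  let w : rs4.W := gD4.cd.EW.wp [d4i 0, d4i 2, d4i 3, d4i 1, d4i 0, d4i 2, d4i 3, d4i 1]
  have hw : rs4.wm w.1 = !![1, 1, 0, 0; -1, -2, -1, -1; 0, 1, 1, 0; 0, 1, 0, 1] ∨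
      rs4.wm w.1 = !![0, -1, -1, -1; 1, 1, 1, 1; -1, -1, 0, -1; -1, -1, -1, 0] := by
    rw [show rs4.wm w.1 = wM4 [0, 2, 3, 1, 0, 2, 3, 1] from gD4.wm_wp _]
    decide +kernel
  have h2 : orderOf w = 3 := orderOf_eq_prime (RS.wm_inj (by
    rw [Subgroup.coe_pow, RS.wm_pow w.2, Subgroup.coe_one, RS.wm_one]
    rcases hw with hw | hw <;> rw [hw] <;> decide +kernel)) fun e => by
      rw [e, Subgroup.coe_one, RS.wm_one] at hw
      revert hw; decide +kernel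
  refine Eq.trans (congrArg orderOf ?_) ((Subgroup.orderOf_coe w).trans h2)
  exact (show ∀ a b c d : Equiv.Perm _, a * (b * (c * d)) * (a * (b * (c * d))) =
    a * (b * (c * (d * (a * (b * (c * (d * 1))))))) from fun _ _ _ _ => by simp only [mul_assoc, mul_one]) _ _ _ _

theorem d4_noA8 {L : Type u} [Field L] [Fintype L] [Fact (Nat.Prime 5)] [CharP L 5] {k : ℕ}
    {σ : ∀ (L : Type u) [Field L] [CharP L 5], gD.Γ L →* gD.Γ L} (hσ : gD.IsGr 5 σ f2130 fun _ => k)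
    (T : (gD.X L).Tw) (h1 : T.σ = σ L) (h2 : T.π = f2130) (hq : 5 ^ k % 3 = 1) (hL : 3 ∣ Fintype.card L - 1)
    (h9 : ¬ 9 ∣ ((gD.X L).H.subgroupOf T.Fix).index) {H : Type*} [Group H] [Finite H] (f : H →* T.Fix)
    (hf : Function.Injective f) {r : ℕ} (hr : 8 ≤ r) (π : H →* alternatingGroup (Fin r)) (hπ : Function.Surjective π) :
    False := by
  let θ : (gD.X L).N.subgroupOf T.Fix →* rs4.W := ((gD.st L).pi.codRestrict _ (gD.st L).pi_mem).comp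
    ((T.Fix.subtype.comp (Subgroup.subtype _)).codRestrict _ fun x => x.2)
  have θ1 : ∀ n, (gD.X L).Act n.1.1 (θ n).1 := fun n => (gD.st L).act_pi ⟨n.1.1, n.2⟩
  have θ2 : ∀ n, θ n = 1 ↔ n.1 ∈ (gD.X L).H.subgroupOf T.Fix := fun n => by
    have h1 : (gD.st L).pi ⟨n.1.1, n.2⟩ = 1 ↔ n.1.1 ∈ (gD.X L).H := SetLike.ext_iff.1 (gD.st L).ker_pi ⟨n.1.1, n.2⟩
    exact Subtype.ext_iff.trans h1
  clear_value θ
  have θ3 : ∀ n, (θ n).1 ∈ T.WF := fun n => ⟨(θ n).2, (gD.st L).act_unique (T.act (n := n.1.1) (gD.st L) n.2 (θ1 n))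
    ((show T.σ n.1.1 = n.1.1 from n.1.2).symm ▸ θ1 n)⟩
  obtain ⟨ω, hω⟩ : ∃ ω : Lˣ, orderOf ω = 3 := by
    classical exact exists_prime_orderOf_dvd_card 3 (by rwa [Fintype.card_units])
  have pw : ∀ {a : Lˣ}, a ^ 3 = 1 → a ^ 5 ^ k = a := fun h => by rw [pow_eq_pow_mod _ h, hq, pow_one]
  have ω3 : ω ^ 3 = 1 := hω ▸ pow_orderOf_eq_one ω
  let η : (Fin 4 → Lˣ) →* gD.Γ L := gD.hh L
  have η1 : ∀ c, η c ∈ T.Fix ↔ ∀ i, c (tr4 i) = c i ^ 5 ^ k := fun c => by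
    rw [Tw.mem_Fix, h1]
    refine ⟨fun h i => Units.ext ?_, fun h => (gD.st L).σ_hh_of_mem _ hσ.σ_h fun i => ?_⟩
    · have := (gD.st L).mem_Cfix _ hσ.σ_h (gD.inj L) h i
      fin_cases i <;> exact this
    · have := congrArg Units.val (h i)
      change Fin 4 at i
      fin_cases i <;> exact this
  have η2 : ∀ n c, n.1.1 * η c = η c * n.1.1 ↔ rs4.wa (θ n).1 c = c := fun n c =>
    mul_inv_eq_iff_eq_mul.symm.trans ((((gD.st L).conj_hh (gD.mu L) (θ1 n) c).congr_left).trans (gD.inj L).eq_iff)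
  have η3 : ∀ c, η c ∈ (gD.X L).H := (gD.st L).hh_mem _
  have η4 : ∀ t ∈ (gD.X L).H, ∃ c, η c = t := fun t => (gD.st L).exists_hh _
  have η5 : Function.Injective η := gD.inj L
  let K := AlgebraicClosure L
  let ψ : T.Fix →* gD.Γ K := (gD.map (algebraMap L K)).comp T.Fix.subtype
  have hψ : Function.Injective ψ := (gD.map_injective _).comp Subtype.val_injective
  let η' : (Fin 4 → Kˣ) →* gD.Γ K := gD.hh K
  have hP : Pk η' := pk (algP_closure L 5)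
  let ι : Lˣ →* Kˣ := Units.map (algebraMap L K).toMonoidHom
  have hι : Function.Injective ι := Units.map_injective (algebraMap L K).injective
  have η6 : ∀ (a : Lˣ) h, ψ ⟨η fun i => a ^ y0 i, h⟩ = η' fun i => ι a ^ y0 i := fun a h =>
    (gD.map_hh (algebraMap L K) fun i => a ^ y0 i).trans (congrArg η' (funext fun i => map_zpow ι a (y0 i)))
  clear_value η η' ψ ι
  have hz : ∀ {a : Lˣ}, a ^ 3 = 1 → η (fun i => a ^ y0 i) ∈ T.Fix := fun h => (η1 _).2 fun i => by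
    fin_cases i <;> simp [y0, tr4, pw h]
  have zp : ∀ i : ℕ, (⟨_, hz ω3⟩ : T.Fix) ^ i = ⟨_, hz (a := ω ^ i) (by rw [pow_right_comm, ω3, one_pow])⟩ := fun i =>
    Subtype.ext ((map_pow η _ _).symm.trans (congrArg η (funext fun j => by
      rw [Pi.pow_apply, ← zpow_natCast, zpow_comm, zpow_natCast])))
  obtain ⟨ι', hι'⟩ := exists_altHom hr
  obtain ⟨a, b, γ, oa, ob, hab, h3, h4, h5, h6⟩ : ∃ a b γ : alternatingGroup (Fin 8), orderOf a = 3 ∧ orderOf b = 5 ∧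
      a * b = b * a ∧ a * (γ * a * γ⁻¹) = γ * a * γ⁻¹ * a ∧ γ * (γ * a * γ⁻¹) * γ⁻¹ = a⁻¹ ∧
      (∀ i j : Fin 3 × Fin 3, a ^ i.1.1 * (γ * a * γ⁻¹) ^ i.2.1 = a ^ j.1.1 * (γ * a * γ⁻¹) ^ j.2.1 → i = j) ∧
      ∃ ε, ∀ i j : Fin 3, ∃ δ ∈ [ε, γ * ε * γ⁻¹, γ * ε, ε * γ], (∃ k l : Fin 3, δ * a * δ⁻¹ = a ^ k.1 * (γ * a * γ⁻¹) ^ l.1) ∧
        (∃ k l : Fin 3, δ * (γ * a * γ⁻¹) * δ⁻¹ = a ^ k.1 * (γ * a * γ⁻¹) ^ l.1) ∧
        δ * (a ^ i.1 * (γ * a * γ⁻¹) ^ j.1) * δ⁻¹ = a ^ i.1 * (γ * a * γ⁻¹) ^ j.1 ∧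
        δ * (γ * (a ^ i.1 * (γ * a * γ⁻¹) ^ j.1) * γ⁻¹) * δ⁻¹ = (γ * (a ^ i.1 * (γ * a * γ⁻¹) ^ j.1) * γ⁻¹)⁻¹ :=
    ⟨⟨⟨![1, 2, 0, 3, 4, 5, 6, 7], ![2, 0, 1, 3, 4, 5, 6, 7], by decide, by decide⟩,
        Equiv.Perm.mem_alternatingGroup.2 (by decide +kernel)⟩,
      ⟨⟨![0, 1, 2, 4, 5, 6, 7, 3], ![0, 1, 2, 7, 3, 4, 5, 6], by decide, by decide⟩,
        Equiv.Perm.mem_alternatingGroup.2 (by decide +kernel)⟩,
      ⟨⟨![3, 4, 5, 1, 0, 2, 6, 7], ![4, 3, 5, 0, 1, 2, 6, 7], by decide, by decide⟩,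
        Equiv.Perm.mem_alternatingGroup.2 (by decide +kernel)⟩, orderOf_eq_prime (by decide +kernel) (by decide +kernel),
      orderOf_eq_prime (by decide +kernel) (by decide +kernel),
      by decide +kernel, by decide +kernel, by decide +kernel, by decide +kernel,
      ⟨⟨![0, 1, 2, 4, 3, 5, 7, 6], ![0, 1, 2, 4, 3, 5, 7, 6], by decide, by decide⟩,
        Equiv.Perm.mem_alternatingGroup.2 (by decide +kernel)⟩, by
          set_option synthInstance.maxSize 2000 in decide +kernel⟩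
  obtain ⟨ε, h6⟩ := h6
  refine core3 (μ := 6) cardW4 ((gD.X L).H.subgroupOf T.Fix)
    (fun a ha b hb => Subtype.ext ((gD.st L).H_comm (gD.mu L) ha hb)) _ (fun h => h9 ?_) θ θ2 (z₀ := ⟨_, hz ω3⟩) (η3 _)
    (by rw [zp]; exact Subtype.ext (by simp only [ω3, one_zpow]; exact η.map_one)) (fun n h h' => ⟨Subtype.ext ?_, fun t ht m hm e => ?_⟩)
    (d4_six T h2) (fun g g₁ e1 e2 e3 e4 => ?_) (fun i x s u m h0 e1 e2 e3 e4 e5 e6 e7 => hψ ?_) f hf π hπ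
    (a := ι' a) (b := ι' b) (γ := ι' γ)
    ((orderOf_injective ι' hι' a).trans oa) ((orderOf_injective ι' hι' b).trans ob) (Commute.map hab ι')
    (by simpa using Commute.map h3 ι') (by simpa using congrArg ι' h4) (fun i j e => h5 i j (hι' (by simpa using e)))
    fun i j => ?_
  · obtain ⟨n, hn, w, ha, hw⟩ := d4_three hσ T h1
    rw [← Subgroup.relIndex_mul_index (show (gD.X L).H.subgroupOf T.Fix ≤ (gD.X L).N.subgroupOf T.Fix from
      Subgroup.comap_mono (gD.X L).H_le_N)]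
    refine mul_dvd_mul (a := 3) (c := 3) ?_ h
    have : θ.ker = ((gD.X L).H.subgroupOf T.Fix).subgroupOf _ := Subgroup.ext θ2
    have h7 := orderOf_dvd_natCard (⟨θ ⟨⟨n, hn.2⟩, hn.1⟩, _, rfl⟩ : θ.range)
    rw [← Subgroup.orderOf_coe, ← Subgroup.orderOf_coe, (gD.st L).act_unique (θ1 ⟨⟨n, hn.2⟩, hn.1⟩) ha,
      ← Subgroup.index_ker, this] at h7
    exact hw.symm.dvd.trans h7
  · exact (η2 n _).2 ((wF_three T h2 (θ3 n) h h' _).2 ⟨by simp [y0], by simpa [y0, ← pow_three'] using ω3⟩)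
  · obtain ⟨t, ht'⟩ := t
    obtain ⟨c, rfl⟩ := η4 t ht
    obtain ⟨c1, c2⟩ := (wF_three T h2 (θ3 n) h h' _).1 ((η2 n c).1 (congrArg Subtype.val e))
    have c3 : c 2 = c 0 ^ 5 ^ k := (η1 c).1 ht' 0
    have c4 : c 3 = c 2 ^ 5 ^ k := (η1 c).1 ht' 2
    have c5 : c 0 ^ 3 ^ m = 1 :=
      congrFun (η5 ((map_pow η _ _).trans ((congrArg Subtype.val hm).trans η.map_one.symm))) 0
    have c6 : c 0 ^ 3 = 1 := by
      obtain ⟨l, hl⟩ : ∃ l, 5 ^ k = 3 * l + 1 := ⟨5 ^ k / 3, by omega⟩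
      have : c 0 ^ (3 * (3 * (l * l + l) + 1)) = 1 := by
        rw [← c2, c4, c3, hl, ← pow_mul, ← pow_succ', ← pow_add]; congr 1; ring
      exact orderOf_dvd_iff_pow_eq_one.1 ((Nat.Coprime.coprime_dvd_left (orderOf_dvd_of_pow_eq_one c5)
        (Nat.Coprime.pow_left m (by simp))).dvd_of_dvd_mul_right (orderOf_dvd_of_pow_eq_one this))
    rw [pw c6] at c3
    rw [c3, pw c6] at c4
    obtain ⟨i, -, hi⟩ := (IsPrimitiveRoot.coe_units_iff.2 (hω ▸ IsPrimitiveRoot.orderOf ω)).eq_pow_of_pow_eq_one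
      (congrArg Units.val c6 : (c 0 : L) ^ 3 = 1)
    replace hi : ω ^ i = c 0 := Units.ext hi
    exact ⟨i, (zp i).symm ▸ Subtype.ext (congrArg η (funext fun j => by fin_cases j <;> simp [y0, hi, c1, c3, c4]))⟩
  · exact hP.noA ((orderOf_injective ι hι ω).trans hω) (η6 ω (hz ω3)).symm (g := ψ g) (g₁ := ψ g₁)
      (by simpa using congrArg ψ e1) (by simpa using congrArg ψ e2) (by simpa using congrArg ψ e3)
      (by simpa using congrArg ψ e4)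
  · rw [zp] at h0 e1 e2 e3 e5
    refine (hP.uni ((orderOf_injective ι hι (ω ^ i)).trans (orderOf_eq_prime (by rw [pow_right_comm, ω3, one_pow])
      fun e => h0 (Subtype.ext (by simp only [e, one_zpow]; exact η.map_one)))) (η6 _ _).symm (x := ψ x) (s := ψ s) (u := ψ u) (k := m)
      (by simpa using congrArg ψ e1) (by simpa using congrArg ψ e2) (by simpa using congrArg ψ e3)
      (by simpa using congrArg ψ e4) (by simpa using congrArg ψ e5) (by simpa using congrArg ψ e6)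
      (by simpa using congrArg ψ e7)).trans ψ.map_one.symm
  · obtain ⟨δ, -, ⟨k, l, e1⟩, ⟨k', l', e2⟩, e3, e4⟩ := h6 i j
    exact ⟨ι' δ, ⟨k, l, by simpa using congrArg ι' e1⟩, ⟨k', l', by simpa using congrArg ι' e2⟩,
      by simpa using congrArg ι' e3, by simpa using congrArg ι' e4⟩

theorem zmod5 : ¬ (1 : ZMod 5) ^ 12 * (1 + 1) * (1 ^ 3 + 1) * (1 ^ 8 + 1 ^ 4 + 1) = 0 := by decide

theorem d4_alt {K : Type u} [Field K] [Fintype K] (p a : ℕ) [hp : Fact p.Prime] [CharP K p]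
    (ha : 1 ≤ a) (hK : Fintype.card K = (p ^ a) ^ 3) (r : ℕ) (H : Subgroup ↥(twistedD4 K (p ^ a))) (N : Subgroup ↥H)
    [N.Normal] (h : Nonempty (↥H ⧸ N ≃* ↥(alternatingGroup (Fin r)))) : r ≤ 6 + (if p = 5 then 1 else 0) := by
  by_contra hr
  obtain ⟨e⟩ := h
  have hπ : Function.Surjective (e.toMonoidHom.comp (QuotientGroup.mk' N)) :=
    e.surjective.comp (QuotientGroup.mk'_surjective N)
  generalize e.toMonoidHom.comp (QuotientGroup.mk' N) = π at hπ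
  obtain ⟨L, _, _, _, hL, σ, hσ, T, h1, h2, ⟨f₀, hf₀⟩, h3⟩ := d4_emb ha hK
  have hf : Function.Injective (f₀.comp H.subtype) := hf₀.comp H.subtype_injective
  generalize f₀.comp H.subtype = f at hf
  split_ifs at hr with h5
  · subst h5
    have hq : 5 ^ (4 * a) % 3 = 1 := by rw [pow_mul, Nat.pow_mod]; simp
    refine d4_noA8 hσ T h1 h2 hq ?_ ?_ f hf (by omega) π hπ
    · rw [hL, ← Nat.modEq_iff_dvd' (Nat.one_le_pow _ _ (by positivity)), Nat.ModEq, Nat.pow_mod, hq]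
    · obtain ⟨l, hl⟩ : ∃ l, 5 ^ (4 * a) = 3 * l + 1 := ⟨5 ^ (4 * a) / 3, by omega⟩
      rw [h3, hl, ← ZMod.natCast_eq_zero_iff]
      push_cast
      generalize (l : ZMod 9) = l
      revert l; decide +kernel
  haveI : Fact (Nat.Prime 5) := ⟨by norm_num⟩
  obtain ⟨ι, hι⟩ := exists_altHom (show 7 ≤ r by omega)
  obtain ⟨x, y, hx, e1⟩ : ∃ x y : alternatingGroup (Fin 7), orderOf x = 5 ∧ y * x * y⁻¹ = x ^ 2 :=
    ⟨⟨⟨![1, 2, 3, 4, 0, 5, 6], ![4, 0, 1, 2, 3, 5, 6], by decide, by decide⟩,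
        Equiv.Perm.mem_alternatingGroup.2 (by decide +kernel)⟩,
      ⟨⟨![0, 2, 4, 1, 3, 6, 5], ![0, 3, 1, 4, 2, 6, 5], by decide, by decide⟩,
        Equiv.Perm.mem_alternatingGroup.2 (by decide +kernel)⟩,
      orderOf_eq_prime (by decide +kernel) (by decide +kernel), by decide +kernel⟩
  rw [← orderOf_injective ι hι] at hx
  replace e1 := congrArg ι e1
  simp only [map_mul, map_inv, map_pow] at e1
  obtain ⟨P, hP, g, hg, b, hb, h6, h7⟩ := frattini_lift π hπ hx e1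
  obtain ⟨z, hz⟩ := pgroup_conj_le (p := 5) ((gD.X L).H.subgroupOf T.Fix) (by
    have : (p : ZMod 5) ^ 4 = 1 := ZMod.pow_card_sub_one_eq_one fun h =>
      h5 ((Nat.prime_dvd_prime_iff_eq (by norm_num) hp.out).1 ((ZMod.natCast_eq_zero_iff _ _).1 h)).symm
    rw [h3, ← ZMod.natCast_eq_zero_iff]
    push_cast
    rw [pow_mul, this, one_pow]
    exact zmod5) hP (f.comp P.subtype)
  let f' := (MulAut.conj z⁻¹).toMonoidHom.comp f
  have hf' : Function.Injective f' := (MulAut.conj z⁻¹).injective.comp hf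
  replace hz : ∀ x ∈ P, f' x ∈ (gD.X L).H.subgroupOf T.Fix := fun x hx => by simpa [f'] using hz ⟨x, hx⟩
  clear_value f'
  have := d4_six T h2 (f' g) (f' '' P) (by
    rintro _ ⟨b, hb, rfl⟩
    exact ⟨hz b hb, _, (Subgroup.mem_normalizer_iff.1 hg b).1 hb, by simp⟩) _ ⟨b, hb, rfl⟩
  rw [← map_pow, ← map_inv, ← map_mul, ← map_mul] at this
  replace this := congrArg π (hf' this)
  rw [map_mul, map_mul, map_inv, map_pow, conj_iter h7, ← pow_one (π b), ← pow_mul, pow_eq_pow_iff_modEq, h6] at this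
  exact absurd this (by decide)

end Chev
end CfsgH6
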