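import Cfsg.Agent.H6.No65
import Cfsg.Prelude.Def_Classical

/-! Explicit matrices over finite fields of characteristic two; elements of order `65`. -/

set_option autoImplicit false

namespace CfsgH6
namespace GF

open Matrix Chev

variable {F : Type*} [Field F]

/-- value of a bit polynomial -/
def ev (a : F) (n : ℕ) : F := Nat.binaryRec (motive := fun _ => F) 0 (fun b _ r => (if b then 1 else 0) + a * r) n

theorem ev_bit (a : F) (b : Bool) (n : ℕ) : ev a (Nat.bit b n) = (if b then 1 else 0) + a * ev a n :=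
  Nat.binaryRec_eq _ _ (.inl (by simp))

@[simp] theorem ev_zero (a : F) : ev a 0 = 0 := rfl

@[simp] theorem ev_one (a : F) : ev a 1 = 1 := by simpa using ev_bit a true 0

theorem ev_two_mul (a : F) (n : ℕ) : ev a (2 * n) = a * ev a n := by simpa using ev_bit a false n

theorem ev_two_mul_add (a : F) (n : ℕ) : ev a (2 * n + 1) = 1 + a * ev a n := by simpa using ev_bit a true n

/-- multiplication by the generator -/
def mx (K P n : ℕ) : ℕ := strict (Nat.mul 2 n) fun t => Bool.rec (Nat.xor t P) t (Nat.blt t (Nat.pow 2 K))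

/-- multiplication -/
def gm (K P j : ℕ) : ℕ → ℕ → ℕ :=
  Nat.rec (fun _ _ => 0) (fun _ ih m n => strict (mx K P (ih (Nat.div m 2) n)) fun t =>
    Bool.rec (Nat.xor t n) t (Nat.beq (Nat.mod m 2) 0)) j

/-- entries -/
def en (A : List (List ℕ)) (i j : ℕ) : ℕ := (A.getD i []).getD j 0

/-- force a list -/
def fL {β : Type} (L : List ℕ) : (List ℕ → β) → β :=
  List.rec (fun g => g []) (fun a _ ih g => strict a fun a => ih fun l => g (a :: l)) L

@[simp] theorem fL_eq {β : Type} (L : List ℕ) (g : List ℕ → β) : fL L g = g L := by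
  induction L generalizing g with
  | nil => rfl
  | cons a L ih => exact (strict_eq a fun a => fL L fun l => g (a :: l)).trans (ih _)

/-- force a list of lists -/
def fM {β : Type} (L : List (List ℕ)) : (List (List ℕ) → β) → β :=
  List.rec (fun g => g []) (fun a _ ih g => fL a fun a => ih fun l => g (a :: l)) L

@[simp] theorem fM_eq {β : Type} (L : List (List ℕ)) (g : List (List ℕ) → β) : fM L g = g L := by
  induction L generalizing g with
  | nil => rfl
  | cons a L ih => exact (fL_eq _ _).trans (ih _)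

/-- tabulate -/
def tab (n : ℕ) (f : ℕ → ℕ → ℕ) : List (List ℕ) := (List.range n).map fun i => (List.range n).map (f i)

theorem en_tab {n : ℕ} (f : ℕ → ℕ → ℕ) (i j : Fin n) : en (tab n f) i j = f i j := by
  simp [en, tab]

/-- matrix product -/
def mm (K P n : ℕ) (A B : List (List ℕ)) : List (List ℕ) :=
  tab n fun i j => Nat.rec 0 (fun k ih => Nat.xor (gm K P K (en A i k) (en B k j)) ih) n

/-- product with a power -/
def pw (K P n : ℕ) (A B : List (List ℕ)) (k : ℕ) : List (List ℕ) := Nat.rec B (fun _ ih => fM ih (mm K P n A)) k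

/-- bounded entries -/
def Bd (K n : ℕ) (A : List (List ℕ)) : Prop := ∀ i < n, ∀ j < n, en A i j < 2 ^ K

instance (K n : ℕ) (A : List (List ℕ)) : Decidable (Bd K n A) := inferInstanceAs (Decidable (∀ i < n, _))

/-- identity -/
def id1 (n : ℕ) : List (List ℕ) := tab n fun i j => if i = j then 1 else 0

/-- the matrix -/
def mat (a : F) (n : ℕ) (A : List (List ℕ)) : Matrix (Fin n) (Fin n) F := Matrix.of fun i j => ev a (en A i j)

theorem mat_id (a : F) (n : ℕ) : mat a n (id1 n) = 1 := by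
  ext i j
  simp [mat, id1, en_tab, one_apply, Fin.val_inj, apply_ite (ev a)]

theorem mat_tr (a : F) (n : ℕ) (A : List (List ℕ)) : mat a n (tab n fun i j => en A j i) = (mat a n A)ᵀ := by
  ext i j; simp [mat, en_tab]

variable [CharP F 2] {a : F} {K P n : ℕ}

theorem ev_xor (a : F) (m n : ℕ) : ev a (m ^^^ n) = ev a m + ev a n := by
  induction m using Nat.binaryRec generalizing n with
  | zero => simp
  | bit b m ih =>
    cases n using Nat.bitCasesOn with
    | bit c n =>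
      rw [Nat.xor_bit, ev_bit, ev_bit, ev_bit, ih]
      have h := CharTwo.two_eq_zero (R := F)
      cases b <;> cases c <;> simp <;> first | ring1 | linear_combination -h

variable (hP : ev a P = 0)
include hP

theorem ev_mx (m : ℕ) : ev a (mx K P m) = a * ev a m := by
  rw [mx, strict_eq]
  cases Nat.blt _ _
  · exact (ev_xor _ _ _).trans (by rw [hP, add_zero]; exact ev_two_mul a m)
  · exact ev_two_mul a m

theorem ev_gm {j m : ℕ} (h : m < 2 ^ j) (n : ℕ) : ev a (gm K P j m n) = ev a m * ev a n := by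
  induction j generalizing m with
  | zero => obtain rfl : m = 0 := by omega
            simp [gm]
  | succ j ih =>
    have e : gm K P (j + 1) m n = strict (mx K P (gm K P j (m / 2) n)) fun t =>
      Bool.rec (t ^^^ n) t (Nat.beq (m % 2) 0) := rfl
    have e2 := ev_mx (K := K) hP (gm K P j (m / 2) n)
    rw [ih (by omega)] at e2
    rw [e, strict_eq]
    rcases Nat.even_or_odd' m with ⟨k, rfl | rfl⟩
    · rw [beq_true (by omega)]
      simp only [e2, ev_two_mul, mul_assoc]; simp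
    · rw [Chev.beq_false (by omega)]
      simp only [show (2 * k + 1) / 2 = k by omega] at e2 ⊢
      refine (ev_xor a _ _).trans ?_
      rw [e2, ev_two_mul_add]; ring

theorem mat_mm {A : List (List ℕ)} (h : Bd K n A) (B : List (List ℕ)) :
    mat a n (mm K P n A B) = mat a n A * mat a n B := by
  ext i j
  simp only [mat, mm, of_apply, en_tab, mul_apply]
  rw [Fin.sum_univ_eq_sum_range (fun k => ev a (en A i k) * ev a (en B k j))]
  have : ∀ m ≤ n, ev a (Nat.rec 0 (fun k ih => Nat.xor (gm K P K (en A i k) (en B k j)) ih) m) =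
      ∑ k ∈ Finset.range m, ev a (en A i k) * ev a (en B k j) := fun m hm => by
    induction m with
    | zero => simp
    | succ m ih =>
      rw [Finset.sum_range_succ, ← ih (by omega), ← ev_gm (K := K) hP (h i i.2 m hm)]
      exact (ev_xor a _ _).trans (add_comm _ _)
  exact this n le_rfl

theorem mat_pw {A : List (List ℕ)} (h : Bd K n A) (B : List (List ℕ)) (k : ℕ) :
    mat a n (pw K P n A B k) = mat a n A ^ k * mat a n B := by
  induction k with
  | zero => simp [pw]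
  | succ k ih => rw [pow_succ', mul_assoc, ← ih, ← mat_mm hP h]; exact congrArg _ (fM_eq _ _)

omit hP [CharP F 2] in
/-- the check of the order -/
def Chk (K P n : ℕ) (A N : List (List ℕ)) : Prop := Bd K n A ∧ Bd K n N ∧ pw K P n A (id1 n) 65 = id1 n ∧
  mm K P n N N = id1 n ∧ ∀ k ∈ [5, 13], ∃ i < n, ∃ j < n, ∃ z < 2 ^ K,
    gm K P K z (en (pw K P n A N k) i j ^^^ en (mm K P n N (pw K P n A (id1 n) k)) i j) = 1

instance (K P n : ℕ) (A N : List (List ℕ)) : Decidable (Chk K P n A N) := inferInstanceAs (Decidable (_ ∧ _))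

theorem Chk.pow {A N} (h : Chk K P n A N) : mat a n A ^ 65 = 1 ∧ mat a n N ^ 2 = 1 :=
  ⟨by simpa [h.2.2.1, mat_id] using (mat_pw hP h.1 (id1 n) 65).symm,
    by simpa [h.2.2.2.1, mat_id, sq] using (mat_mm hP h.2.1 N).symm⟩

theorem Chk.det [Fintype F] {A N} (h : Chk K P n A N) (hF : (Fintype.card F - 1).Coprime 130) :
    (mat a n A).det = 1 ∧ (mat a n N).det = 1 := by
  have k : ∀ (M : Matrix (Fin n) (Fin n) F) m, m ≠ 0 → m ∣ 130 → M ^ m = 1 → M.det = 1 := fun M m h0 h1 h2 => by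
    have e : M.det ^ m = 1 := by rw [← det_pow, h2, det_one]
    refine orderOf_eq_one_iff.1 (Nat.eq_one_of_dvd_coprimes hF (orderOf_dvd_of_pow_eq_one
      (FiniteField.pow_card_sub_one_eq_one _ fun h => ?_)) ((orderOf_dvd_of_pow_eq_one e).trans h1))
    simp [h, h0] at e
  exact ⟨k _ _ (by simp) (by simp) (h.pow hP).1, k _ _ (by simp) (by simp) (h.pow hP).2⟩

theorem Chk.order {A N} (h : Chk K P n A N) {X : Type*} [Group X] (ρ : X →* Matrix (Fin n) (Fin n) F)
    (hρ : Function.Injective ρ) (x y : X) (hx : ρ x = mat a n A) (hy : ρ y = mat a n N) :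
    ∃ z : X ⧸ Subgroup.center X, orderOf z = 13 * 5 := by
  have k : ∀ k ∈ [5, 13], (x : X ⧸ Subgroup.center X) ^ k ≠ 1 := fun k hk e => by
    obtain ⟨i, hi, j, hj, z, hz, e'⟩ := h.2.2.2.2 k hk
    rw [← QuotientGroup.mk_pow, QuotientGroup.eq_one_iff] at e
    have h1 := congrArg ρ (Subgroup.mem_center_iff.1 e y)
    rw [map_mul, map_mul, map_pow, hx, hy, ← mat_pw hP h.1, ← mul_one (_ ^ k), ← mat_id a, ← mat_pw hP h.1,
      ← mat_mm hP h.2.1] at h1
    have h2 := congrArg (ev a) e'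
    rw [ev_gm hP hz, ev_xor, show ev a _ = ev a _ from (congrFun (congrFun h1 ⟨i, hi⟩) ⟨j, hj⟩).symm,
      CharTwo.add_self_eq_zero] at h2
    simp at h2
  refine ⟨x, orderOf_eq_of_pow_and_pow_div_prime (by norm_num) ?_ fun p hp hd => ?_⟩
  · rw [← QuotientGroup.mk_pow, hρ (show ρ (x ^ (13 * 5)) = ρ 1 by rw [map_pow, hx, map_one]; exact (h.pow hP).1)]; rfl
  · rcases (Nat.Prime.dvd_mul hp).1 hd with e | e <;> rw [(Nat.prime_dvd_prime_iff_eq hp (by norm_num)).1 e]
    exacts [k 5 (by simp), k 13 (by simp)]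

theorem Chk.sl [Fintype F] {A N} (h : Chk K P n A N) (hF : (Fintype.card F - 1).Coprime 130) :
    ∃ z : ProjectiveSpecialLinearGroup (Fin n) F, orderOf z = 13 * 5 :=
  h.order hP (Cfsg.slToMat n F) (fun _ _ e => Subtype.ext e) ⟨_, (h.det hP hF).1⟩ ⟨_, (h.det hP hF).2⟩ rfl rfl

theorem mem_sp {m : ℕ} {A : List (List ℕ)} (h : Bd K (m + m) A)
    (e : mm K P (m + m) A (tab (m + m) fun i j => en A j ((i + m) % (m + m))) =
      tab (m + m) fun i j => if j = (i + m) % (m + m) then 1 else 0) :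
    (mat a (m + m) A).submatrix finSumFinEquiv finSumFinEquiv ∈ symplecticGroup (Fin m) F := by
  have e' := congrArg (mat a (m + m)) e
  rw [mat_mm hP h] at e'
  have k1 : ∀ i : Fin m, ((Fin.castAdd m i : Fin (m + m)) + m : ℕ) % (m + m) = (Fin.natAdd m i : Fin (m + m)) :=
    fun i => by simp [Nat.mod_eq_of_lt, add_comm]
  have k2 : ∀ i : Fin m, ((Fin.natAdd m i : Fin (m + m)) + m : ℕ) % (m + m) = (Fin.castAdd m i : Fin (m + m)) :=
    fun i => by
      rw [Fin.val_natAdd, Fin.val_castAdd, show m + i + m = i + (m + m) by ring, Nat.add_mod_right,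
        Nat.mod_eq_of_lt (by omega)]
  have hJ : J (Fin m) F = (mat a (m + m) (tab (m + m) fun i j => if j = (i + m) % (m + m) then 1 else 0)).submatrix
      finSumFinEquiv finSumFinEquiv := by
    ext (i | i) (j | j) <;> simp only [submatrix_apply, mat, of_apply, en_tab, finSumFinEquiv_apply_left,
      finSumFinEquiv_apply_right, k1, k2, Fin.val_inj] <;>
      simp [J, one_apply, apply_ite (ev a), Fin.ext_iff, eq_comm, CharTwo.neg_eq] <;> omega
  rw [SymplecticGroup.mem_iff, mul_assoc]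
  conv_rhs => rw [hJ, ← e', ← submatrix_mul_equiv _ _ _ finSumFinEquiv]
  congr 1
  ext (i | i) j <;> simp only [submatrix_apply, mat, of_apply, en_tab, finSumFinEquiv_apply_left,
    finSumFinEquiv_apply_right, k1, k2] <;> simp [J, mul_apply, one_apply, CharTwo.neg_eq]

theorem Chk.sp {m : ℕ} {A N} (h : Chk K P (m + m) A N)
    (e : ∀ B ∈ [A, N], mm K P (m + m) B (tab (m + m) fun i j => en B j ((i + m) % (m + m))) =
      tab (m + m) fun i j => if j = (i + m) % (m + m) then 1 else 0) : ∃ z : Cfsg.PSp m F, orderOf z = 13 * 5 :=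
  h.order hP ((reindexAlgEquiv F F finSumFinEquiv).toMonoidHom.comp (symplecticGroup (Fin m) F).subtype)
    ((reindexAlgEquiv F F finSumFinEquiv).injective.comp Subtype.val_injective)
    ⟨_, mem_sp hP h.1 (e _ (by simp))⟩ ⟨_, mem_sp hP h.2.1 (e _ (by simp))⟩ (by simp) (by simp)

theorem mem_su {A : List (List ℕ)} (h : Bd K n A) (hd : (mat a n A).det = 1)
    (e : mm K P n (tab n fun i j => en A j i) (tab n fun i j => (gm K P K (en A i j))^[8] 1) = id1 n) :
    (⟨mat a n A, hd⟩ : SpecialLinearGroup (Fin n) F) ∈ Cfsg.SU n F 8 := by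
  have e' := congrArg (mat a n) e
  have k : mat a n (tab n fun i j => (gm K P K (en A i j))^[8] 1) = (mat a n A).map (iterateFrobenius F 2 3) := by
    ext i j
    simp [mat, en_tab, ev_gm hP (h i i.2 j j.2), iterateFrobenius_def, pow_succ, mul_assoc]
  rw [mat_mm hP (fun i hi j hj => by rw [en_tab _ ⟨i, hi⟩ ⟨j, hj⟩]; exact h j hj i hi), mat_tr, mat_id, k] at e'
  intro u v
  have k2 : ∀ u v : Fin n → F, Cfsg.hermForm n F 8 u v = u ⬝ᵥ (iterateFrobenius F 2 3 ∘ v) := fun _ _ => rfl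
  change Cfsg.hermForm n F 8 (mat a n A *ᵥ u) (mat a n A *ᵥ v) = _
  rw [k2, k2, show iterateFrobenius F 2 3 ∘ (mat a n A *ᵥ v) = _ from funext (RingHom.map_mulVec _ _ _),
    dotProduct_mulVec, vecMul_mulVec, e', vecMul_one]

theorem Chk.su [Fintype F] {A N} (h : Chk K P n A N) (hF : (Fintype.card F - 1).Coprime 130)
    (e : ∀ B ∈ [A, N], mm K P n (tab n fun i j => en B j i) (tab n fun i j => (gm K P K (en B i j))^[8] 1) = id1 n) :
    ∃ z : Cfsg.PSU n F 8, orderOf z = 13 * 5 :=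
  h.order hP ((Cfsg.slToMat n F).comp (Cfsg.SU n F 8).subtype) (fun _ _ e => Subtype.ext (Subtype.ext e))
    ⟨_, mem_su hP h.1 (h.det hP hF).1 (e _ (by simp))⟩ ⟨_, mem_su hP h.2.1 (h.det hP hF).2 (e _ (by simp))⟩ rfl rfl

omit hP

theorem exists8 [Fintype F] (h : Fintype.card F = 8) : ∃ a : F, ev a 11 = 0 := by
  obtain ⟨g, hg⟩ : ∃ g : Fˣ, orderOf g = 7 := by
    obtain ⟨g, hg⟩ := IsCyclic.exists_ofOrder_eq_natCard (α := Fˣ)
    exact ⟨g, by rw [hg, Nat.card_units, Nat.card_eq_fintype_card, h]⟩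
  have h1 : (g : F) ^ 7 = 1 := by rw [← Units.val_pow_eq_pow_val, ← hg, pow_orderOf_eq_one, Units.val_one]
  have h2 : (g : F) - 1 ≠ 0 := fun e => by simp [Units.ext (sub_eq_zero.1 e : (g : F) = (1 : Fˣ))] at hg
  have t := CharTwo.two_eq_zero (R := F)
  have e : ∀ a : F, ev a 11 = 1 + a + a ^ 3 := fun a => by
    rw [ev_two_mul_add a 5, ev_two_mul_add a 2, ev_two_mul a 1, ev_one]; ring
  rcases mul_eq_zero.1 ((mul_eq_zero.1 (show ((g : F) - 1) * ((1 + g + g ^ 3) * (1 + g ^ 2 + g ^ 3)) = 0 by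
    linear_combination h1 + ((g : F) ^ 4 - g ^ 3) * t)).resolve_left h2) with h3 | h3
  · exact ⟨g, (e _).trans h3⟩
  · exact ⟨g + 1, by rw [e]; linear_combination h3 + ((g : F) ^ 2 + 2 * g + 1) * t⟩

theorem exists64 [Fintype F] (h : Fintype.card F = 64) : ∃ a : F, ev a 73 = 0 := by
  obtain ⟨g, hg⟩ := IsCyclic.exists_ofOrder_eq_natCard (α := Fˣ)
  rw [Nat.card_units, Nat.card_eq_fintype_card, h] at hg
  have h1 : (g : F) ^ 63 = 1 := by rw [← Units.val_pow_eq_pow_val, show 63 = orderOf g from hg.symm,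
    pow_orderOf_eq_one, Units.val_one]
  have h2 : (g : F) ^ 21 - 1 ≠ 0 := fun e => by
    simpa [hg] using orderOf_dvd_of_pow_eq_one (Units.ext (sub_eq_zero.1 e) : g ^ 21 = 1)
  refine ⟨g ^ 7, (mul_eq_zero.1 ?_).resolve_left h2⟩
  rw [ev_two_mul_add _ 36, ev_two_mul _ 18, ev_two_mul _ 9, ev_two_mul_add _ 4, ev_two_mul _ 2, ev_two_mul _ 1, ev_one]
  linear_combination h1

end GF

open GF in
theorem e7_two {F₈ F₆₄ : Type*} [Field F₈] [Fintype F₈] (h8 : Fintype.card F₈ = 8) [Field F₆₄] [Fintype F₆₄]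
    (h64 : Fintype.card F₆₄ = 64) (H : Subgroup ↥(Cfsg.Lie.chevE7.group (ZMod 2))) :
    IsEmpty (↥H ≃* Matrix.ProjectiveSpecialLinearGroup (Fin 2) F₆₄) ∧ IsEmpty (↥H ≃* Cfsg.PSp 2 F₈) ∧
    IsEmpty (↥H ≃* Matrix.ProjectiveSpecialLinearGroup (Fin 4) F₈) ∧ IsEmpty (↥H ≃* Cfsg.PSU 4 F₆₄ 8) ∧
    IsEmpty (↥H ≃* Cfsg.PSp 3 F₈) := by
  haveI : CharP F₈ 2 := charP_of_card Nat.prime_two (n := 3) h8
  haveI : CharP F₆₄ 2 := charP_of_card Nat.prime_two (n := 6) h64
  obtain ⟨a, ha⟩ := exists8 h8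
  obtain ⟨b, hb⟩ := exists64 h64
  refine ⟨⟨fun e => ?_⟩, ⟨fun e => ?_⟩, ⟨fun e => ?_⟩, ⟨fun e => ?_⟩, ⟨fun e => ?_⟩⟩
  · obtain ⟨z, hz⟩ := Chk.sl hb (K := 6) (n := 2) (A := [[0, 1], [1, 3]]) (N := [[1, 1], [0, 1]]) (by decide +kernel)
      (by rw [h64]; norm_num)
    exact Chev.e7_no65 (e.symm z) (by rw [Subgroup.orderOf_coe, MulEquiv.orderOf_eq, hz])
  · obtain ⟨z, hz⟩ := Chk.sp ha (K := 3) (m := 2) (A := [[3, 3, 3, 4], [7, 7, 5, 4], [3, 1, 2, 2], [0, 5, 3, 4]])
      (N := [[1, 0, 1, 0], [0, 1, 0, 0], [0, 0, 1, 0], [0, 0, 0, 1]]) (by decide +kernel) (by decide +kernel)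
    exact Chev.e7_no65 (e.symm z) (by rw [Subgroup.orderOf_coe, MulEquiv.orderOf_eq, hz])
  · obtain ⟨z, hz⟩ := Chk.sl ha (K := 3) (n := 4) (A := [[3, 3, 3, 4], [7, 7, 5, 4], [3, 1, 2, 2], [0, 5, 3, 4]])
      (N := [[1, 0, 1, 0], [0, 1, 0, 0], [0, 0, 1, 0], [0, 0, 0, 1]]) (by decide +kernel) (by rw [h8]; norm_num)
    exact Chev.e7_no65 (e.symm z) (by rw [Subgroup.orderOf_coe, MulEquiv.orderOf_eq, hz])
  · obtain ⟨z, hz⟩ := Chk.su hb (K := 6) (n := 4) (A := [[36, 7, 10, 9], [37, 37, 7, 25], [43, 10, 8, 29], [2, 12, 4, 30]])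
      (N := [[0, 1, 0, 0], [1, 0, 0, 0], [0, 0, 1, 0], [0, 0, 0, 1]]) (by decide +kernel) (by rw [h64]; norm_num)
      (by decide +kernel)
    exact Chev.e7_no65 (e.symm z) (by rw [Subgroup.orderOf_coe, MulEquiv.orderOf_eq, hz])
  · obtain ⟨z, hz⟩ := Chk.sp ha (K := 3) (m := 3) (A := [[3, 3, 0, 3, 4, 0], [7, 7, 0, 5, 4, 0], [0, 0, 1, 0, 0, 0],
      [3, 1, 0, 2, 2, 0], [0, 5, 0, 3, 4, 0], [0, 0, 0, 0, 0, 1]]) (N := [[1, 0, 0, 1, 0, 0], [0, 1, 0, 0, 0, 0],
      [0, 0, 1, 0, 0, 0], [0, 0, 0, 1, 0, 0], [0, 0, 0, 0, 1, 0], [0, 0, 0, 0, 0, 1]]) (by decide +kernel)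
      (by decide +kernel)
    exact Chev.e7_no65 (e.symm z) (by rw [Subgroup.orderOf_coe, MulEquiv.orderOf_eq, hz])

end CfsgH6
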