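import Cfsg.Agent.H6.Ree5

/-! Two-generation of `²G₂(q)`. -/

set_option autoImplicit false

namespace CfsgH6

open Finset Cfsg.Lie

theorem ree_gen {K : Type*} [Field K] {ϑ : K ≃+* K} [Finite K] [CharP K 3] (h : ∀ t, ϑ (ϑ t) = t ^ 3)
    (hK : ∃ c : K, c ^ 3 ≠ c) (S : Set (K × K × K)) (mul : ∀ x ∈ S, ∀ y ∈ S, rP ϑ x y ∈ S)
    (eqv : ∀ s, s ≠ 0 → ∀ x ∈ S, rH ϑ s x ∈ S) {x₀ : K × K × K} (h0 : x₀ ∈ S) (hx : x₀.1 ≠ 0) (x : K × K × K) :
    x ∈ S := by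
  have h3 : (3 : K) = 0 := CharP.cast_eq_zero K 3
  have a1 : ∀ t, t ≠ 0 → ∃ u v, (t, u, v) ∈ S := fun t ht =>
    ⟨_, _, by
      have := eqv (t / x₀.1) (div_ne_zero ht hx) _ h0
      rwa [rH, div_mul_cancel₀ _ hx] at this⟩
  have a3' : ∀ w, w ≠ 0 → ((0, 0, w) : K × K × K) ∈ S := fun w hw => by
    obtain ⟨t, ht⟩ := Finite.surjective_of_injective (ree_inj h) (-w)
    have ht0 : t ≠ 0 := by
      rintro rfl
      exact hw (by simpa using ht)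
    obtain ⟨u, v, e⟩ := a1 t ht0
    have := mul _ (mul _ e _ e) _ e
    rw [rP_cube] at this
    simp only at this ht
    rwa [ht, neg_neg] at this
  have a3 : ∀ w, ((0, 0, w) : K × K × K) ∈ S := fun w => by
    by_cases hw : w = 0
    · have := mul _ (a3' 1 one_ne_zero) _ (a3' (-1) (neg_ne_zero.2 one_ne_zero))
      simpa [rP, hw] using this
    · exact a3' w hw
  have add : ∀ a b : K, (∃ v, ((0, a, v) : K × K × K) ∈ S) → (∃ v, ((0, b, v) : K × K × K) ∈ S) →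
      ∃ v, ((0, a + b, v) : K × K × K) ∈ S := fun a b ⟨v, e⟩ ⟨w, f⟩ =>
    ⟨_, by simpa [rP] using mul _ e _ f⟩
  have sq : ∀ a r : K, (∃ v, ((0, a, v) : K × K × K) ∈ S) → ∃ v, ((0, r ^ 2 * a, v) : K × K × K) ∈ S :=
    fun a r ⟨v, e⟩ => by
      by_cases hr : r = 0
      · exact ⟨0, by simpa [hr] using a3 0⟩
      have hr' : ϑ r ≠ 0 := by simpa using hr
      have := eqv (ϑ r / r) (div_ne_zero hr' hr) _ e
      rw [rH, map_div₀, h, show ϑ r / r * (r ^ 3 / ϑ r) = r ^ 2 by field_simp, mul_zero] at this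
      exact ⟨_, this⟩
  obtain ⟨c, hc⟩ : ∃ c : K, ϑ c ≠ c := by
    by_contra! e
    obtain ⟨c, hc⟩ := hK
    exact hc (by rw [← h, e, e])
  have hc0 : c ≠ 0 := by
    rintro rfl
    simp at hc
  have a2' : ∃ v, ((0, ϑ c - c, v) : K × K × K) ∈ S := by
    obtain ⟨u, v, e⟩ := a1 c hc0
    obtain ⟨u', v', f⟩ := a1 1 one_ne_zero
    have := mul _ (mul _ e _ f) _ (mul _ (mul _ f _ e) _ (mul _ f _ e))
    generalize hz : rP ϑ (rP ϑ (c, u, v) (1, u', v'))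
      (rP ϑ (rP ϑ (1, u', v') (c, u, v)) (rP ϑ (1, u', v') (c, u, v))) = z at this
    have e1 : z.1 = 0 := by
      simp only [← hz, rP]
      linear_combination (c + 1) * h3
    have e2 : z.2.1 = ϑ c - c := by
      simp only [← hz, rP, map_add, map_one]
      linear_combination (u + u' - ϑ c - (1 + c) * (1 + ϑ c)) * h3
    exact ⟨z.2.2, by rw [← e1, ← e2]; exact this⟩
  have a2 : ∀ a : K, ∃ v, ((0, a, v) : K × K × K) ∈ S := fun a => by
    have hd : ϑ c - c ≠ 0 := sub_ne_zero.2 hc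
    have e1 := sq _ (a / (ϑ c - c) + 1) a2'
    have e2 := sq _ (a / (ϑ c - c) - 1) a2'
    have := add _ _ e1 (add _ _ e2 e2)
    rwa [show (a / (ϑ c - c) + 1) ^ 2 * (ϑ c - c) + ((a / (ϑ c - c) - 1) ^ 2 * (ϑ c - c) +
      (a / (ϑ c - c) - 1) ^ 2 * (ϑ c - c)) = a by
        have e := div_mul_cancel₀ a hd
        generalize a / (ϑ c - c) = z at e ⊢
        linear_combination e + ((z ^ 2 + 1 - z) * (ϑ c - c)) * h3] at this
  have a1' : ∀ t, ∃ u v, (t, u, v) ∈ S := fun t => by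
    by_cases ht : t = 0
    · exact ⟨0, 0, ht ▸ a3 0⟩
    · exact a1 t ht
  obtain ⟨t, u, v⟩ := x
  obtain ⟨u', v', e⟩ := a1' t
  obtain ⟨v'', f⟩ := a2 (u - u')
  have := mul _ (mul _ e _ f) _ (a3 (v - v' - v''))
  refine (congrArg (· ∈ S) (Prod.ext ?_ (Prod.ext ?_ ?_))).mp this <;> simp [rP]

namespace Chev

open Good PreSt

namespace IsG2

variable {K : Type*} [Field K] {q : ℕ} {φ : K ≃+* K} {T : (gG2.adjG K).Tw} (h : IsG2 q φ T)
include h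

theorem two_gen [Finite K] (hq : Nat.card K % 4 = 3) (hK : ∃ c : K, c ^ 3 ≠ c) :
    ∃ a b : twistedG2 K q, Subgroup.closure ({a, b} : Set (twistedG2 K q)) = ⊤ := by
  haveI := h.ch
  haveI : Nonempty (Fin chevG2.rank) := ⟨g2i 0⟩
  have hX := gG2.isStG K
  have hi := h.set.ι_inj
  have hr := h.set.range_ι
  generalize h.set.ι = ι at hi hr
  change ι.range = T.M at hr
  obtain ⟨c₀, hc₀⟩ := IsCyclic.exists_generator (α := Kˣ)
  obtain ⟨n, hn, ha⟩ := Tw.exists_n hX h.ne T.w0_mem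
  obtain ⟨a, ea⟩ := Tw.exists_ι hr (h.hc_mem hq c₀)
  obtain ⟨b, eb⟩ := Tw.exists_ι hr (mul_mem (h.U3_mem (1, 0, 0)) (ir hn))
  refine ⟨a, b, ?_⟩
  set M := (Subgroup.closure ({a, b} : Set (twistedG2 K q))).map ι with hM
  have ha' : hc φ c₀ ∈ M := ea ▸ Subgroup.mem_map_of_mem _ (Subgroup.subset_closure (by simp))
  have hb' : U3 φ (1, 0, 0) * n ∈ M := eb ▸ Subgroup.mem_map_of_mem _ (Subgroup.subset_closure (by simp))
  have hH : ∀ c, hc φ c ∈ M := fun c => by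
    obtain ⟨k, rfl⟩ := hc₀ c
    simpa only [map_zpow] using zpow_mem ha' k
  obtain ⟨c, hc1⟩ := (h.H_eq hq).le (mi (hX.N_conj_mem_H (il hn) (il ((h.H_eq hq).ge ⟨c₀, rfl⟩)))
    (mul_mem (mul_mem (ir hn) (h.hc_mem hq c₀)) (inv_mem (ir hn))))
  have hc2 : c ≠ 1 := by
    rintro rfl
    rw [map_one, eq_comm, conj_eq_one_iff, map_eq_one_iff _ hc_inj] at hc1
    obtain ⟨k, hk⟩ := hc₀ (-1)
    exact h.neg_ne (by simpa [hc1] using hk.symm)
  obtain ⟨s, hs⟩ := h.exists_s c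
  have hs1 : s ≠ 1 := by
    rintro rfl
    exact hc2 (Units.ext (by simpa using hs))
  have hU : ∀ x, U3 φ x ∈ M := by
    have i1 : (U3 φ (1, 0, 0))⁻¹ = U3 φ (-1, -1, -2) := inv_eq_of_mul_eq_one_right (by
      rw [h.U3_mul, ← U3_zero (φ := φ)]
      congr 1
      simp only [rP, map_neg, map_one, Prod.ext_iff, Prod.fst_zero, Prod.snd_zero]
      refine ⟨?_, ?_, ?_⟩ <;> ring)
    refine ree_gen h.ϑϑ hK {x | U3 φ x ∈ M} (fun x hx y hy => ?_) (fun s hs x hx => ?_)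
      (x₀ := rP h.ϑ (1, 0, 0) (rH h.ϑ s (-1, -1, -2))) ?_ ?_
    · exact (congrArg (· ∈ M) (h.U3_mul x y)).mp (mul_mem hx hy)
    · have e : s ^ 2 * h.ϑ s ≠ 0 := by simpa using hs
      exact (congrArg (· ∈ M) (h.hc_U3 (Units.mk0 _ e) rfl x)).mp
        (mul_mem (mul_mem (hH _) hx) (inv_mem (hH _)))
    · have := mul_mem (mul_mem (mul_mem hb' ha') (inv_mem hb')) (inv_mem (hH c))
      refine (congrArg (· ∈ M) ?_).mp this
      rw [← h.U3_mul, ← h.hc_U3 c hs, ← i1, hc1]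
      group
    · simp only [rP, rH]
      exact fun e => hs1 (by linear_combination -e)
  have hn' : n ∈ M := by simpa using mul_mem (inv_mem (hU (1, 0, 0))) hb'
  have hB : ∀ g ∈ T.M, g ∈ (gG2.adjG K).B → g ∈ M := fun g hg hb => by
    obtain ⟨u, hu, d, hd, e⟩ := hX.mem_B.1 hb
    have := Tw.mem_Fix.1 (T.M_le_Fix hg)
    rw [e, map_mul] at this
    have hu' : u ∈ (gG2.adjG K).U ⊓ T.Fix := mi hu (hX.B_unique (T.σ_U hu) hu (T.σ_H hX hd) hd this).1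
    obtain ⟨x, rfl⟩ := (h.mem_U3 u).1 hu'
    obtain ⟨c, rfl⟩ := (h.H_eq hq).le (mi hd (by
      simpa [e] using mul_mem (inv_mem (h.U3_mem x)) hg))
    exact e ▸ mul_mem (hU x) (hH c)
  refine eq_top_iff.2 fun g _ => ?_
  suffices ι g ∈ M by
    obtain ⟨g', h1, h2⟩ := this
    exact hi h2 ▸ h1
  by_cases hb : ι g ∈ (gG2.adjG K).B
  · exact hB _ (Tw.ι_mem hr g) hb
  obtain ⟨u, hu, d, hd, e⟩ := Tw.rank1 hX h.ne h.orb' hn ha (Tw.ι_mem hr g) hb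
  obtain ⟨x, rfl⟩ := (h.mem_U3 u).1 hu
  rw [e]
  refine mul_mem (mul_mem (hU x) hn') (hB d ?_ hd)
  simpa [e, mul_assoc] using mul_mem (inv_mem (mul_mem (h.U3_mem x) (ir hn))) (Tw.ι_mem hr g)

end IsG2

end Chev

end CfsgH6
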