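import Cfsg.Agent.H6.TF4
import Cfsg.Agent.H6.Aut1

/-! Two-generation of `²F₄(q)`. -/

set_option autoImplicit false

namespace CfsgH6

open Finset Cfsg.Lie

namespace Chev

open Good PreSt

theorem act_xn {D : ChevalleyDatum} {g : Good D} {F : Type*} [Field F] {Γ : Type*} [Group Γ] {X : PreSt g.cd F Γ}
    {n : Γ} {w : Equiv.Perm (Fin D.nroots)} (ha : X.Act n w) {f : ℕ → ℕ} (hf : ∀ r : Fin D.nroots, (w r : ℕ) = f r)
    {r r' : ℕ} (hr : r < D.nroots ∧ f r = r') : ∃ c : F, c ≠ 0 ∧ ∀ u, n * xn X r u * n⁻¹ = xn X r' (c * u) := by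
  obtain ⟨c, hc, h, -⟩ := ha ⟨r, hr.1⟩
  exact ⟨c, hc, fun u => by rw [xn_lt _ hr.1, h, ← xn_val, hf, hr.2]⟩

namespace IsF4

variable {K : Type*} [Field K] {q : ℕ} {φ : K ≃+* K} {T : (gF4.adjG K).Tw}

/-- words in the `B₂` root class -/
def W4 (a b c d : K) : chevF4.group K := wd (gF4.adjG K) [(27, a), (25, b), (28, c), (30, d)]

variable (φ) in
/-- the Suzuki root elements -/
def SS (t u : K) : chevF4.group K := W4 (φ t) t (φ t * t + u) (φ u ^ 2)

variable (φ) in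
/-- the negative `A₁` root elements -/
def AA (t : K) : chevF4.group K := wd (gF4.adjG K) [(14, φ t), (23, t)]

variable (φ) in
/-- torus coordinates -/
def cc4 (x : Kˣ × Kˣ) : Fin chevF4.rank → Kˣ :=
  (![Units.map (φ : K →* K) x.1, Units.map (φ : K →* K) x.2, x.2, x.1] : Fin 4 → Kˣ)

variable (φ) in
/-- the torus -/
noncomputable def DD : Kˣ × Kˣ →* chevF4.group K := ((gF4.isStG K).hh (gF4.multG K)).comp
  (MonoidHom.mk' (cc4 φ) fun a b => funext fun i : Fin 4 => by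
    fin_cases i
    exacts [map_mul (Units.map (φ : K →* K)) _ _, map_mul (Units.map (φ : K →* K)) _ _, rfl, rfl])

theorem DD_xn (x : Kˣ × Kˣ) {r : ℕ} {a b c d : ℤ} (hr : r < chevF4.nroots ∧ chevF4.cartan (f4i 0) r = a ∧
    chevF4.cartan (f4i 1) r = b ∧ chevF4.cartan (f4i 2) r = c ∧ chevF4.cartan (f4i 3) r = d) (u : K) :
    DD φ x * xn (gF4.adjG K) r u * (DD φ x)⁻¹ =
      xn (gF4.adjG K) r (φ x.1 ^ a * φ x.2 ^ b * (x.2 : K) ^ c * (x.1 : K) ^ d * u) := by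
  obtain ⟨h, rfl, rfl, rfl, rfl⟩ := hr
  rw [xn_lt _ h, xn_lt _ h]
  refine ((gF4.isStG K).hh_conj (gF4.multG K) (cc4 φ x) _ u).trans ?_
  congr 2
  simp only [cd_A_sim]
  rw [show ∀ f : Fin chevF4.rank → Kˣ, ∏ i, f i = f (f4i 0) * f (f4i 1) * f (f4i 2) * f (f4i 3) from
    fun f => Fin.prod_univ_four f]
  simp [cc4, f4i]

theorem W4_mul [CharP K 2] (a b c d a' b' c' d' : K) :
    W4 a b c d * W4 a' b' c' d' = W4 (a + a') (b + b') (c + c' + a' * b) (d + d' + a' ^ 2 * b) := by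
  obtain ⟨f, hf⟩ := exists_val fun p => if p = 2 then a else if p = 3 then b else if p = 5 then c else
    if p = 7 then d else if p = 11 then a' else if p = 13 then b' else if p = 17 then c' else d'
  have := cEq_sound (gF4.adjG K) (ctxP_sound (CharP.cast_eq_zero K 2) f)
    (w := [(27, [(1, 2)]), (25, [(1, 3)]), (28, [(1, 5)]), (30, [(1, 7)]),
      (27, [(1, 11)]), (25, [(1, 13)]), (28, [(1, 17)]), (30, [(1, 19)])])
    (w' := [(27, [(1, 2), (1, 11)]), (25, [(1, 3), (1, 13)]), (28, [(1, 5), (1, 17), (1, 11 * 3)]),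
      (30, [(1, 7), (1, 19), (1, 11 ^ 2 * 3)])]) (by decide +kernel)
  simp only [evX_cons, evX_nil, evP_cons, evP_nil, map_mul, map_pow, hf 2 (by norm_num), hf 3 (by norm_num),
    hf 5 (by norm_num), hf 7 (by norm_num), hf 11 (by norm_num), hf 13 (by norm_num), hf 17 (by norm_num),
    hf 19 (by norm_num)] at this
  simpa [W4, mul_assoc, add_assoc] using this

theorem W4_comm [CharP K 2] (a b c : K) : W4 1 1 1 0 * wd (gF4.adjG K) [(35, a), (31, b), (40, c)] =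
    wd (gF4.adjG K) [(37, a), (32, b)] * wd (gF4.adjG K) [(35, a), (31, b), (40, c)] * W4 1 1 1 0 := by
  obtain ⟨f, hf⟩ := exists_val fun p => if p = 2 then a else if p = 3 then b else c
  have := cEq_sound (gF4.adjG K) (ctxP_sound (CharP.cast_eq_zero K 2) f)
    (w := [(27, [(1, 1)]), (25, [(1, 1)]), (28, [(1, 1)]), (35, [(1, 2)]), (31, [(1, 3)]), (40, [(1, 5)])])
    (w' := [(37, [(1, 2)]), (32, [(1, 3)]), (35, [(1, 2)]), (31, [(1, 3)]), (40, [(1, 5)]),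
      (27, [(1, 1)]), (25, [(1, 1)]), (28, [(1, 1)])]) (by decide +kernel)
  simp only [evX_cons, evX_nil, evP_cons, evP_nil, map_one, hf 2 (by norm_num), hf 3 (by norm_num),
    hf 5 (by norm_num)] at this
  simpa [W4, mul_assoc] using this

variable (h : IsF4 q φ T)
include h

theorem eq_SS {a t c d : K} (hf : W4 a t c d ∈ T.Fix) : W4 a t c d = SS φ t (c - φ t * t) := by
  obtain ⟨t', u', e⟩ := (h.p1 _).1 (mi ((mem_XP_iff _ (L := [27, 25, 28, 30]) (by decide +kernel)).2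
    ⟨fun r => if r = 27 then a else if r = 25 then t else if r = 28 then c else d, rfl⟩) hf)
  have := wd_inj _ (gF4.isStG K).sep1 1 (L := [27, 25, 28, 30]) (by decide +kernel)
    (w := [(27, a), (25, t), (28, c), (30, d)]) rfl rfl e
  simp only [List.cons.injEq, Prod.mk.injEq, true_and, and_true] at this
  obtain ⟨rfl, rfl, rfl, rfl⟩ := this
  simp [SS]

theorem eq_AA {a t : K} (hf : wd (gF4.adjG K) [(14, a), (23, t)] ∈ T.Fix) :
    wd (gF4.adjG K) [(14, a), (23, t)] = AA φ t := by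
  obtain ⟨t', e⟩ := (h.m0 _).1 (mi ((mem_XM_iff _ (L := [14, 23]) (by decide +kernel)).2
    ⟨fun r => if r = 14 then a else t, rfl⟩) hf)
  have := wd_inj _ (gF4.isStG K).sep1 (-1) (L := [14, 23]) (by decide +kernel) (w := [(14, a), (23, t)]) rfl rfl e
  simp only [List.cons.injEq, Prod.mk.injEq, true_and, and_true] at this
  obtain ⟨rfl, rfl⟩ := this
  rfl

theorem SS_mul (t u t' u' : K) : SS φ t u * SS φ t' u' = SS φ (t + t') (u + u' - φ t * t') := by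
  haveI := h.ch
  have hf := T.M_le_Fix (mul_mem (h.mem1p t u) (h.mem1p t' u'))
  change SS φ t u * SS φ t' u' ∈ _ at hf
  rw [SS, SS, W4_mul] at hf ⊢
  rw [h.eq_SS hf]
  congr 1
  rw [map_add]
  ring

theorem mem_HM [Finite K] (y) : y ∈ (gF4.adjG K).H ⊓ T.M ↔ ∃ x, DD φ x = y := by
  rw [h.H_eq]
  constructor
  · rintro ⟨c, hc, rfl⟩
    rw [h.π] at hc
    refine ⟨(c (f4i 3), c (f4i 2)), congrArg ((gF4.isStG K).hh (gF4.multG K))
      (show cc4 φ (c (f4i 3), c (f4i 2)) = c from funext fun i : Fin 4 => ?_)⟩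
    have h3 := hc (f4i 3)
    have h2 := hc (f4i 2)
    rw [fe_apply _ (eF4_ne _)] at h2 h3
    fin_cases i
    · exact Units.ext ((pow_one _).symm.trans h3.symm)
    · exact Units.ext ((pow_one _).symm.trans h2.symm)
    · rfl
    · rfl
  · rintro ⟨x, rfl⟩
    refine ⟨cc4 φ x, ?_, rfl⟩
    rw [h.π]
    intro i
    refine Eq.trans ?_ (fe_apply _ (eF4_ne _) _).symm
    revert i
    intro (i : Fin 4)
    fin_cases i
    · exact (h.q2 _).symm
    · exact (h.q2 _).symm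
    · exact (pow_one _).symm
    · exact (pow_one _).symm

theorem DD_W4 (x : Kˣ × Kˣ) (a b c d : K) : DD φ x * W4 a b c d * (DD φ x)⁻¹ =
    W4 ((φ x.1)⁻¹ * φ x.2 ^ 2 * (x.2 : K)⁻¹ * a) ((φ x.2 ^ 2)⁻¹ * (x.2 : K) ^ 2 * (x.1 : K)⁻¹ * b)
      ((φ x.1)⁻¹ * x.2 * (x.1 : K)⁻¹ * c) ((φ x.1 ^ 2)⁻¹ * φ x.2 ^ 2 * (x.1 : K)⁻¹ * d) := by
  simp only [W4, wd_cons, wd_nil, mul_one, ← conj_mul]
  rw [DD_xn x (a := -1) (b := 2) (c := -1) (d := 0) (by decide +kernel),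
    DD_xn x (a := 0) (b := -2) (c := 2) (d := -1) (by decide +kernel),
    DD_xn x (a := -1) (b := 0) (c := 1) (d := -1) (by decide +kernel),
    DD_xn x (a := -2) (b := 2) (c := 0) (d := -1) (by decide +kernel)]
  simp [zpow_ofNat]

theorem DD_SS [Finite K] (s : Kˣ) (t u : K) : ∃ u', DD φ (s⁻¹, 1) * SS φ t u * (DD φ (s⁻¹, 1))⁻¹ = SS φ (s * t) u' := by
  have h1 := T.M_le_Fix (ir ((h.mem_HM _).2 ⟨(s⁻¹, 1), rfl⟩))
  have hf := mul_mem (mul_mem h1 (T.M_le_Fix (h.mem1p t u))) (inv_mem h1)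
  change _ * SS φ t u * _ ∈ _ at hf
  rw [SS, h.DD_W4] at hf ⊢
  rw [h.eq_SS hf]
  exact ⟨_, by simp; rfl⟩

theorem DD_AA [Finite K] (s : Kˣ) (t : K) : DD φ (1, s) * AA φ t * (DD φ (1, s))⁻¹ = AA φ (s * t) := by
  have h1 := T.M_le_Fix (ir ((h.mem_HM _).2 ⟨(1, s), rfl⟩))
  have hf := mul_mem (mul_mem h1 (T.M_le_Fix (h.mem0m t))) (inv_mem h1)
  change _ * AA φ t * _ ∈ _ at hf
  have e : DD φ (1, s) * AA φ t * (DD φ (1, s))⁻¹ = wd (gF4.adjG K) [(14, φ s * φ t), (23, s * t)] := by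
    simp only [AA, wd_cons, wd_nil, mul_one, ← conj_mul]
    rw [DD_xn _ (a := -2) (b := 1) (c := 0) (d := 0) (by decide +kernel),
      DD_xn _ (a := 0) (b := 0) (c := 1) (d := -2) (by decide +kernel)]
    simp
  rw [e] at hf ⊢
  exact h.eq_AA hf

omit h in
variable (φ) in
/-- the torus centralizing the Suzuki root group -/
def t2 : Kˣ →* Kˣ × Kˣ := MonoidHom.mk' (fun t => (t ^ 2 * (Units.map (φ : K →* K) t ^ 2)⁻¹, t)) fun a b => by
  simp [mul_pow, mul_mul_mul_comm, mul_comm]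

theorem φφ (t : K) : φ (φ t ^ 2) = t := by rw [map_pow, h.q2]

theorem t2_SS (t : Kˣ) : DD φ (t2 φ t) * SS φ 1 0 * (DD φ (t2 φ t))⁻¹ = SS φ 1 0 := by
  have h1 : φ t ≠ 0 := by simp
  have h2 := t.ne_zero
  rw [SS, h.DD_W4]
  simp only [t2, MonoidHom.mk'_apply, Units.val_mul, Units.val_pow_eq_pow_val, Units.val_inv_eq_inv_val,
    Units.coe_map, MonoidHom.coe_coe, map_mul, map_inv₀, h.φφ, map_one, map_zero]
  rw [map_pow]
  congr 1 <;> field_simp

theorem t2_31 (t : Kˣ) (u : K) : DD φ (t2 φ t) * xn (gF4.adjG K) 31 u * (DD φ (t2 φ t))⁻¹ =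
    xn (gF4.adjG K) 31 (t ^ 3 * (φ t ^ 4)⁻¹ * u) := by
  have h1 : φ t ≠ 0 := by simp
  have h2 := t.ne_zero
  rw [DD_xn _ (a := -2) (b := 2) (c := -1) (d := 1) (by decide +kernel)]
  simp only [t2, MonoidHom.mk'_apply, Units.val_mul, Units.val_pow_eq_pow_val, Units.val_inv_eq_inv_val,
    Units.coe_map, MonoidHom.coe_coe, map_mul, map_inv₀, h.φφ]
  rw [map_pow]
  congr 2
  simp only [zpow_neg, zpow_ofNat]
  field_simp

theorem surj31 [Finite K] (z : Kˣ) : ∃ t : Kˣ, (t : K) ^ 3 * (φ t ^ 4)⁻¹ = z := by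
  let f : Kˣ →* Kˣ := MonoidHom.mk' (fun t => t ^ 3 * (Units.map (φ : K →* K) t ^ 4)⁻¹) fun a b => by
    simp [mul_pow, mul_mul_mul_comm, mul_comm]
  obtain ⟨t, rfl⟩ := Finite.surjective_of_injective ((injective_iff_map_eq_one f).2 fun t ht => by
    have e : (t : K) ^ 3 = φ t ^ 4 := by simpa [f, mul_inv_eq_one] using congrArg Units.val (mul_inv_eq_one.1 ht)
    have e2 : φ t ^ 3 = (t : K) ^ 2 := by
      have := congrArg φ e
      rwa [map_pow, show φ t ^ 4 = (φ t ^ 2) ^ 2 by ring, map_pow, h.φφ] at this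
    have e3 : (t : K) ^ 8 * t = t ^ 8 * 1 := by
      calc (t : K) ^ 8 * t = (t ^ 3) ^ 3 := by ring
        _ = (φ t ^ 3) ^ 4 := by rw [e]; ring
        _ = _ := by rw [e2]; ring
    exact Units.ext (mul_left_cancel₀ (pow_ne_zero _ t.ne_zero) e3)) z
  exact ⟨t, by simp [f]⟩

theorem surj_sq [Finite K] (w : K) : ∃ t, φ t * t = w := by
  by_cases hw : w = 0
  · exact ⟨0, by simp [hw]⟩
  let f : Kˣ →* Kˣ := MonoidHom.mk' (fun t => Units.map (φ : K →* K) t * t) fun a b => by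
    simp [mul_mul_mul_comm]
  obtain ⟨t, ht⟩ := Finite.surjective_of_injective ((injective_iff_map_eq_one f).2 fun t ht => by
    have e : φ t * t = 1 := by simpa [f] using congrArg Units.val ht
    have e1 := congrArg (fun x => φ x ^ 2) e
    simp only [map_mul, mul_pow, h.q2, map_one, one_pow] at e1
    have e2 : φ t = 1 := by linear_combination e1 - φ t * e
    exact Units.ext (by simpa [e2] using e)) (Units.mk0 w hw)
  exact ⟨t, by simpa [f] using congrArg Units.val ht⟩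

omit h in
theorem x25_inj {a b : K} (e : xn (gF4.adjG K) 25 a = xn (gF4.adjG K) 25 b) : a = b := by
  have := wd_inj _ (gF4.isStG K).sep1 1 (L := [25]) (by decide +kernel) (w := [(25, a)]) (w' := [(25, b)]) rfl rfl
    (by simpa using e)
  simpa using this

theorem SS_zero : SS φ 0 0 = 1 := by simp [SS, W4]

theorem two_gen [Finite K] (hK : ∃ c : Kˣ, c ≠ 1) :
    ∃ a b : twistedF4 K q, Subgroup.closure ({a, b} : Set (twistedF4 K q)) = ⊤ := by
  haveI := h.ch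
  have h2 : (2 : K) = 0 := CharP.cast_eq_zero K 2
  have hX := gF4.isStG K
  have hi := h.set.ι_inj
  have hr := h.set.range_ι
  generalize h.set.ι = ι at hi hr
  change ι.range = T.M at hr
  obtain ⟨g, hg⟩ := IsCyclic.exists_generator (α := Kˣ)
  obtain ⟨n1, hn1, ha1⟩ := Tw.exists_n_orb hX h.ne (f4i 1)
  obtain ⟨n0, hn0, ha0⟩ := Tw.exists_n_orb hX h.ne (f4i 0)
  rw [h.orb, gF4.lg_eq_wp _ (wl 1) (by decide) (by decide +kernel)] at ha1
  rw [h.orb, gF4.lg_eq_wp _ (wl 0) (by decide) (by decide +kernel)] at ha0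
  have hn := mul_mem hn1 hn0
  have ha := ha1.mul ha0
  generalize n1 * n0 = n at hn ha
  let f : ℕ → ℕ := fun r => actL gF4.T ((wl 1).map Fin.val) (actL gF4.T ((wl 0).map Fin.val) r)
  have hf : ∀ r : Fin chevF4.nroots, ((((gF4.cd.EW.wp (wl 1)).1 * (gF4.cd.EW.wp (wl 0)).1) r : Fin _) : ℕ) = f r :=
    fun r => by rw [Equiv.Perm.mul_apply, ← gF4.actL_eq, ← gF4.actL_eq]
  generalize (gF4.cd.EW.wp (wl 1)).1 * (gF4.cd.EW.wp (wl 0)).1 = w at ha hf
  have ha4 := (ha.mul ha).mul (ha.mul ha)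
  have hf4 : ∀ r : Fin chevF4.nroots, ((w * w * (w * w)) r : ℕ) = (fun r => f (f (f (f r)))) r := fun r => by
    simp only [Equiv.Perm.mul_apply, hf]
  have hS : ∀ t u, SS φ t u ∈ T.M := h.mem1p
  have hD : ∀ x, DD φ x ∈ (gF4.adjG K).H ⊓ T.M := fun x => (h.mem_HM _).2 ⟨x, rfl⟩
  have hnD : ∀ x, n⁻¹ * DD φ x * n ∈ (gF4.adjG K).H ⊓ T.M := fun x =>
    mi (by simpa using ha.inv.conj_mem_H (il (hD x))) (mul_mem (mul_mem (inv_mem (ir hn)) (ir (hD x))) (ir hn))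
  obtain ⟨a, ea⟩ := Tw.exists_ι hr (ir (hnD (t2 φ g)))
  obtain ⟨b, eb⟩ := Tw.exists_ι hr (mul_mem (hS 1 0) (ir hn))
  refine ⟨a, b, ?_⟩
  set M := (Subgroup.closure ({a, b} : Set (twistedF4 K q))).map ι with hM
  have ha' : n⁻¹ * DD φ (t2 φ g) * n ∈ M := ea ▸ Subgroup.mem_map_of_mem _ (Subgroup.subset_closure (by simp))
  have hb' : SS φ 1 0 * n ∈ M := eb ▸ Subgroup.mem_map_of_mem _ (Subgroup.subset_closure (by simp))
  have hMT : M ≤ T.M := hr ▸ Subgroup.map_le_range _ _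
  clear_value M
  have k1 : ∀ t, n⁻¹ * DD φ (t2 φ t) * n ∈ M := fun t => by
    obtain ⟨k, rfl⟩ := hg t
    have := zpow_mem ha' k
    rw [show ∀ d : chevF4.group K, n⁻¹ * d * n = n⁻¹ * d * n⁻¹⁻¹ from fun d => by rw [inv_inv], conj_zpow,
      inv_inv] at this
    simpa only [map_zpow] using this
  have k2 : ∀ t, DD φ (t2 φ t) ∈ M := fun t => by
    refine (congrArg (· ∈ M) ?_).mp (mul_mem (mul_mem hb' (k1 t)) (inv_mem hb'))
    have := mul_inv_eq_iff_eq_mul.1 (h.t2_SS t)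
    calc _ = (SS φ 1 0 * DD φ (t2 φ t)) * (SS φ 1 0)⁻¹ := by group
      _ = _ := by rw [← this, mul_inv_cancel_right]
  have k3 : ∀ x, DD φ x ∈ M := fun ⟨s, t⟩ => by
    obtain ⟨t₁, e1⟩ := h.surj31 ((Units.map (φ : K →* K) t ^ 2)⁻¹ * t ^ 2 * s⁻¹)
    obtain ⟨⟨s₂, t₂⟩, e2⟩ := (h.mem_HM _).1 (hnD (t2 φ t₁))
    obtain ⟨c, hc, e3⟩ := act_xn ha hf (r := 25) (r' := 31) (by decide +kernel)
    have e4 := DD_xn (φ := φ) (s₂, t₂) (r := 25) (a := 0) (b := -2) (c := 2) (d := -1) (by decide +kernel) 1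
    rw [e2, show ∀ d x : chevF4.group K, n⁻¹ * d * n * x * (n⁻¹ * d * n)⁻¹ = n⁻¹ * (d * (n * x * n⁻¹) * d⁻¹) * n from
      fun d x => by group, e3, h.t2_31, mul_left_comm, ← e3, e1] at e4
    simp only [mul_assoc, inv_mul_cancel_left, inv_mul_cancel, mul_one] at e4
    have e5 := x25_inj e4
    have : (s, t) = t2 φ (t * t₂⁻¹) * (s₂, t₂) := by
      refine Prod.ext (Units.ext ?_) (by simp [t2])
      have h3 : φ t ≠ 0 := by simp
      have h4 : φ t₂ ≠ 0 := by simp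
      simp only [Units.val_mul, Units.val_pow_eq_pow_val, Units.val_inv_eq_inv_val, Units.coe_map,
        MonoidHom.coe_coe, zpow_neg, zpow_ofNat] at e5
      simp only [t2, MonoidHom.mk'_apply, Prod.fst_mul, Units.val_mul, Units.val_pow_eq_pow_val,
        Units.val_inv_eq_inv_val, Units.coe_map, MonoidHom.coe_coe, map_mul, map_inv₀]
      have := s.ne_zero
      have := s₂.ne_zero
      have := t.ne_zero
      have := t₂.ne_zero
      field_simp at e5 ⊢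
      linear_combination -e5
    rw [this, map_mul, e2]
    exact mul_mem (k2 _) (k1 _)
  obtain ⟨s, hs⟩ := hK
  have i1 : (SS φ 1 0)⁻¹ = SS φ 1 1 := inv_eq_of_mul_eq_one_right (by
    rw [h.SS_mul, ← h.SS_zero]
    congr 1
    · linear_combination h2
    · simp)
  obtain ⟨x₀, u₀, hx₀, k4⟩ : ∃ x u, x ≠ 0 ∧ SS φ x u ∈ M := by
    obtain ⟨y, e⟩ := (h.mem_HM _).1 (hnD (s⁻¹, 1))
    obtain ⟨u', e'⟩ := h.DD_SS s 1 1
    have := mul_mem (mul_mem (mul_mem hb' (e ▸ k3 y)) (inv_mem hb')) (inv_mem (k3 (s⁻¹, 1)))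
    refine ⟨1 + s * 1, 0 + u' - φ 1 * (s * 1), fun e => hs (Units.ext ?_), (congrArg (· ∈ M) ?_).mp this⟩
    · rw [Units.val_one]
      linear_combination e - h2
    · rw [← h.SS_mul, ← e', ← i1]
      group
  have k5 : ∀ x, x ≠ 0 → ∃ u, SS φ x u ∈ M := fun x hx => by
    obtain ⟨u', e'⟩ := h.DD_SS (Units.mk0 _ (div_ne_zero hx hx₀)) x₀ u₀
    rw [Units.val_mk0, div_mul_cancel₀ _ hx₀] at e'
    exact ⟨u', e' ▸ mul_mem (mul_mem (k3 _) k4) (inv_mem (k3 _))⟩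
  have k6 : ∀ w, SS φ 0 w ∈ M := fun w => by
    obtain ⟨x, rfl⟩ := h.surj_sq w
    by_cases hx : x = 0
    · simpa [hx, h.SS_zero] using one_mem M
    obtain ⟨u, e⟩ := k5 x hx
    refine (congrArg (· ∈ M) ?_).mp (mul_mem e e)
    rw [h.SS_mul]
    congr 1
    · linear_combination x * h2
    · linear_combination (u - φ x * x) * h2
  have k7 : ∀ x u, SS φ x u ∈ M := fun x u => by
    by_cases hx : x = 0
    · exact hx ▸ k6 u
    obtain ⟨u', e⟩ := k5 x hx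
    simpa [h.SS_mul] using mul_mem e (k6 (u - u'))
  have k8 : n ∈ M := by simpa using mul_mem (inv_mem (k7 1 0)) hb'
  obtain ⟨r₀, hr₀, k9⟩ : ∃ r, r ≠ 0 ∧ AA φ r ∈ M := by
    obtain ⟨c1, -, e1⟩ := act_xn ha hf (r := 27) (r' := 35) (by decide +kernel)
    obtain ⟨c2, hc2, e2⟩ := act_xn ha hf (r := 25) (r' := 31) (by decide +kernel)
    obtain ⟨c3, -, e3⟩ := act_xn ha hf (r := 28) (r' := 40) (by decide +kernel)
    obtain ⟨c4, hc4, e4⟩ := act_xn ha hf (r := 14) (r' := 37) (by decide +kernel)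
    obtain ⟨c5, hc5, e5⟩ := act_xn ha hf (r := 23) (r' := 32) (by decide +kernel)
    have e6 : SS φ 1 0 = W4 1 1 1 0 := by simp [SS]
    have e7 : n * SS φ 1 0 * n⁻¹ = wd (gF4.adjG K) [(35, c1), (31, c2), (40, c3)] := by
      simp [e6, W4, ← conj_mul, e1, e2, e3]
    have e8 : n * wd (gF4.adjG K) [(14, c4⁻¹ * c1), (23, c5⁻¹ * c2)] * n⁻¹ = wd (gF4.adjG K) [(37, c1), (32, c2)] := by
      simp [← conj_mul, e4, e5, hc4, hc5]
    have m1 := mul_mem (mul_mem k8 (k7 1 0)) (inv_mem k8)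
    have m2 : wd (gF4.adjG K) [(14, c4⁻¹ * c1), (23, c5⁻¹ * c2)] ∈ M := by
      refine (congrArg (· ∈ M) ?_).mp (mul_mem (mul_mem (inv_mem k8)
        (mul_mem (mul_mem (mul_mem (k7 1 0) m1) (inv_mem (k7 1 0))) (inv_mem m1))) k8)
      rw [e7, e6, W4_comm, ← e8]
      group
    rw [h.eq_AA (T.M_le_Fix (hMT m2))] at m2
    exact ⟨_, mul_ne_zero (inv_ne_zero hc5) hc2, m2⟩
  have k10 : ∀ x, AA φ x ∈ M := fun x => by
    by_cases hx : x = 0
    · simpa [hx, AA] using one_mem M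
    have e' := h.DD_AA (Units.mk0 _ (div_ne_zero hx hr₀)) r₀
    rw [Units.val_mk0, div_mul_cancel₀ _ hr₀] at e'
    exact e' ▸ mul_mem (mul_mem (k3 _) k9) (inv_mem (k3 _))
  have k11 := mul_mem (mul_mem k8 k8) (mul_mem k8 k8)
  generalize n * n * (n * n) = n4 at ha4 k11
  have k12 : ∀ y, n4 * y * n4⁻¹ ∈ M → y ∈ M := fun y hy => by
    simpa [mul_assoc] using mul_mem (mul_mem (inv_mem k11) hy) k11
  have k13 : ∀ y ∈ T.M, n4 * y * n4⁻¹ ∈ T.Fix := fun y hy =>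
    T.M_le_Fix (mul_mem (mul_mem (hMT k11) hy) (inv_mem (hMT k11)))
  have : T.M ≤ M := T.M_le.2 fun i => by
    rcases h.orb_cases i with e | e <;> rw [e] <;> refine ⟨fun y hy => ?_, fun y hy => ?_⟩
    · obtain ⟨t, rfl⟩ := (h.p0 y).1 hy
      obtain ⟨c1, -, e1⟩ := act_xn ha4 (f := fun r => f (f (f (f r)))) hf4 (r := 33) (r' := 14) (by decide +kernel)
      obtain ⟨c2, -, e2⟩ := act_xn ha4 (f := fun r => f (f (f (f r)))) hf4 (r := 24) (r' := 23) (by decide +kernel)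
      have e3 : n4 * wd (gF4.adjG K) [(33, φ t), (24, t)] * n4⁻¹ =
          wd (gF4.adjG K) [(14, c1 * φ t), (23, c2 * t)] := by simp [← conj_mul, e1, e2]
      have e4 := k13 _ (h.mem0p t)
      refine k12 _ ?_
      rw [e3] at e4 ⊢
      rw [h.eq_AA e4]
      exact k10 _
    · obtain ⟨t, rfl⟩ := (h.m0 y).1 hy
      exact k10 t
    · obtain ⟨t, u, rfl⟩ := (h.p1 y).1 hy
      exact k7 t u
    · obtain ⟨t, u, rfl⟩ := (h.m1 y).1 hy
      obtain ⟨c1, -, e1⟩ := act_xn ha4 (f := fun r => f (f (f (f r)))) hf4 (r := 20) (r' := 27) (by decide +kernel)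
      obtain ⟨c2, -, e2⟩ := act_xn ha4 (f := fun r => f (f (f (f r)))) hf4 (r := 22) (r' := 25) (by decide +kernel)
      obtain ⟨c3, -, e3⟩ := act_xn ha4 (f := fun r => f (f (f (f r)))) hf4 (r := 19) (r' := 28) (by decide +kernel)
      obtain ⟨c4, -, e4⟩ := act_xn ha4 (f := fun r => f (f (f (f r)))) hf4 (r := 17) (r' := 30) (by decide +kernel)
      have e5 : n4 * wd (gF4.adjG K) [(20, φ t), (22, t), (19, φ t * t + u), (17, φ u ^ 2)] * n4⁻¹ =
          W4 (c1 * φ t) (c2 * t) (c3 * (φ t * t + u)) (c4 * φ u ^ 2) := by simp [W4, ← conj_mul, e1, e2, e3, e4]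
      have e6 := k13 _ (h.mem1m t u)
      refine k12 _ ?_
      rw [e5] at e6 ⊢
      rw [h.eq_SS e6]
      exact k7 _ _
  refine eq_top_iff.2 fun y _ => ?_
  obtain ⟨y', h3, h4⟩ := hM ▸ this (Tw.ι_mem hr y)
  exact hi h4 ▸ h3

end IsF4

end Chev

end CfsgH6
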