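import Cfsg.Agent.H6.Gen2
import Cfsg.Agent.H6.TD4

/-! Two-generation of `³D₄(q)`. -/

set_option autoImplicit false

namespace CfsgH6

open Finset Cfsg.Lie

theorem stein_trick {Γ K : Type*} [Group Γ] [Field K] {M : Subgroup Γ} {X : K → Γ}
    (add : ∀ a b, X a * X b = X (a + b)) {d n : Γ} {g g' : K} (hd : d ∈ M) (hn : X 1 * n ∈ M)
    (h1 : ∀ u, d * X u * d⁻¹ = X (g * u)) (h2 : ∀ u, n * d * n⁻¹ * X u * (n * d * n⁻¹)⁻¹ = X (g' * u))
    (hc : d * (n * d * n⁻¹) = n * d * n⁻¹ * d) (hg : g ≠ 1) (hg' : g' ≠ 1)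
    (gen : ∀ z : K, z ∈ AddSubmonoid.closure (Set.range fun k : ℕ => g ^ k)) (u : K) : X u ∈ M := by
  have h0 : X 0 = 1 := by simpa using add 0 0
  have hi : ∀ a, (X a)⁻¹ = X (-a) := fun a => inv_eq_of_mul_eq_one_right (by rw [add, add_neg_cancel, h0])
  have e1 : X 1 * n * d * (X 1 * n)⁻¹ = X (1 - g') * (n * d * n⁻¹) := by
    rw [sub_eq_add_neg, ← add, ← mul_neg_one g', ← h2, ← hi]
    group
  have m1 : X (1 - g') * (n * d * n⁻¹) ∈ M := e1 ▸ mul_mem (mul_mem hn hd) (inv_mem hn)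
  generalize n * d * n⁻¹ = d' at m1 hc
  have m2 : X ((g - 1) * (1 - g')) ∈ M := by
    refine (congrArg (· ∈ M) ?_).mp (mul_mem (mul_mem (mul_mem hd m1) (inv_mem hd)) (inv_mem m1))
    rw [sub_mul, one_mul, sub_eq_add_neg (g * _), ← add, ← h1, ← hi]
    calc _ = d * X (1 - g') * (d' * d⁻¹ * d'⁻¹) * (X (1 - g'))⁻¹ := by group
      _ = _ := by rw [show d' * d⁻¹ * d'⁻¹ = d⁻¹ by rw [mul_assoc, ← mul_inv_rev, ← hc]; group]
  have hr : (g - 1) * (1 - g') ≠ 0 := mul_ne_zero (sub_ne_zero.2 hg) (sub_ne_zero.2 hg'.symm)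
  generalize (g - 1) * (1 - g') = r at m2 hr
  have m3 : ∀ k : ℕ, X (g ^ k * r) ∈ M := fun k => by
    induction k with
    | zero => simpa using m2
    | succ k ih => rw [pow_succ', mul_assoc, ← h1]; exact mul_mem (mul_mem hd ih) (inv_mem hd)
  rw [← div_mul_cancel₀ u hr]
  generalize u / r = z
  induction gen z using AddSubmonoid.closure_induction with
  | mem x hx => obtain ⟨k, rfl⟩ := hx; exact m3 k
  | zero => simp [h0]
  | add x y _ _ hx hy => rw [add_mul, ← add]; exact mul_mem hx hy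

theorem exists_gen (K : Type*) [Field K] [Finite K] : ∃ g : Kˣ, (∀ z : Kˣ, ∃ k : ℕ, g ^ k = z) ∧
    ∀ z : K, z ∈ AddSubmonoid.closure (Set.range fun k : ℕ => (g : K) ^ k) := by
  obtain ⟨g, hg⟩ := IsCyclic.exists_monoid_generator (α := Kˣ)
  refine ⟨g, hg, fun z => ?_⟩
  by_cases hz : z = 0
  · exact hz ▸ zero_mem _
  · obtain ⟨k, hk⟩ := hg (Units.mk0 z hz)
    exact AddSubmonoid.subset_closure ⟨k, by simpa using congrArg Units.val hk⟩

namespace Chev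

open Good PreSt

theorem conj_act {D : ChevalleyDatum} {g : Good D} {F : Type*} [Field F] {Γ : Type*} [Group Γ] {X : PreSt g.cd F Γ}
    {n d : Γ} {r r' : ℕ} {c χ : F} (hc : c ≠ 0) (h1 : ∀ u, n * xn X r u * n⁻¹ = xn X r' (c * u))
    (h2 : ∀ u, d * xn X r u * d⁻¹ = xn X r (χ * u)) (u : F) :
    n * d * n⁻¹ * xn X r' u * (n * d * n⁻¹)⁻¹ = xn X r' (χ * u) := by
  rw [← mul_inv_cancel_left₀ hc u, mul_left_comm χ, ← h1, ← h1, ← h2]
  group

theorem hh_xn {D : ChevalleyDatum} (g : Good D) {F : Type*} [Field F] (c : Fin D.rank → Fˣ) {r : ℕ}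
    (hr : r < D.nroots) (u : F) : (g.isStG F).hh (g.multG F) c * xn (g.adjG F) r u * ((g.isStG F).hh (g.multG F) c)⁻¹ =
      xn (g.adjG F) r ((∏ i, (c i : F) ^ D.cartan i r) * u) := by
  rw [xn_lt _ hr, xn_lt _ hr]
  refine ((g.isStG F).hh_conj (g.multG F) c _ u).trans ?_
  simp only [cd_A_sim]
  simp

namespace IsD4

variable {K : Type*} [Field K] {q : ℕ} {φ : K ≃+* K} {T : (gD4.adjG K).Tw}

variable (φ) in
/-- the short root elements -/
def XX (t : K) : chevD4.group K := wd (gD4.adjG K) [(18, t), (13, φ t), (12, φ (φ t))]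

theorem XX_add (a b : K) : XX φ a * XX φ b = XX φ (a + b) := by
  obtain ⟨f, hf⟩ := exists_val fun p => if p = 2 then a else if p = 3 then φ a else if p = 5 then φ (φ a) else
    if p = 7 then b else if p = 11 then φ b else φ (φ b)
  have := cEq_sound (gD4.adjG K) (ctx0_sound f)
    (w := [(18, [(1, 2)]), (13, [(1, 3)]), (12, [(1, 5)]), (18, [(1, 7)]), (13, [(1, 11)]), (12, [(1, 13)])])
    (w' := [(18, [(1, 2), (1, 7)]), (13, [(1, 3), (1, 11)]), (12, [(1, 5), (1, 13)])]) (by decide +kernel)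
  simp only [evX_cons, evX_nil, evP_cons, evP_nil, hf 2 (by norm_num), hf 3 (by norm_num),
    hf 5 (by norm_num), hf 7 (by norm_num), hf 11 (by norm_num), hf 13 (by norm_num)] at this
  simpa [XX, mul_assoc] using this

theorem comm23 (a b c d e k : K) :
    wd (gD4.adjG K) [(19, a), (16, b), (15, c)] * wd (gD4.adjG K) [(17, d), (20, e), (21, k)] =
    xn (gD4.adjG K) 23 (-(a * d + b * e + c * k)) * wd (gD4.adjG K) [(17, d), (20, e), (21, k)] *
      wd (gD4.adjG K) [(19, a), (16, b), (15, c)] := by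
  obtain ⟨f, hf⟩ := exists_val fun p => if p = 2 then a else if p = 3 then b else if p = 5 then c else
    if p = 7 then d else if p = 11 then e else k
  have := cEq_sound (gD4.adjG K) (ctx0_sound f)
    (w := [(19, [(1, 2)]), (16, [(1, 3)]), (15, [(1, 5)]), (17, [(1, 7)]), (20, [(1, 11)]), (21, [(1, 13)])])
    (w' := [(23, [(-1, 2 * 7), (-1, 3 * 11), (-1, 5 * 13)]), (17, [(1, 7)]), (20, [(1, 11)]), (21, [(1, 13)]),
      (19, [(1, 2)]), (16, [(1, 3)]), (15, [(1, 5)])]) (by decide +kernel)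
  simp only [evX_cons, evX_nil, evP_cons, evP_nil, map_mul, hf 2 (by norm_num), hf 3 (by norm_num),
    hf 5 (by norm_num), hf 7 (by norm_num), hf 11 (by norm_num), hf 13 (by norm_num)] at this
  rw [show -(a * d + b * e + c * k) = -(a * d) + (-(b * e) + -(c * k)) by ring]
  simpa [mul_assoc] using this

variable (h : IsD4 q φ T)
include h

theorem eq_XX {t b c : K} (hf : wd (gD4.adjG K) [(18, t), (13, b), (12, c)] ∈ T.Fix) :
    wd (gD4.adjG K) [(18, t), (13, b), (12, c)] = XX φ t := by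
  obtain ⟨t', e⟩ := (h.p0 _).1 (mi ((mem_XP_iff _ (L := [18, 13, 12]) (by decide +kernel)).2
    ⟨fun r => if r = 18 then t else if r = 13 then b else c, rfl⟩) hf)
  have := wd_inj _ (gD4.isStG K).sep1 1 (L := [18, 13, 12]) (by decide +kernel)
    (w := [(18, t), (13, b), (12, c)]) rfl rfl e
  simp only [List.cons.injEq, Prod.mk.injEq, true_and, and_true] at this
  obtain ⟨rfl, rfl, rfl⟩ := this
  rfl

theorem fix14 {t : K} (hf : xn (gD4.adjG K) 14 t ∈ T.Fix) : φ t = t := by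
  obtain ⟨t', ht, e⟩ := (h.p1 (wd (gD4.adjG K) [(14, t)])).1
    (mi ((mem_XP_iff _ (L := [14]) (by decide +kernel)).2 ⟨fun _ => t, rfl⟩) (by simpa using hf))
  have := wd_inj _ (gD4.isStG K).sep1 1 (L := [14]) (by decide +kernel) (w := [(14, t)]) rfl rfl e
  simp only [List.cons.injEq, Prod.mk.injEq, true_and, and_true] at this
  rwa [this]

theorem H_XX {d : chevD4.group K} (hd : d ∈ (gD4.adjG K).H ⊓ T.M) {χ : K}
    (e : ∀ u, d * xn (gD4.adjG K) 18 u * d⁻¹ = xn (gD4.adjG K) 18 (χ * u)) (u : K) :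
    d * XX φ u * d⁻¹ = XX φ (χ * u) := by
  have ha := (gD4.isStG K).act_H (il hd)
  obtain ⟨c1, -, e1⟩ := act_xn ha (f := id) (fun _ => rfl) (r := 13) (r' := 13) (by decide)
  obtain ⟨c2, -, e2⟩ := act_xn ha (f := id) (fun _ => rfl) (r := 12) (r' := 12) (by decide)
  have hf := T.M_le_Fix (mul_mem (mul_mem (ir hd) (h.mem3p u)) (inv_mem (ir hd)))
  have e3 : d * wd (gD4.adjG K) [(18, u), (13, φ u), (12, φ (φ u))] * d⁻¹ =
    wd (gD4.adjG K) [(18, χ * u), (13, c1 * φ u), (12, c2 * φ (φ u))] := by simp [← conj_mul, e, e1, e2]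
  rw [XX, e3, h.eq_XX (e3 ▸ hf)]

theorem exists_d [Finite K] (g : Kˣ) : ∃ d ∈ (gD4.adjG K).H ⊓ T.M,
    (∀ u, d * xn (gD4.adjG K) 18 u * d⁻¹ = xn (gD4.adjG K) 18 (g * u)) ∧
    ∀ u, d * xn (gD4.adjG K) 17 u * d⁻¹ = xn (gD4.adjG K) 17 ((g : K)⁻¹ * u) := by
  let ψ : Kˣ →* Kˣ := Units.map (φ : K →* K)
  let f : Kˣ →* Kˣ := MonoidHom.mk' (fun t => t * (ψ t * ψ (ψ t))⁻¹) fun a b => by
    simp only [map_mul, mul_inv]; ac_rfl
  obtain ⟨t, rfl⟩ := Finite.surjective_of_injective ((injective_iff_map_eq_one f).2 fun t ht => by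
    have e : (t : K) = φ t * φ (φ t) := by simpa [ψ] using congrArg Units.val (mul_inv_eq_one.1 ht)
    have e1 := congrArg φ e
    rw [map_mul, h.q3] at e1
    have e2 : φ (φ t) ^ 2 = 1 := mul_left_cancel₀ t.ne_zero (by linear_combination -e - φ (φ t) * e1)
    have e3 := congrArg φ e2
    rw [map_pow, h.q3, map_one] at e3
    refine Units.ext ((sq_eq_one_iff.1 e3).elim id fun e4 => ?_)
    rw [e, e4]
    simp) g
  let c : Fin chevD4.rank → Kˣ := (![t, t * ψ t * ψ (ψ t), ψ t, ψ (ψ t)] : Fin 4 → Kˣ)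
  have hc : c ∈ Cfix T.π fun _ => φ.toMonoidWithZeroHom := by
    rw [h.π]
    intro (i : Fin 4)
    fin_cases i
    · rfl
    · change (t : K) * φ t * φ (φ t) = φ (t * φ t * φ (φ t))
      rw [map_mul, map_mul, h.q3]; ring
    · rfl
    · exact (h.q3 _).symm
  have h1 : φ t ≠ 0 := by simp
  have h2 : φ (φ t) ≠ 0 := by simp
  have h3 := t.ne_zero
  have hp : ∀ f : Fin chevD4.rank → K, ∏ i, f i = f (d4i 0) * f (d4i 1) * f (d4i 2) * f (d4i 3) :=
    fun f => Fin.prod_univ_four f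
  refine ⟨_, mi (IsSt.hh_mem_H _ _ c) (h.hh_mem hc), fun u => ?_, fun u => ?_⟩ <;>
    rw [hh_xn gD4 c (by decide), hp] <;> congr 2
  · change (t : K) ^ (2 : ℤ) * (t * φ t * φ (φ t)) ^ (-1 : ℤ) * φ t ^ (0 : ℤ) * φ (φ t) ^ (0 : ℤ) = _
    simp [f, ψ, zpow_ofNat]
    field_simp
  · change (t : K) ^ (-1 : ℤ) * (t * φ t * φ (φ t)) ^ (0 : ℤ) * φ t ^ (1 : ℤ) * φ (φ t) ^ (1 : ℤ) = _
    simp [f, ψ]
    field_simp

theorem indep (hK : ∃ u, φ u ≠ u) {A B C : K} (hA : A ≠ 0) : ∃ t, A * t + B * φ t + C * φ (φ t) ≠ 0 := by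
  by_contra! e
  obtain ⟨u, hu⟩ := hK
  have hu2 : φ (φ u) ≠ u := fun e => hu (by rw [← e, h.q3, e])
  have e0 := e 1
  have e1 := e u
  have e2 := e (u ^ 2)
  simp only [map_one, map_pow] at e0 e2
  exact mul_ne_zero (mul_ne_zero hA (sub_ne_zero.2 hu.symm)) (sub_ne_zero.2 hu2.symm)
    (by linear_combination e2 - (φ u + φ (φ u)) * e1 + φ u * φ (φ u) * e0)

theorem two_gen [Finite K] (hK : ∃ u, φ u ≠ u) :
    ∃ a b : twistedD4 K q, Subgroup.closure ({a, b} : Set (twistedD4 K q)) = ⊤ := by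
  have hX := gD4.isStG K
  have hi := h.set.ι_inj
  have hr := h.set.range_ι
  generalize h.set.ι = ι at hi hr
  change ι.range = T.M at hr
  obtain ⟨g, hg, hg'⟩ := exists_gen K
  have g1 : (g : K) ≠ 1 := fun e => by
    obtain ⟨u, hu⟩ := hK
    have : u ≠ 0 := fun e => hu (by simp [e])
    obtain ⟨k, hk⟩ := hg (Units.mk0 u this)
    have : u = 1 := by simpa [e] using (congrArg Units.val hk).symm
    exact hu (by simp [this])
  obtain ⟨n1, hn1, ha1⟩ := Tw.exists_n_orb hX h.ne (d4i 1)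
  obtain ⟨n0, hn0, ha0⟩ := Tw.exists_n_orb hX h.ne (d4i 0)
  rw [h.orb, gD4.lg_eq_wp _ [d4i 1] (by decide) (by decide +kernel)] at ha1
  rw [h.orb, gD4.lg_eq_wp _ [d4i 0, d4i 2, d4i 3] (by decide) (by decide +kernel)] at ha0
  have hn := mul_mem hn1 hn0
  have ha := ha1.mul ha0
  generalize n1 * n0 = n at hn ha
  let f : ℕ → ℕ := fun r => actL gD4.T ([d4i 1].map Fin.val) (actL gD4.T ([d4i 0, d4i 2, d4i 3].map Fin.val) r)
  have hf : ∀ r : Fin chevD4.nroots,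
      ((((gD4.cd.EW.wp [d4i 1]).1 * (gD4.cd.EW.wp [d4i 0, d4i 2, d4i 3]).1) r : Fin _) : ℕ) = f r :=
    fun r => by rw [Equiv.Perm.mul_apply, ← gD4.actL_eq, ← gD4.actL_eq]
  generalize (gD4.cd.EW.wp [d4i 1]).1 * (gD4.cd.EW.wp [d4i 0, d4i 2, d4i 3]).1 = w at ha hf
  have ha3 := (ha.mul ha).mul ha
  have hf3 : ∀ r : Fin chevD4.nroots, ((w * w * w) r : ℕ) = (fun r => f (f (f r))) r := fun r => by
    simp only [Equiv.Perm.mul_apply, hf]
  have ha4 := ha.mul ha3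
  have hf4 : ∀ r : Fin chevD4.nroots, ((w * (w * w * w)) r : ℕ) = (fun r => f (f (f (f r)))) r := fun r => by
    simp only [Equiv.Perm.mul_apply, hf]
  obtain ⟨d, hd, d1, d2⟩ := h.exists_d g
  obtain ⟨a, ea⟩ := Tw.exists_ι hr (ir hd)
  obtain ⟨b, eb⟩ := Tw.exists_ι hr (mul_mem (h.mem3p 1) (ir hn))
  refine ⟨a, b, ?_⟩
  set M := (Subgroup.closure ({a, b} : Set (twistedD4 K q))).map ι with hM
  have ha' : d ∈ M := ea ▸ Subgroup.mem_map_of_mem _ (Subgroup.subset_closure (by simp))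
  have hb' : XX φ 1 * n ∈ M := eb ▸ Subgroup.mem_map_of_mem _ (Subgroup.subset_closure (by simp))
  have hMT : M ≤ T.M := hr ▸ Subgroup.map_le_range _ _
  clear_value M
  have k1 : ∀ u, XX φ u ∈ M := by
    obtain ⟨c, hc, e⟩ := act_xn ha hf (r := 17) (r' := 18) (by decide +kernel)
    have hd' : n * d * n⁻¹ ∈ (gD4.adjG K).H ⊓ T.M :=
      mi (ha.conj_mem_H (il hd)) (mul_mem (mul_mem (ir hn) (ir hd)) (inv_mem (ir hn)))
    exact stein_trick XX_add ha' hb' (h.H_XX hd d1) (h.H_XX hd' (conj_act hc e d2))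
      (hX.H_comm (gD4.multG K) (il hd) (il hd')) g1 (by simpa using g1) hg'
  have k2 : n ∈ M := by simpa using mul_mem (inv_mem (k1 1)) hb'
  have k3 := mul_mem (mul_mem k2 k2) k2
  have k4 := mul_mem k2 k3
  generalize n * n * n = n3 at ha3 ha4 k3 k4
  generalize n * n3 = n4 at ha4 k4
  have k5 : ∀ s, φ s = s → xn (gD4.adjG K) 14 s ∈ M := by
    obtain ⟨c1, hc1, e1⟩ := act_xn ha4 (f := fun r => f (f (f (f r)))) hf4 (r := 18) (r' := 19) (by decide +kernel)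
    obtain ⟨c2, -, e2⟩ := act_xn ha4 (f := fun r => f (f (f (f r)))) hf4 (r := 13) (r' := 16) (by decide +kernel)
    obtain ⟨c3, -, e3⟩ := act_xn ha4 (f := fun r => f (f (f (f r)))) hf4 (r := 12) (r' := 15) (by decide +kernel)
    obtain ⟨c4, hc4, e4⟩ := act_xn ha hf (r := 19) (r' := 17) (by decide +kernel)
    obtain ⟨c5, -, e5⟩ := act_xn ha hf (r := 16) (r' := 20) (by decide +kernel)
    obtain ⟨c6, -, e6⟩ := act_xn ha hf (r := 15) (r' := 21) (by decide +kernel)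
    obtain ⟨c7, hc7, e7⟩ := act_xn ha hf (r := 14) (r' := 23) (by decide +kernel)
    have m1 : ∀ t, wd (gD4.adjG K) [(19, c1 * t), (16, c2 * φ t), (15, c3 * φ (φ t))] ∈ M := fun t => by
      simpa [XX, ← conj_mul, e1, e2, e3] using mul_mem (mul_mem k4 (k1 t)) (inv_mem k4)
    have m2 : wd (gD4.adjG K) [(17, c4 * c1), (20, c5 * c2), (21, c6 * c3)] ∈ M := by
      simpa [← conj_mul, e4, e5, e6] using mul_mem (mul_mem k2 (m1 1)) (inv_mem k2)
    have m3 : ∀ t, xn (gD4.adjG K) 14 (-(c7⁻¹ * c1 * (c4 * c1)) * t + -(c7⁻¹ * c2 * (c5 * c2)) * φ t +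
        -(c7⁻¹ * c3 * (c6 * c3)) * φ (φ t)) ∈ M := fun t => by
      have := mul_mem (mul_mem (mul_mem (m1 t) m2) (inv_mem (m1 t))) (inv_mem m2)
      rw [comm23, mul_inv_cancel_right, mul_inv_cancel_right, ← mul_inv_cancel_left₀ hc7 (-_), ← e7] at this
      refine (congrArg (· ∈ M) ?_).mp (mul_mem (mul_mem (inv_mem k2) this) k2)
      simp only [mul_assoc, inv_mul_cancel_left, inv_mul_cancel, mul_one]
      congr 1
      ring
    obtain ⟨t, ht⟩ := h.indep hK (A := -(c7⁻¹ * c1 * (c4 * c1))) (B := -(c7⁻¹ * c2 * (c5 * c2)))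
      (C := -(c7⁻¹ * c3 * (c6 * c3))) (by simp [hc1, hc4, hc7])
    have e8 := h.fix14 (T.M_le_Fix (hMT (m3 t)))
    intro s hs
    have := m3 (s / (-(c7⁻¹ * c1 * (c4 * c1)) * t + -(c7⁻¹ * c2 * (c5 * c2)) * φ t +
        -(c7⁻¹ * c3 * (c6 * c3)) * φ (φ t)) * t)
    generalize -(c7⁻¹ * c1 * (c4 * c1)) = A at this ht e8
    generalize -(c7⁻¹ * c2 * (c5 * c2)) = B at this ht e8
    generalize -(c7⁻¹ * c3 * (c6 * c3)) = C at this ht e8
    rw [map_mul, map_div₀, e8, hs, map_mul, map_div₀, e8, hs] at this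
    refine (congrArg (· ∈ M) (congrArg _ ?_)).mp this
    field_simp
  have k6 : ∀ y, n3 * y * n3⁻¹ ∈ M → y ∈ M := fun y hy => by
    simpa [mul_assoc] using mul_mem (mul_mem (inv_mem k3) hy) k3
  have k7 : ∀ y ∈ T.M, n3 * y * n3⁻¹ ∈ T.Fix := fun y hy =>
    T.M_le_Fix (mul_mem (mul_mem (hMT k3) hy) (inv_mem (hMT k3)))
  have : T.M ≤ M := T.M_le.2 fun i => by
    rcases h.orb_cases i with e | e <;> rw [e] <;> refine ⟨fun y hy => ?_, fun y hy => ?_⟩
    · obtain ⟨t, rfl⟩ := (h.p0 y).1 hy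
      exact k1 t
    · obtain ⟨t, rfl⟩ := (h.m0 y).1 hy
      obtain ⟨c1, -, e1⟩ := act_xn ha3 (f := fun r => f (f (f r))) hf3 (r := 5) (r' := 18) (by decide +kernel)
      obtain ⟨c2, -, e2⟩ := act_xn ha3 (f := fun r => f (f (f r))) hf3 (r := 10) (r' := 13) (by decide +kernel)
      obtain ⟨c3, -, e3⟩ := act_xn ha3 (f := fun r => f (f (f r))) hf3 (r := 11) (r' := 12) (by decide +kernel)
      have e4 : n3 * wd (gD4.adjG K) [(5, t), (10, φ t), (11, φ (φ t))] * n3⁻¹ =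
          wd (gD4.adjG K) [(18, c1 * t), (13, c2 * φ t), (12, c3 * φ (φ t))] := by simp [← conj_mul, e1, e2, e3]
      have e5 := k7 _ (h.mem3m t)
      refine k6 _ ?_
      rw [e4] at e5 ⊢
      rw [h.eq_XX e5]
      exact k1 _
    · obtain ⟨t, ht, rfl⟩ := (h.p1 y).1 hy
      simpa using k5 t ht
    · obtain ⟨t, ht, rfl⟩ := (h.m1 y).1 hy
      obtain ⟨c1, -, e1⟩ := act_xn ha3 (f := fun r => f (f (f r))) hf3 (r := 9) (r' := 14) (by decide +kernel)
      have e5 := k7 _ (h.mem1m ht)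
      refine k6 _ ?_
      simp only [wd_cons, wd_nil, mul_one, e1] at e5 ⊢
      exact k5 _ (h.fix14 e5)
  refine eq_top_iff.2 fun y _ => ?_
  obtain ⟨y', h3, h4⟩ := hM ▸ this (Tw.ι_mem hr y)
  exact hi h4 ▸ h3

end IsD4

end Chev

end CfsgH6
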