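import Cfsg.Agent.H6.Gen3
import Cfsg.Agent.H6.TE6

/-! Two-generation of `²E₆(q)`. -/

set_option autoImplicit false

namespace CfsgH6

open Finset Cfsg.Lie

namespace Chev

open Good PreSt

theorem act_pow_xn {D : ChevalleyDatum} {g : Good D} {F : Type*} [Field F] {Γ : Type*} [Group Γ]
    {X : PreSt g.cd F Γ} {n : Γ} {w : Equiv.Perm (Fin D.nroots)} (ha : X.Act n w) {f : ℕ → ℕ}
    (hf : ∀ r : Fin D.nroots, (w r : ℕ) = f r) (k : ℕ) {r r' : ℕ} (hr : r < D.nroots ∧ f^[k] r = r') :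
    ∃ c : F, c ≠ 0 ∧ ∀ u, n ^ k * xn X r u * (n ^ k)⁻¹ = xn X r' (c * u) := by
  have : X.Act (n ^ k) (w ^ k) ∧ ∀ r : Fin D.nroots, ((w ^ k) r : ℕ) = f^[k] r := by
    clear hr
    induction k with
    | zero => exact ⟨by simpa using Act.one, fun _ => rfl⟩
    | succ k ih =>
      exact ⟨by rw [pow_succ', pow_succ']; exact ha.mul ih.1, fun r => by
        rw [pow_succ', Equiv.Perm.mul_apply, hf, ih.2, Function.iterate_succ_apply']⟩
  exact act_xn this.1 this.2 hr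

namespace IsE6

variable {K : Type*} [Field K] {q : ℕ} {φ : K ≃+* K} {T : (gE6.adjG K).Tw}

variable (φ) in
/-- the short root elements -/
def XX (t : K) : chevE6.group K := wd (gE6.adjG K) [(56, t), (36, φ t)]

theorem swap56 (a b : K) : xn (gE6.adjG K) 36 b * xn (gE6.adjG K) 56 a = xn (gE6.adjG K) 56 a * xn (gE6.adjG K) 36 b := by
  obtain ⟨f, h2, h3⟩ := exists_val2 a b
  have := cEq_sound (gE6.adjG K) (ctx0_sound f) (w := [(36, [(1, 3)]), (56, [(1, 2)])])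
    (w' := [(56, [(1, 2)]), (36, [(1, 3)])]) (by decide +kernel)
  simpa [h2, h3] using this

theorem XX_add (a b : K) : XX φ a * XX φ b = XX φ (a + b) := by
  simp only [XX, wd_cons, wd_nil, mul_one, map_add, ← xn_add]
  rw [mul_assoc, mul_assoc, ← mul_assoc (xn _ 36 _), swap56, mul_assoc]

theorem comm63 (a b c d : K) :
    wd (gE6.adjG K) [(56, a), (36, b)] * wd (gE6.adjG K) [(62, c), (52, d)] =
    xn (gE6.adjG K) 63 (-(a * d) + b * c) * wd (gE6.adjG K) [(62, c), (52, d)] * wd (gE6.adjG K) [(56, a), (36, b)] := by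
  obtain ⟨f, hf⟩ := exists_val fun p => if p = 2 then a else if p = 3 then b else if p = 5 then c else d
  have := cEq_sound (gE6.adjG K) (ctx0_sound f)
    (w := [(56, [(1, 2)]), (36, [(1, 3)]), (62, [(1, 5)]), (52, [(1, 7)])])
    (w' := [(63, [(-1, 2 * 7), (1, 3 * 5)]), (62, [(1, 5)]), (52, [(1, 7)]), (56, [(1, 2)]), (36, [(1, 3)])])
    (by decide +kernel)
  simp only [evX_cons, evX_nil, evP_cons, evP_nil, map_mul, hf 2 (by norm_num), hf 3 (by norm_num),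
    hf 5 (by norm_num), hf 7 (by norm_num)] at this
  simpa [mul_assoc] using this

variable (h : IsE6 q φ T)
include h

theorem eq_XX {t b : K} (hf : wd (gE6.adjG K) [(56, t), (36, b)] ∈ T.Fix) :
    wd (gE6.adjG K) [(56, t), (36, b)] = XX φ t := by
  obtain ⟨t', e⟩ := (h.p0 _).1 (mi ((mem_XP_iff _ (L := [56, 36]) (by decide +kernel)).2
    ⟨fun r => if r = 56 then t else b, rfl⟩) hf)
  have := wd_inj _ (gE6.isStG K).sep1 1 (L := [56, 36]) (by decide +kernel) (w := [(56, t), (36, b)]) rfl rfl e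
  simp only [List.cons.injEq, Prod.mk.injEq, true_and, and_true] at this
  obtain ⟨rfl, rfl⟩ := this
  rfl

theorem fix46 {t : K} (hf : xn (gE6.adjG K) 46 t ∈ T.Fix) : φ t = t := by
  obtain ⟨t', ht, e⟩ := (h.p1 (wd (gE6.adjG K) [(46, t)])).1
    (mi ((mem_XP_iff _ (L := [46]) (by decide +kernel)).2 ⟨fun _ => t, rfl⟩) (by simpa using hf))
  have := wd_inj _ (gE6.isStG K).sep1 1 (L := [46]) (by decide +kernel) (w := [(46, t)]) rfl rfl e
  simp only [List.cons.injEq, Prod.mk.injEq, true_and, and_true] at this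
  rwa [this]

theorem H_XX {d : chevE6.group K} (hd : d ∈ (gE6.adjG K).H ⊓ T.M) {χ : K}
    (e : ∀ u, d * xn (gE6.adjG K) 56 u * d⁻¹ = xn (gE6.adjG K) 56 (χ * u)) (u : K) :
    d * XX φ u * d⁻¹ = XX φ (χ * u) := by
  have ha := (gE6.isStG K).act_H (il hd)
  obtain ⟨c1, -, e1⟩ := act_xn ha (f := id) (fun _ => rfl) (r := 36) (r' := 36) (by decide)
  have hf := T.M_le_Fix (mul_mem (mul_mem (ir hd) (h.mem2 (r := 56) (s := 36) (by simp) u)) (inv_mem (ir hd)))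
  have e3 : d * wd (gE6.adjG K) [(56, u), (36, φ u)] * d⁻¹ =
    wd (gE6.adjG K) [(56, χ * u), (36, c1 * φ u)] := by simp [← conj_mul, e, e1]
  rw [XX, e3, h.eq_XX (e3 ▸ hf)]

theorem exists_d (g : Kˣ) : ∃ d ∈ (gE6.adjG K).H ⊓ T.M,
    (∀ u, d * xn (gE6.adjG K) 56 u * d⁻¹ = xn (gE6.adjG K) 56 (g * u)) ∧
    ∀ u, d * xn (gE6.adjG K) 10 u * d⁻¹ = xn (gE6.adjG K) 10 ((φ g)⁻¹ * u) := by
  let c : Fin chevE6.rank → Kˣ := (![1, 1, g⁻¹, 1, Units.map (φ : K →* K) g⁻¹, 1] : Fin 6 → Kˣ)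
  have hc : c ∈ Cfix T.π fun _ => φ.toMonoidWithZeroHom := by
    rw [h.π]
    intro (i : Fin 6)
    fin_cases i
    exacts [(map_one φ).symm, (map_one φ).symm, rfl, (map_one φ).symm, (h.q2 _).symm, (map_one φ).symm]
  have hp : ∀ f : Fin chevE6.rank → K, ∏ i, f i =
      f (e6i 0) * f (e6i 1) * f (e6i 2) * f (e6i 3) * f (e6i 4) * f (e6i 5) := fun f => Fin.prod_univ_six f
  refine ⟨_, mi (IsSt.hh_mem_H _ _ c) (h.hh_mem hc), fun u => ?_, fun u => ?_⟩ <;>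
    rw [hh_xn gE6 c (by decide), hp] <;> congr 2
  · change (1 : K) ^ (2 : ℤ) * 1 ^ (0 : ℤ) * ((g⁻¹ : Kˣ) : K) ^ (-1 : ℤ) * 1 ^ (0 : ℤ) * φ (g⁻¹ : Kˣ) ^ (0 : ℤ) *
      1 ^ (0 : ℤ) = _
    simp
  · change (1 : K) ^ (-1 : ℤ) * 1 ^ (-1 : ℤ) * ((g⁻¹ : Kˣ) : K) ^ (0 : ℤ) * 1 ^ (0 : ℤ) * φ (g⁻¹ : Kˣ) ^ (1 : ℤ) *
      1 ^ (0 : ℤ) = _
    simp

theorem two_gen [Finite K] (hK : ∃ u, φ u ≠ u) :
    ∃ a b : twistedE6 K q, Subgroup.closure ({a, b} : Set (twistedE6 K q)) = ⊤ := by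
  have hX := gE6.isStG K
  have hi := h.set.ι_inj
  have hr := h.set.range_ι
  generalize h.set.ι = ι at hi hr
  change ι.range = T.M at hr
  obtain ⟨g, hg, hg'⟩ := exists_gen K
  have g1 : (g : K) ≠ 1 := fun e => by
    obtain ⟨u, hu⟩ := hK
    have : u ≠ 0 := fun e => hu (by simp [e])
    obtain ⟨k, hk⟩ := hg (Units.mk0 u this)
    have : u = 1 := by simpa [e] using (congrArg Units.val hk).symm
    exact hu (by simp [this])
  obtain ⟨n0, hn0, ha0⟩ := Tw.exists_n_orb hX h.ne (e6i 0)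
  obtain ⟨n2, hn2, ha2⟩ := Tw.exists_n_orb hX h.ne (e6i 2)
  obtain ⟨n3, hn3, ha3⟩ := Tw.exists_n_orb hX h.ne (e6i 3)
  obtain ⟨n1, hn1, ha1⟩ := Tw.exists_n_orb hX h.ne (e6i 1)
  rw [h.orb, gE6.lg_eq_wp _ [e6i 0, e6i 5] (by decide) (by decide +kernel)] at ha0
  rw [h.orb, gE6.lg_eq_wp _ [e6i 2, e6i 4] (by decide) (by decide +kernel)] at ha2
  rw [h.orb, gE6.lg_eq_wp _ [e6i 3] (by decide) (by decide +kernel)] at ha3
  rw [h.orb, gE6.lg_eq_wp _ [e6i 1] (by decide) (by decide +kernel)] at ha1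
  have hn := mul_mem hn0 (mul_mem hn2 (mul_mem hn3 hn1))
  have ha := ha0.mul (ha2.mul (ha3.mul ha1))
  generalize n0 * (n2 * (n3 * n1)) = n at hn ha
  let f : ℕ → ℕ := fun r => actL gE6.T ([e6i 0, e6i 5].map Fin.val) (actL gE6.T ([e6i 2, e6i 4].map Fin.val)
    (actL gE6.T ([e6i 3].map Fin.val) (actL gE6.T ([e6i 1].map Fin.val) r)))
  have hf : ∀ r : Fin chevE6.nroots, ((((gE6.cd.EW.wp [e6i 0, e6i 5]).1 * ((gE6.cd.EW.wp [e6i 2, e6i 4]).1 *
      ((gE6.cd.EW.wp [e6i 3]).1 * (gE6.cd.EW.wp [e6i 1]).1))) r : Fin _) : ℕ) = f r :=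
    fun r => by simp only [Equiv.Perm.mul_apply, ← gE6.actL_eq, f]
  generalize (gE6.cd.EW.wp [e6i 0, e6i 5]).1 * ((gE6.cd.EW.wp [e6i 2, e6i 4]).1 *
      ((gE6.cd.EW.wp [e6i 3]).1 * (gE6.cd.EW.wp [e6i 1]).1)) = w at ha hf
  obtain ⟨d, hd, d1, d2⟩ := h.exists_d g
  obtain ⟨a, ea⟩ := Tw.exists_ι hr (ir hd)
  obtain ⟨b, eb⟩ := Tw.exists_ι hr (mul_mem (h.mem2 (r := 56) (s := 36) (by simp) 1) (ir hn))
  refine ⟨a, b, ?_⟩
  set M := (Subgroup.closure ({a, b} : Set (twistedE6 K q))).map ι with hM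
  have ha' : d ∈ M := ea ▸ Subgroup.mem_map_of_mem _ (Subgroup.subset_closure (by simp))
  have hb' : XX φ 1 * n ∈ M := eb ▸ Subgroup.mem_map_of_mem _ (Subgroup.subset_closure (by simp))
  have hMT : M ≤ T.M := hr ▸ Subgroup.map_le_range _ _
  clear_value M
  have k1 : ∀ u, XX φ u ∈ M := by
    obtain ⟨c, hc, e⟩ := act_xn ha hf (r := 10) (r' := 56) (by decide +kernel)
    have hd' : n * d * n⁻¹ ∈ (gE6.adjG K).H ⊓ T.M :=
      mi (ha.conj_mem_H (il hd)) (mul_mem (mul_mem (ir hn) (ir hd)) (inv_mem (ir hn)))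
    exact stein_trick XX_add ha' hb' (h.H_XX hd d1) (h.H_XX hd' (conj_act hc e d2))
      (hX.H_comm (gE6.multG K) (il hd) (il hd')) g1 (by simpa using g1) hg'
  have k2 : n ∈ M := by simpa using mul_mem (inv_mem (k1 1)) hb'
  have k5 : ∀ s, φ s = s → xn (gE6.adjG K) 46 s ∈ M := by
    obtain ⟨c1, -, e1⟩ := act_pow_xn ha hf 3 (r := 56) (r' := 62) (by decide +kernel)
    obtain ⟨c2, hc2, e2⟩ := act_pow_xn ha hf 3 (r := 36) (r' := 52) (by decide +kernel)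
    obtain ⟨c3, hc3, e3⟩ := act_pow_xn ha hf 5 (r := 63) (r' := 46) (by decide +kernel)
    have m2 : wd (gE6.adjG K) [(62, c1), (52, c2)] ∈ M := by
      simpa [XX, ← conj_mul, e1, e2] using mul_mem (mul_mem (pow_mem k2 3) (k1 1)) (inv_mem (pow_mem k2 3))
    have m3 : ∀ t, xn (gE6.adjG K) 46 (-(c3 * c2) * t + c3 * c1 * φ t) ∈ M := fun t => by
      have := mul_mem (mul_mem (mul_mem (k1 t) m2) (inv_mem (k1 t))) (inv_mem m2)
      rw [XX, comm63, mul_inv_cancel_right, mul_inv_cancel_right] at this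
      refine (congrArg (· ∈ M) ?_).mp (mul_mem (mul_mem (pow_mem k2 5) this) (inv_mem (pow_mem k2 5)))
      rw [e3]
      congr 1
      ring
    have hA : -(c3 * c2) ≠ 0 := by simp [hc2, hc3]
    generalize -(c3 * c2) = A at m3 hA
    generalize c3 * c1 = B at m3
    obtain ⟨t, ht⟩ : ∃ t, A * t + B * φ t ≠ 0 := by
      by_contra! e
      obtain ⟨u, hu⟩ := hK
      have e0 := e 1
      rw [map_one] at e0
      exact mul_ne_zero hA (sub_ne_zero.2 hu.symm) (by linear_combination e u - φ u * e0)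
    have e8 := h.fix46 (T.M_le_Fix (hMT (m3 t)))
    intro s hs
    have := m3 (s / (A * t + B * φ t) * t)
    rw [map_mul, map_div₀, e8, hs] at this
    refine (congrArg (· ∈ M) (congrArg _ ?_)).mp this
    field_simp
  have k6 : ∀ (k : ℕ) y, n ^ k * y * (n ^ k)⁻¹ ∈ M → y ∈ M := fun k y hy => by
    simpa [mul_assoc] using mul_mem (mul_mem (inv_mem (pow_mem k2 k)) hy) (pow_mem k2 k)
  have k7 : ∀ (k : ℕ), ∀ y ∈ T.M, n ^ k * y * (n ^ k)⁻¹ ∈ T.Fix := fun k y hy =>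
    T.M_le_Fix (mul_mem (mul_mem (hMT (pow_mem k2 k)) hy) (inv_mem (hMT (pow_mem k2 k))))
  have k8 : ∀ (k r : ℕ), r ∈ [46, 25, 39, 32] → r < chevE6.nroots ∧ f^[k] r = 46 → ∀ t, φ t = t →
      wd (gE6.adjG K) [(r, t)] ∈ M := fun k r h1 h2 t ht => by
    obtain ⟨c1, -, e1⟩ := act_pow_xn ha hf k h2
    have e5 := k7 k _ (h.mem1 h1 ht)
    refine k6 k _ ?_
    simp only [wd_cons, wd_nil, mul_one, e1] at e5 ⊢
    exact k5 _ (h.fix46 e5)
  have k9 : ∀ (k r s : ℕ), (r, s) ∈ [(56, 36), (15, 35), (42, 37), (29, 34)] →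
      ((r < chevE6.nroots ∧ f^[k] r = 56) ∧ (s < chevE6.nroots ∧ f^[k] s = 36) ∨
       (r < chevE6.nroots ∧ f^[k] r = 36) ∧ (s < chevE6.nroots ∧ f^[k] s = 56)) → ∀ t,
      wd (gE6.adjG K) [(r, t), (s, φ t)] ∈ M := fun k r s h1 h2 t => by
    obtain ⟨a, b, e⟩ : ∃ a b, n ^ k * wd (gE6.adjG K) [(r, t), (s, φ t)] * (n ^ k)⁻¹ =
        wd (gE6.adjG K) [(56, a), (36, b)] := by
      rcases h2 with ⟨h2, h3⟩ | ⟨h2, h3⟩ <;> obtain ⟨c1, -, e1⟩ := act_pow_xn ha hf k h2 <;>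
        obtain ⟨c2, -, e2⟩ := act_pow_xn ha hf k h3
      · exact ⟨c1 * t, c2 * φ t, by simp [← conj_mul, e1, e2]⟩
      · exact ⟨c2 * φ t, c1 * t, by simp [← conj_mul, e1, e2, swap56]⟩
    have e5 := k7 k _ (h.mem2 h1 t)
    refine k6 k _ ?_
    rw [e] at e5 ⊢
    rw [h.eq_XX e5]
    exact k1 _
  have : T.M ≤ M := T.M_le.2 fun i => by
    rcases h.orb_cases i with e | e | e | e <;> rw [e] <;> refine ⟨fun y hy => ?_, fun y hy => ?_⟩
    · obtain ⟨t, rfl⟩ := (h.p0 y).1 hy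
      exact k1 t
    · obtain ⟨t, rfl⟩ := (h.m0 y).1 hy
      exact k9 6 _ _ (by simp) (by decide +kernel) t
    · obtain ⟨t, ht, rfl⟩ := (h.p1 y).1 hy
      exact k8 0 _ (by simp) (by decide +kernel) t ht
    · obtain ⟨t, ht, rfl⟩ := (h.m1 y).1 hy
      exact k8 6 _ (by simp) (by decide +kernel) t ht
    · obtain ⟨t, rfl⟩ := (h.p2 y).1 hy
      exact k9 11 _ _ (by simp) (by decide +kernel) t
    · obtain ⟨t, rfl⟩ := (h.m2 y).1 hy
      exact k9 5 _ _ (by simp) (by decide +kernel) t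
    · obtain ⟨t, ht, rfl⟩ := (h.p3 y).1 hy
      exact k8 1 _ (by simp) (by decide +kernel) t ht
    · obtain ⟨t, ht, rfl⟩ := (h.m3 y).1 hy
      exact k8 7 _ (by simp) (by decide +kernel) t ht
  refine eq_top_iff.2 fun y _ => ?_
  obtain ⟨y', h3, h4⟩ := hM ▸ this (Tw.ι_mem hr y)
  exact hi h4 ▸ h3

end IsE6

end Chev

end CfsgH6
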