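import Cfsg.Agent.H6.Lg12

/-! Involution centralisers in types F4 and E8. -/

set_option autoImplicit false
set_option maxRecDepth 100000

universe u

namespace CfsgH6

open Finset PreSt Cfsg.Lie

namespace Chev

variable (F : Type u) [Field F] [Fintype F] (hF : Odd (Fintype.card F))
include hF

theorem card_invF4_0 : Nat.card (Subgroup.centralizer {gF4.inv (by simp) adF4_C F ⟨0, by decide⟩}) =
    Fintype.card F ^ 16 * (Fintype.card F ^ 2 - 1) * (Fintype.card F ^ 4 - 1) * (Fintype.card F ^ 6 - 1) *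
      (Fintype.card F ^ 8 - 1) := by
  classical
  rw [gF4.card_inv _ _ F hF _ [3, 2, 1] [0, 3, 2, 1] (by decide) (by simp [show chevF4.rank = 4 from rfl]; omega) 16 16
    [0, 1, 2, 3, 4, 5, 6, 7] (by decide +kernel) (by decide +kernel),
    gF4.PS_step0 [2, 1] [3, 2, 1] (by decide) (by decide) 6 [1, 1, 1, 1, 1, 1, 0] (by decide +kernel) rfl,
    gF4.PS_step0 [1] [2, 1] (by decide) (by decide) _ _ cntF4_1 rfl,
    gF4.PS_step0 [] [1] (by decide) (by decide) _ _ cntF4_0 rfl, empty_eq,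
    RS.PS_empty _ trivial, show chevF4.rank = 4 from rfl]
  zify [fun n => Nat.one_le_pow n _ (Fintype.card_pos (α := F)), Nat.succ_le_of_lt (Fintype.card_pos (α := F))]
  simp only [hor, List.foldr, List.map, List.sum_cons, List.sum_nil]
  push_cast
  ring

theorem card_invF4_3 : Nat.card (Subgroup.centralizer {gF4.inv (by simp) adF4_C F ⟨3, by decide⟩}) =
    Fintype.card F ^ 10 * (Fintype.card F ^ 2 - 1) ^ 2 * (Fintype.card F ^ 4 - 1) * (Fintype.card F ^ 6 - 1) := by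
  classical
  rw [gF4.card_inv _ _ F hF _ [0, 2, 1] [3, 0, 2, 1] (by decide) (by simp [show chevF4.rank = 4 from rfl]; omega) 16 10
    [0, 1] (by decide +kernel) (by decide +kernel),
    gF4.PS_step0 [2, 1] [0, 2, 1] (by decide) (by decide) _ _ cntF4_2 rfl,
    gF4.PS_step0 [1] [2, 1] (by decide) (by decide) _ _ cntF4_1 rfl,
    gF4.PS_step0 [] [1] (by decide) (by decide) _ _ cntF4_0 rfl, empty_eq,
    RS.PS_empty _ trivial, show chevF4.rank = 4 from rfl]
  zify [fun n => Nat.one_le_pow n _ (Fintype.card_pos (α := F)), Nat.succ_le_of_lt (Fintype.card_pos (α := F))]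
  simp only [hor, List.foldr, List.map, List.sum_cons, List.sum_nil]
  push_cast
  ring

theorem inv_conjF4 {u : chevF4.group F} (hu : orderOf u = 2) : IsConj u (gF4.inv (by simp) adF4_C F ⟨0, by decide⟩) ∨
    IsConj u (gF4.inv (by simp) adF4_C F ⟨3, by decide⟩) := by
  obtain ⟨j, h1, h2⟩ := gF4.inv_class (by simp) adF4_C F hF minusF4 (θ := ⟨47, by decide⟩) (by decide +kernel) hu
  obtain rfl | rfl : j = ⟨0, by decide⟩ ∨ j = ⟨3, by decide⟩ := by clear h2; revert j; decide +kernel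
  exacts [.inl h2, .inr h2]

set_option maxHeartbeats 1000000 in
theorem card_invE8_0 : Nat.card (Subgroup.centralizer {gE8.inv (by simp) adE8_C F ⟨0, by decide⟩}) =
    Fintype.card F ^ 56 * (Fintype.card F ^ 8 - 1) * ∏ i ∈ Icc 1 7, (Fintype.card F ^ (2 * i) - 1) := by
  classical
  rw [gE8.card_inv _ _ F hF _ [7, 6, 5, 4, 1, 3, 2] [0, 7, 6, 5, 4, 1, 3, 2] (by decide)
    (by simp [show chevE8.rank = 8 from rfl]; omega) 79 56 [0, 1, 2, 3, 4, 5, 6, 7, 7, 8, 9, 10, 11, 12, 13, 14]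
    (by decide +kernel) (by decide +kernel),
    gE8.PS_step0 [6, 5, 4, 1, 3, 2] [7, 6, 5, 4, 1, 3, 2] (by decide) (by decide) 13
      [1, 1, 1, 1, 1, 1, 2, 1, 1, 1, 1, 1, 1, 0] (by decide +kernel) rfl,
    gE8.PS_step0 [5, 4, 1, 3, 2] [6, 5, 4, 1, 3, 2] (by decide) (by decide) 11
      [1, 1, 1, 1, 1, 2, 1, 1, 1, 1, 1, 0] (by decide +kernel) rfl,
    gE8.PS_step0 [4, 1, 3, 2] [5, 4, 1, 3, 2] (by decide) (by decide) 9 [1, 1, 1, 1, 2, 1, 1, 1, 1, 0]
      (by decide +kernel) rfl,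
    gE8.PS_step0 [1, 3, 2] [4, 1, 3, 2] (by decide) (by decide) 7 [1, 1, 1, 2, 1, 1, 1, 0] (by decide +kernel) rfl,
    gE8.PS_step0 [3, 2] [1, 3, 2] (by decide) (by decide) 4 [1, 1, 1, 1, 0] (by decide +kernel) rfl,
    gE8.PS_step0 [2] [3, 2] (by decide) (by decide) 3 [1, 1, 1, 0] (by decide +kernel) rfl,
    gE8.PS_step0 [] [2] (by decide) (by decide) 2 [1, 1, 0] (by decide +kernel) rfl, empty_eq,
    RS.PS_empty _ trivial, show chevE8.rank = 8 from rfl, show Icc 1 7 = {1, 2, 3, 4, 5, 6, 7} from rfl]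
  simp only [mem_insert, mem_singleton, prod_insert, prod_singleton, Nat.reduceEqDiff, or_self, not_false_eq_true]
  zify [fun n => Nat.one_le_pow n _ (Fintype.card_pos (α := F)), Nat.succ_le_of_lt (Fintype.card_pos (α := F))]
  simp only [hor, List.foldr, List.map, List.sum_cons, List.sum_nil]
  push_cast
  ring

theorem card_invE8_7 : Nat.card (Subgroup.centralizer {gE8.inv (by simp) adE8_C F ⟨7, by decide⟩}) =
    Fintype.card F ^ 64 * (Fintype.card F ^ 2 - 1) ^ 2 * (Fintype.card F ^ 6 - 1) * (Fintype.card F ^ 8 - 1) *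
      (Fintype.card F ^ 10 - 1) * (Fintype.card F ^ 12 - 1) * (Fintype.card F ^ 14 - 1) * (Fintype.card F ^ 18 - 1) := by
  classical
  rw [gE8.card_inv _ _ F hF _ [6, 5, 4, 1, 3, 2, 0] [7, 6, 5, 4, 1, 3, 2, 0] (by decide)
    (by simp [show chevE8.rank = 8 from rfl]; omega) 58 64 [0, 1] (by decide +kernel) (by decide +kernel),
    gE8.PS_step0 [5, 4, 1, 3, 2, 0] [6, 5, 4, 1, 3, 2, 0] (by decide) (by decide) _ _ cntE8_6 rfl,
    gE8.PS_step0 [4, 1, 3, 2, 0] [5, 4, 1, 3, 2, 0] (by decide) (by decide) _ _ cntE8_5 rfl,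
    gE8.PS_step0 [1, 3, 2, 0] [4, 1, 3, 2, 0] (by decide) (by decide) _ _ cntE8_4 rfl,
    gE8.PS_step0 [3, 2, 0] [1, 3, 2, 0] (by decide) (by decide) _ _ cntE8_3 rfl,
    gE8.PS_step0 [2, 0] [3, 2, 0] (by decide) (by decide) _ _ cntE8_2 rfl,
    gE8.PS_step0 [0] [2, 0] (by decide) (by decide) _ _ cntE8_1 rfl,
    gE8.PS_step0 [] [0] (by decide) (by decide) _ _ cntE8_0 rfl, empty_eq,
    RS.PS_empty _ trivial, show chevE8.rank = 8 from rfl]
  zify [fun n => Nat.one_le_pow n _ (Fintype.card_pos (α := F)), Nat.succ_le_of_lt (Fintype.card_pos (α := F))]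
  simp only [hor, List.foldr, List.map, List.sum_cons, List.sum_nil]
  push_cast
  ring

theorem inv_conjE8 {u : chevE8.group F} (hu : orderOf u = 2) : IsConj u (gE8.inv (by simp) adE8_C F ⟨0, by decide⟩) ∨
    IsConj u (gE8.inv (by simp) adE8_C F ⟨7, by decide⟩) := by
  obtain ⟨j, h1, h2⟩ := gE8.inv_class (by simp) adE8_C F hF minusE8 (θ := ⟨239, by decide⟩) (by decide +kernel) hu
  obtain rfl | rfl : j = ⟨0, by decide⟩ ∨ j = ⟨7, by decide⟩ := by clear h2; revert j; decide +kernel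
  exacts [.inl h2, .inr h2]

end Chev

end CfsgH6
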