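import Cfsg.Agent.H6.Col
import Cfsg.Agent.H6.All

/-! Checked tables of morphisms between Steinberg systems. -/

set_option autoImplicit false
set_option maxRecDepth 100000

noncomputable section

namespace CfsgH6
namespace Chev

/-- table E6g -/
def tE6g : ℕ := 0x24700000024600000024500000024200000033700000024400000024100000033600000023f00000033400000033100000023c00000032d00000022900000032600000022400000034300000034000000023500000033e00000023300000023000000033d00000023200000022f00000022e00000033b00000022c00000032800000022500000023a00000032b00000022700000033900000022a00000023800000020f00000021d00000030e00000022000000031c00000020d00000022200000031f00000021b00000030c00000021900000021800000021500000030a00000021700000021400000030900000021200000030700000030400000022300000032100000021e00000031a00000020b000000316000000313000000208000000311000000206000000203000000310000000205000000202000000201000000200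

theorem mE6g_0 : chkMor ftE6 ftE6 ctx0 tE6g 0 24 = true := by decide +kernel

theorem mE6g_1 : chkMor ftE6 ftE6 ctx0 tE6g 24 24 = true := by decide +kernel

theorem mE6g_2 : chkMor ftE6 ftE6 ctx0 tE6g 48 24 = true := by decide +kernel

theorem mE6g : chkMor ftE6 ftE6 ctx0 tE6g 0 72 = true :=
  allRg_join (m := 72) (allRg_join (m := 48) (mE6g_0) mE6g_1 rfl rfl) mE6g_2 rfl rfl

/-- table F4E6 -/
def tF4E6 : ℕ := 0x24700000024600000024500024424200000024100000023f00000023c00024333700024033600023e33400023b32d00023d33100023a22900023932600023822400000023500000023300000022c00023223000022b32800022a22500000032f00000022700000022e00000021900000022000000031800022221d00031f21c00021721500000021b00000021400000021200022320f00032120e00021e20d00031620a00031a20c00031320900031120700031020400000020b000000208000000206000205203000000202000000201000000200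

theorem mF4E6_0 : chkMor ftF4 ftE6 ctx0 tF4E6 0 24 = true := by decide +kernel

theorem mF4E6_1 : chkMor ftF4 ftE6 ctx0 tF4E6 24 24 = true := by decide +kernel

theorem mF4E6 : chkMor ftF4 ftE6 ctx0 tF4E6 0 48 = true :=
  allRg_join (m := 48) (mF4E6_0) mF4E6_1 rfl rfl

end Chev
end CfsgH6
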