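import Cfsg.Agent.H6.Col
import Cfsg.Agent.H6.All

/-! Checked tables of morphisms between Steinberg systems. -/

set_option autoImplicit false
set_option maxRecDepth 100000

noncomputable section

namespace CfsgH6
namespace Chev

/-- table E6E8 -/
def tE6E8 : ℕ := 0x2cc0000002c20000002bc0000002b90000002b80000002b20000002af0000002ae0000002ab0000002aa0000002a90000002a60000002a50000002a40000002a30000002a200000029c00000029900000029800000029500000029400000029300000029000000028f00000028e00000028d00000028a00000028900000028800000028700000028400000028300000028200000027f00000027e00000027b00000027400000027100000027000000026d00000026c00000026b00000026800000026700000026600000026500000026200000026100000026000000025f00000025c00000025b00000025a00000025700000025600000025300000024d00000024c00000024b00000024a00000024900000024600000024500000024400000024100000024000000023d00000023700000023600000023300000022d000000223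

theorem mE6E8_0 : chkMor ftE6 ftE8 ctx0 tE6E8 0 24 = true := by decide +kernel

theorem mE6E8_1 : chkMor ftE6 ftE8 ctx0 tE6E8 24 24 = true := by decide +kernel

theorem mE6E8_2 : chkMor ftE6 ftE8 ctx0 tE6E8 48 24 = true := by decide +kernel

theorem mE6E8 : chkMor ftE6 ftE8 ctx0 tE6E8 0 72 = true :=
  allRg_join (m := 72) (allRg_join (m := 48) (mE6E8_0) mE6E8_1 rfl rfl) mE6E8_2 rfl rfl

/-- table E7E8 -/
def tE7E8 : ℕ := 0x2e20000002db0000002d60000002d20000002cf0000002cd0000002cc0000002c80000002c50000002c30000002c20000002bf0000002bd0000002bc0000002ba0000002b90000002b80000002b50000002b30000002b20000002b00000002af0000002ae0000002ac0000002ab0000002aa0000002a90000002a70000002a60000002a50000002a40000002a30000002a200000029f00000029d00000029c00000029a00000029900000029800000029600000029500000029400000029300000029100000029000000028f00000028e00000028d00000028b00000028a00000028900000028800000028700000028500000028400000028300000028200000028000000027f00000027e00000027c00000027b00000027900000027600000027400000027300000027100000027000000026f00000026d00000026c00000026b00000026a00000026800000026700000026600000026500000026400000026200000026100000026000000025f00000025e00000025c00000025b00000025a00000025900000025700000025600000025500000025300000025200000025000000024d00000024c00000024b00000024a00000024900000024800000024600000024500000024400000024300000024100000024000000023f00000023d00000023c00000023a00000023700000023600000023500000023300000023200000023000000022d00000022c00000022a00000022700000022300000022200000022000000021d00000021900000021400000020d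

theorem mE7E8_0 : chkMor ftE7 ftE8 ctx0 tE7E8 0 24 = true := by decide +kernel

theorem mE7E8_1 : chkMor ftE7 ftE8 ctx0 tE7E8 24 24 = true := by decide +kernel

theorem mE7E8_2 : chkMor ftE7 ftE8 ctx0 tE7E8 48 24 = true := by decide +kernel

theorem mE7E8_3 : chkMor ftE7 ftE8 ctx0 tE7E8 72 24 = true := by decide +kernel

theorem mE7E8_4 : chkMor ftE7 ftE8 ctx0 tE7E8 96 24 = true := by decide +kernel

theorem mE7E8_5 : chkMor ftE7 ftE8 ctx0 tE7E8 120 6 = true := by decide +kernel

theorem mE7E8 : chkMor ftE7 ftE8 ctx0 tE7E8 0 126 = true :=
  allRg_join (m := 126) (allRg_join (m := 120) (allRg_join (m := 96) (allRg_join (m := 72) (allRg_join (m := 48) (mE7E8_0) mE7E8_1 rfl rfl) mE7E8_2 rfl rfl) mE7E8_3 rfl rfl) mE7E8_4 rfl rfl) mE7E8_5 rfl rfl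

end Chev
end CfsgH6
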