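import Cfsg.Agent.H6.Sch1
import Cfsg.Agent.H1.Schur
namespace CfsgH6
open Subgroup
open scoped commutatorElement
universe u

/-- degree of a map into a group, modulo a subgroup -/
def Deg {A P : Type*} [AddCommGroup A] [Group P] (N : Subgroup P) : ℕ → (A → P) → Prop
  | 0, φ => ∀ s, φ s ∈ N
  | n + 1, φ => ∀ t, Deg N n fun s => φ (s + t) * (φ s)⁻¹

namespace Deg
variable {A P : Type*} [AddCommGroup A] [Group P] {N : Subgroup P}

theorem mono {N' : Subgroup P} (h : N ≤ N') : ∀ {n} {φ : A → P}, Deg N n φ → Deg N' n φ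
  | 0, _, H => fun s => h (H s)
  | _ + 1, _, H => fun t => mono h (H t)

theorem map {Q : Type*} [Group Q] (f : P →* Q) (M : Subgroup Q) :
    ∀ {n} {φ : A → P}, Deg (M.comap f) n φ ↔ Deg M n fun s => f (φ s)
  | 0, _ => Iff.rfl
  | _ + 1, _ => forall_congr' fun t => (map f M).trans (by simp only [map_mul, map_inv])

theorem one : ∀ n, Deg N n fun _ : A => (1 : P)
  | 0 => fun _ => N.one_mem
  | n + 1 => fun _ => by simpa using one n

theorem shift (t : A) : ∀ {n} {φ : A → P}, Deg N n φ → Deg N n fun s => φ (s + t)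
  | 0, _, H => fun _ => H _
  | _ + 1, _, H => fun u => by simpa only [add_right_comm _ t u] using shift t (H u)

theorem mul : ∀ {n} {φ χ : A → P}, (∀ s, χ s ∈ center P) → Deg N n φ → Deg N n χ → Deg N n fun s => φ s * χ s
  | 0, _, _, _, H, H' => fun s => N.mul_mem (H s) (H' s)
  | _ + 1, φ, χ, hc, H, H' => fun t => by
    have := mul (fun s => mul_mem (hc (s + t)) (inv_mem (hc s))) (H t) (H' t)
    convert this using 2 with s
    rw [mul_assoc (φ _) (φ s)⁻¹, mem_center_iff.1 (mul_mem (hc (s + t)) (inv_mem (hc s)))]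
    group

theorem inv : ∀ {n} {χ : A → P}, (∀ s, χ s ∈ center P) → Deg N n χ → Deg N n fun s => (χ s)⁻¹
  | 0, _, _, H => fun s => N.inv_mem (H s)
  | _ + 1, χ, hc, H => fun t => by
    have := inv (fun s => mul_mem (hc (s + t)) (inv_mem (hc s))) (H t)
    convert this using 2 with s
    rw [inv_inv, mul_inv_rev, inv_inv, mem_center_iff.1 (hc s)]

theorem two {φ : A → P} (h : ∀ s t, φ (s + t) * (φ s)⁻¹ * (φ t)⁻¹ ∈ N) : Deg N 2 φ := fun t u s => by
  have := mul_mem (h (s + u) t) (inv_mem (h s t))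
  convert this using 1
  group

theorem bil {W : Subgroup P} (hW : ∀ x ∈ W, ∀ y, ⁅x, y⁆ ∈ center P) : ∀ (n : ℕ) {a b : ℕ} {φ χ : A → P},
    a + b = n + 1 → (∀ s, φ s ∈ W) → Deg (center P) a φ → Deg (centralizer W) b χ → Deg ⊥ n fun s => ⁅φ s, χ s⁆ := by
  have h0 : ∀ n {φ χ : A → P}, Deg (center P) 0 φ → Deg ⊥ n fun s => ⁅φ s, χ s⁆ := fun n φ χ H => by
    convert one n using 2 with s
    exact commutatorElement_eq_one_iff_mul_comm.2 (mem_center_iff.1 (H s) _).symm
  have h1 : ∀ n {φ χ : A → P}, (∀ s, φ s ∈ W) → Deg (centralizer W) 0 χ → Deg ⊥ n fun s => ⁅φ s, χ s⁆ :=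
    fun n φ χ hφ H => by
      convert one n using 2 with s
      exact commutatorElement_eq_one_iff_mul_comm.2 (H s _ (hφ s))
  intro n
  induction n with
  | zero =>
    intro a b φ χ e hφ H H'
    rcases a with _ | a
    · exact h0 _ H
    · obtain rfl : b = 0 := by omega
      exact h1 _ hφ H'
  | succ n ih =>
    intro a b φ χ e hφ H H'
    rcases a with _ | a
    · exact h0 _ H
    rcases b with _ | b
    · exact h1 _ hφ H'
    intro t
    have k1 := ih (a := a) (b := b + 1) (by omega) (fun s => mul_mem (hφ (s + t)) (inv_mem (hφ s))) (H t) (H'.shift t)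
    have k2 := ih (a := a + 1) (b := b) (by omega) hφ H (H' t)
    convert mul (fun s => hW _ (hφ s) (χ (s + t) * (χ s)⁻¹)) k1 k2 using 2 with s
    have key : ∀ x ∈ W, ∀ x' ∈ W, ∀ y y' : P, ⁅x' * x, y' * y⁆ * ⁅x, y⁆⁻¹ = ⁅x', y' * y⁆ * ⁅x, y'⁆ := by
      intro x hx x' hx' y y'
      have e1 : ⁅x' * x, y' * y⁆ = x' * ⁅x, y' * y⁆ * x'⁻¹ * ⁅x', y' * y⁆ := by
        simp only [commutatorElement_def]; group
      have e2 : ⁅x, y' * y⁆ = ⁅x, y'⁆ * (y' * ⁅x, y⁆ * y'⁻¹) := by
        simp only [commutatorElement_def]; group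
      rw [mem_center_iff.1 (hW x hx _), mul_inv_cancel_right] at e1 e2
      rw [e1, ← mem_center_iff.1 (hW x hx _), e2]
      group
    simpa using key _ (hφ s) _ (mul_mem (hφ (s + t)) (inv_mem (hφ s))) (χ s) (χ (s + t) * (χ s)⁻¹)

theorem const [Finite A] : ∀ (n : ℕ) {φ : A → P} {z : P} (S : Set A), Deg ⊥ (n + 1) φ → (∀ s ∉ S, φ s = z) →
    2 ^ n * S.ncard < Nat.card A → ∀ s, φ s = z := by
  have h0 : ∀ (n : ℕ) {φ : A → P} {z : P} (S : Set A), (∀ t s, φ (s + t) * (φ s)⁻¹ = 1) → (∀ s ∉ S, φ s = z) →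
      2 ^ n * S.ncard < Nat.card A → ∀ s, φ s = z := fun n φ z S H hz hc s => by
    have : S ≠ Set.univ := by
      rintro rfl
      rw [Set.ncard_univ] at hc
      exact absurd hc (not_lt.2 (Nat.le_mul_of_pos_left _ (by positivity)))
    obtain ⟨u, hu⟩ := (Set.ne_univ_iff_exists_notMem S).1 this
    rw [← hz u hu, ← mul_inv_eq_one, ← H (s - u) u, add_sub_cancel]
  intro n
  induction n with
  | zero => exact fun S H => h0 0 S fun t s => mem_bot.1 (H t s)
  | succ n ih =>
    intro φ z S H hz hc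
    refine h0 _ S (fun t => ih (S ∪ (· + t) ⁻¹' S) (H t) (fun s hs => ?_) (lt_of_le_of_lt ?_ hc)) hz hc
    · rw [Set.mem_union, not_or] at hs
      rw [hz _ hs.1, hz _ hs.2, mul_inv_cancel]
    · rw [pow_succ, mul_assoc]
      refine Nat.mul_le_mul_left _ ((Set.ncard_union_le _ _).trans ?_)
      rw [Set.ncard_preimage_of_injective_subset_range (add_left_injective t)
        (by rw [(add_right_surjective t).range_eq]; exact Set.subset_univ _)]
      omega

theorem comm_le_cent {W : Subgroup P} (hW : ∀ x ∈ W, ∀ y, ⁅x, y⁆ ∈ center P) : commutator P ≤ centralizer W := by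
  have k : ⁅⁅W, (⊤ : Subgroup P)⁆, (⊤ : Subgroup P)⁆ = ⊥ := by
    rw [commutator_eq_bot_iff_le_centralizer, coe_top, centralizer_univ, commutator_le]
    exact fun x hx y _ => hW x hx y
  rw [← commutator_eq_bot_iff_le_centralizer]
  exact commutator_commutator_eq_bot_of_rotate (by rwa [Subgroup.commutator_comm ⊤]) k

theorem lcs (τ : A → P →* P) (h1 : ∀ x, Deg (center P ⊔ commutator P) 2 fun s => τ s x) (i : ℕ) :
    ∀ x ∈ (⊤ : Subgroup P).lowerCentralSeries (i + 1),
      Deg ((⊤ : Subgroup P).lowerCentralSeries (i + 2)) (i + 3) fun s => τ s x := by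
  have hτ : ∀ n s, ∀ x ∈ (⊤ : Subgroup P).lowerCentralSeries n, τ s x ∈ (⊤ : Subgroup P).lowerCentralSeries n :=
    fun n s x hx => lowerCentralSeries_mono n le_top (map_lowerCentralSeries ⊤ (τ s) n ▸ mem_map_of_mem _ hx)
  have hc : ∀ n, (⊤ : Subgroup P).lowerCentralSeries n ≤
      (center _).comap (QuotientGroup.mk' ((⊤ : Subgroup P).lowerCentralSeries (n + 1))) := fun n x hx => by
    refine mem_center_iff.2 fun y => ?_
    obtain ⟨y, rfl⟩ := QuotientGroup.mk'_surjective _ y
    rw [eq_comm, ← commutatorElement_eq_one_iff_mul_comm, ← map_commutatorElement]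
    exact (QuotientGroup.eq_one_iff _).2 (commutator_mem_commutator hx (mem_top y))
  have step : ∀ i, (∀ x ∈ (⊤ : Subgroup P).lowerCentralSeries i, Deg ((center _).comap (QuotientGroup.mk'
      ((⊤ : Subgroup P).lowerCentralSeries (i + 2)))) (i + 2) fun s => τ s x) →
      ∀ x ∈ (⊤ : Subgroup P).lowerCentralSeries (i + 1),
        Deg ((⊤ : Subgroup P).lowerCentralSeries (i + 2)) (i + 3) fun s => τ s x := fun i H x hx => by
    set f := QuotientGroup.mk' ((⊤ : Subgroup P).lowerCentralSeries (i + 2))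
    have e : (⊤ : Subgroup P).lowerCentralSeries (i + 2) = (⊥ : Subgroup _).comap f := (QuotientGroup.ker_mk' _).symm
    rw [e, map]
    have hW : ∀ x ∈ ((⊤ : Subgroup P).lowerCentralSeries i).map f, ∀ y, ⁅x, y⁆ ∈ center (P ⧸ (⊤ : Subgroup P).lowerCentralSeries (i + 2)) := by
      rintro _ ⟨x, hx, rfl⟩ y
      obtain ⟨y, rfl⟩ := QuotientGroup.mk'_surjective _ y
      rw [← map_commutatorElement]
      exact hc _ (commutator_mem_commutator hx (mem_top y))
    have hW' : center P ⊔ commutator P ≤ (centralizer (((⊤ : Subgroup P).lowerCentralSeries i).map f : Set _)).comap f := by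
      rw [← map_le_iff_le_comap, Subgroup.map_sup, sup_le_iff]
      constructor
      · rintro _ ⟨z, hz, rfl⟩ _ ⟨y, -, rfl⟩
        rw [← map_mul, ← map_mul, mem_center_iff.1 hz]
      · refine le_trans ?_ (comm_le_cent hW)
        rw [commutator_def, map_commutator]
        exact commutator_mono le_top le_top
    induction hx using closure_induction with
    | mem _ hx =>
      obtain ⟨x, hx, y, -, rfl⟩ := hx
      simp only [map_commutatorElement]
      exact bil hW _ (a := i + 2) (b := 2) rfl (fun s => mem_map_of_mem _ (hτ _ _ _ hx)) ((map _ _).1 (H x hx))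
        ((map _ _).1 ((h1 y).mono hW'))
    | one => simpa only [map_one] using one _
    | mul x y _ hy a b => simpa only [map_mul] using mul (fun s => hc _ (hτ _ s _ hy)) a b
    | inv x hx a => simpa only [map_inv] using inv (fun s => hc _ (hτ _ s _ hx)) a
  induction i with
  | zero =>
    refine step 0 fun x _ => (h1 x).mono (sup_le (fun z hz => mem_comap.2 (mem_center_iff.2 fun y => ?_)) (hc 1))
    obtain ⟨y, rfl⟩ := QuotientGroup.mk'_surjective _ y
    rw [← map_mul, ← map_mul, mem_center_iff.1 hz]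
  | succ i ih => exact step _ fun x hx => (ih x hx).mono (hc _)

end Deg

/-- the commutator subgroup of the preimage of `V` in any central extension meets the kernel trivially -/
def Gd {G : Type u} [Group G] (V : Subgroup G) : Prop :=
  ∀ (E : Type u) [Group E] (π : E →* G), CX π → ∀ z ∈ ⁅V.comap π, V.comap π⁆, π z = 1 → z = 1

theorem gd_of_wt {G : Type u} [Group G] {A : Type*} [AddCommGroup A] [Finite A] {V : Subgroup G} (D : A → G)
    (c : A → G → G) (c0 : ∀ x, c 0 x = 1) (hc : ∀ s ≠ 0, ∀ x, c s x = D s * x * (D s)⁻¹)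
    (hD : ∀ s, ∀ x ∈ V, D s * x * (D s)⁻¹ ∈ V)
    (hadd : ∀ x ∈ V, ∀ s t, c (s + t) x * (c s x)⁻¹ * (c t x)⁻¹ ∈ ⁅V, V⁆) {n : ℕ}
    (hn : V.lowerCentralSeries n = ⊥) (hA : 2 ^ (n + 1) < Nat.card A) : Gd V := by
  classical
  intro E _ π h z hz hz1
  set P := V.comap π
  have hP : P.map π = V := map_comap_eq_self_of_surjective h.surj V
  let τ : A → P →* P := fun s => if s = 0 then 1 else
    ((MulAut.conj (h.s (D s))).toMonoidHom.comp P.subtype).codRestrict P fun x => by
      simpa [P] using hD s _ x.2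
  have hτ : ∀ s x, π (τ s x) = c s (π x) := fun s x => by
    by_cases hs : s = 0
    · simp [τ, hs, c0]
    · simp [τ, hs, hc s hs]
  have hk : ∀ x : P, π x = 1 → x ∈ center P := fun x hx => mem_center_iff.2 fun y =>
    Subtype.ext (h.comm hx y).symm
  have h1 : ∀ x, Deg (center P ⊔ commutator P) 2 fun s => τ s x := fun x => Deg.two fun s t => by
    have := hadd _ x.2 s t
    rw [← hP, ← map_commutator, ← map_subtype_commutator] at this
    obtain ⟨_, ⟨y, hy, rfl⟩, e⟩ := this
    rw [← inv_mul_cancel_right (_ * _⁻¹ * _⁻¹) y]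
    exact mul_mem_sup (hk _ (by simp [hτ, ← e])) hy
  rw [← map_subtype_commutator] at hz
  obtain ⟨z, hz, rfl⟩ := hz
  have hz2 : ∀ s ∉ ({0} : Set A), τ s z = z := fun s hs => by
    rw [Set.mem_singleton_iff] at hs
    exact Subtype.ext (by simpa [τ, hs] using h.conj_z hz1 _)
  have key : ∀ i ≤ n, z ∈ (⊤ : Subgroup P).lowerCentralSeries (i + 1) := fun i hi => by
    induction i with
    | zero => exact hz
    | succ i ih =>
      have := Deg.lcs τ h1 i z (ih (by omega))
      rw [← QuotientGroup.ker_mk' ((⊤ : Subgroup P).lowerCentralSeries (i + 2)), ← MonoidHom.comap_bot] at this ⊢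
      have := Deg.const _ {0} ((Deg.map _ _).1 this) (fun s hs => congrArg _ (hz2 s hs))
        (by rw [Set.ncard_singleton, mul_one]; exact lt_of_le_of_lt (Nat.pow_le_pow_right two_pos (by omega)) hA) 0
      rw [mem_comap, ← this, show τ 0 z = 1 by simp [τ], map_one]
      exact one_mem _
  have := mem_map_of_mem P.subtype (key n le_rfl)
  rw [top_subtype_lowerCentralSeries, Subgroup.lowerCentralSeries_succ, commutator_eq_bot_iff_le_centralizer.2, mem_bot] at this
  · exact this
  intro x hx y _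
  have := mem_map_of_mem π hx
  rw [map_lowerCentralSeries, hP, hn, mem_bot] at this
  exact (h.comm this y).symm

theorem gd_of_cyclic {G : Type u} [Group G] {V : Subgroup G} (hV : IsCyclic V) : Gd V := fun E _ π h z hz _ => by
  have := (π.subgroupComap V).isMulCommutative_of_isCyclic_of_ker_le_center fun x hx =>
    mem_center_iff.2 fun y => Subtype.ext (h.comm (congrArg Subtype.val hx) y).symm
  rwa [commutator_eq_bot_iff_le_centralizer.2 (le_centralizer _), mem_bot] at hz

theorem Gd.mono {G : Type u} [Group G] {V W : Subgroup G} (h : Gd W) (e : V ≤ W) : Gd V := fun E _ π hπ z hz =>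
  h E π hπ z (commutator_mono (comap_mono e) (comap_mono e) hz)

/-- transfer: a central element of the commutator subgroup -/
theorem pow_index_mem {E : Type*} [Group E] (P : Subgroup E) [P.FiniteIndex] {z : E} (hz : z ∈ center E)
    (hc : z ∈ commutator E) : z ^ P.index ∈ ⁅P, P⁆ := by
  have k := MonoidHom.transfer_eq_pow (Abelianization.of (G := P)) z fun k g _ => by
    rw [mul_assoc, ← mem_center_iff.1 (pow_mem hz k), inv_mul_cancel_left]
  rw [MonoidHom.mem_ker.1 (Abelianization.commutator_subset_ker _ hc), eq_comm, ← MonoidHom.mem_ker,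
    Abelianization.ker_of] at k
  rw [← map_subtype_commutator]
  exact mem_map_of_mem P.subtype k

theorem sm_one_of_gd {G : Type u} [Group G] [Finite G] (H : ∀ r : ℕ, r.Prime → ∃ V : Subgroup G, ¬ r ∣ V.index ∧ Gd V) :
    Cfsg.HasCyclicSchurMultiplier G 1 := by
  refine CfsgH1.hasSM_one_iff.2 (CfsgH1.subsingleton_SM_iff.2 fun E _ _ π hπ => eq_bot_iff.2 fun z hz => ?_)
  by_contra h1
  obtain ⟨r, hr, hd⟩ := Nat.exists_prime_and_dvd (mt orderOf_eq_one_iff.1 h1)
  obtain ⟨V, hV, h⟩ := H r hr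
  have := h E π ⟨hπ.1, hπ.2.1⟩ _ (pow_index_mem _ (hπ.2.1 hz) (hπ.2.2 hz)) (pow_mem hz _)
  rw [index_comap_of_surjective _ hπ.1] at this
  exact hV (hd.trans (orderOf_dvd_of_pow_eq_one this))

end CfsgH6
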