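import Cfsg.Agent.H6.Mul9
import Cfsg.Agent.H6.TD4
import Cfsg.Agent.H6.Inv4

/-! The Schur multiplier of `³D₄(q)`. -/

set_option autoImplicit false

namespace CfsgH6
open Subgroup Cfsg.Lie
open scoped commutatorElement
universe u

namespace Chev
open PreSt Good

/-- grading for `D₄` -/
def wD4 : List ℤ := [100, 130, 110, 103]
theorem grdD4 : GrdC ftD4 tD4g2130 wD4 := by decide +kernel
set_option synthInstance.maxSize 2000 in
theorem grdD4' : ∀ a < 24, 12 ≤ a → ∀ b < 24, 12 ≤ b → ∀ c ∈ (ftD4.tm (rhT tD4g2130 (rhT tD4g2130 a))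
    (rhT tD4g2130 (rhT tD4g2130 b))).map Prod.fst, ∃ d < 24, rhT tD4g2130 (rhT tD4g2130 d) = c ∧
      (phT ftD4 wD4 a ≤ phT ftD4 wD4 d ∨ phT ftD4 wD4 b ≤ phT ftD4 wD4 d) := by decide +kernel
/-- non-minimal roots -/
abbrev lw4 (r : ℕ) : Prop := phT ftD4 wD4 (rhT tD4g2130 r) < phT ftD4 wD4 r ∨
  phT ftD4 wD4 (rhT tD4g2130 (rhT tD4g2130 r)) < phT ftD4 wD4 r
/-- weights for `D₄` -/
def w3 (m : List ℤ) (r : ℕ) : ℤ × ℤ × ℤ := (wT ftD4 m r, wT ftD4 ([3, 1, 0, 2].map fun i => m.getD i 0) r,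
  wT ftD4 ([2, 1, 3, 0].map fun i => m.getD i 0) r)
/-- certificate for `D₄` -/
def cD1 : List (List ℤ × ℕ × ℕ) := [([2, 2, 1, 1], 14, 18), ([2, 2, 1, 1], 14, 19), ([0, -2, -1, -1], 22, 18),
  ([0, 0, -1, -1], 23, 19), ([1, 0, 0, 0], 23, 18), ([1, 0, 0, 1], 23, 20), ([1, 1, 0, 0], 22, 19), ([1, 1, 0, 1], 14, 20),
  ([1, 2, 0, 1], 22, 20)]
/-- certificate for `D₄` -/
def cD2 : List (List ℤ × ℕ × ℕ) := [([1, 1, 0, 1], 14, 22), ([1, 1, 0, 1], 14, 23), ([1, 1, 0, 0], 22, 23),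
  ([1, 2, 1, 1], 18, 19), ([1, 2, 1, 1], 18, 20), ([0, 1, 0, 0], 20, 19)]
theorem cD_1 : (∀ c ∈ cD1, w3 c.1 c.2.1 = (0, 0, 0) ∧ w3 c.1 c.2.2 = (2, 0, 0)) ∧
    ∀ c ∈ cD2, w3 c.1 c.2.1 = (0, 0, 0) ∧ w3 c.1 c.2.2 = (1, 1, 1) := by decide +kernel
set_option synthInstance.maxSize 2000 in
theorem cD_2 : ∀ r < 24, 12 ≤ r → (lw4 r ∨ (∃ c ∈ cD1, c.2.2 = r) ∨ ∃ c ∈ [(23, 1), (23, 9), (14, 22)],
    FixC ftD4 tD4g2130 r c.1 c.2) ∧ ∀ s < 24, 12 ≤ s → s = r ∨ lw4 r ∨ lw4 s ∨ (∃ c ∈ cD1, (r, s) = c.2 ∨ (s, r) = c.2) ∨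
      ∃ c ∈ cD2, (r, s) = c.2 ∨ (s, r) = c.2 := by decide +kernel

namespace IsD4
variable {K : Type u} [Field K] {q : ℕ} {φ : K ≃+* K} {T : (gD4.adjG K).Tw} (h : IsD4 q φ T)
include h

theorem tor (m : List ℤ) (v : Kˣ) : ∃ c, (gD4.isStG K).hh (gD4.multG K) c ∈ T.M ∧ ∀ r : Fin chevD4.nroots,
    ((∏ i, c i ^ gD4.cd.A (gD4.cd.sim i) r : Kˣ) : K) = v ^ (w3 m r).1 * φ v ^ (w3 m r).2.1 * φ (φ v) ^ (w3 m r).2.2 := by
  refine ⟨fun i => v ^ m.getD i 0 * Units.map φ.toMonoidHom v ^ ([3, 1, 0, 2].map fun i => m.getD i 0).getD i 0 *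
    Units.map φ.toMonoidHom (Units.map φ.toMonoidHom v) ^ ([2, 1, 3, 0].map fun i => m.getD i 0).getD i 0,
    h.hh_mem fun i => ?_, fun r => by rw [chi_tor, gD4.wT_eq, gD4.wT_eq, gD4.wT_eq]; simp; rfl⟩
  rw [h.π]
  have := h.q3
  change Fin 4 at i
  fin_cases i <;> simp [this, f2130, pm] <;> ring

variable {E : Type u} [Group E] {ρ : E →* chevD4.group K} {p : ℕ} (C : Cov T ρ p)
include C

theorem lo {r : Fin chevD4.nroots} (hr : gD4.cd.Pos r) (h1 : lw4 r) :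
    (gD4.adjG K).LV ρ (phi _ wD4) (phi _ wD4 (gD4.cd.rt r)) ≤ (gD4.adjG K).LV ρ (phi _ wD4) (phi _ wD4 (gD4.cd.rt r) + 1) := by
  have G := grd (g := gD4) grdD4 C.st h.σ
  have e := rho_eq (g := gD4) grdD4 C.st h.σ
  have e2 : ∀ r, (T.sq.ρ r : ℕ) = rhT tD4g2130 (rhT tD4g2130 r) := fun r => (e _).trans (congrArg _ (e r))
  have G2 : Grd T.sq (phi _ wD4) := ⟨G.pos, G.inj, fun m hm => by
    rintro _ ⟨a, ha, rfl⟩ _ ⟨b, hb, rfl⟩ c hc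
    have := gD4.mem_tm hc
    rw [e2, e2] at this
    obtain ⟨d, h1, h2, h3⟩ := grdD4' a a.2 (gD4.pos_iff.1 ((G.pos a).2 (hm.trans_le ha))) b b.2
      (gD4.pos_iff.1 ((G.pos b).2 (hm.trans_le hb))) _ (List.mem_map_of_mem this)
    simp only [Set.mem_setOf_eq, gD4.phT_eq] at ha hb
    exact ⟨⟨d, h1⟩, (h3.elim ha.trans hb.trans).trans_eq (gD4.phT_eq _ ⟨d, h1⟩).symm, Fin.ext ((e2 _).trans h2)⟩⟩
  refine fun x hx => (G.lev hr C.st).ker x hx (h1.elim (fun h1 => (G.fix_co hr C.st (C.fix x) hx).1 ?_) fun h1 =>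
    (G2.fix_co hr C.st ((congrArg T.σ (C.fix x)).trans (C.fix x)) hx).1 ?_)
  · rwa [gD4.phT_eq, gD4.phT_eq, e]
  · rwa [gD4.phT_eq, gD4.phT_eq, e2]

theorem nx {k m : ℤ} (H : ∀ r < 24, k ≤ phT ftD4 wD4 r → m ≤ phT ftD4 wD4 r ∨ 12 ≤ r ∧ lw4 r) :
    (gD4.adjG K).LV ρ (phi _ wD4) k ≤ (gD4.adjG K).LV ρ (phi _ wD4) m :=
  LV_ind (P := (· ≤ _)) (fun x (hx : ρ x = 1) => by simp [LV, hx]) fun r hr ih => by
    rcases H r r.2 (gD4.phT_eq _ r ▸ hr) with h1 | h1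
    exacts [LV_mono (gD4.phT_eq _ r ▸ h1), (h.lo C (gD4.pos_iff.2 h1.1) h1.2).trans ih]

variable [Fintype K]

theorem van (hd : 16 < Nat.card K ∨ 4 < Nat.card K ∧ ∀ v : K, ∃ y, y ^ 2 = v) (r s : Fin chevD4.nroots) (hr : gD4.cd.Pos r)
    (hs : gD4.cd.Pos s) (H : (∃ v : K, v ≠ 0 ∧ v * φ v * φ (φ v) ≠ 1) ∨ ∀ c ∈ cD2, (r.1, s.1) ≠ c.2 ∧ (s.1, r.1) ≠ c.2) :
    (gD4.adjG K).Van ρ (phi _ wD4) r s := by
  have G := grd (g := gD4) grdD4 C.st h.σ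
  have kl : ∀ c : List ℤ × ℕ × ℕ, w3 c.1 c.2.1 = (0, 0, 0) → ∀ v : K, v ≠ 0 →
      v ^ (w3 c.1 c.2.2).1 * φ v ^ (w3 c.1 c.2.2).2.1 * φ (φ v) ^ (w3 c.1 c.2.2).2.2 ≠ 1 → ∀ {r s : Fin chevD4.nroots},
      gD4.cd.Pos r → gD4.cd.Pos s → (r.1, s.1) = c.2 → (gD4.adjG K).Van ρ (phi _ wD4) r s := by
    rintro ⟨m, _, _⟩ h1 v h0 hv r s hr hs ⟨⟩
    obtain ⟨d, h3, h4⟩ := h.tor m (Units.mk0 v h0)
    exact C.van_kill _ G hr hs h3 (Units.ext (by simp [h4, show w3 m r = _ from h1])) fun e => hv (by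
      rw [← Units.val_mk0 h0, ← h4, e]; rfl)
  have lv : ∀ {r s : Fin chevD4.nroots}, gD4.cd.Pos r → lw4 r → (gD4.adjG K).Van ρ (phi _ wD4) r s :=
    fun hr h1 _ _ _ hβ x hx => hβ.ll x (h.lo C hr h1 hx)
  obtain ⟨v, v0, hv⟩ := exists_sq_ne (K := K) (n := 2) (by rw [← Nat.card_eq_fintype_card]; omega) two_ne_zero
  obtain ⟨h1, h2⟩ := cD_2 r r.2 (gD4.pos_iff.1 hr)
  rcases h2 s s.2 (gD4.pos_iff.1 hs) with h3 | h3 | h3 | ⟨c, hc, h3⟩ | ⟨c, hc, h3⟩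
  · obtain rfl := Fin.ext h3
    rcases h1 with h1 | ⟨c, hc, h1⟩ | ⟨c, -, h4⟩
    · exact lv hr h1
    · have k : ∀ v : K, v ≠ 0 → ∃ c, C.st.hh (gD4.multG K) c ∈ T.M ∧ (∏ i, c i ^ gD4.cd.A (gD4.cd.sim i) s : Kˣ) = v ^ 2 :=
        fun v hv => (h.tor c.1 (Units.mk0 v hv)).imp fun d hd => ⟨hd.1, by simp [hd.2, ← h1, (cD_1.1 c hc).2, zpow_ofNat]⟩
      rcases hd with hd | ⟨hd, h5⟩
      · exact C.van_deg _ G hr hr (RingHom.id K) (.inr rfl) (fun v hv => (k v hv).imp fun _ h => ⟨h.1, h.2, h.2⟩) hd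
      · refine C.van_deg (gD4.multG K) G hr hr (RingHom.id K) (.inl rfl) (fun v hv => ?_) hd
        obtain ⟨y, rfl⟩ := h5 v
        exact (k y (by simpa using hv)).imp fun _ h => ⟨h.1, by simp [h.2], by simp [h.2]⟩
    · exact van_fix (g := gD4) grdD4 h.σ C (map_one φ) hr h4
  · exact lv hr h3
  · exact (lv hs h3).symm
  · have := @kl c (cD_1.1 c hc).1 v v0 (by simpa [(cD_1.1 c hc).2, zpow_ofNat, -sq_eq_one_iff] using hv)
    exact h3.elim (this hr hs) fun h3 => (this hs hr h3).symm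
  · obtain ⟨v, v0, hv⟩ := H.resolve_right fun H => h3.elim (H c hc).1 (H c hc).2
    have := @kl c (cD_1.2 c hc).1 v v0 (by simpa [(cD_1.2 c hc).2] using hv)
    exact h3.elim (this hr hs) fun h3 => (this hs hr h3).symm

end IsD4

/-- roots of `D₄` -/
def d4r (r : Fin 24) : Fin chevD4.nroots := r
theorem d4c (r : Fin 24) : (d4r r : ℕ) = r := rfl
theorem d4p (r : Fin 24) (h : 12 ≤ r := by decide) : gD4.cd.Pos (d4r r) := gD4.pos_iff.2 h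
theorem d4v : phi _ wD4 (gD4.cd.rt (d4r 14)) = 130 ∧ phi _ wD4 (gD4.cd.rt (d4r 18)) = 100 ∧
    phi _ wD4 (gD4.cd.rt (d4r 19)) = 230 ∧ phi _ wD4 (gD4.cd.rt (d4r 20)) = 333 ∧ phi _ wD4 (gD4.cd.rt (d4r 22)) = 443 ∧
    phi _ wD4 (gD4.cd.rt (d4r 23)) = 573 := by simp only [gD4.phT_eq]; decide +kernel

namespace IsD4
variable {K : Type u} [Field K] {φ : K ≃+* K} {T : (gD4.adjG K).Tw} (h : IsD4 2 φ T) {E : Type u} [Group E]
  {ρ : E →* chevD4.group K} (C : Cov T ρ 2)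
local notation "𝐘" => gD4.adjG K
local notation "𝐋" => PreSt.LV (gD4.adjG K) ρ (phi chevD4 wD4)
local notation "φr" r:max => phi chevD4 wD4 (gD4.cd.rt r)

theorem lc {k l m : ℤ} {x y : E} (hx : x ∈ 𝐋 k) (hy : y ∈ 𝐋 l) (H : 0 < k ∧ 0 < l ∧ m ≤ k + l := by omega) : ⁅x, y⁆ ∈ 𝐋 m :=
  LV_mono H.2.2 (LV_comm H.1 H.2.1 hx hy)

include C

theorem kr {k : ℤ} (hk : 574 ≤ k) : 𝐋 k ≤ center E := (LV_mono hk).trans (LV_ind (P := (· ≤ _)) C.c fun r hr => by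
  rw [gD4.phT_eq] at hr; exact absurd hr (by revert r; decide +kernel))

include h

theorem lv (r : Fin chevD4.nroots) (hr : r.1 ∈ [14, 22, 23]) : ∃ x, ρ x = (𝐘).x r 1 ∧ x ∈ 𝐋 (φr r) ∧ ∀ x', ρ x' = ρ x →
    ∀ g ∈ 𝐋 (φr r), ∀ P : E → Prop, (∀ y ∈ 𝐋 (φr r + 1), P y ∧ P (x' * y)) → P g := by
  have G := grd (g := gD4) grdD4 C.st h.σ
  obtain ⟨h1, h2, h3⟩ : (r < chevD4.nroots ∧ mW tD4g2130 r = [(r.1, 1, 1)]) ∧ 12 ≤ r.1 ∧ rhT tD4g2130 r = r := by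
    revert r; decide +kernel
  have k1 : ∀ t, T.σ ((𝐘).x r t) = (𝐘).x r (φ t) := fun t => by simpa using σ_xn1 h.σ h1 t
  obtain ⟨x, hx⟩ := C.rg.ge (Tw.x_mem_M C.st C.ne (show (𝐘).x r 1 ∈ T.Fix from (k1 1).trans (by simp)))
  have hp : gD4.cd.Pos r := gD4.pos_iff.2 h2
  refine ⟨x, hx, (G.co_eq hp C.st (t := 1) (by simp [hx])).1, fun x' e g hg P hP => ?_⟩
  have k2 := (𝐘).x_injective C.st.sep1 r ((k1 _).symm.trans ((G.fix_co hp C.st (C.fix g) hg).2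
    (Fin.ext ((rho_eq (g := gD4) grdD4 C.st h.σ r).trans h3))))
  have k3 := G.co_spec hp hg
  rw [h.hφ, pow_two, ← sub_eq_zero, ← mul_sub_one, mul_eq_zero, sub_eq_zero] at k2
  rcases k2 with k2 | k2 <;> rw [k2] at k3
  · exact (hP g (by simpa [LV] using k3)).1
  · simpa using (hP (x'⁻¹ * g) (by simpa [LV, e, hx] using k3)).2

variable [Fintype K] (hK : Fintype.card K = 2 ^ 3) [CharP K 2]
include hK

theorem van2 (r s : Fin chevD4.nroots) (hr : gD4.cd.Pos r) (hs : gD4.cd.Pos s)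
    (H : ∀ c ∈ cD2, (r.1, s.1) ≠ c.2 ∧ (s.1, r.1) ≠ c.2) : (𝐘).Van ρ (phi _ wD4) r s :=
  h.van C (.inr ⟨by rw [Nat.card_eq_fintype_card, hK]; simp, fun v => ⟨φ.symm v, by rw [← h.hφ]; simp⟩⟩) r s hr hs (.inr H)

theorem cz : ∀ x ∈ 𝐋 1, ∀ y ∈ 𝐋 573, Commute x y := by
  have G := grd (g := gD4) grdD4 C.st h.σ
  obtain ⟨f, hf, -, lf⟩ := h.lv C (d4r 23) (by decide)
  simp only [d4v] at lf
  obtain ⟨g1, k1⟩ := C.rg.ge (uP_mem_M' C.st C.ne h.σ (A := [19, 16, 15]) (by decide +kernel))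
  obtain ⟨g2, k2⟩ := C.rg.ge (uP_mem_M' C.st C.ne h.σ (A := [20, 21, 17]) (by decide +kernel))
  refine LV_ind (P := fun A => ∀ x ∈ A, ∀ y ∈ 𝐋 573, Commute x y)
    (fun x hx y _ => (mem_center_iff.1 (C.c hx) y).symm) fun r hr ih x hx y hy => ?_
  by_cases h1 : r.1 ∈ [14, 22]
  · obtain ⟨h2, h3, h4⟩ : r.1 ∈ [14, 22, 23] ∧ cmP ftD4 2 r [19, 16, 15] = true ∧ cmP ftD4 2 r [20, 21, 17] = true := by
      clear ih hx hr; revert r; decide +kernel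
    obtain ⟨a, ha, -, la⟩ := h.lv C r h2
    refine la a rfl x hx (Commute · y) fun w hw => ⟨ih w hw y hy, .mul_left ?_ (ih w hw y hy)⟩
    refine lf ⁅g1⁻¹, g2⁻¹⁆ ?_ y hy _ fun w hw => ⟨mem_center_iff.1 (kr C le_rfl hw) a, .mul_right (commute_comm C.c ?_ ?_)
      (mem_center_iff.1 (kr C le_rfl hw) a)⟩
    · simpa [k1, k2, hf, commutatorElement_def, ← xn_val, d4c] using
        (comm_mem (Y := 𝐘) (p := 2) (A := [19, 16, 15]) (B := [20, 21, 17]) (C := [23]) (by decide +kernel)).symm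
    · rw [map_inv, k1, ha, ← xn_val]
      exact .inv_right (mem_centralizer_singleton_iff.1 (cmP_sound _ h3 1))
    · rw [map_inv, k2, ha, ← xn_val]
      exact .inv_right (mem_centralizer_singleton_iff.1 (cmP_sound _ h4 1))
  obtain ⟨M, _, β, hβ, hc⟩ := frm_comm (S := (𝐘).TA ρ) (A := 𝐋 (φr r)) (B' := 𝐋 574) (fun x hx y (hy : y ∈ 𝐋 573) => kr C le_rfl (lc hx hy)) ih (fun x _ y hy => mem_center_iff.1 (kr C le_rfl hy) x)
    fun a ha => ha.imp fun _ e => e.2.symm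
  exact hc x hx y hy (h.van2 C hK r (d4r 23) ((G.pos r).2 hr) (d4p _) (by clear * - h1; revert r; decide) M β
    (by simp only [d4v]; exact hβ) x hx y (by simpa only [d4v] using hy))

theorem c1 : ∀ x ∈ 𝐋 131, ∀ y ∈ 𝐋 443, Commute x y := by
  have G := grd (g := gD4) grdD4 C.st h.σ
  refine LV_ind (P := fun A => ∀ x ∈ A, ∀ y ∈ 𝐋 443, Commute x y)
    (fun x hx y _ => (mem_center_iff.1 (C.c hx) y).symm) fun r hr ih x hx y hy => ?_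
  by_cases h1 : r = d4r 23
  · exact (h.cz C hK y (LV_mono (by simp) hy) x (by simpa only [h1, d4v] using hx)).symm
  obtain ⟨M, _, β, hβ, hc⟩ := frm_comm (S := (𝐘).TA ρ) (A := 𝐋 (φr r)) (B' := 𝐋 444) (fun x hx y (hy : y ∈ 𝐋 443) => kr C le_rfl (lc hx hy)) ih (fun x hx y hy => h.cz C hK x (LV_mono (by omega) hx) y
      (h.nx C (by decide +kernel) hy)) fun a ha => ha.imp fun _ e => e.2.symm
  exact hc x hx y hy (h.van2 C hK r (d4r 22) ((G.pos r).2 (by omega)) (d4p _) (by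
    rw [gD4.phT_eq] at hr; clear * - h1 hr; revert r; decide +kernel) M β
    (by simp only [d4v]; exact hβ) x hx y (by simpa only [d4v] using hy))

theorem c2 : ∀ x ∈ 𝐋 333, ∀ y ∈ 𝐋 333, Commute x y := fun x hx y hy => by
  have k : ∀ x ∈ 𝐋 333, ∀ y ∈ 𝐋 334, Commute x y := fun x hx y hy =>
    h.c1 C hK x (LV_mono (by simp) hx) y (h.nx C (by decide +kernel) hy)
  obtain ⟨M, _, β, hβ, hc⟩ := frm_comm (S := (𝐘).TA ρ) (fun x (hx : x ∈ 𝐋 333) y (hy : y ∈ 𝐋 333) => kr C le_rfl (lc hx hy)) (fun x hx y hy => (k y hy x hx).symm) k fun a ha => ha.imp fun _ e => e.2.symm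
  exact hc x hx y hy (h.van2 C hK (d4r 20) (d4r 20) (d4p _) (d4p _) (by decide) M β
    (by simp only [d4v]; exact hβ) x (by simpa only [d4v] using hx) y (by simpa only [d4v] using hy))

theorem exists_z : ∃ ζ, ρ ζ = (𝐘).x (d4r 23) 1 ∧ ζ ^ 2 = 1 ∧ (∀ a ∈ (𝐘).TA ρ, a ζ = ζ) ∧
    (∀ x ∈ 𝐋 1, ∀ y ∈ 𝐋 443, ⁅x, y⁆ ∈ zpowers ζ) ∧ ∀ x ∈ 𝐋 230, ∀ y ∈ 𝐋 333, ⁅x, y⁆ ∈ zpowers ζ := by
  have G := grd (g := gD4) grdD4 C.st h.σ
  obtain ⟨b, hb, mb, lb⟩ := h.lv C (d4r 14) (by decide)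
  obtain ⟨e, he, me, le⟩ := h.lv C (d4r 22) (by decide)
  obtain ⟨f, hf, -, lf⟩ := h.lv C (d4r 23) (by decide)
  simp only [d4v] at lb le lf mb me
  have n4 : 𝐋 444 ≤ 𝐋 573 := h.nx C (by decide +kernel)
  have cz' : ∀ x ∈ 𝐋 1, ∀ y ∈ 𝐋 573, x * y * x⁻¹ = y := fun x hx y hy => mul_inv_eq_iff_eq_mul.2 (h.cz C hK x hx y hy)
  have mz : ⁅b, e⁆ ∈ 𝐋 573 := lc mb me
  have b1 : b ∈ 𝐋 1 := LV_mono (by simp) mb
  have hz : ρ ⁅b, e⁆ = ρ f := by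
    simpa [hb, he, hf, commutatorElement_def, ← xn_val, d4c, xn_inv, CharTwo.neg_eq] using
      (comm_mem (Y := 𝐘) (p := 2) (A := [14]) (B := [22]) (C := [23]) (by decide +kernel)).symm
  have zz : ⁅b, e⁆ ^ 2 = 1 := by
    have : ⁅b * b, e⁆ = b * ⁅b, e⁆ * b⁻¹ * ⁅b, e⁆ := by simp only [commutatorElement_def]; group
    rw [cz' b b1 _ mz] at this
    rw [pow_two, ← this]
    exact commutatorElement_eq_one_iff_mul_comm.2 (mem_center_iff.1 (C.c (by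
      simp [hb, (𝐘).add, CharTwo.add_self_eq_zero])) e).symm
  have one : ∀ {x y : E}, Commute x y → ⁅x, y⁆ ∈ zpowers ⁅b, e⁆ := fun h => commutatorElement_eq_one_iff_commute.2 h ▸ one_mem _
  have k1 : ∀ x ∈ 𝐋 130, ∀ y ∈ 𝐋 443, ⁅x, y⁆ ∈ zpowers ⁅b, e⁆ := fun x hx y hy => by
    refine lb b rfl x hx (⁅·, y⁆ ∈ zpowers ⁅b, e⁆) fun w hw => ⟨one (h.c1 C hK w hw y hy), ?_⟩
    rw [show ⁅b * w, y⁆ = b * ⁅w, y⁆ * b⁻¹ * ⁅b, y⁆ by simp only [commutatorElement_def]; group,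
      commutatorElement_eq_one_iff_commute.2 (h.c1 C hK w hw y hy), mul_one, mul_inv_cancel, one_mul]
    refine le e rfl y hy (⁅b, ·⁆ ∈ zpowers ⁅b, e⁆) fun w hw => ⟨one (h.cz C hK b b1 w (n4 hw)), ?_⟩
    rw [show ⁅b, e * w⁆ = ⁅b, e⁆ * e * ⁅b, w⁆ * e⁻¹ by simp only [commutatorElement_def]; group,
      commutatorElement_eq_one_iff_commute.2 (h.cz C hK b b1 w (n4 hw)), mul_one, mul_inv_cancel_right]
    exact mem_zpowers _
  have k2 : ∀ a ∈ (𝐘).TA ρ, a ⁅b, e⁆ = ⁅b, e⁆ := by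
    rintro _ ⟨a, ha, rfl⟩
    refine (mem_zpowers_two zz ?_).resolve_left fun e => one_ne_zero (C.st.x_eq_one (hf.symm.trans (hz.symm.trans (by
      rw [map_eq_one_iff _ (MulEquiv.injective _)] at e; simp [e]))))
    rw [map_commutatorElement]
    exact k1 _ (by simpa [LV] using C.st.H_conj_mem_XS ha mb) _ (by simpa [LV] using C.st.H_conj_mem_XS ha me)
  have k3 : ∀ x ∈ 𝐋 1, ∀ y ∈ 𝐋 443, ⁅x, y⁆ ∈ zpowers ⁅b, e⁆ := by
    refine LV_ind (P := fun A => ∀ x ∈ A, ∀ y ∈ 𝐋 443, ⁅x, y⁆ ∈ zpowers ⁅b, e⁆)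
      (fun x hx y _ => one (mem_center_iff.1 (C.c hx) y).symm) fun r hr ih x hx y hy => ?_
    by_cases h1 : 130 ≤ φr r
    · exact k1 x (LV_mono h1 hx) y hy
    obtain ⟨M, _, β, hβ, hc⟩ := frm_mod (S := (𝐘).TA ρ) (A := 𝐋 (φr r)) (B' := 𝐋 444) (Z := 𝐋 573) (fun x hx y (hy : y ∈ 𝐋 443) => n4 (lc hx hy)) (fun x hx => cz' x (by
        rcases hx with hx | hx | hx <;> exact LV_mono (by omega) hx)) (LV_mono (by simp)) (LV_mono (by simp)) ih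
      (fun x hx y hy => one (h.cz C hK x (LV_mono hr hx) y (n4 hy))) fun a ha z hz' => by
        refine lf _ hz z hz' (fun z => a z = z) fun w hw => ?_
        obtain ⟨g, -, rfl⟩ := id ha
        have : MulAut.conj g w = w := mul_inv_eq_iff_eq_mul.2 (mem_center_iff.1 (kr C le_rfl hw) g)
        exact ⟨this, (map_mul _ _ _).trans (congrArg₂ _ (k2 _ ha) this)⟩
    exact hc x hx y hy (h.van2 C hK r (d4r 22) ((G.pos r).2 hr) (d4p _) (by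
      rw [gD4.phT_eq] at h1; clear * - h1; revert r; decide +kernel) M β
      (by simp only [d4v]; exact hβ) x hx y (by simpa only [d4v] using hy))
  refine ⟨_, hz.trans hf, zz, k2, k3, fun x hx y hy => ?_⟩
  have lv := G.lev (ρ := ρ) (d4p 19) C.st
  generalize hs : (𝐘).co ρ (phi _ wD4) (d4r 19) x = s
  obtain ⟨v, hv⟩ := exists_mon s (φ s) (φ (φ s)) 1 1 1
  obtain ⟨g, k4⟩ := C.rg.ge (h.mem3p s)
  have k5 := G.co_eq (d4p 19) C.st (g := ⁅g, b⁆) (t := s) (ρ := ρ) (by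
    have := evX_mem_phi (𝐘) (ctxP_sound (CharP.cast_eq_zero K 2) v) (wt := wD4) (m := 231)
      (w := [(19, [(-1, mon 1 0 0 0 0 0)]), (18, [(1, mon 1 0 0 0 0 0)]), (13, [(1, mon 0 1 0 0 0 0)]),
        (12, [(1, mon 0 0 1 0 0 0)]), (14, [(1, 1)]), (12, [(-1, mon 0 0 1 0 0 0)]), (13, [(-1, mon 0 1 0 0 0 0)]),
        (18, [(-1, mon 1 0 0 0 0 0)]), (14, [(-1, 1)])]) (by decide +kernel)
    rw [d4v.2.2.1]
    simpa [hv, commutatorElement_def, k4, hb, ← xn_val, d4c, xn_inv, mul_assoc] using this)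
  simp only [d4v] at lv k5
  have k6 := h.c2 C hK _ (h.nx C (by decide +kernel) (lv.ker _ (mul_mem (inv_mem k5.1) hx) (by
    rw [lv.add _ (inv_mem k5.1) _ hx, lv.inv k5.1, k5.2, hs, neg_add_cancel]))) y hy
  have g1 : g ∈ 𝐋 100 := mem_comap.2 <| k4 ▸ wd_mem_XS _ fun r hr => by
    rw [Set.mem_setOf_eq, gD4.phT_eq]; simp only [List.map_cons, List.map_nil] at hr; clear * - hr; revert r; decide +kernel
  have k7 : ⁅y⁻¹, g⁻¹⁆ ∈ 𝐋 443 := h.nx C (k := 433) (by decide +kernel) (lc (inv_mem hy) (inv_mem g1))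
  rw [show ⁅x, y⁆ = ⁅g, b⁆ * ⁅⁅g, b⁆⁻¹ * x, y⁆ * ⁅g, b⁆⁻¹ * ⁅⁅g, b⁆, y⁆ by simp only [commutatorElement_def]; group,
    commutatorElement_eq_one_iff_commute.2 k6, mul_one, mul_inv_cancel, one_mul, comm_hw cz' (LV_mono (by simp) g1) b1
    (LV_mono (by simp) hy) (n4 (lc mb hy)) (lc mb k7)]
  exact k1 _ mb _ k7

theorem tf2 [Finite E] (hi : ¬ 2 ∣ ((𝐘).U.comap ρ).index) (z : E) (z1 : ρ z = 1) (z2 : z ^ 2 = 1) : z = 1 := by
  have G := grd (g := gD4) grdD4 C.st h.σ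
  obtain ⟨ζ, hζ, zz, za, k1, k2⟩ := h.exists_z C hK
  obtain ⟨n, hn⟩ := C.rg.ge (show (𝐘).n (gD4.cd.sim (d4i 1)) 1 ∈ T.M by
    have a := h.mem1p (map_one φ)
    have := mul_mem (mul_mem a (h.mem1m (t := -1) (by simp))) a
    simp [PreSt.n, ← xn_val] at this ⊢; exact this)
  have ha : (𝐘).Act (ρ n) (gD4.cd.sw (d4i 1)) := hn ▸ C.st.act_sim _
  obtain ⟨v, hv⟩ := ha.conj_le (d4r 22) 1
  rw [show gD4.cd.sw (d4i 1) (d4r 22) = d4r 23 from Fin.ext (by decide +kernel), ← hζ] at hv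
  have hζ' : ρ (n⁻¹ * ζ * n) = (𝐘).x (d4r 22) v := by simp [← hv, mul_assoc]
  have m1 : zpowers ζ ≤ 𝐋 573 := zpowers_le.2 (d4v.2.2.2.2.2 ▸ (G.co_eq (d4p 23) C.st (t := 1) (by simp [hζ])).1)
  have m0 := G.co_eq (d4p 22) C.st (t := v) (g := n⁻¹ * ζ * n) (ρ := ρ) (by rw [hζ']; simp)
  have m2 : zpowers (n⁻¹ * ζ * n) ≤ 𝐋 443 := zpowers_le.2 (d4v.2.2.2.2.1 ▸ m0.1)
  have cm : ∀ a ∈ zpowers (n⁻¹ * ζ * n), ∀ b ∈ zpowers ζ, Commute a b := fun a ha b hb =>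
    h.cz C hK a (LV_mono (by simp) (m2 ha)) b (m1 hb)
  let N : Subgroup E := ⟨⟨⟨{w | ∃ u ∈ zpowers ζ, ∃ u' ∈ zpowers (n⁻¹ * ζ * n), w = u * u'}, by
    rintro _ _ ⟨a, ha, b, hb, rfl⟩ ⟨c, hc, d, hd, rfl⟩
    exact ⟨_, mul_mem ha hc, _, mul_mem hb hd, (cm b hb c hc).mul_mul_mul_comm a d⟩⟩, 1, one_mem _, 1, one_mem _, by simp⟩, by
    rintro _ ⟨a, ha, b, hb, rfl⟩
    exact ⟨_, inv_mem ha, _, inv_mem hb, (mul_inv_rev _ _).trans (cm _ (inv_mem hb) _ (inv_mem ha))⟩⟩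
  have n1 : zpowers ζ ≤ N := fun a ha => ⟨a, ha, 1, one_mem _, by simp⟩
  have n2 : N ≤ 𝐋 443 := by rintro _ ⟨a, ha, b, hb, rfl⟩; exact mul_mem (LV_mono (by simp) (m1 ha)) (m2 hb)
  have ex : ∀ c ∈ cD2, ∀ r s : Fin 24, (r.1, s.1) = c.2 → (𝐘).VanN ρ (phi _ wD4) N (d4r r) (d4r s) := fun c hc r s e => by
    have : (r = 14 ∨ r = 22) ∧ (s = 22 ∨ s = 23) ∨ r = 18 ∧ s = 19 ∨ r = 18 ∧ s = 20 ∨ r = 20 ∧ s = 19 := by
      clear * - hc e; revert c r s; decide +kernel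
    intro M _ β hβ H x hx y hy
    rcases this with ⟨h1, h2⟩ | ⟨rfl, rfl⟩ | ⟨rfl, rfl⟩ | ⟨rfl, rfl⟩
    · exact H x hx y hy (n1 (k1 x (LV_mono (by rcases h1 with rfl | rfl <;> simp only [d4v] <;> simp) hx) y
        (LV_mono (by rcases h2 with rfl | rfl <;> simp only [d4v] <;> simp) hy)))
    · refine C.van_deg (gD4.multG K) G (d4p 18) (d4p 19) (RingHom.id K) (.inl rfl) (fun v hv => ?_)
        (by rw [Nat.card_eq_fintype_card, hK]; simp) M β hβ x hx y hy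
      obtain ⟨y, rfl⟩ := φ.surjective v
      have h0 : y ≠ 0 := by simpa using hv
      obtain ⟨d, h1, h2⟩ := h.tor [1, 0, 0, 0] (Units.mk0 y h0)
      refine ⟨d, h1, by simp [h2, show w3 [1, 0, 0, 0] (d4r 18) = (2, 0, 0) by decide +kernel, h.hφ, zpow_ofNat], ?_⟩
      have := FiniteField.pow_card_sub_one_eq_one y h0
      simp only [h2, show w3 [1, 0, 0, 0] (d4r 19) = (1, -1, -1) by decide +kernel, h.hφ, hK] at this ⊢
      simp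
      field_simp
      simpa using this.symm
    · obtain ⟨g, k4⟩ := C.rg.ge (h.mem3p ((𝐘).co ρ (phi _ wD4) (d4r 18) x))
      have k5 := G.co_eq (d4p 18) C.st (g := g) (t := (𝐘).co ρ (phi _ wD4) (d4r 18) x) (ρ := ρ) (by
        rw [k4, wd_cons, ← xn_val, show (d4r 18 : ℕ) = 18 from rfl, inv_mul_cancel_left]
        refine wd_mem_XS _ fun r hr => ?_
        rw [Set.mem_setOf_eq, gD4.phT_eq, gD4.phT_eq]
        simp only [List.map_cons, List.map_nil] at hr; clear * - hr; revert r; decide +kernel)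
      rw [hβ.congr (G.lev (d4p 18) C.st) hx k5.1 hy k5.2.symm]
      refine H g k5.1 y hy ⟨1, one_mem _, _, ?_, (one_mul _).symm⟩
      have k6 := k2 (n * g * n⁻¹) (by
        simpa [LV] using ha.conj_mem (S := sL _ [18, 13, 12]) (S' := {s | 230 ≤ φr s}) (fun r hr => by
          rw [Set.mem_setOf_eq, gD4.phT_eq]; rw [mem_sL] at hr; clear * - hr; revert r; decide +kernel)
          (k4 ▸ wd_mem_XS _ fun r hr => hr)) (n * y * n⁻¹) (by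
        simpa [LV] using ha.conj_mem (S' := {s | 333 ≤ φr s}) (fun r hr => by
          simp only [Set.mem_setOf_eq, gD4.phT_eq] at hr ⊢; clear * - hr; revert r; decide +kernel) hy)
      obtain ⟨k, hk⟩ := mem_zpowers_iff.1 k6
      have := congrArg (MulAut.conj n⁻¹) hk
      rw [map_zpow] at this
      exact ⟨k, by simpa [commutatorElement_def, mul_assoc] using this⟩
    · exact H x hx y hy (n1 (commutatorElement_inv y x ▸ inv_mem (k2 y (d4v.2.2.1 ▸ hy) x (d4v.2.2.2.1 ▸ hx))))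
  obtain ⟨a, h1, b, h2, rfl⟩ := C.tfN (gD4.multG K) G hi (N := N) (n2.trans (LV_mono (by simp)))
    (fun x hx w hw => n1 (commutatorElement_inv x w ▸ inv_mem (k1 x hx w (n2 hw)))) (by
      rintro a ha' _ ⟨u, ⟨i, rfl⟩, u', ⟨j, rfl⟩, rfl⟩
      refine ⟨_, ⟨i, rfl⟩, _, ⟨j, rfl⟩, ?_⟩
      obtain ⟨g, hg, rfl⟩ := id ha'
      have := za _ (mem_map_of_mem MulAut.conj (show n * g * n⁻¹ ∈ (𝐘).H.comap ρ by simpa using ha.conj_mem_H hg))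
      rw [map_mul, map_zpow, map_zpow, za _ ha', show MulAut.conj g (n⁻¹ * ζ * n) = n⁻¹ * ζ * n by
        conv_rhs => rw [← this]
        simp [mul_assoc]]) (fun r s hr hs => by
      by_cases H : ∀ c ∈ cD2, (r.1, s.1) ≠ c.2 ∧ (s.1, r.1) ≠ c.2
      · exact fun M _ β hβ _ => h.van2 C hK r s hr hs H M β hβ
      simp only [not_forall, not_and_or, not_not] at H
      obtain ⟨c, hc, H | H⟩ := H
      exacts [ex c hc r s H, (ex c hc s r H).symm]) z z1 z2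
  have nz : ρ ζ ≠ 1 := fun e => one_ne_zero (C.st.x_eq_one (hζ.symm.trans e))
  rcases mem_zpowers_two (by
    rw [show (n⁻¹ * ζ * n) ^ 2 = n⁻¹ * ζ ^ 2 * n by simp [pow_two, mul_assoc], zz]; simp) h2 with rfl | rfl
  · rcases mem_zpowers_two zz h1 with rfl | rfl
    exacts [one_mul 1, absurd (by simpa using z1) nz]
  have := G.co_eq (d4p 22) C.st (t := 0) (g := n⁻¹ * ζ * n) (ρ := ρ) (by
    rw [map_mul, mul_eq_one_iff_inv_eq] at z1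
    rw [d4v.2.2.2.2.1]
    simpa [← z1, LV] using LV_mono (k := 443 + 1) (by simp) (m1 h1))
  rw [m0.2.symm.trans this.2] at hv
  exact absurd (by simpa using hv.symm) nz

end IsD4

theorem d4_schur {K : Type u} [Field K] [Fintype K] {q : ℕ} (hq : IsPrimePow q) (hK : Fintype.card K = q ^ 3) :
    Cfsg.HasCyclicSchurMultiplier (twistedD4 K q) 1 := by
  obtain ⟨φ, T, h⟩ := exists_isD4 hq hK
  haveI := gD4.adjG_G K ▸ (gD4.isStG K).finite_G (gD4.multG K)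
  haveI : Finite (chevD4.group K) := Finite.of_equiv _ topEquiv.toEquiv
  haveI := Finite.of_injective _ h.set.ι_inj
  refine CfsgH1.hasSM_one_iff.2 (CfsgH1.subsingleton_SM_iff.2 fun E _ _ τ hτ => ?_)
  obtain ⟨p, _, _, C, tf⟩ : ∃ p, ∃ (_ : Fact p.Prime) (_ : CharP K p), Cov T (h.set.ι.comp τ) p ∧
      ∀ z, h.set.ι.comp τ z = 1 → z ^ p = 1 → z = 1 := by
    rcases hq.two_le.eq_or_lt with rfl | h2
    · haveI := charP_of_card Nat.prime_two hK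
      obtain ⟨C, hi, -⟩ := h.set.cov 2 hτ
      exact ⟨2, inferInstance, this, C, h.tf2 C hK hi⟩
    obtain ⟨p, _⟩ := CharP.exists K
    haveI := Fact.mk (CharP.char_is_prime K p)
    obtain ⟨C, hi, -⟩ := h.set.cov p hτ
    have k : 27 ≤ q ^ 3 := Nat.pow_le_pow_left h2 3
    refine ⟨p, this, ‹_›, C, C.tf (gD4.multG K) (grd (g := gD4) grdD4 C.st h.σ) hi fun r s hr hs => h.van C (.inl (by
      rw [Nat.card_eq_fintype_card]; omega)) r s hr hs (.inl ?_)⟩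
    obtain ⟨v, h3, h4⟩ := exists_sq_ne (K := K) (n := 1 + q + q ^ 2) (by nlinarith) (by omega)
    exact ⟨v, h3, by rwa [h.φφ, h.hφ, ← pow_one v, ← pow_mul, ← pow_mul, one_mul, one_mul, ← pow_add, ← pow_add]⟩
  have k := C.card_le tf ![d4i 0, d4i 1] fun i => by
    simp only [h.orb]
    revert i; decide
  have o : T.orb (d4i 0) = {j : Fin chevD4.rank | (j : ℕ) ∈ [0, 2, 3]} := h.orb _
  have b0 := C.card_HH tf (C.st.st3 (i := d4i 0) (j := d4i 2) (k := d4i 3) (by decide) (by decide) (by decide) (RingHom.id K)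
    φ (φ.toRingHom.comp φ)) (i := d4i 0) (fun y => Iff.trans (by rw [o]; exact h.p0 y) (exists_congr (p := fun t => y = wd _ [(_, t), (_, φ t), (_, φ (φ t))]) fun t => by
      change _ ↔ y = (gD4.adjG K).x _ _ * ((gD4.adjG K).x _ _ * (gD4.adjG K).x _ _); simp [← xn_val]; rfl))
      fun y => Iff.trans (by rw [o]; exact h.m0 y) (exists_congr (p := fun t => y = wd _ [(_, t), (_, φ t), (_, φ (φ t))]) fun t => by
      change _ ↔ y = (gD4.adjG K).x _ _ * ((gD4.adjG K).x _ _ * (gD4.adjG K).x _ _); simp [← xn_val]; rfl)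
  have b1 := card1 C tf φ (d4i 1) (fun y => h.orb _ ▸ h.p1 y) fun y => h.orb _ ▸ h.m1 y
  have k2 := h.set.card_H_mul h.H_eq
  rw [h.ker_eq, Subgroup.card_bot, one_mul, h.card_C hq.two_le hK, h.set.card_H] at k2
  rw [MonoidHom.ker_comp_of_injective _ _ h.set.ι_inj, Fin.prod_univ_two] at k
  rw [Nat.card_eq_fintype_card (α := K), hK] at b0
  rw [show Nat.card {t // φ t = t} = q by simp only [h.hφ]; exact card_fix (k := 3) hq.two_le hK] at b1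
  refine card_eq_one.1 (le_antisymm (Nat.le_of_mul_le_mul_right (k.trans ?_) Nat.card_pos) Nat.card_pos)
  rw [one_mul]
  exact (Nat.mul_le_mul b0 b1).trans_eq k2.symm

end Chev
end CfsgH6
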