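import Cfsg.Agent.H6.Ree5
import Cfsg.Agent.H7.Sz4

/-! Minimal degrees of the Suzuki and small Ree groups. -/

set_option autoImplicit false

universe u

namespace CfsgH6

open Finset Cfsg.Lie Module

section pj
variable {A V : Type*} [AddCommGroup A] [Fintype A] [AddCommGroup V] [Module ℂ V] (f : AddChar A (End ℂ V))

/-- projection on a weight space -/
noncomputable def pj (μ : AddChar A ℂ) : End ℂ V := (Fintype.card A : ℂ)⁻¹ • ∑ a, μ (-a) • f a

theorem mul_pj (μ : AddChar A ℂ) (a : A) : f a * pj f μ = μ a • pj f μ := by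
  rw [pj, mul_smul_comm, smul_comm (μ a), mul_sum, smul_sum (r := μ a)]
  exact congrArg _ (Fintype.sum_equiv (.addLeft a) _ _ fun b => by
    simp [← AddChar.map_add_eq_mul, smul_smul])

theorem comm_pj (μ : AddChar A ℂ) {g : End ℂ V} (h : ∀ a, Commute g (f a)) : Commute g (pj f μ) :=
  (Commute.sum_right _ _ _ fun a _ => (h a).smul_right _).smul_right _

theorem pj_idem (μ : AddChar A ℂ) : IsIdempotentElem (pj f μ) := by
  have : (Fintype.card A : ℂ) ≠ 0 := by simp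
  change _ * _ = _
  nth_rw 1 [pj]
  simp [sum_mul, mul_pj, smul_smul, ← AddChar.map_add_eq_mul, ← Nat.cast_smul_eq_nsmul ℂ, this]

theorem sum_pj : ∑ μ, pj f μ = 1 := by
  classical
  simp only [pj, ← smul_sum]
  rw [sum_comm]
  simp [← sum_smul, AddChar.sum_apply_eq_ite, ← Nat.cast_smul_eq_nsmul ℂ, smul_smul]

theorem conj_pj (μ : AddChar A ℂ) {g g' : End ℂ V} (e : A →+ A) (he : Function.Injective e) (h : ∀ a, g * f a * g' = f (e a)) :
    g * pj f (μ.compAddMonoidHom e) * g' = pj f μ := by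
  simp only [pj, mul_smul_comm, smul_mul_assoc, mul_sum, sum_mul, h]
  exact congrArg _ (Fintype.sum_bijective e (Finite.injective_iff_bijective.1 he) _ _ fun b => by simp)

theorem exists_pj {a : A} (h : f a ≠ 1) : ∃ μ, pj f μ ≠ 0 ∧ μ a ≠ 1 := by
  by_contra! h'
  refine h ?_
  rw [← mul_one (f a), ← sum_pj f, mul_sum]
  refine sum_congr rfl fun μ _ => ?_
  by_cases e : pj f μ = 0
  · simp [e]
  · rw [mul_pj, h' μ e, one_smul]

variable [FiniteDimensional ℂ V]

/-- multiplicity of a weight -/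
noncomputable def mu (μ : AddChar A ℂ) : ℕ := finrank ℂ (LinearMap.range (pj f μ))

theorem trace_pj (μ : AddChar A ℂ) : LinearMap.trace ℂ V (pj f μ) = mu f μ :=
  (LinearMap.IsIdempotentElem.isProj_range _ (pj_idem f μ)).trace

theorem mu_eq_zero {μ : AddChar A ℂ} : mu f μ = 0 ↔ pj f μ = 0 := by
  rw [mu, Submodule.finrank_eq_zero, LinearMap.range_eq_bot]

theorem sum_mu : ∑ μ, mu f μ = finrank ℂ V := by
  have := congrArg (LinearMap.trace ℂ V) (sum_pj f)
  rw [map_sum, LinearMap.trace_one] at this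
  simp only [trace_pj] at this
  exact_mod_cast this

theorem mu_conj (μ : AddChar A ℂ) {g g' : End ℂ V} (hg : g' * g = 1) (e : A →+ A) (he : Function.Injective e)
    (h : ∀ a, g * f a * g' = f (e a)) : mu f (μ.compAddMonoidHom e) = mu f μ := by
  have := congrArg (LinearMap.trace ℂ V) (conj_pj f μ e he h)
  rw [LinearMap.trace_mul_comm, ← mul_assoc, hg, one_mul, trace_pj, trace_pj] at this
  exact_mod_cast this

theorem orbit_le {ι : Type*} [Fintype ι] {j : ι → AddChar A ℂ} (hj : Function.Injective j) {n : ℕ}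
    (h : ∀ i, mu f (j i) = n) {μ : AddChar A ℂ} (hμ : μ ∉ Set.range j) : Fintype.card ι * n + mu f μ ≤ finrank ℂ V := by
  classical
  rw [← sum_mu f, add_comm]
  refine le_trans (le_of_eq ?_) (sum_le_sum_of_subset (subset_univ (insert μ (univ.image j))))
  rw [sum_insert (by simpa using hμ), sum_image hj.injOn]
  simp [h]

end pj

theorem ne_one_of_irr {G : Type*} [Group G] [IsSimpleGroup G] {k : ℕ} (ρ : Representation ℂ G (Fin k → ℂ))
    (hρ : ρ.IsIrreducible) (hk : 2 ≤ k) {g : G} (hg : g ≠ 1) : ρ g ≠ 1 := fun e => by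
  have h : ∀ g, ρ g = 1 := fun x => (MonoidHom.mem_ker (f := ρ)).1
    (((ρ : G →* _).normal_ker.eq_bot_or_eq_top.resolve_left fun h => hg (by simpa [h] using MonoidHom.mem_ker.2 e)) ▸ trivial)
  let W : Subrepresentation ρ := ⟨LinearMap.ker (LinearMap.proj (⟨0, by omega⟩ : Fin k)), fun g v hv => by simpa [h] using hv⟩
  rcases eq_bot_or_eq_top W with h | h
  · have : (Pi.single ⟨1, hk⟩ 1 : Fin k → ℂ) ∈ W := by
      change _ ∈ LinearMap.ker _
      simp
    rw [h] at this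
    simpa using congrFun this ⟨1, hk⟩
  · have : (Pi.single ⟨0, by omega⟩ 1 : Fin k → ℂ) ∈ W := h ▸ trivial
    change _ ∈ LinearMap.ker _ at this
    simp at this

/-- coordinates in a small Ree group -/
structure ReeS {K : Type*} [Field K] (ϑ : K ≃+* K) (G : Type*) [Group G] where
  sq : ∀ t, ϑ (ϑ t) = t ^ 3
  u : K × K × K → G
  d : Kˣ →* G
  n : G
  u_inj : Function.Injective u
  d_inj : Function.Injective d
  u_mul : ∀ x y, u x * u y = u (rP ϑ x y)
  d_u : ∀ s x, d s * u x * (d s)⁻¹ = u (rH ϑ s x)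
  bruhat : ∀ g, (∃ x s, g = u x * d s) ∨ ∃ x y s, g = u x * n * (u y * d s)

open Chev Good PreSt in
theorem exists_reeS {K : Type u} [Field K] [Fintype K] {m : ℕ} (hK : Fintype.card K = 3 ^ (2 * m + 1)) :
    ∃ ϑ : K ≃+* K, Nonempty (ReeS ϑ (twistedG2 K (3 ^ m))) := by
  obtain ⟨φ, T, h, hq⟩ := exists_isG2 hK
  haveI : Nonempty (Fin chevG2.rank) := ⟨g2i 0⟩
  have hX := gG2.isStG K
  have hi := h.set.ι_inj
  have hr := h.set.range_ι
  generalize h.set.ι = ι at hi hr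
  change ι.range = T.M at hr
  let e : Kˣ →* Kˣ := powMonoidHom 2 * Units.map h.ϑ.toMonoidHom
  choose u hu using fun x => Tw.exists_ι hr (h.U3_mem x)
  choose d hd using fun c => Tw.exists_ι hr (h.hc_mem hq (e c))
  obtain ⟨n, hn, ha⟩ := Tw.exists_n hX h.ne T.w0_mem
  obtain ⟨n, rfl⟩ := Tw.exists_ι hr (ir hn)
  have hB : ∀ b, ι b ∈ (gG2.adjG K).B → ∃ x s, b = u x * d s := fun b hb => by
    obtain ⟨a, ha, c, hc, e1⟩ := hX.mem_B.1 hb
    have := Tw.mem_Fix.1 (Tw.ι_fix hr b)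
    rw [e1, map_mul] at this
    obtain ⟨x, rfl⟩ := (h.mem_U3 a).1 (mi ha (hX.B_unique (T.σ_U ha) ha (T.σ_H hX hc) hc this).1)
    obtain ⟨c', e2⟩ := (h.H_eq hq).le (mi hc (by
      simpa [e1] using mul_mem (inv_mem (h.U3_mem x)) (Tw.ι_mem hr b)))
    obtain ⟨s, hs⟩ := h.exists_s c'
    refine ⟨x, Units.mk0 s fun e => c'.ne_zero (by simp [hs, e]), hi ?_⟩
    rw [map_mul, hu, hd, e1, ← e2]
    exact congrArg _ (congrArg _ (Units.ext hs))
  refine ⟨h.ϑ, ⟨⟨h.ϑϑ, u, .mk' d fun a b => hi (by simp [hd]), n, fun a b e => IsG2.U3_inj (by rw [← hu, e, hu]),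
    fun a b e => Units.ext (ree_inj h.ϑϑ (congrArg Units.val (IsG2.hc_inj ((hd a).symm.trans ((congrArg ι e).trans (hd b)))) :)),
    fun x y => hi (by rw [map_mul, hu, hu, hu, h.U3_mul]), fun s x => hi ?_, fun g => ?_⟩⟩⟩
  · simp only [map_mul, map_inv, MonoidHom.mk'_apply, hd, hu]
    exact h.hc_U3 _ rfl _
  by_cases hg : ι g ∈ (gG2.adjG K).B
  · exact .inl (hB g hg)
  obtain ⟨a, ha, b, hb, e⟩ := Tw.rank1 hX h.ne h.orb' hn ha (Tw.ι_mem hr g) hg
  obtain ⟨x, rfl⟩ := (h.mem_U3 a).1 ha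
  obtain ⟨y, s, e'⟩ := hB ((u x * n)⁻¹ * g) (by simpa [e, hu, mul_assoc] using hb)
  exact .inr ⟨x, y, s, by rw [MonoidHom.mk'_apply, ← e']; group⟩

theorem addChar_cancel {K : Type*} [Field K] {ψ : AddChar K ℂ} {c : K} (hc : ψ c ≠ 1) {a b : K}
    (h : ∀ x, ψ (a * x) = ψ (b * x)) : a = b := by_contra fun e => hc (by
  have := h (c / (a - b))
  rw [← mul_div_cancel₀ c (sub_ne_zero.2 e), sub_mul, AddChar.map_sub_eq_div, this, div_self ((AddChar.val_isUnit _ _).ne_zero)])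

namespace ReeS
variable {K : Type*} [Field K] {ϑ : K ≃+* K} {G : Type*} [Group G] (S : ReeS ϑ G)

theorem u_zero : S.u 0 = 1 := mul_eq_left.1 ((S.u_mul 0 0).trans (by simp [rP]; rfl))

/-- the derived subgroup of the unipotent group -/
def aA : AddChar (K × K) G where
  toFun a := S.u (0, a)
  map_zero_eq_one' := S.u_zero
  map_add_eq_mul' a b := by simp [S.u_mul, rP, Prod.add_def]

theorem conj_aA (t : K) (s : Kˣ) (a : K × K) : S.d s * S.u (t, 0, 0) * S.aA a * (S.d s * S.u (t, 0, 0))⁻¹ =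
    S.aA (s * ϑ s * a.1, s ^ 2 * ϑ s * (a.2 + a.1 * t)) := by
  have : S.u (t, 0, 0) * S.aA a = S.u (0, a.1, a.2 + a.1 * t) * S.u (t, 0, 0) := by
    simp [aA, S.u_mul, rP]
  rw [mul_assoc (S.d s), this, mul_inv_rev, ← mul_assoc, ← mul_assoc, mul_inv_cancel_right, S.d_u]
  simp [aA, rH]

include S in
theorem min_deg [Fintype K] [CharP K 3] [IsSimpleGroup G] [Finite G] {f : ℕ} {κ : Fin 4 → ℕ} (R : Ree G f (Fintype.card K) κ) {k : ℕ}
    (ρ : Representation ℂ G (Fin k → ℂ)) (hρ : ρ.IsIrreducible) (hk : 2 ≤ k) :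
    Fintype.card K ^ 2 - Fintype.card K + 1 ≤ k := by
  classical
  by_contra! hlt
  let f := (ρ : G →* _).compAddChar S.aA
  obtain ⟨μ, h1, h2⟩ := exists_pj f (a := (0, 1)) (ne_one_of_irr ρ hρ hk fun e => by
    simpa using S.u_inj (e.trans S.u_zero.symm))
  let e : K × Kˣ → K × K →+ K × K := fun i => .mk' (fun a => (i.2 * ϑ i.2 * a.1, i.2 ^ 2 * ϑ i.2 * (a.2 + a.1 * i.1)))
    fun a b => by simp; constructor <;> ring
  have h0 : ∀ s : Kˣ, (s : K) ^ 2 * ϑ s ≠ 0 := fun s => by simp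
  let ψ := μ.compAddMonoidHom (.inr K K)
  have h3 : Function.Injective fun i => μ.compAddMonoidHom (e i) := fun ⟨t, s⟩ ⟨t', s'⟩ h => by
    obtain rfl : s = s' := Units.ext (ree_inj S.sq (addChar_cancel (ψ := ψ) h2 fun x => by
      simpa [e, ψ] using DFunLike.congr_fun h (0, x)))
    obtain rfl : t = t' := mul_left_cancel₀ (h0 s) (addChar_cancel (ψ := ψ) h2 fun x => by
      have := DFunLike.congr_fun h (x, 0)
      have h4 : ∀ a b : K, μ (a, b) = μ (a, 0) * ψ b := fun a b => by simp [ψ, ← AddChar.map_add_eq_mul]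
      simp only [AddChar.compAddMonoidHom_apply, e, AddMonoidHom.mk'_apply, zero_add] at this
      rw [h4, h4 _ (_ * _)] at this
      simpa only [mul_comm x, mul_assoc] using mul_left_cancel₀ ((AddChar.val_isUnit _ _).ne_zero) this)
    rfl
  have h4 : ∀ ν : AddChar (K × K) ℂ, (∀ c, ν (0, c) = 1) → _ := fun ν h => orbit_le f h3 (n := mu f μ) (fun i =>
    mu_conj f μ (g := ρ (S.d i.2 * S.u (i.1, 0, 0))) (g' := ρ (S.d i.2 * S.u (i.1, 0, 0))⁻¹)
      (by rw [← map_mul, inv_mul_cancel, map_one]) _ ((injective_iff_map_eq_zero _).2 fun a h => by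
        simp only [e, AddMonoidHom.mk'_apply, Prod.mk_eq_zero] at h
        obtain ⟨a, b⟩ := a
        obtain rfl : a = 0 := by simpa using h.1
        simpa using h.2)
      fun a => by simp only [f, MonoidHom.compAddChar_apply, Function.comp, ← map_mul, S.conj_aA]; rfl) (μ := ν)
    fun ⟨i, hi⟩ => h2 (by
      have := h ((i.2 ^ 2 * ϑ i.2)⁻¹)
      simp only [← hi, e, AddChar.compAddMonoidHom_apply, AddMonoidHom.mk'_apply, zero_mul, add_zero, mul_zero] at this
      rwa [mul_inv_cancel₀ (h0 i.2)] at this)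
  simp only [Fintype.card_prod, Fintype.card_units, finrank_fin_fun] at h4
  have h5 := Nat.pos_of_ne_zero ((mu_eq_zero f).not.2 h1)
  have h6 : Fintype.card K * (Fintype.card K - 1) = Fintype.card K ^ 2 - Fintype.card K := by rw [Nat.mul_sub_one, _root_.sq]
  have h7 := Nat.le_mul_of_pos_right (Fintype.card K * (Fintype.card K - 1)) h5
  have h8 : ρ.character (S.d (-1)) = 0 := by
    rw [Representation.character, ← mul_one (ρ _), ← sum_pj f, mul_sum, map_sum]
    refine sum_eq_zero fun ν _ => ?_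
    by_cases h : ∀ c, ν (0, c) = 1
    · rw [(mu_eq_zero f).1 (by have := h4 ν h; omega), mul_zero, map_zero]
    obtain ⟨c, hc⟩ := not_forall.1 h
    have a1 : ρ (S.d (-1)) * f (0, c) = f (0, -c) * ρ (S.d (-1)) := by
      simpa [S.u_zero, ← map_mul, f, ← Prod.zero_eq_mk] using congrArg ρ (eq_mul_of_mul_inv_eq (S.conj_aA 0 (-1) (0, c)))
    have a2 := congrArg (fun g => LinearMap.trace ℂ _ (g * pj f ν)) a1
    simp only [mul_assoc] at a2
    rw [LinearMap.trace_mul_comm _ (f (0, -c)), mul_assoc, ← (comm_pj f ν fun a => by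
      rw [commute_iff_eq, ← f.map_add_eq_mul, ← f.map_add_eq_mul, add_comm]).eq, mul_pj, mul_pj] at a2
    simp only [mul_smul_comm, map_smul, smul_eq_mul, mul_eq_mul_right_iff] at a2
    refine a2.resolve_left fun a3 => hc ?_
    have : ((0, c) : K × K) = (0, -c) + (0, -c) := by
      simp only [Prod.mk_add_mk, add_zero, Prod.mk.injEq, true_and]; linear_combination c * CharP.cast_eq_zero K 3
    have a4 := congrArg ν this
    rw [ν.map_add_eq_mul, ← a3] at a4
    exact mul_left_cancel₀ ((AddChar.val_isUnit _ _).ne_zero) (a4.symm.trans (mul_one _).symm)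
  obtain ⟨P⟩ : Nonempty (Sylow 2 G) := inferInstance
  haveI := Fintype.ofFinite P
  haveI : Invertible (Nat.card P : ℂ) := invertibleOfNonzero (by simp [R.card_sylow2])
  have h9 := Representation.card_inv_mul_sum_char_eq_finrank (G := P) (ρ.comp (P : Subgroup G).subtype)
  have o : orderOf (S.d (-1)) = 2 := by
    rw [orderOf_injective _ S.d_inj]
    exact orderOf_eq_prime (by simp) fun e => by
      replace e : (-1 : K) = 1 := by simpa using congrArg Units.val e
      simpa using (CharP.cast_eq_zero_iff K 3 2).1 (by linear_combination -e)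
  rw [sum_eq_single 1 (fun x _ hx => ?_) (by simp), Representation.char_one, R.card_sylow2, finrank_fin_fun,
    inv_mul_eq_iff_eq_mul₀ (by norm_num)] at h9
  · have := h4 1 (by simp)
    have h10 : 8 ∣ Fintype.card K * (Fintype.card K - 1) := ⟨_, by
      rw [show Fintype.card K * (Fintype.card K - 1) = k by omega]; exact_mod_cast h9⟩
    obtain ⟨a, ha⟩ := R.odd 0
    rw [R.k0, ha] at h10
    simp only [Nat.add_sub_cancel] at h10
    rw [show (2 * (2 * a + 1) + 1) * (2 * (2 * a + 1)) = 4 * (4 * (a * a) + 5 * a + 1) + 2 by ring] at h10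
    omega
  obtain ⟨g, hg⟩ := isConj_iff.1 (R.inv _ x o (orderOf_eq_prime (by rw [_root_.sq, R.mul_self P.2 x.2]) (by simpa using hx)))
  exact (congrArg ρ.character hg.symm).trans ((ρ.char_conj _ _).trans h8)

end ReeS

theorem sz_min_deg {F : Type*} [Field F] [Fintype F] {θ : F →+* F} {G Ω : Type*} [Group G] [MulAction G Ω]
    (S : CfsgH7.SzS θ G Ω) {k : ℕ} (ρ : Representation ℂ G (Fin k → ℂ)) (hρ : ρ.IsIrreducible) (hk : 2 ≤ k) :
    ∃ n, Fintype.card F ≤ n ^ 2 * 2 ∧ n * (Fintype.card F - 1) ≤ k := by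
  classical
  haveI := S.simple
  let f := (ρ : G →* _).compAddChar (⟨S.u 0, S.u_zero, fun a b => by simp [S.u_mul]⟩ : AddChar F G)
  have hf : ∀ a, f a = ρ (S.u 0 a) := fun _ => rfl
  obtain ⟨μ, h1, h2⟩ := exists_pj f (a := 1) (ne_one_of_irr ρ hρ hk (S.z_ne one_ne_zero))
  have h0 : ∀ s : Fˣ, (s : F) * θ s ≠ 0 := fun s => by simp
  have h3 := orbit_le f (j := fun s : Fˣ => μ.compAddMonoidHom (.mulLeft (s * θ s))) (fun s t h => Units.ext (S.T.nm_inj
    (addChar_cancel h2 fun x => DFunLike.congr_fun h x))) (n := mu f μ) (fun s => mu_conj f μ (g := ρ (S.h s)) (g' := ρ (S.h s)⁻¹)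
      (by rw [← map_mul, inv_mul_cancel, map_one]) _ (mul_right_injective₀ (h0 s))
      fun a => by simp [hf, ← map_mul, S.h_u]) (μ := 1)
    fun ⟨s, hs⟩ => h2 (by simpa [h0, -mul_inv_rev] using DFunLike.congr_fun hs (s * θ s)⁻¹)
  simp only [Fintype.card_units, finrank_fin_fun] at h3
  refine ⟨mu f μ, ?_, by rw [mul_comm]; omega⟩
  obtain ⟨β, hβ⟩ := ((Fintype.bijective_iff_injective_and_card μ.mulShift).2 ⟨fun a b h =>
    addChar_cancel h2 fun x => DFunLike.congr_fun h x, by simp⟩).2 (μ.compAddMonoidHom θ)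
  let σ := Representation.subrepresentation (ρ.comp S.Q.subtype) (LinearMap.range (pj f μ)) fun g _ ⟨v, e⟩ =>
    ⟨ρ g v, e ▸ LinearMap.congr_fun (comm_pj f μ fun a => by
      rw [hf, commute_iff_eq, ← map_mul, ← map_mul, S.Z_comm g.2 (S.z_mem a)]).symm.eq v⟩
  have h4 : ∀ b, σ ⟨S.u 0 b, S.u_mem _ _⟩ = μ b • 1 := fun b => LinearMap.ext fun ⟨_, v, e⟩ => Subtype.ext
    (e ▸ LinearMap.congr_fun (mul_pj f μ b) v)
  have h5 : ∀ a b, a ∉ AddSubgroup.zmultiples (θ β) → σ.character ⟨S.u a b, S.u_mem _ _⟩ = 0 := fun a b h => by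
    obtain ⟨x, rfl⟩ := Finite.surjective_of_injective θ.injective a
    have : ∃ c, μ (θ c * θ x + θ (θ x) * c) ≠ 1 := by_contra fun h' => h (by
      have : β * x = -x ^ 2 := addChar_cancel h2 fun c => by
        have h6 : μ (β * (c * x)) = μ (θ (c * x)) := DFunLike.congr_fun hβ _
        rw [mul_assoc, mul_comm x, h6, neg_mul, μ.map_neg_eq_inv, map_mul, ← S.T.sq]
        exact eq_inv_of_mul_eq_one_left ((μ.map_add_eq_mul ..).symm.trans (not_not.1 (not_exists.1 h' c)))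
      rcases mul_eq_zero.1 (show x * (x - β) = 0 by linear_combination this - β * x * S.T.two) with e | e
      exacts [by simp [e], sub_eq_zero.1 e ▸ AddSubgroup.mem_zmultiples _])
    obtain ⟨c, hc⟩ := this
    have h6 := σ.char_conj ⟨S.u (θ x) b, S.u_mem _ _⟩ ⟨S.u c 0, S.u_mem _ _⟩
    rw [show (_ * _ * _ : S.Q) = ⟨_, S.u_mem 0 (θ c * θ x + θ (θ x) * c)⟩ * ⟨S.u (θ x) b, S.u_mem _ _⟩ from
      Subtype.ext (eq_mul_of_mul_inv_eq (S.u_commutator ..)), Representation.character, map_mul, h4, smul_mul_assoc,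
      one_mul, map_smul] at h6
    exact (mul_left_eq_self₀.1 h6).resolve_left hc
  have h6 : (mu f μ : ℂ) ≠ 0 := by simpa [mu_eq_zero]
  have h7 := (LinearIndependent.of_pairwise_dual_eq_zero_one
    (fun i : F ⧸ AddSubgroup.zmultiples (θ β) => σ ⟨S.u i.out 0, S.u_mem _ _⟩)
    (fun i => (mu f μ : ℂ)⁻¹ • LinearMap.trace ℂ _ ∘ₗ LinearMap.mulLeft ℂ (σ ⟨S.u i.out 0, S.u_mem _ _⟩⁻¹))
    (fun i j h => ?_) fun i => by simp [← map_mul, h6, ← mu.eq_1]).fintype_card_le_finrank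
  · rw [finrank_linearMap, ← mu.eq_1, ← Nat.card_eq_fintype_card] at h7
    rw [← Nat.card_eq_fintype_card, (AddSubgroup.zmultiples (θ β)).card_eq_card_quotient_mul_card_addSubgroup,
      Nat.card_zmultiples, sq]
    exact Nat.mul_le_mul h7 (addOrderOf_le_of_nsmul_eq_zero two_pos (by simp [S.T.two]))
  have := h5 (i.out + j.out) (i.out * θ i.out + θ i.out * j.out) fun e => h (by
    rw [← i.out_eq, ← j.out_eq]
    exact QuotientAddGroup.eq.2 (by rwa [neg_eq_of_add_eq_zero_left (S.T.add_self _)]))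
  simp only [LinearMap.smul_apply, LinearMap.comp_apply, LinearMap.mulLeft_apply, ← map_mul, smul_eq_zero]
  exact .inr (this ▸ congrArg σ.character (Subtype.ext (by simp [S.u_inv, S.u_mul])))

theorem sz_deg {F : Type*} [Field F] [Fintype F] {m : ℕ} (hm : 1 ≤ m) (hF : Fintype.card F = 2 ^ (2 * m + 1)) (k : ℕ)
    (ρ : Representation ℂ (Sz F (2 ^ (m + 1))) (Fin k → ℂ)) (hρ : ρ.IsIrreducible) (hk : 2 ≤ k) :
    2 ^ m * (2 ^ (2 * m + 1) - 1) ≤ k := by
  haveI := CfsgH7.SzM.charP hF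
  obtain ⟨_, ⟨S⟩⟩ := CfsgH7.SzM.lie_model hm hF
  obtain ⟨n, h1, h2⟩ := sz_min_deg S ρ hρ hk
  rw [hF, pow_succ, pow_mul'] at h1
  exact (Nat.mul_le_mul_right _ ((Nat.pow_le_pow_iff_left two_ne_zero).1 (by omega))).trans (hF ▸ h2)

theorem ree_simple {K : Type*} [Field K] [Fintype K] {m : ℕ} (hm : 1 ≤ m) (hK : Fintype.card K = 3 ^ (2 * m + 1)) :
    IsSimpleGroup (twistedG2 K (3 ^ m)) := by
  obtain ⟨φ, T, h, hq⟩ := Chev.exists_isG2 hK
  exact (h.set.simple Chev.highG2 (h.perfect hq (exists_sq_ne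
    (hK ▸ Nat.pow_lt_pow_right (a := 3) (m := 1) (by norm_num) (by omega)) two_ne_zero))).1

theorem ree_deg {K : Type*} [Field K] [Fintype K] {m : ℕ} (hm : 1 ≤ m) (hK : Fintype.card K = 3 ^ (2 * m + 1)) (k : ℕ)
    (ρ : Representation ℂ (twistedG2 K (3 ^ m)) (Fin k → ℂ)) (hρ : ρ.IsIrreducible) (hk : 2 ≤ k) :
    (3 ^ (2 * m + 1)) ^ 2 - 3 ^ (2 * m + 1) + 1 ≤ k := by
  haveI := charP_of_card Nat.prime_three hK
  haveI := ree_simple hm hK
  obtain ⟨ϑ, ⟨S⟩⟩ := exists_reeS hK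
  obtain ⟨R⟩ := Chev.exists_ree hK
  rw [← hK] at R ⊢
  exact S.min_deg R ρ hρ hk

end CfsgH6
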