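import Cfsg.Agent.H6.Mul1
import Cfsg.Agent.H6.Wt1
import Cfsg.Agent.H7.Sz6
namespace CfsgH6
open Subgroup Cfsg.Lie
open scoped commutatorElement
universe u

theorem gd_of_field {G : Type u} [Group G] {F ι : Type*} [Field F] [Finite F] {V : Subgroup G} (d : Fˣ → G) (u : ι → G)
    (m : F → ι → ι) (hV : ∀ x, x ∈ V ↔ ∃ i, x = u i) (hd : ∀ (s : Fˣ) i, d s * u i * (d s)⁻¹ = u (m s i))
    (h0 : ∀ i, u (m 0 i) = 1) (hadd : ∀ i s t, u (m (s + t) i) * (u (m s i))⁻¹ * (u (m t i))⁻¹ ∈ ⁅V, V⁆) {n : ℕ}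
    (hn : V.lowerCentralSeries n = ⊥) (hA : 2 ^ (n + 1) < Nat.card F) : Gd V := by
  classical
  let D : F → G := fun s => if h : s = 0 then 1 else d (Units.mk0 s h)
  have hD : ∀ s ≠ 0, ∀ i, D s * u i * (D s)⁻¹ = u (m s i) := fun s hs i => by simp [D, hs, hd]
  have hc : ∀ s i, (if s = 0 then 1 else D s * u i * (D s)⁻¹) = u (m s i) := fun s i => by
    split_ifs with hs
    · rw [hs, h0]
    · exact hD s hs i
  refine gd_of_wt D (fun s x => if s = 0 then 1 else D s * x * (D s)⁻¹) (fun _ => if_pos rfl) (fun s hs _ => if_neg hs)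
    (fun s x hx => ?_) (fun x hx s t => ?_) hn hA
  · by_cases hs : s = 0
    · simpa [D, hs] using hx
    · obtain ⟨i, rfl⟩ := (hV x).1 hx
      exact (hV _).2 ⟨_, hD s hs i⟩
  · obtain ⟨i, rfl⟩ := (hV x).1 hx
    simpa only [hc] using hadd i s t

theorem gd_of_trans {G : Type u} [Group G] [Finite G] {V : Subgroup G} (hV : ∀ x ∈ V, ∀ y ∈ V, x * y = y * x)
    (h4 : 4 < Nat.card V) {H : Set G} (hH : ∀ x ∈ H, ∀ y ∈ H, x * y = y * x) (hN : ∀ h ∈ H, ∀ x ∈ V, h * x * h⁻¹ ∈ V)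
    {x0 : G} (ht : ∀ x ∈ V, x ≠ 1 → ∃ h ∈ H, x = h * x0 * h⁻¹) : Gd V := by
  classical
  letI : CommGroup V := { (inferInstance : Group V) with mul_comm := fun x y => Subtype.ext (hV _ x.2 _ y.2) }
  choose! D h1 h2 using ht
  have hc : ∀ (s : Additive V), ∀ x ∈ V, x ≠ 1 →
      (if s = 0 then 1 else D s.toMul * x * (D s.toMul)⁻¹) = D x * s.toMul * (D x)⁻¹ := fun s x hx hx1 => by
    split_ifs with hs
    · simp [hs]
    · have hs' : (s.toMul : G) ≠ 1 := fun e => hs (Additive.toMul.injective (Subtype.ext e))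
      have := hH _ (h1 _ s.toMul.2 hs') _ (h1 x hx hx1)
      calc _ = D s.toMul * (D x * x0 * (D x)⁻¹) * (D s.toMul)⁻¹ := by rw [← h2 x hx hx1]
        _ = (D s.toMul * D x) * x0 * (D s.toMul * D x)⁻¹ := by group
        _ = D x * (D s.toMul * x0 * (D s.toMul)⁻¹) * (D x)⁻¹ := by rw [this]; group
        _ = _ := by rw [← h2 _ s.toMul.2 hs']
  refine gd_of_wt (A := Additive V) (fun s => if s = 0 then 1 else D s.toMul)
    (fun s x => if s = 0 then 1 else D s.toMul * x * (D s.toMul)⁻¹)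
    (fun _ => if_pos rfl) (fun s hs _ => by simp [hs]) (fun s x hx => ?_) (fun x hx s t => ?_) (n := 1)
    (commutator_eq_bot_iff_le_centralizer.2 fun x hx y hy => hV _ hy _ hx) h4
  · split_ifs with hs
    · simpa using hx
    · exact hN _ (h1 _ s.toMul.2 fun e => hs (Additive.toMul.injective (Subtype.ext e))) x hx
  · by_cases hx1 : x = 1
    · simp [hx1]
    · rw [hc _ x hx hx1, hc _ x hx hx1, hc _ x hx hx1, toMul_add, mul_comm s.toMul, coe_mul]
      convert (⁅V, V⁆ : Subgroup G).one_mem using 1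
      group

theorem sz_sm {F : Type*} [Field F] [Finite F] {θ : F →+* F} {G : Type u} {Ω : Type*} [Group G] [MulAction G Ω]
    (S : CfsgH7.SzS θ G Ω) (hq : 8 < Nat.card F) : Cfsg.HasCyclicSchurMultiplier G 1 := by
  haveI := S.finG
  refine sm_one_of_gd fun r hr => ?_
  rcases hr.eq_two_or_odd' with rfl | h2
  · have e : ⁅S.Q, S.Q⁆ = S.Z := by
      rw [← map_subtype_commutator, S.commutator_Q, subgroupOf_map_subtype, inf_eq_left.2 S.Z_le]
    refine ⟨S.Q, by rw [S.index_Q]; exact (S.odd1.mul S.odd2).not_two_dvd_nat, gd_of_field S.h (fun x : F × F => S.u x.1 x.2)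
      (fun s x => (s * x.1, s * θ s * x.2)) (fun x => by simp [S.mem_Q]) (fun s x => S.h_u s _ _) (by simp [S.u_zero])
      (fun x s t => ?_) (n := 2) ?_ hq⟩
    · simp only [e, S.u_inv, S.u_mul]
      exact ⟨_, congrArg (S.u · _) (by linear_combination (s + t) * x.1 * S.T.two)⟩
    · change ⁅⁅S.Q, S.Q⁆, S.Q⁆ = ⊥
      rw [e]
      exact commutator_eq_bot_iff_le_centralizer.2 fun z hz x hx => S.Z_comm hx hz
  · haveI := Fact.mk hr
    obtain ⟨P⟩ : Nonempty (Sylow r G) := inferInstance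
    refine ⟨P, P.not_dvd_index, ?_⟩
    by_cases h : (P : Subgroup G) = ⊥
    · exact gd_of_cyclic (h ▸ inferInstance)
    obtain ⟨U, hU, e⟩ := S.case_odd h fun z hz h1 => by
      obtain ⟨k, hk⟩ := P.isPGroup' ⟨z, hz⟩
      exact orderOf_eq_one_iff.1 (Nat.eq_one_of_dvd_coprimes ((Nat.coprime_two_left.2 h2).pow_right k)
        (orderOf_dvd_of_pow_eq_one h1) (orderOf_dvd_of_pow_eq_one (congrArg Subtype.val hk)))
    exact (gd_of_cyclic hU.cyc).mono e

theorem Ree.gd_two {G : Type u} [Group G] [Finite G] {f q : ℕ} {k : Fin 4 → ℕ} (R : Ree G f q k) (P : Sylow 2 G) :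
    Gd (P : Subgroup G) := by
  haveI : Fact (Nat.Prime 7) := ⟨by norm_num⟩
  obtain ⟨⟨g, hg⟩, h7⟩ := exists_prime_orderOf_dvd_card' 7 (R.seven_dvd P)
  rw [orderOf_mk] at h7
  have hN : ∀ h ∈ zpowers g, ∀ x ∈ (P : Subgroup G), h * x * h⁻¹ ∈ (P : Subgroup G) := fun h hh x hx =>
    (mem_normalizer_iff.1 (zpowers_le.2 hg hh) x).1 hx
  have : g ∉ centralizer ((P : Subgroup G) : Set G) := fun h => by
    rw [R.cent_sylow2] at h
    have := orderOf_dvd_natCard _ h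
    rw [h7, R.card_sylow2] at this
    omega
  simp only [mem_centralizer_iff, not_forall] at this
  obtain ⟨x0, hx0, hc⟩ := this
  refine gd_of_trans (fun x hx y hy => R.le_cent P.isPGroup' hy x hx) (by rw [R.card_sylow2]; omega) (H := zpowers g)
    (fun x hx y hy => setLike_mul_comm hx hy) hN (x0 := x0) fun x hx hx1 => ?_
  let j : zpowers g → {v | v ∈ (P : Subgroup G) ∧ v ≠ 1} := fun h => ⟨h * x0 * h⁻¹, hN _ h.2 _ hx0, fun e => hc (by
    rw [conj_eq_one_iff.1 e, one_mul, mul_one])⟩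
  have hj : Function.Injective j := fun a b e => by
    by_contra hab
    haveI : Fact (Nat.card (zpowers g)).Prime := ⟨by rw [Nat.card_zpowers, h7]; norm_num⟩
    have h1 : b⁻¹ * a ≠ 1 := fun e => hab (inv_mul_eq_one.1 e).symm
    have h2 : (⟨g, mem_zpowers g⟩ : zpowers g) ∈ zpowers (b⁻¹ * a) := by
      rw [zpowers_eq_top_of_prime_card rfl h1]; trivial
    have h3 : zpowers (b⁻¹ * a) ≤ (centralizer {x0}).subgroupOf _ := zpowers_le.2 (mem_centralizer_singleton_iff.2 (by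
      have e : (a : G) * x0 * (a : G)⁻¹ = b * x0 * (b : G)⁻¹ := congrArg Subtype.val e
      calc ((b : G)⁻¹ * a : G) * x0 = (b : G)⁻¹ * (a * x0 * (a : G)⁻¹) * a := by group
        _ = x0 * ((b : G)⁻¹ * a) := by rw [e]; group))
    exact hc (mem_centralizer_singleton_iff.1 (h3 h2)).symm
  obtain ⟨h, e⟩ := (hj.bijective_of_nat_card_le (by
    have := card_ne_one (P : Subgroup G)
    rw [R.card_sylow2] at this
    rw [Nat.card_zpowers, h7]; omega)).2 ⟨x, hx, hx1⟩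
  exact ⟨h, h.2, (congrArg Subtype.val e).symm⟩

namespace ReeS
variable {K : Type*} [Field K] {ϑ : K ≃+* K} {G : Type u} [Group G] (S : ReeS ϑ G)

theorem u_inv (x : K × K × K) :
    (S.u x)⁻¹ = S.u (-x.1, -x.2.1 - x.1 * ϑ x.1, -x.2.2 - x.1 * x.2.1 - 2 * x.1 ^ 2 * ϑ x.1) := by
  rw [inv_eq_iff_mul_eq_one, S.u_mul, ← S.u_zero]
  congr 1
  simp only [rP, map_neg, Prod.ext_iff, Prod.fst_zero, Prod.snd_zero]
  refine ⟨by ring, by ring, by ring⟩

/-- the Sylow 3-subgroup -/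
def U : Subgroup G where
  carrier := {g | ∃ x, g = S.u x}
  mul_mem' := by rintro _ _ ⟨x, rfl⟩ ⟨y, rfl⟩; exact ⟨_, S.u_mul _ _⟩
  one_mem' := ⟨0, S.u_zero.symm⟩
  inv_mem' := by rintro _ ⟨x, rfl⟩; exact ⟨_, S.u_inv _⟩

/-- subgroups of the abelian normal subgroup of `U` -/
def sub (W : AddSubgroup (K × K)) : Subgroup G := W.toSubgroup.map S.aA.toMonoidHom

theorem mem_sub {W : AddSubgroup (K × K)} {g : G} : g ∈ S.sub W ↔ ∃ a ∈ W, S.u (0, a) = g := Iff.rfl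

theorem card_U : Nat.card S.U = Nat.card K ^ 3 := by
  rw [← Nat.card_congr (Equiv.ofBijective (fun x => (⟨S.u x, x, rfl⟩ : S.U))
    ⟨fun _ _ e => S.u_inj (congrArg Subtype.val e), fun ⟨_, x, e⟩ => ⟨x, Subtype.ext e.symm⟩⟩)]
  simp only [Nat.card_prod]; ring

theorem comm_u (x y : K × K × K) : ∃ c, ⁅S.u x, S.u y⁆ = S.u (0, y.1 * ϑ x.1 - x.1 * ϑ y.1, c) ∧
    (x.1 = 0 → c = -(x.2.1 * y.1)) := by
  simp only [commutatorElement_def, S.u_inv, S.u_mul]
  refine ⟨_, congrArg S.u (Prod.ext ?_ (Prod.ext ?_ rfl)), fun h => ?_⟩ <;> simp only [rP, map_neg, map_add]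
  · ring
  · ring
  · simp only [h, map_zero]; ring

theorem lcs3 : S.U.lowerCentralSeries 3 = ⊥ := by
  have h1 : S.U.lowerCentralSeries 1 ≤ S.sub ⊤ := commutator_le.2 (by
    rintro _ ⟨x, rfl⟩ _ ⟨y, rfl⟩
    obtain ⟨c, e, -⟩ := S.comm_u x y
    exact ⟨_, trivial, e.symm⟩)
  have h2 : S.U.lowerCentralSeries 2 ≤ S.sub (.prod ⊥ ⊤) := (commutator_mono h1 le_rfl).trans (commutator_le.2 (by
    rintro _ ⟨x, -, rfl⟩ _ ⟨y, rfl⟩
    obtain ⟨c, e, -⟩ := S.comm_u (0, x) y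
    exact S.mem_sub.2 ⟨_, by simp [AddSubgroup.mem_prod], e.symm⟩))
  refine eq_bot_iff.2 ((commutator_mono h2 le_rfl).trans (commutator_le.2 ?_))
  rintro _ hx _ ⟨y, rfl⟩
  obtain ⟨x, hx', rfl⟩ := S.mem_sub.1 hx
  obtain ⟨c, e, h⟩ := S.comm_u (0, x) y
  rw [e, h rfl, show x.1 = 0 from hx'.1]
  simpa [← Prod.zero_eq_mk] using S.u_zero

theorem mem_comm [CharP K 3] (hK : ∃ c : K, c ≠ 0 ∧ c ^ 2 ≠ 1) (b c : K) : S.u (0, b, c) ∈ ⁅S.U, S.U⁆ := by
  have h1 : ∀ c, S.u (0, 0, c) ∈ ⁅S.U, S.U⁆ := fun c => by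
    obtain ⟨c', e, h⟩ := S.comm_u (0, -c, 0) (1, 0, 0)
    simpa [e, h rfl] using commutator_mem_commutator (H₁ := S.U) (H₂ := S.U) ⟨_, rfl⟩ ⟨_, rfl⟩ (g₁ := S.u (0, -c, 0))
      (g₂ := S.u (1, 0, 0))
  have h2 : ∀ b c c', S.u (0, b, c) ∈ ⁅S.U, S.U⁆ → S.u (0, b, c') ∈ ⁅S.U, S.U⁆ := fun b c c' h => by
    simpa [S.u_mul, rP] using mul_mem h (h1 (c' - c))
  obtain ⟨a, ha⟩ : ∃ a, ϑ a - a ≠ 0 := by
    obtain ⟨c, h0, h⟩ := hK
    by_contra! H
    simp only [sub_eq_zero] at H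
    exact h (mul_left_cancel₀ h0 (by have := S.sq c; rw [H, H] at this; linear_combination -this))
  have h3 : ∀ μ, S.u (0, μ ^ 2 * (ϑ a - a), 0) ∈ ⁅S.U, S.U⁆ := fun μ => by
    rcases eq_or_ne μ 0 with rfl | h0
    · simpa using h1 0
    obtain ⟨c', e, -⟩ := S.comm_u (ϑ μ / μ * a, 0, 0) (ϑ μ / μ, 0, 0)
    refine h2 _ c' _ ?_
    convert e ▸ commutator_mem_commutator (H₁ := S.U) (H₂ := S.U) ⟨_, rfl⟩ ⟨_, rfl⟩ using 4
    have : ϑ μ ≠ 0 := by simpa
    simp only [map_mul, map_div₀, S.sq]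
    field_simp
  refine h2 _ 0 _ ?_
  have := mul_mem (h3 (b / (ϑ a - a) + 1)) (inv_mem (h3 (b / (ϑ a - a) - 1)))
  simp only [S.u_inv, S.u_mul, rP] at this
  convert this using 4
  · simp
  · field_simp
    linear_combination -b * (ϑ a - a) * CharP.cast_eq_zero K 3
  · simp

include S in
theorem sm [Fintype K] [CharP K 3] [Finite G] {f : ℕ} {κ : Fin 4 → ℕ} (R : Ree G f (Fintype.card K) κ)
    (hq : 16 < Fintype.card K) : Cfsg.HasCyclicSchurMultiplier G 1 := by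
  refine sm_one_of_gd fun r hr => ?_
  haveI := Fact.mk hr
  obtain ⟨P⟩ : Nonempty (Sylow r G) := inferInstance
  rcases eq_or_ne r 3 with rfl | h3
  · refine ⟨S.U, fun h => ?_, gd_of_field S.d S.u (rH ϑ) (fun _ => Iff.rfl) S.d_u (fun x => by simpa [rH, ← Prod.zero_eq_mk] using S.u_zero)
      (fun x s t => ?_) S.lcs3 (by rwa [Nat.card_eq_fintype_card])⟩
    · have := S.U.card_mul_index
      rw [S.card_U, R.cardG, Nat.card_eq_fintype_card, mul_assoc] at this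
      rw [Nat.eq_of_mul_eq_mul_left (by positivity) this] at h
      rcases (Nat.Prime.dvd_mul hr).1 h with h | h
      · exact R.nd0 h
      rcases (Nat.Prime.dvd_mul hr).1 h with h | h
      · exact R.nd1 h
      · exact ((Nat.Prime.dvd_mul hr).1 h).elim (R.cop3 _) (R.cop3 _)
    · simp only [S.u_inv, S.u_mul, rP, rH]
      convert S.mem_comm (exists_sq_ne (by omega) two_ne_zero) _ _ using 3
      ring
  refine ⟨P, P.not_dvd_index, ?_⟩
  rcases eq_or_ne r 2 with rfl | h2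
  · exact R.gd_two P
  · exact gd_of_cyclic (R.isCyclic (by have := hr.two_le; omega) P.isPGroup')

end ReeS

theorem sz_schur {F : Type*} [Field F] [Fintype F] {m : ℕ} (hm : 2 ≤ m) (hF : Fintype.card F = 2 ^ (2 * m + 1)) :
    Cfsg.HasCyclicSchurMultiplier (Sz F (2 ^ (m + 1))) 1 := by
  haveI := CfsgH7.SzM.charP hF
  obtain ⟨_, ⟨S⟩⟩ := CfsgH7.SzM.lie_model (by omega) hF
  exact sz_sm S (by
    rw [Nat.card_eq_fintype_card, hF]; exact Nat.pow_lt_pow_right (a := 2) (m := 3) (by norm_num) (by omega))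

theorem ree_schur {K : Type*} [Field K] [Fintype K] {m : ℕ} (hm : 1 ≤ m) (hK : Fintype.card K = 3 ^ (2 * m + 1)) :
    Cfsg.HasCyclicSchurMultiplier (twistedG2 K (3 ^ m)) 1 := by
  haveI := charP_of_card Nat.prime_three hK
  obtain ⟨ϑ, ⟨S⟩⟩ := exists_reeS hK
  obtain ⟨R⟩ := Chev.exists_ree hK
  rw [← hK] at R
  exact S.sm R (hK ▸ lt_of_lt_of_le (by norm_num) (Nat.pow_le_pow_right (j := 2 * m + 1) (n := 3) (i := 3) (by norm_num)
    (by omega)))

end CfsgH6
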