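import Cfsg.Agent.H6.Mul1

/-! Invariant forms on a central filtration; lifts of `p`-elements in central extensions. -/

set_option autoImplicit false

namespace CfsgH6
open Subgroup
open scoped commutatorElement
universe u

section frm
variable {E : Type u} [Group E]

/-- an invariant bimultiplicative form on `A/A' × B/B'` vanishing on commuting pairs -/
structure Frm (A B A' B' : Subgroup E) (S : Set (MulAut E)) {M : Type*} [CommGroup M] (β : E → E → M) : Prop where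
  ml : ∀ x ∈ A, ∀ x' ∈ A, ∀ y ∈ B, β (x * x') y = β x y * β x' y
  mr : ∀ x ∈ A, ∀ y ∈ B, ∀ y' ∈ B, β x (y * y') = β x y * β x y'
  ll : ∀ x ∈ A', ∀ y ∈ B, β x y = 1
  lr : ∀ x ∈ A, ∀ y ∈ B', β x y = 1
  inv : ∀ a ∈ S, ∀ x ∈ A, ∀ y ∈ B, β (a x) (a y) = β x y
  ex : ∀ x ∈ A, ∀ y ∈ B, Commute x y → β x y = 1

/-- a coordinate on `A/A'` -/
structure Lev (A A' : Subgroup E) {K : Type*} [Field K] (co : E → K) : Prop where
  add : ∀ x ∈ A, ∀ y ∈ A, co (x * y) = co x + co y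
  ker : ∀ x ∈ A, co x = 0 → x ∈ A'

/-- the automorphism `a` scales the coordinate by `c` -/
def Scl (A : Subgroup E) {K : Type*} [Field K] (co : E → K) (a : MulAut E) (c : K) : Prop :=
  ∀ x ∈ A, a x ∈ A ∧ co (a x) = c * co x

variable {A B A' B' : Subgroup E} {S : Set (MulAut E)} {M : Type*} [CommGroup M] {β : E → E → M}
  {K K' : Type*} [Field K] [Field K'] {co : E → K} {co' : E → K'}

theorem Lev.one (h : Lev A A' co) : co 1 = 0 := by simpa using h.add 1 A.one_mem 1 A.one_mem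

theorem Lev.inv (h : Lev A A' co) {x : E} (hx : x ∈ A) : co x⁻¹ = -co x := by
  rw [eq_neg_iff_add_eq_zero, ← h.add _ (inv_mem hx) _ hx, inv_mul_cancel, h.one]

namespace Frm
variable (h : Frm A B A' B' S β)
include h

theorem flip : Frm B A B' A' S fun y x => β x y :=
  ⟨fun y hy y' hy' x hx => h.mr x hx y hy y' hy', fun y hy x hx x' hx' => h.ml x hx x' hx' y hy,
    fun y hy x hx => h.lr x hx y hy, fun y hy x hx => h.ll x hx y hy, fun a ha y hy x hx => h.inv a ha x hx y hy,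
    fun y hy x hx e => h.ex x hx y hy e.symm⟩

theorem congr (hl : Lev A A' co) {x x' y : E} (hx : x ∈ A) (hx' : x' ∈ A) (hy : y ∈ B) (e : co x = co x') :
    β x y = β x' y := by
  have := h.ml _ (mul_mem hx (inv_mem hx')) _ hx' y hy
  rwa [inv_mul_cancel_right, h.ll _ (hl.ker _ (mul_mem hx (inv_mem hx')) (by
    rw [hl.add _ hx _ (inv_mem hx'), hl.inv hx', e, add_neg_cancel])) _ hy, one_mul] at this

theorem kill [Finite K'] (hl : Lev A A' co) (hl' : Lev B B' co') {a : MulAut E} (ha : a ∈ S) (h1 : Scl A co a 1) {c : K'}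
    (h2 : Scl B co' a c) (hc : c ≠ 1) : ∀ x ∈ A, ∀ y ∈ B, β x y = 1 := fun x hx y hy => by
  have k : ∀ n : ℕ, ∃ z ∈ B, co' z = (c - 1) ^ n * co' y := fun n => by
    induction n with
    | zero => exact ⟨y, hy, by simp⟩
    | succ n ih =>
      obtain ⟨z, hz, e⟩ := ih
      exact ⟨a z * z⁻¹, mul_mem (h2 z hz).1 (inv_mem hz), by
        rw [hl'.add _ (h2 z hz).1 _ (inv_mem hz), (h2 z hz).2, hl'.inv hz, e]; ring⟩
  haveI := Fintype.ofFinite K'
  obtain ⟨z, hz, e⟩ := k (Fintype.card K' - 2)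
  have h3 : β x (a z) = β x z := by
    rw [← h.inv a ha x hx z hz]
    exact h.congr hl hx (h1 x hx).1 (h2 z hz).1 (by rw [(h1 x hx).2, one_mul])
  have h4 : β x (z * y) = β x (a z) := h.flip.congr hl' (mul_mem hz hy) (h2 z hz).1 hx (by
    have := FiniteField.pow_card_sub_one_eq_one _ (sub_ne_zero.2 hc)
    rw [show Fintype.card K' - 1 = Fintype.card K' - 2 + 1 by have := Fintype.one_lt_card (α := K'); omega] at this
    rw [hl'.add _ hz _ hy, (h2 z hz).2, e]
    linear_combination -co' y * this)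
  rwa [h3, h.mr x hx z hz y hy, mul_eq_left] at h4

theorem deg [Finite K] (hl : Lev A A' co) (hl' : Lev B B' co') (f : K →+* K') {j : ℕ} (hj : j = 1 ∨ j = 2)
    (ha : ∀ v : K, v ≠ 0 → ∃ a ∈ S, Scl A co a (v ^ j) ∧ Scl B co' a (f v ^ j)) (hK : 4 ^ j < Nat.card K) :
    ∀ x ∈ A, ∀ y ∈ B, β x y = 1 := fun x hx y hy => by
  classical
  choose! a h0 h1 h2 using ha
  let τ : K → E → E := fun v x => if v = 0 then 1 else a v x
  have k1 : ∀ v, τ v x ∈ A ∧ co (τ v x) = v ^ j * co x := fun v => by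
    by_cases hv : v = 0
    · rcases hj with rfl | rfl <;> simp [τ, hv, hl.one]
    · simpa [τ, hv] using h1 v hv x hx
  have k2 : ∀ v, τ v y ∈ B ∧ co' (τ v y) = f v ^ j * co' y := fun v => by
    by_cases hv : v = 0
    · rcases hj with rfl | rfl <;> simp [τ, hv, hl'.one]
    · simpa [τ, hv] using h2 v hv y hy
  have key : ∀ (n : ℕ) {a b : ℕ} {φ χ : K → E}, a + b = n + 1 → (∀ s, φ s ∈ A) → (∀ s, χ s ∈ B) →
      Deg ⊥ a (fun s => Multiplicative.ofAdd (co (φ s))) → Deg ⊥ b (fun s => Multiplicative.ofAdd (co' (χ s))) →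
      Deg ⊥ n fun s => β (φ s) (χ s) := by
    have z0 : ∀ n {φ χ : K → E}, (∀ s, φ s ∈ A) → (∀ s, χ s ∈ B) →
        Deg ⊥ 0 (fun s => Multiplicative.ofAdd (co (φ s))) → Deg ⊥ n fun s => β (φ s) (χ s) := fun n φ χ h1 h2 H => by
      convert Deg.one n using 2 with s
      exact h.ll _ (hl.ker _ (h1 s) (mem_bot.1 (H s))) _ (h2 s)
    have z1 : ∀ n {φ χ : K → E}, (∀ s, φ s ∈ A) → (∀ s, χ s ∈ B) →
        Deg ⊥ 0 (fun s => Multiplicative.ofAdd (co' (χ s))) → Deg ⊥ n fun s => β (φ s) (χ s) := fun n φ χ h1 h2 H => by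
      convert Deg.one n using 2 with s
      exact h.lr _ (h1 s) _ (hl'.ker _ (h2 s) (mem_bot.1 (H s)))
    intro n
    induction n with
    | zero =>
      intro a b φ χ e h1 h2 H H'
      rcases a with _ | a
      · exact z0 _ h1 h2 H
      · obtain rfl : b = 0 := by omega
        exact z1 _ h1 h2 H'
    | succ n ih =>
      intro a b φ χ e h1 h2 H H'
      rcases a with _ | a
      · exact z0 _ h1 h2 H
      rcases b with _ | b
      · exact z1 _ h1 h2 H'
      intro t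
      have k1 := ih (a := a) (b := b + 1) (by omega) (fun s => mul_mem (h1 (s + t)) (inv_mem (h1 s))) (fun s => h2 (s + t))
        (by simpa only [hl.add _ (h1 _) _ (inv_mem (h1 _)), hl.inv (h1 _), ofAdd_add, ofAdd_neg] using H t) (H'.shift t)
      have k2 := ih (a := a + 1) (b := b) (by omega) h1 (fun s => mul_mem (h2 (s + t)) (inv_mem (h2 s))) H
        (by simpa only [hl'.add _ (h2 _) _ (inv_mem (h2 _)), hl'.inv (h2 _), ofAdd_add, ofAdd_neg] using H' t)
      convert Deg.mul (fun s => by simp [CommGroup.center_eq_top]) k1 k2 using 2 with s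
      rw [mul_inv_eq_iff_eq_mul, mul_assoc, ← h.mr _ (h1 s) _ (mul_mem (h2 _) (inv_mem (h2 s))) _ (h2 s),
        inv_mul_cancel_right, ← h.ml _ (mul_mem (h1 _) (inv_mem (h1 s))) _ (h1 s) _ (h2 _), inv_mul_cancel_right]
  have d1 : Deg ⊥ (j + 1) fun s => Multiplicative.ofAdd (co (τ s x)) := by
    simp only [(k1 _).2]
    rcases hj with rfl | rfl
    · intro a b c; simp only [← ofAdd_neg, ← ofAdd_add, mem_bot, ofAdd_eq_one]; ring
    · intro a b c d; simp only [← ofAdd_neg, ← ofAdd_add, mem_bot, ofAdd_eq_one]; ring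
  have d2 : Deg ⊥ (j + 1) fun s => Multiplicative.ofAdd (co' (τ s y)) := by
    simp only [(k2 _).2]
    rcases hj with rfl | rfl
    · intro a b c; simp only [← ofAdd_neg, ← ofAdd_add, mem_bot, ofAdd_eq_one, map_add]; ring
    · intro a b c d; simp only [← ofAdd_neg, ← ofAdd_add, mem_bot, ofAdd_eq_one, map_add]; ring
  have := Deg.const (2 * j) {0} (key (2 * j + 1) (by omega) (fun s => (k1 s).1) (fun s => (k2 s).1) d1 d2) (z := β x y)
    (fun s hs => by simpa [τ, show s ≠ 0 from hs] using h.inv _ (h0 s hs) x hx y hy)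
    (by rwa [Set.ncard_singleton, mul_one, pow_mul]) 0
  rw [← this]
  exact h.ex _ (k1 0).1 _ (k2 0).1 (by simp [τ])

end Frm

theorem eq_one_of_filt (L : ℕ → Subgroup E) (anti : ∀ k, L (k + 1) ≤ L k)
    (hc : ∀ k, ∀ x ∈ L k, ∀ y ∈ L 0, ⁅x, y⁆ ∈ L (k + 1)) {c : ℕ} (hL : L c ≤ center E) (A : Subgroup (MulAut E)) [Finite A]
    {p : ℕ} (hp : p.Coprime (Nat.card A)) (hA : ∀ a ∈ A, ∀ k, ∀ x ∈ L k, a x ∈ L k)
    (H : ∀ k l, ∀ (M : Type u) [CommGroup M] (β : E → E → M), Frm (L k) (L l) (L (k + 1)) (L (l + 1)) A β →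
      ∀ x ∈ L k, ∀ y ∈ L l, β x y = 1) {z : E} (h1 : z ∈ ⁅L 0, L 0⁆) (h2 : ∀ a ∈ A, a z = z) (h3 : z ^ p = 1) : z = 1 := by
  classical
  haveI := Fintype.ofFinite A
  have a0 : ∀ k, L k ≤ L 0 := fun k => antitone_nat_of_succ_le anti (Nat.zero_le k)
  have hK : ∀ k, ⁅L k, L 0⁆ ≤ L (k + 1) := fun k => commutator_le.2 (hc k)
  have key : ∀ k, z ∈ ⁅L k, L 0⁆ := fun k => by
    induction k with
    | zero => exact h1
    | succ k ih =>
      set K := ⁅L k, L 0⁆
      set K' := ⁅L (k + 1), L 0⁆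
      have hKK : ∀ x ∈ L 0, ∀ w ∈ K, ⁅w, x⁆ ∈ K' := fun x hx w hw => commutator_mem_commutator (hK k hw) hx
      have hle : K' ≤ K := commutator_mono (anti k) le_rfl
      haveI : (K'.subgroupOf K).Normal := normal_subgroupOf_of_le_normalizer (by
        refine le_normalizer_iff_commutator_le_right.2 (commutator_le.2 fun w hw x hx => hKK x (a0 _ (hK _ hx)) w hw))
      letI : CommGroup (K ⧸ K'.subgroupOf K) := { (inferInstance : Group _) with
        mul_comm := fun a b => QuotientGroup.induction_on a fun a => QuotientGroup.induction_on b fun b => by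
          rw [← commutatorElement_eq_one_iff_mul_comm]
          exact (QuotientGroup.eq_one_iff (⁅a, b⁆ : K)).2 (hKK _ (a0 _ (hK _ b.2)) _ a.2) }
      have hA2 : ∀ k, ∀ a : A, ∀ w ∈ ⁅L k, L 0⁆, a.1 w ∈ ⁅L k, L 0⁆ := fun k a w hw => by
        have h0 : ∀ k, (L k).map a.1.toMonoidHom ≤ L k := fun k => by rintro _ ⟨x, hx, rfl⟩; exact hA _ a.2 _ x hx
        have := mem_map_of_mem a.1.toMonoidHom hw
        rw [map_commutator] at this
        exact commutator_mono (h0 _) (h0 _) this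
      have hAK : ∀ a : A, ∀ w ∈ K, a.1 w ∈ K := hA2 k
      have hAK' : ∀ a : A, ∀ w ∈ K', a.1 w ∈ K' := hA2 (k + 1)
      let ν : K →* K ⧸ K'.subgroupOf K := ∏ a : A, (QuotientGroup.mk' _).comp
        ((a.1.toMonoidHom.comp K.subtype).codRestrict K fun w => hAK a w w.2)
      have hν : ∀ w : K, ν w = ∏ a : A, ((⟨a.1 w, hAK a w w.2⟩ : K) : K ⧸ K'.subgroupOf K) := fun w => by
        simp only [ν, MonoidHom.finsetProd_apply]; rfl
      have n1 : ∀ w : K, w.1 ∈ K' → ν w = 1 := fun w hw => by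
        rw [hν]; exact Finset.prod_eq_one fun a _ => (QuotientGroup.eq_one_iff _).2 (hAK' a w hw)
      let β : E → E → K ⧸ K'.subgroupOf K := fun x y => if h : ⁅x, y⁆ ∈ K then ν ⟨_, h⟩ else 1
      have hβ : ∀ x ∈ L k, ∀ y ∈ L 0, ∀ h, β x y = ν ⟨⁅x, y⁆, h⟩ := fun x _ y _ h => dif_pos h
      have cm : ∀ {x y}, x ∈ L k → y ∈ L 0 → ⁅x, y⁆ ∈ K := commutator_mem_commutator
      have ml : ∀ x ∈ L k, ∀ x' ∈ L k, ∀ y ∈ L 0, β (x * x') y = β x y * β x' y := fun x hx x' hx' y hy => by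
        rw [hβ _ (mul_mem hx hx') _ hy (cm (mul_mem hx hx') hy), hβ _ hx _ hy (cm hx hy), hβ _ hx' _ hy (cm hx' hy),
          mul_comm, ← map_mul, ← one_mul (ν (_ * _)), ← n1 ⟨_, hle (inv_mem (hKK x (a0 _ hx) _ (cm hx' hy)))⟩
            (inv_mem (hKK x (a0 _ hx) _ (cm hx' hy))), ← map_mul]
        congr 1; ext; simp only [commutatorElement_def, coe_mul]; group
      have mr : ∀ x ∈ L k, ∀ y ∈ L 0, ∀ y' ∈ L 0, β x (y * y') = β x y * β x y' := fun x hx y hy y' hy' => by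
        rw [hβ _ hx _ (mul_mem hy hy') (cm hx (mul_mem hy hy')), hβ _ hx _ hy (cm hx hy), hβ _ hx _ hy' (cm hx hy'),
          ← one_mul (ν ⟨⁅x, y'⁆, _⟩), ← n1 ⟨_, hle (inv_mem (hKK y hy _ (cm hx hy')))⟩ (inv_mem (hKK y hy _ (cm hx hy'))),
          ← map_mul, ← map_mul]
        congr 1; ext; simp only [commutatorElement_def, coe_mul]; group
      have ex : ∀ x ∈ L k, ∀ y ∈ L 0, Commute x y → β x y = 1 := fun x hx y hy e => by
        rw [hβ _ hx _ hy (cm hx hy)]
        exact n1 _ (by simp only [commutatorElement_eq_one_iff_commute.2 e]; exact one_mem _)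
      have step : ∀ l, (∀ x ∈ L k, ∀ y ∈ L (l + 1), β x y = 1) → ∀ x ∈ L k, ∀ y ∈ L l, β x y = 1 := fun l ih =>
        H k l _ β ⟨fun x hx x' hx' y hy => ml x hx x' hx' y (a0 _ hy),
          fun x hx y hy y' hy' => mr x hx y (a0 _ hy) y' (a0 _ hy'),
          fun x hx y hy => by
            rw [hβ _ (anti k hx) _ (a0 _ hy) (cm (anti k hx) (a0 _ hy))]
            exact n1 _ (commutator_mem_commutator hx (a0 _ hy)), ih,
          fun a ha x hx y hy => by
            rw [hβ _ hx _ (a0 _ hy) (cm hx (a0 _ hy)), hβ _ (hA a ha _ _ hx) _ (a0 _ (hA a ha _ _ hy))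
              (cm (hA a ha _ _ hx) (a0 _ (hA a ha _ _ hy))), hν, hν]
            exact Fintype.prod_equiv (Equiv.mulRight ⟨a, ha⟩) _ _ fun b => by simp [← map_commutatorElement],
          fun x hx y hy => ex x hx y (a0 _ hy)⟩
      have all : ∀ x ∈ L k, ∀ y ∈ L 0, β x y = 1 := Nat.decreasingInduction (motive := fun l _ =>
        ∀ x ∈ L k, ∀ y ∈ L l, β x y = 1) (fun l _ => step l)
        (fun x hx y hy => ex x hx y (a0 _ hy) (mem_center_iff.1 (hL hy) x)) (Nat.zero_le c)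
      have n2 : K ≤ ν.ker.map K.subtype := commutator_le.2 fun x hx y hy =>
        ⟨⟨_, cm hx hy⟩, (hβ x hx y hy _).symm.trans (all x hx y hy), rfl⟩
      obtain ⟨⟨w, hw⟩, e, rfl : w = z⟩ := n2 ih
      have e' : ν ⟨w, hw⟩ = ∏ _a : A, ((⟨w, hw⟩ : K) : K ⧸ K'.subgroupOf K) :=
        (hν _).trans (Finset.prod_congr rfl fun a _ => congrArg _ (Subtype.ext (h2 a a.2)))
      rw [SetLike.mem_coe, MonoidHom.mem_ker, e', Finset.prod_const, ← QuotientGroup.mk_pow, QuotientGroup.eq_one_iff, Finset.card_univ,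
        ← Nat.card_eq_fintype_card] at e
      exact zpowers_le.2 (show w ^ Nat.card A ∈ K' from e) (mem_zpowers_pow_iff.2
        (Nat.Coprime.coprime_dvd_left (orderOf_dvd_of_pow_eq_one h3) hp).symm)
  have := key c
  rwa [commutator_eq_bot_iff_le_centralizer.2 (hL.trans (center_le_centralizer _)), mem_bot] at this

end frm

section lf
variable {E Γ : Type*} [Group E] [Group Γ] (ρ : E →* Γ) (p : ℕ)

/-- the `p`-elements over a subgroup -/
def lf (A : Subgroup Γ) : Subgroup E := closure {e | ρ e ∈ A ∧ ∃ k, e ^ p ^ k = 1}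

variable {ρ p}

theorem lf_le (A : Subgroup Γ) : lf ρ p A ≤ A.comap ρ := (closure_le _).2 fun _ h => h.1

theorem lf_mono {A B : Subgroup Γ} (h : A ≤ B) : lf ρ p A ≤ lf ρ p B := closure_mono fun _ k => ⟨h k.1, k.2⟩

theorem lf_conj {A B : Subgroup Γ} {g : E} (h : ∀ a ∈ A, ρ g * a * (ρ g)⁻¹ ∈ B) {e : E} (he : e ∈ lf ρ p A) :
    g * e * g⁻¹ ∈ lf ρ p B :=
  (closure_le ((lf ρ p B).comap (MulAut.conj g).toMonoidHom)).2 (fun x hx => by
    obtain ⟨h1, k, h2⟩ := hx
    exact subset_closure (k := {e | ρ e ∈ B ∧ ∃ k, e ^ p ^ k = 1}) ⟨by simpa using h _ h1, k, by simp [h2]⟩) he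

variable [Finite E] [hp : Fact p.Prime]

theorem mem_lf (hc : ρ.ker ≤ center E) {A : Subgroup Γ} (hA : IsPGroup p A) {e : E} :
    e ∈ lf ρ p A ↔ ρ e ∈ A ∧ ∃ k, e ^ p ^ k = 1 := by
  refine ⟨fun h => ⟨lf_le A h, ?_⟩, fun h => subset_closure h⟩
  haveI : Group.IsNilpotent (ρ.subgroupComap A).range := by
    haveI := Finite.of_surjective _ (ρ.subgroupComap A).rangeRestrict_surjective
    exact (hA.to_subgroup _).isNilpotent
  haveI := Subgroup.isNilpotent_of_ker_le_center (ρ.subgroupComap A).rangeRestrict fun x hx =>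
    mem_center_iff.2 fun y => Subtype.ext (mem_center_iff.1 (hc (congrArg (fun a => a.1.1) hx)) y)
  obtain ⟨P⟩ : Nonempty (Sylow p (A.comap ρ)) := inferInstance
  haveI := Sylow.unique_of_normal P inferInstance
  have : lf ρ p A ≤ (P : Subgroup _).map (A.comap ρ).subtype := (closure_le _).2 fun x ⟨h1, k, h2⟩ => by
    obtain ⟨Q, hQ⟩ := IsPGroup.exists_le_sylow (P := zpowers (⟨x, h1⟩ : A.comap ρ)) (IsPGroup.of_card_dvd_pow (p := p) (n := k)
      (by rw [Nat.card_zpowers]; exact orderOf_dvd_of_pow_eq_one (Subtype.ext h2)))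
    exact ⟨_, Subsingleton.elim Q P ▸ hQ (mem_zpowers _), rfl⟩
  obtain ⟨x, hx, rfl⟩ := this h
  obtain ⟨k, hk⟩ := P.isPGroup' ⟨x, hx⟩
  exact ⟨k, congrArg (fun a => a.1.1) hk⟩

theorem exists_lf {A : Subgroup Γ} (hA : IsPGroup p A) {a : Γ} (ha : a ∈ A) (h : a ∈ ρ.range) :
    ∃ e ∈ lf ρ p A, ρ e = a := by
  obtain ⟨e, rfl⟩ := h
  obtain ⟨k, m, hm, e1⟩ := Nat.exists_eq_pow_mul_and_not_dvd (orderOf_pos e).ne' p hp.out.ne_one
  obtain ⟨j, hj⟩ := hA ⟨_, ha⟩
  obtain ⟨i, hi⟩ := exists_pow_eq_self_of_coprime (x := ρ e) (n := m) (Nat.Coprime.coprime_dvd_right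
    (orderOf_dvd_of_pow_eq_one (congrArg Subtype.val hj)) (((Nat.Prime.coprime_iff_not_dvd hp.out).2 hm).symm.pow_right j))
  refine ⟨(e ^ m) ^ i, subset_closure ⟨by simpa using pow_mem (pow_mem ha _) _, k, ?_⟩, by simpa using hi⟩
  rw [← pow_mul, mul_comm i, pow_mul, ← pow_mul e, mul_comm m, ← e1, pow_orderOf_eq_one, one_pow]

omit [Finite E] hp in
theorem eq_one_of_tf (htf : ∀ z, ρ z = 1 → z ^ p = 1 → z = 1) {e : E} (h : ρ e = 1) {k : ℕ} (hk : e ^ p ^ k = 1) :
    e = 1 := by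
  induction k with
  | zero => simpa using hk
  | succ k ih => exact ih (htf _ (by simp [h]) (by rwa [← pow_mul, ← pow_succ]))

theorem lf_inj (hc : ρ.ker ≤ center E) (htf : ∀ z, ρ z = 1 → z ^ p = 1 → z = 1) {A : Subgroup Γ} (hA : IsPGroup p A)
    {e e' : E} (he : e ∈ lf ρ p A) (he' : e' ∈ lf ρ p A) (h : ρ e = ρ e') : e = e' := by
  obtain ⟨-, k, hk⟩ := (mem_lf hc hA).1 (mul_mem he (inv_mem he'))
  exact mul_inv_eq_one.1 (eq_one_of_tf htf (by simp [h]) hk)

end lf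

theorem card_iSup_le {G κ : Type*} [Group G] [Finite G] [Fintype κ] (A : κ → Subgroup G) (h : ∀ k, (A k).Normal) :
    Nat.card (⨆ k, A k : Subgroup G) ≤ ∏ k, Nat.card (A k) := by
  classical
  have : ∀ s : Finset κ, Nat.card (⨆ k ∈ s, A k : Subgroup G) ≤ ∏ k ∈ s, Nat.card (A k) := fun s => by
    induction s using Finset.induction_on with
    | empty => simp
    | insert k s hk ih =>
      rw [Finset.iSup_insert, Finset.prod_insert hk]
      refine le_trans ?_ (Nat.mul_le_mul_left _ ih)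
      haveI := h k
      rw [← SetLike.coe_sort_coe, normal_mul]
      exact Set.natCard_mul_le
  simpa using this Finset.univ

theorem commute_comm {E Γ : Type*} [Group E] [Group Γ] {ρ : E →* Γ} (hc : ρ.ker ≤ center E) {y a b : E}
    (ha : Commute (ρ y) (ρ a)) (hb : Commute (ρ y) (ρ b)) : Commute y ⁅a, b⁆ := by
  have k : ∀ a, Commute (ρ y) (ρ a) → ∃ z ∈ center E, y * a * y⁻¹ = z * a := fun a h =>
    ⟨⁅y, a⁆, hc (by rw [MonoidHom.mem_ker, map_commutatorElement, commutatorElement_eq_one_iff_commute.2 h]),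
      by simp [commutatorElement_def]⟩
  obtain ⟨z, hz, e⟩ := k a ha
  obtain ⟨w, hw, f⟩ := k b hb
  rw [Commute, SemiconjBy, ← mul_inv_eq_iff_eq_mul, show y * ⁅a, b⁆ * y⁻¹ = ⁅y * a * y⁻¹, y * b * y⁻¹⁆ by
    simp only [commutatorElement_def]; group, e, f]
  simp only [commutatorElement_def, mul_inv_rev, mul_assoc]
  rw [← mem_center_iff.1 hz, ← mem_center_iff.1 hw]
  simp only [mul_assoc]
  rw [← mul_assoc z⁻¹ b⁻¹, ← mem_center_iff.1 (inv_mem hz)]
  simp only [mul_assoc]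
  rw [← mul_assoc w⁻¹, ← mem_center_iff.1 (inv_mem hw)]
  group

end CfsgH6
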