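import Cfsg.Agent.H6.Mul3
import Cfsg.Agent.H6.Inv1

/-! Central extensions of twisted groups with kernel of order prime to the characteristic. -/

set_option autoImplicit false

namespace CfsgH6
open Subgroup
open scoped commutatorElement
namespace PreSt
variable {I R : Type} [Fintype I] [DecidableEq I] {Φ : CD I R} {F : Type*} [Field F]
  {Γ : Type*} [Group Γ] {X : PreSt Φ F Γ} {E : Type*} [Group E]

/-- a stem extension of the twisted group -/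
structure Cov (T : X.Tw) (ρ : E →* Γ) (p : ℕ) : Prop where
  st : X.IsSt
  ne : T.Ne
  rg : ρ.range = T.M
  c : ρ.ker ≤ center E
  d : ρ.ker ≤ commutator E
  pU : IsPGroup p X.U
  pV : IsPGroup p X.V

namespace Tw
variable (T : X.Tw) (ρ : E →* Γ) (p : ℕ)

/-- rank one subgroup of the cover -/
def LL (i : I) : Subgroup E := lf ρ p (X.XP (T.orb i) ⊓ T.Fix) ⊔ lf ρ p (X.XM (T.orb i) ⊓ T.Fix)
/-- its torus -/
def HH (i : I) : Subgroup E := T.LL ρ p i ⊓ X.H.comap ρ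
/-- its reflections -/
def NN (i : I) [Finite R] (n : E) : Prop := n ∈ T.LL ρ p i ∧ ρ n ∈ X.N ∧ X.Act (ρ n) (Φ.lg (T.orb i))
/-- words in the reflections -/
def Wd [Finite R] : ℕ → E → Prop
  | 0, g => g ∈ ⨆ i, T.HH ρ p i
  | k + 1, g => ∃ i m g', T.NN ρ p i m ∧ Wd k g' ∧ g = m * g'
end Tw

namespace Cov
open Tw
variable [Finite R] {T : X.Tw} {ρ : E →* Γ} {p : ℕ} (C : Cov T ρ p)
include C

omit [Finite R] in
theorem fix (g : E) : ρ g ∈ T.Fix := T.M_le_Fix (C.rg ▸ ⟨g, rfl⟩)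

omit [Finite R] in
theorem conj_lf {g : E} {w : Equiv.Perm R} (ha : X.Act (ρ g) w) {S S' : Set R} (h : ∀ r ∈ S, w r ∈ S') {e : E}
    (he : e ∈ lf ρ p (X.XS S ⊓ T.Fix)) : g * e * g⁻¹ ∈ lf ρ p (X.XS S' ⊓ T.Fix) :=
  lf_conj (fun _ hb => mi (ha.conj_mem h (il hb)) (mul_mem (mul_mem (C.fix g) (ir hb)) (inv_mem (C.fix g)))) he

theorem wf {g : E} {w : Equiv.Perm R} (hn : ρ g ∈ X.N) (ha : X.Act (ρ g) w) : w ∈ T.WF :=
  cell_mem_WF C.st (C.fix g) (Cell.of_N hn ha)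

omit [Finite R] in
theorem conj_LL {g : E} {w : Equiv.Perm R} (ha : X.Act (ρ g) w) (hw : w ∈ T.WF) {i k : I}
    (h : ∀ j ∈ T.orb i, Φ.InJ (T.orb k) (w (Φ.sim j))) {e : E} (he : e ∈ T.LL ρ p i) : g * e * g⁻¹ ∈ T.LL ρ p k := by
  refine (sup_le (c := (T.LL ρ p k).comap (MulAut.conj g).toMonoidHom) (fun e he => ?_) (fun e he => ?_)) he <;>
    by_cases hp : Φ.Pos (w (Φ.sim i))
  · exact mem_sup_left (C.conj_lf ha (fun r hr => And.intro ((RS.pos_iff_of_inJ hw.1 (fun j hj => (WF_pos hw hj).2 hp)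
      hr.2).2 hr.1) (RS.inJ_of_W hw.1 h hr.2)) he)
  · exact mem_sup_right (C.conj_lf ha (fun r hr => And.intro (RS.W_not_pos hw.1 hr.1 fun j hj => by
      rwa [WF_pos hw (i := i) (by by_contra hj'; exact hj (hr.2 j hj'))]) (RS.inJ_of_W hw.1 h hr.2)) he)
  · exact mem_sup_right (C.conj_lf ha (fun r hr => And.intro ((RS.pos_iff_of_inJ hw.1 (fun j hj => (WF_pos hw hj).2 hp)
      hr.2).not.2 hr.1) (RS.inJ_of_W hw.1 h hr.2)) he)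
  · refine mem_sup_left (C.conj_lf ha (fun r hr => And.intro ?_ (RS.inJ_of_W hw.1 h hr.2)) he)
    have := RS.W_not_pos hw.1 ((Φ.pos_neg_iff _).2 hr.1) fun j hj => by
      rwa [WF_pos hw (i := i) (by by_contra hj'; exact hj (Φ.inJ_neg.2 hr.2 j hj'))]
    rwa [RS.W_neg hw.1, Φ.pos_neg_iff, not_not] at this

omit [Finite R] in
theorem conj_H {h : E} (hh : ρ h ∈ X.H) {i : I} {e : E} (he : e ∈ T.LL ρ p i) : h * e * h⁻¹ ∈ T.LL ρ p i :=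
  C.conj_LL (C.st.act_H hh) (one_mem _) (fun _ hj => Φ.inJ_sim.2 hj) he

omit C in
theorem NN_inv {i : I} {n : E} (h : T.NN ρ p i n) : T.NN ρ p i n⁻¹ :=
  ⟨inv_mem h.1, by simpa using h.2.1, by simpa [Φ.lg_inv] using h.2.2.inv⟩

theorem NN_mul {i : I} {n m : E} (h : T.NN ρ p i n) (h' : T.NN ρ p i m) : n * m ∈ T.HH ρ p i :=
  ⟨mul_mem h.1 h'.1, by
    simpa using C.st.mem_H_of_act_one (mul_mem h.2.1 h'.2.1) (Φ.lg_mul_lg _ ▸ h.2.2.mul h'.2.2)⟩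

theorem NN_conj {i : I} {n h : E} (hn : T.NN ρ p i n) (hh : h ∈ ⨆ i, T.HH ρ p i) : n * h * n⁻¹ ∈ ⨆ i, T.HH ρ p i :=
  (iSup_le (a := (⨆ i, T.HH ρ p i).comap (MulAut.conj n).toMonoidHom) fun j h hh => by
    have : n * h * n⁻¹ * h⁻¹ ∈ T.HH ρ p i := ⟨by simpa [mul_assoc] using mul_mem hn.1 (C.conj_H hh.2 (inv_mem hn.1)),
      by simpa using mul_mem (C.st.N_conj_mem_H hn.2.1 hh.2) (inv_mem hh.2)⟩
    simpa using mul_mem (le_iSup (T.HH ρ p) i this) (le_iSup (T.HH ρ p) j hh)) hh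

omit C [Finite R] in
theorem H0_le {h : E} (hh : h ∈ ⨆ i, T.HH ρ p i) : ρ h ∈ X.H := (iSup_le (a := X.H.comap ρ) fun _ => inf_le_right) hh

theorem wd_mul {k : ℕ} : ∀ {h g : E}, h ∈ ⨆ i, T.HH ρ p i → T.Wd ρ p k g → T.Wd ρ p k (h * g) := by
  induction k with
  | zero => exact fun h1 h2 => mul_mem h1 h2
  | succ k ih =>
    rintro h _ h1 ⟨i, m, g, h2, h3, rfl⟩
    exact ⟨i, m, _, h2, ih (C.NN_conj (NN_inv h2) h1) h3, by group⟩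

omit C in
theorem wd_N {k : ℕ} : ∀ {g : E}, T.Wd ρ p k g → ρ g ∈ X.N := by
  induction k with
  | zero => exact fun h => X.H_le_N (H0_le h)
  | succ k ih =>
    rintro _ ⟨i, m, g, h2, h3, rfl⟩
    simpa using mul_mem h2.2.1 (ih h3)

theorem wd_del {i : I} {n : E} (hn : T.NN ρ p i n) {k : ℕ} : ∀ {g : E} {w : Equiv.Perm R}, T.Wd ρ p k g → X.Act (ρ g) w →
    ¬ Φ.Pos (w (Φ.sim i)) → ∃ k' < k, T.Wd ρ p k' (g * n) := by
  induction k with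
  | zero => exact fun h1 h2 h3 => absurd (by rw [C.st.act_unique h2 (C.st.act_H (H0_le h1))]; exact Φ.pos_sim i) h3
  | succ k ih =>
    rintro _ _ ⟨j, m, g, h2, h3, rfl⟩ ha hp
    obtain ⟨w, -, hw⟩ := C.st.exists_act (wd_N h3)
    obtain rfl := C.st.act_unique (map_mul ρ m g ▸ h2.2.2.mul hw) ha
    have wf := C.wf (wd_N h3) hw
    by_cases h : Φ.Pos (w (Φ.sim i))
    · have h1 : ∀ l ∈ T.orb i, Φ.InJ (T.orb j) (w (Φ.sim l)) := fun l hl => by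
        by_contra h4
        exact hp ((WF_pos (mul_mem (T.lg_orb_mem j) wf) hl).1 (RS.WJ_pos (Φ.lg_mem _) ((WF_pos wf hl).2 h) h4))
      have h4 := eq_lg_orb (mul_mem (mul_mem wf (T.lg_orb_mem i)) (inv_mem wf))
        (RS.conj_mem_WJ wf.1 h1 (Φ.lg_mem _)) (fun e => by
          rw [mul_inv_eq_one, mul_eq_left] at e
          exact Φ.lg_sim (T.mem_orb_self i) (by rw [e]; exact Φ.pos_sim _))
      have h5 : T.NN ρ p j (g * n * g⁻¹) := ⟨C.conj_LL hw wf h1 hn.1, by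
        simpa using mul_mem (mul_mem (wd_N h3) hn.2.1) (inv_mem (wd_N h3)), by
        simpa [h4] using (hw.mul hn.2.2).mul hw.inv⟩
      exact ⟨k, k.lt_succ_self, by simpa [mul_assoc] using C.wd_mul (le_iSup (T.HH ρ p) j (C.NN_mul h2 h5)) h3⟩
    · obtain ⟨k', h4, h5⟩ := ih h3 hw h
      exact ⟨k' + 1, by omega, j, m, _, h2, h5, mul_assoc _ _ _⟩

theorem wd_H (k : ℕ) : ∀ {g : E}, T.Wd ρ p k g → ρ g ∈ X.H → g ∈ ⨆ i, T.HH ρ p i := by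
  induction k using Nat.strong_induction_on with
  | _ k ih =>
  rcases k with _ | k
  · exact fun h _ => h
  rintro _ ⟨j, m, g, h2, h3, rfl⟩ hh
  have ha : X.Act (ρ g) (Φ.lg (T.orb j)) := by simpa using (NN_inv h2).2.2.mul (C.st.act_H hh)
  obtain ⟨k', h4, h5⟩ := C.wd_del h2 h3 ha (Φ.lg_sim (T.mem_orb_self j))
  simpa [mul_assoc] using C.NN_conj h2 (ih k' (by omega) h5 (by
    simpa [mul_assoc] using C.st.N_conj_mem_H (inv_mem h2.2.1) hh))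

variable [Finite E] [Fact p.Prime]

omit [Finite R] in
theorem pP (i : I) : IsPGroup p (X.XP (T.orb i) ⊓ T.Fix : Subgroup Γ) := C.pU.to_le (inf_le_left.trans (XP_le_U _))

omit [Finite R] in
theorem pM (i : I) : IsPGroup p (X.XM (T.orb i) ⊓ T.Fix : Subgroup Γ) := C.pV.to_le (inf_le_left.trans (XM_le_V _))

omit [Finite R] in
theorem pF : IsPGroup p (X.U ⊓ T.Fix : Subgroup Γ) := C.pU.to_le inf_le_left

theorem exists_NN {i : I} {v : E} (hv : v ∈ lf ρ p (X.XM (T.orb i) ⊓ T.Fix)) (h1 : ρ v ≠ 1) :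
    ∃ u ∈ lf ρ p (X.XP (T.orb i) ⊓ T.Fix), ∃ n, T.NN ρ p i n ∧ ∃ u' ∈ lf ρ p (X.XP (T.orb i) ⊓ T.Fix), v = u * n * u' := by
  have hX := C.st
  have hv' := il (lf_le _ hv)
  obtain ⟨u, hu, n, hn, w, hw, ha, u', hu', e⟩ := T.fix_bruhat hX (X.XS_le_G _ hv') (C.fix v)
  have hc : X.Cell w (ρ v) := ⟨n, (il hn), ha, u, X.U_le_B (il hu), u', X.U_le_B (IsSt.Um_le_U _ (il hu')), e⟩
  obtain ⟨w', hw', hc'⟩ := hX.cell_of_mem_PJ (hX.LJ_le_PJ _ (XM_le_LJ _ hv'))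
  obtain rfl := hX.cell_unique hc hc'
  have h2 : w ≠ 1 := by
    rintro rfl
    exact h1 (hX.eq_one_of_mem_B_V (hX.cell_one.1 hc) (XM_le_V _ hv'))
  obtain rfl := eq_lg_orb hw hw' h2
  rw [Um_lg] at hu'
  have h3 : u ∈ X.XP (T.orb i) := hX.U_inf_LJ (il hu) (by
    rw [show u = ρ v * u'⁻¹ * n⁻¹ by rw [e]; group]
    exact mul_mem (mul_mem (XM_le_LJ _ hv') (inv_mem (XP_le_LJ _ (il hu')))) (inv_mem (hX.mem_LJ_of_act (il hn) ha hw')))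
  obtain ⟨u, k1, rfl⟩ := exists_lf (C.pP i) (mi h3 (ir hu)) (C.rg ▸ T.XP_le_M i (mi h3 (ir hu)))
  obtain ⟨u', k2, rfl⟩ := exists_lf (C.pP i) hu' (C.rg ▸ T.XP_le_M i hu')
  have e' : ρ (u⁻¹ * v * u'⁻¹) = n := by simp [e, mul_assoc]
  exact ⟨u, k1, _, ⟨mul_mem (mul_mem (inv_mem (mem_sup_left k1)) (mem_sup_right hv)) (inv_mem (mem_sup_left k2)),
    e' ▸ il hn, e' ▸ ha⟩, u', k2, by group⟩

theorem gen : ⨆ i, T.LL ρ p i = ⊤ := by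
  have h1 : (⨆ i, T.LL ρ p i) ⊔ ρ.ker = ⊤ := by
    rw [← comap_map_eq, eq_top_iff]
    refine fun g _ => (T.M_le.2 fun i => ⟨fun a ha => ?_, fun a ha => ?_⟩ : T.M ≤ Subgroup.map ρ _) (C.rg.le ⟨g, rfl⟩)
    · obtain ⟨u, k1, rfl⟩ := exists_lf (C.pP i) ha (C.rg ▸ T.XP_le_M i ha)
      exact mem_map_of_mem _ (le_iSup (T.LL ρ p) i (mem_sup_left k1))
    · obtain ⟨u, k1, rfl⟩ := exists_lf (C.pM i) ha (C.rg ▸ T.XM_le_M i ha)
      exact mem_map_of_mem _ (le_iSup (T.LL ρ p) i (mem_sup_right k1))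
  refine eq_top_iff.2 (h1.ge.trans (sup_le le_rfl (C.d.trans (commutator_le.2 fun a _ b _ => ?_))))
  obtain ⟨a, ha, z, hz, rfl⟩ := mem_sup_of_normal_right.1 (h1.ge (mem_top a))
  obtain ⟨b, hb, w, hw, rfl⟩ := mem_sup_of_normal_right.1 (h1.ge (mem_top b))
  have : ⁅a * z, b * w⁆ = ⁅a, b⁆ := by
    simp only [commutatorElement_def, mul_inv_rev, mul_assoc]
    rw [← mul_assoc z b, ← mem_center_iff.1 (C.c hz), mul_assoc, ← mul_assoc z w, ← mem_center_iff.1 (C.c hz), mul_assoc,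
      mul_inv_cancel_left, ← mul_assoc w, ← mem_center_iff.1 (C.c hw), mul_assoc, mul_inv_cancel_left]
  rw [this]
  exact mul_mem (mul_mem (mul_mem ha hb) (inv_mem ha)) (inv_mem hb)

variable (htf : ∀ z, ρ z = 1 → z ^ p = 1 → z = 1)
include htf

theorem bruhat (g : E) : ∃ u ∈ lf ρ p (X.U ⊓ T.Fix), ∃ s, (∃ k, T.Wd ρ p k s) ∧ ∃ u' ∈ lf ρ p (X.U ⊓ T.Fix), g = u * s * u' := by
  let P : E → Prop := fun g => ∃ u ∈ lf ρ p (X.U ⊓ T.Fix), ∃ s, (∃ k, T.Wd ρ p k s) ∧ ∃ u' ∈ lf ρ p (X.U ⊓ T.Fix), g = u * s * u'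
  have le : ∀ i, lf ρ p (X.XP (T.orb i) ⊓ T.Fix) ≤ lf ρ p (X.U ⊓ T.Fix) := fun i => lf_mono (inf_le_inf_right _ (XP_le_U _))
  have hU : ∀ a ∈ lf ρ p (X.U ⊓ T.Fix), ∀ g, P g → P (a * g) := fun a ha g ⟨u, h1, s, h2, u', h3, e⟩ =>
    ⟨_, mul_mem ha h1, s, h2, u', h3, by rw [e]; group⟩
  have one : ∀ i, ∀ v ∈ lf ρ p (X.XM (T.orb i) ⊓ T.Fix), ρ v = 1 → v = 1 := fun i v hv h =>
    lf_inj C.c htf (C.pM i) hv (one_mem _) (by simpa using h)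
  have hN : ∀ i n, T.NN ρ p i n → ∀ g, P g → P (n * g) := by
    rintro i n hn _ ⟨u, h1, s, ⟨k, h2⟩, u', h3, rfl⟩
    have e0 : Φ.lg Set.univ * Φ.lg (T.orb i) * Φ.lg (T.orb i) = Φ.lg Set.univ := by rw [mul_assoc, Φ.lg_mul_lg, mul_one]
    obtain ⟨a, ha, b, hb, e⟩ := (Um_split C.st (mul_mem T.w0_mem (T.lg_orb_mem i))
      (fun j hj => (Φ.lg_univ _).2 (Φ.lg_sim hj)) (C.fix n) hn.2.2 (u := (ρ u)⁻¹)).1 (by
        rw [e0, Um_lg_univ]; exact inv_mem (lf_le _ h1))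
    obtain ⟨a, k1, rfl⟩ := exists_lf (C.pP i) ha (C.rg ▸ T.XP_le_M i ha)
    have k2 : n * (u * a) * n⁻¹ ∈ lf ρ p (X.U ⊓ T.Fix) := by
      obtain ⟨-, l, hl⟩ := (mem_lf C.c C.pF).1 (mul_mem h1 (le i k1))
      refine (mem_lf C.c C.pF).2 ⟨?_, l, by rw [conj_pow, hl]; simp⟩
      rw [show ρ (n * (u * a) * n⁻¹) = b⁻¹ by simp only [map_mul, map_inv, inv_eq_iff_eq_inv.1 e]; group]
      exact inv_mem (mi (IsSt.Um_le_U _ (il hb)) (ir hb))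
    rw [show n * (u * s * u') = n * (u * a) * n⁻¹ * (n * a⁻¹ * s * u') by group]
    refine hU _ k2 _ ?_
    have cj : ∀ {s w}, ρ s ∈ X.N → X.Act (ρ s) w → Φ.Pos (w⁻¹ (Φ.sim i)) → ∀ a ∈ lf ρ p (X.XP (T.orb i) ⊓ T.Fix),
        s⁻¹ * a * s ∈ lf ρ p (X.U ⊓ T.Fix) := fun {s w} hs ha hp a h => by
      have wf := inv_mem (C.wf hs ha)
      have := C.conj_lf (g := s⁻¹) (by simpa using ha.inv) (S' := {r | Φ.Pos r})
        (fun r hr => (RS.pos_iff_of_inJ wf.1 (fun j hj => (WF_pos wf hj).2 hp) hr.2).2 hr.1) h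
      rwa [inv_inv] at this
    obtain ⟨w, -, hw⟩ := C.st.exists_act (wd_N h2)
    have hs : T.Wd ρ p (k + 1) (n * s) := ⟨i, n, s, hn, h2, rfl⟩
    by_cases hp : Φ.Pos (w⁻¹ (Φ.sim i))
    · exact ⟨1, one_mem _, _, ⟨_, hs⟩, _, mul_mem (cj (wd_N h2) hw hp _ (inv_mem k1)) h3, by group⟩
    have k3 := C.conj_lf hn.2.2 (S' := {r | ¬ Φ.Pos r ∧ Φ.InJ (T.orb i) r})
      (fun r hr => ⟨Φ.lg_not_pos hr.1 hr.2, (RS.WJ_inJ (Φ.lg_mem _) _).2 hr.2⟩) (inv_mem k1)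
    by_cases h4 : ρ (n * a⁻¹ * n⁻¹) = 1
    · exact ⟨1, one_mem _, _, ⟨_, hs⟩, _, h3, by rw [mul_inv_eq_one.1 (one i _ k3 h4), one_mul]⟩
    obtain ⟨u1, k4, m, hm, u2, k5, e'⟩ := C.exists_NN k3 h4
    refine ⟨u1, le i k4, _, ⟨k + 2, i, m, _, hm, hs, rfl⟩, _, mul_mem (cj (wd_N hs) (map_mul ρ n s ▸ hn.2.2.mul hw) ?_ _ k5) h3,
      by rw [mul_inv_eq_iff_eq_mul.1 e']; group⟩
    rw [mul_inv_rev, Φ.lg_inv]
    exact pos_mul_lg (inv_mem (C.wf (wd_N h2) hw)) hp (T.mem_orb_self i)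
  let K : Subgroup E := ⟨⟨⟨{a | (∀ g, P g → P (a * g)) ∧ ∀ g, P g → P (a⁻¹ * g)}, fun ha hb =>
    ⟨fun g h => mul_assoc _ _ g ▸ ha.1 _ (hb.1 g h), fun g h => by rw [mul_inv_rev, mul_assoc]; exact hb.2 _ (ha.2 g h)⟩⟩,
      by simp⟩, fun ha => ⟨ha.2, by simpa using ha.1⟩⟩
  have hV : ∀ i, ∀ v ∈ lf ρ p (X.XM (T.orb i) ⊓ T.Fix), ∀ g, P g → P (v * g) := fun i v hv g h => by
    by_cases h4 : ρ v = 1
    · rwa [one i v hv h4, one_mul]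
    obtain ⟨u1, k4, m, hm, u2, k5, rfl⟩ := C.exists_NN hv h4
    simpa only [mul_assoc] using hU _ (le i k4) _ (hN i m hm _ (hU _ (le i k5) _ h))
  have : ⊤ ≤ K := C.gen ▸ iSup_le fun i => sup_le (fun a ha => ⟨hU a (le i ha), hU _ (inv_mem (le i ha))⟩)
    fun a ha => ⟨hV i a ha, hV i _ (inv_mem ha)⟩
  simpa using (this (mem_top g)).1 1 ⟨1, one_mem _, 1, ⟨0, one_mem _⟩, 1, one_mem _, by simp⟩

theorem comap_H {g : E} (hg : ρ g ∈ X.H) : g ∈ ⨆ i, T.HH ρ p i := by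
  obtain ⟨u, h1, s, ⟨k, h2⟩, u', h3, rfl⟩ := C.bruhat htf g
  obtain ⟨w, -, hw⟩ := C.st.exists_act (wd_N h2)
  obtain rfl : w = 1 := C.st.cell_unique ⟨_, wd_N h2, hw, _, X.U_le_B (il (lf_le _ h1)), _, X.U_le_B (il (lf_le _ h3)),
    by simp⟩ (C.st.cell_one.2 (X.H_le_B hg))
  have h4 := C.st.mem_H_of_act_one (wd_N h2) hw
  have h5 := mul_mem h1 (C.conj_lf hw (S' := {r | Φ.Pos r}) (fun _ h => h) h3)
  have h6 := lf_inj C.c htf C.pF h5 (one_mem _) (by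
    rw [map_one]
    exact C.st.eq_one_of_mem_U_H (il (lf_le _ h5)) (by simpa [mul_assoc] using mul_mem hg (inv_mem h4)))
  rw [show u * s * u' = u * (s * u' * s⁻¹) * s by group, h6, one_mul]
  exact C.wd_H k h2 h4

theorem card_le {κ : Type*} [Fintype κ] (rep : κ → I) (hrep : ∀ i, ∃ k, i ∈ T.orb (rep k)) :
    Nat.card ρ.ker * Nat.card (X.H ⊓ T.M : Subgroup Γ) ≤ ∏ k, Nat.card (T.HH ρ p (rep k)) := by
  have h1 := card_iSup_le (fun k => (T.HH ρ p (rep k)).subgroupOf (X.H.comap ρ)) fun k =>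
    ⟨fun a ha g => ⟨C.conj_H g.2 ha.1, (g * a * g⁻¹).2⟩⟩
  have h2 : ⨆ k, (T.HH ρ p (rep k)).subgroupOf (X.H.comap ρ) = ⊤ := by
    refine map_injective (X.H.comap ρ).subtype_injective (le_antisymm (map_mono le_top) ?_)
    rintro _ ⟨g, -, rfl⟩
    refine (iSup_le fun i => ?_ : _ ≤ Subgroup.map _ _) (C.comap_H htf g.2)
    obtain ⟨k, hk⟩ := hrep i
    refine le_trans ?_ (map_mono (le_iSup _ k))
    rw [subgroupOf_map_subtype, HH, HH, LL, LL, orb_eq hk]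
    exact le_inf le_rfl inf_le_right
  rw [h2, card_top] at h1
  refine le_of_eq_of_le ?_ (h1.trans_eq (Finset.prod_congr rfl fun k _ =>
    Nat.card_congr (subgroupOfEquivOfLe inf_le_right).toEquiv))
  rw [← C.rg, inf_comm, ← map_comap_eq, ← relIndex_ker, ← Nat.card_congr
    (subgroupOfEquivOfLe (ker_le_comap ρ X.H)).toEquiv, relIndex, card_mul_index]

end Cov
end PreSt
end CfsgH6
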