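import Cfsg.Agent.H6.Rk3

set_option autoImplicit false
set_option linter.unusedSectionVars false

namespace CfsgH6
namespace Rk
open Cfsg

/-- rank one Steinberg system -/
structure St1 (K : Type*) [Field K] (Γ : Type*) [Group Γ] where
  x : K → Γ
  y : K → Γ
  addx : ∀ t u, x t * x u = x (t + u)
  addy : ∀ t u, y t * y u = y (t + u)
  wx : ∀ t u, t ≠ 0 → x t * y (-t⁻¹) * x t * x u * (x t * y (-t⁻¹) * x t)⁻¹ = y (-(t⁻¹ ^ 2 * u))
  wy : ∀ t u, t ≠ 0 → y t * x (-t⁻¹) * y t * y u * (y t * x (-t⁻¹) * y t)⁻¹ = x (-(t⁻¹ ^ 2 * u))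

namespace St1
variable {K : Type*} [Field K] {Γ : Type*} [Group Γ] (S : St1 K Γ)

/-- Weyl element -/
def w (t : K) : Γ := S.x t * S.y (-t⁻¹) * S.x t
/-- torus element -/
def h (t : K) : Γ := S.w t * S.w (-1)

theorem x_zero : S.x 0 = 1 := by
  have := S.addx 0 0; rw [add_zero] at this; exact mul_eq_left.1 this
theorem y_zero : S.y 0 = 1 := by
  have := S.addy 0 0; rw [add_zero] at this; exact mul_eq_left.1 this
theorem x_inv (t : K) : (S.x t)⁻¹ = S.x (-t) := by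
  rw [inv_eq_iff_mul_eq_one, S.addx, add_neg_cancel, x_zero]
theorem y_inv (t : K) : (S.y t)⁻¹ = S.y (-t) := by
  rw [inv_eq_iff_mul_eq_one, S.addy, add_neg_cancel, y_zero]
theorem w_inv (t : K) : (S.w t)⁻¹ = S.w (-t) := by
  simp only [w, mul_inv_rev, x_inv, y_inv, inv_neg, mul_assoc]

theorem w_x {t : K} (ht : t ≠ 0) (u : K) : S.w t * S.x u * (S.w t)⁻¹ = S.y (-(t⁻¹ ^ 2 * u)) := S.wx t u ht

theorem w_eq {t : K} (ht : t ≠ 0) : S.w t = S.y (-t⁻¹) * S.x t * S.y (-t⁻¹) := by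
  have := S.w_x ht t
  rw [show -(t⁻¹ ^ 2 * t) = -t⁻¹ by field_simp, mul_inv_eq_iff_eq_mul] at this
  have h2 : S.w t * S.x t = (S.y (-t⁻¹) * S.x t * S.y (-t⁻¹)) * S.x t := by
    rw [this, w]; simp only [mul_assoc]
  exact mul_right_cancel h2

theorem w_y {t : K} (ht : t ≠ 0) (u : K) : S.w t * S.y u * (S.w t)⁻¹ = S.x (-(t ^ 2 * u)) := by
  have := S.wy (-t⁻¹) u (by simpa)
  rw [inv_neg, inv_inv, neg_neg, ← S.w_eq ht] at this
  rw [this]; congr 1; ring

theorem w_w {t u : K} (ht : t ≠ 0) (hu : u ≠ 0) : S.w t * S.w u * (S.w t)⁻¹ = S.w (t ^ 2 / u) := by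
  have : S.w t * S.w u * (S.w t)⁻¹ = (S.w t * S.x u * (S.w t)⁻¹) * (S.w t * S.y (-u⁻¹) * (S.w t)⁻¹) *
      (S.w t * S.x u * (S.w t)⁻¹) := by
    conv_lhs => rw [w.eq_1 S u]
    group
  rw [this, S.w_x ht, S.w_y ht, S.w_eq (t := t ^ 2 / u) (by simp [ht, hu])]
  congr 3 <;> field_simp

theorem w_h (t : K) : S.w t = S.h t * S.w 1 := by
  rw [h, ← S.w_inv]; group

theorem h_one : S.h 1 = 1 := by rw [h, ← S.w_inv]; group

/-- scaling elements -/
def Sc (g : Γ) (c : K) : Prop := c ≠ 0 ∧ ∀ u, g * S.x u * g⁻¹ = S.x (c * u) ∧ g * S.y u * g⁻¹ = S.y (c⁻¹ * u)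

variable {S}

theorem Sc.mul {g g' : Γ} {c c' : K} (h : S.Sc g c) (h' : S.Sc g' c') : S.Sc (g * g') (c * c') := by
  refine ⟨mul_ne_zero h.1 h'.1, fun u => ⟨?_, ?_⟩⟩
  · rw [mul_assoc c, ← (h.2 _).1, ← (h'.2 _).1]; group
  · rw [mul_inv, mul_assoc c⁻¹, ← (h.2 _).2, ← (h'.2 _).2]; group

theorem Sc.one : S.Sc 1 1 := ⟨one_ne_zero, fun u => by simp⟩

theorem Sc.pow {g : Γ} {c : K} (h : S.Sc g c) (n : ℕ) : S.Sc (g ^ n) (c ^ n) := by
  induction n with
  | zero => simpa using Sc.one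
  | succ n ih => rw [pow_succ, pow_succ]; exact ih.mul h

theorem Sc.inv {g : Γ} {c : K} (h : S.Sc g c) : S.Sc g⁻¹ c⁻¹ := by
  have hc := h.1
  refine ⟨inv_ne_zero h.1, fun u => ⟨?_, ?_⟩⟩
  · have := (h.2 (c⁻¹ * u)).1
    rw [show c * (c⁻¹ * u) = u by field_simp] at this
    rw [← this]; group
  · have := (h.2 (c * u)).2
    rw [show c⁻¹ * (c * u) = u by field_simp] at this
    rw [← this, inv_inv c]; group

theorem Sc.w {g : Γ} {c : K} (h : S.Sc g c) (t : K) : g * S.w t * g⁻¹ = S.w (c * t) := by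
  have : g * S.w t * g⁻¹ = (g * S.x t * g⁻¹) * (g * S.y (-t⁻¹) * g⁻¹) * (g * S.x t * g⁻¹) := by
    rw [St1.w]; group
  rw [this, (h.2 _).1, (h.2 _).2, St1.w]
  congr 3; rw [mul_inv]; ring

variable (S)

theorem h_sc {t : K} (ht : t ≠ 0) : S.Sc (S.h t) (t ^ 2) := by
  refine ⟨pow_ne_zero _ ht, fun u => ⟨?_, ?_⟩⟩
  · have : S.h t * S.x u * (S.h t)⁻¹ = S.w t * (S.w (-1) * S.x u * (S.w (-1))⁻¹) * (S.w t)⁻¹ := by
      rw [h]; group
    rw [this, S.w_x (by simp), S.w_y ht]; congr 1; simp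
  · have : S.h t * S.y u * (S.h t)⁻¹ = S.w t * (S.w (-1) * S.y u * (S.w (-1))⁻¹) * (S.w t)⁻¹ := by
      rw [h]; group
    rw [this, S.w_y (by simp), S.w_x ht]; congr 1; simp

theorem h_comm [Finite K] {t u : K} (ht : t ≠ 0) (hu : u ≠ 0) : S.h t * S.h u = S.h u * S.h t := by
  obtain ⟨ω, hω⟩ := IsCyclic.exists_monoid_generator (α := Kˣ)
  have key : ∀ t : K, t ≠ 0 → ∃ (i : ℕ) (z : Γ), S.h t = z * S.h ω ^ i ∧ ∀ s, z * S.h s = S.h s * z := by
    intro t ht
    obtain ⟨i, hi⟩ := hω (Units.mk0 t ht)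
    have hi' : (ω : K) ^ i = t := by simpa using congrArg Units.val hi
    have h1 := (S.h_sc ht).mul ((S.h_sc ω.ne_zero).pow i).inv
    rw [← pow_mul, mul_comm 2 i, pow_mul, hi', mul_inv_cancel₀ (pow_ne_zero _ ht)] at h1
    refine ⟨i, S.h t * (S.h ω ^ i)⁻¹, by group, fun s => ?_⟩
    have h2 := h1.w s
    have h3 := h1.w (-1)
    rw [one_mul, mul_inv_eq_iff_eq_mul] at h2 h3
    rw [h.eq_1 S s, ← mul_assoc, h2, mul_assoc, h3, mul_assoc]
  obtain ⟨i, z, e1, hz⟩ := key t ht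
  obtain ⟨j, z', e2, hz'⟩ := key u hu
  have c1 : Commute (S.h ω) (S.h u) := by
    rw [e2]; exact Commute.mul_right (hz' ω).symm ((Commute.refl _).pow_right j)
  rw [e1]
  exact (Commute.mul_left (hz u) (c1.pow_left i))

theorem h_sq [Finite K] {t u : K} (ht : t ≠ 0) (hu : u ≠ 0) : S.h (t ^ 2) * S.h u = S.h (t ^ 2 * u) := by
  have h1 := (S.h_sc ht).w u
  have h2 := (S.h_sc ht).w (-1)
  have h3 : S.h t * S.h u * (S.h t)⁻¹ = (S.h t * S.w u * (S.h t)⁻¹) * (S.h t * S.w (-1) * (S.h t)⁻¹) := by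
    rw [h.eq_1 S u]; group
  rw [h1, h2, S.h_comm ht hu, mul_neg_one, ← S.w_inv, S.w_h (t ^ 2 * u), S.w_h (t ^ 2)] at h3
  have h4 : S.h u = S.h (t ^ 2 * u) * (S.h (t ^ 2))⁻¹ := by
    calc S.h u = S.h u * S.h t * (S.h t)⁻¹ := by group
      _ = _ := by rw [h3]; group
  rw [S.h_comm (pow_ne_zero _ ht) hu, h4]; group

theorem w_add {t u : K} (ht : t ≠ 0) (hu : u ≠ 0) (hr : t + u ≠ 0) :
    S.w t * S.w (-(t + u)) * S.w u = S.w (t * u / (t + u)) := by
  have e : ∀ t : K, S.y (-t⁻¹) = S.x (-t) * S.w t * S.x (-t) := fun t => by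
    rw [w, ← S.x_inv]; group
  have h1 := S.addy (-t⁻¹) (-u⁻¹)
  rw [show -t⁻¹ + -u⁻¹ = -(t * u / (t + u))⁻¹ by field_simp; ring, e, e, e] at h1
  have h2 : S.x (-(t + u)) = S.y (-(t + u)⁻¹) * S.w (-(t + u)) * S.y (-(t + u)⁻¹) := by
    rw [S.w_eq (t := -(t + u)) (neg_ne_zero.2 hr), inv_neg, neg_neg, ← S.y_inv]; group
  have h3 := S.w_y ht (-(t + u)⁻¹)
  have h4 := S.w_y (t := -u) (by simpa) (-(t + u)⁻¹)
  rw [← S.w_inv, inv_inv] at h4
  have h5 : S.x (-t) * S.w t * S.x (-t) * (S.x (-u) * S.w u * S.x (-u)) =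
      S.x (-t) * (S.w t * S.y (-(t + u)⁻¹) * (S.w t)⁻¹) * (S.w t * S.w (-(t + u)) * S.w u) *
        (((S.w u)⁻¹ * S.y (-(t + u)⁻¹) * S.w u) * S.x (-u)) := by
    have : S.x (-t) * S.w t * S.x (-t) * (S.x (-u) * S.w u * S.x (-u)) =
      S.x (-t) * S.w t * (S.x (-t) * S.x (-u)) * S.w u * S.x (-u) := by group
    rw [this, S.addx, ← neg_add, h2]; group
  rw [h5, h3, h4, S.addx, S.addx, show -t + -(t ^ 2 * -(t + u)⁻¹) = -(t * u / (t + u)) by field_simp; ring,
    show -((-u) ^ 2 * -(t + u)⁻¹) + -u = -(t * u / (t + u)) by field_simp; ring] at h1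
  exact mul_left_cancel (mul_right_cancel h1)

theorem h_add [Finite K] {t u : K} (ht : t ≠ 0) (hu : u ≠ 0) (hr : t + u ≠ 0) :
    S.h t * S.h u = S.h (t + u) * S.h (t * u / (t + u)) := by
  have := S.w_add ht hu hr
  rw [← S.w_inv, S.w_h t, S.w_h u, S.w_h (t + u), S.w_h (t * u / (t + u))] at this
  have h2 : S.h (t * u / (t + u)) = S.h t * (S.h (t + u))⁻¹ * S.h u := by
    apply mul_right_cancel (b := S.w 1); rw [← this]; group
  rw [h2, ← mul_assoc, ← mul_assoc, ← S.h_comm ht hr]; group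

theorem ex_nonsq [Finite K] {a : K} (ha : ¬ IsSquare a) :
    ∃ t u : K, ¬ IsSquare t ∧ ¬ IsSquare u ∧ t + u ≠ 0 ∧ IsSquare (t + u) := by
  by_contra hc
  push Not at hc
  classical
  have := Fintype.ofFinite K
  have ha0 : a ≠ 0 := by rintro rfl; exact ha IsSquare.zero
  -- non-squares together with zero are closed under addition
  have hmul : ∀ s t : K, ¬ IsSquare s → ¬ IsSquare t → IsSquare (s * t) := by
    intro s t hs ht
    have h1 := quadraticChar_neg_one_iff_not_isSquare.2 hs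
    have h2 := quadraticChar_neg_one_iff_not_isSquare.2 ht
    have hs0 : s ≠ 0 := by rintro rfl; exact hs IsSquare.zero
    have ht0 : t ≠ 0 := by rintro rfl; exact ht IsSquare.zero
    rw [← quadraticChar_one_iff_isSquare (mul_ne_zero hs0 ht0), map_mul, h1, h2]; norm_num
  have hsq : ∀ s : K, s ≠ 0 → IsSquare s → ¬ IsSquare (a * s) := by
    rintro s hs ⟨r, rfl⟩ ⟨r', e⟩
    have hr : r ≠ 0 := by rintro rfl; simp at hs
    exact ha ⟨r' / r, by field_simp; linear_combination e⟩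
  have hadd : ∀ s t : K, IsSquare s → IsSquare t → IsSquare (s + t) := by
    intro s t hs ht
    by_cases hs0 : s = 0
    · simpa [hs0] using ht
    by_cases ht0 : t = 0
    · simpa [ht0] using hs
    by_cases hst : s + t = 0
    · rw [hst]; exact IsSquare.zero
    have h1 := hc _ _ (hsq s hs0 hs) (hsq t ht0 ht) (by rw [← mul_add]; exact mul_ne_zero ha0 hst)
    have h2 := hmul _ _ ha h1
    obtain ⟨r, e⟩ := h2
    exact ⟨r / a, by field_simp; linear_combination e⟩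
  have hodd : Fintype.card K % 2 = 1 :=
    FiniteField.odd_card_of_char_ne_two fun h2 => ha (FiniteField.isSquare_of_char_two h2 a)
  obtain ⟨x, y, e⟩ := FiniteField.exists_root_sum_quadratic (f := (Polynomial.X : Polynomial K) ^ 2)
    (g := Polynomial.X ^ 2 - Polynomial.C a) (Polynomial.degree_X_pow 2)
    (Polynomial.degree_X_pow_sub_C (by decide) _) hodd
  have e : x ^ 2 + y ^ 2 = a := by
    simp only [Polynomial.eval_pow, Polynomial.eval_X, Polynomial.eval_sub, Polynomial.eval_C] at e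
    linear_combination e
  exact ha (e ▸ hadd _ _ ⟨x, by ring⟩ ⟨y, by ring⟩)

theorem h_mul [Finite K] {t u : K} (ht : t ≠ 0) (hu : u ≠ 0) : S.h t * S.h u = S.h (t * u) := by
  have sq : ∀ t u : K, t ≠ 0 → u ≠ 0 → IsSquare t → S.h t * S.h u = S.h (t * u) := by
    rintro _ u ht hu ⟨r, rfl⟩
    have hr : r ≠ 0 := by rintro rfl; simp at ht
    rw [← pow_two]; exact S.h_sq hr hu
  by_cases h1 : IsSquare t
  · exact sq t u ht hu h1
  by_cases h2 : IsSquare u
  · rw [S.h_comm ht hu, mul_comm t u]; exact sq u t hu ht h2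
  obtain ⟨t0, u0, h3, h4, h5, h6⟩ := ex_nonsq h1
  classical
  have := Fintype.ofFinite K
  have hdiv : ∀ s t : K, ¬ IsSquare s → ¬ IsSquare t → IsSquare (s / t) := by
    intro s t hs ht
    have h1 := quadraticChar_neg_one_iff_not_isSquare.2 hs
    have h2 := quadraticChar_neg_one_iff_not_isSquare.2 ht
    have hs0 : s ≠ 0 := by rintro rfl; exact hs IsSquare.zero
    have ht0 : t ≠ 0 := by rintro rfl; exact ht IsSquare.zero
    have : IsSquare (s * t) := by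
      rw [← quadraticChar_one_iff_isSquare (mul_ne_zero hs0 ht0), map_mul, h1, h2]; norm_num
    obtain ⟨r, e⟩ := this
    exact ⟨r / t, by field_simp; linear_combination e⟩
  have ht0 : t0 ≠ 0 := by rintro rfl; exact h3 IsSquare.zero
  have hu0 : u0 ≠ 0 := by rintro rfl; exact h4 IsSquare.zero
  have e0 : S.h t0 * S.h u0 = S.h (t0 * u0) := by
    rw [S.h_add ht0 hu0 h5, sq _ _ h5 (by simp [ht0, hu0, h5]) h6]; congr 1; field_simp
  have e1 := sq _ _ (div_ne_zero ht ht0) ht0 (hdiv _ _ h1 h3)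
  have e2 := sq _ _ (div_ne_zero hu hu0) hu0 (hdiv _ _ h2 h4)
  rw [div_mul_cancel₀ _ ht0] at e1
  rw [div_mul_cancel₀ _ hu0] at e2
  rw [← e1, ← e2, mul_assoc, ← mul_assoc (S.h t0), S.h_comm ht0 (div_ne_zero hu hu0), mul_assoc, e0,
    sq _ _ (div_ne_zero hu hu0) (mul_ne_zero ht0 hu0) (hdiv _ _ h2 h4),
    sq _ _ (div_ne_zero ht ht0) (by simp [hu, hu0, ht0]) (hdiv _ _ h1 h3)]
  congr 1; field_simp

section hom
open Matrix PreSt

theorem w_hh [Finite K] {u : K} (hu : u ≠ 0) : S.w 1 * S.h u = S.h u⁻¹ * S.w 1 := by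
  have h1 := (S.h_sc hu).inv.w 1
  rw [inv_inv, mul_one, S.w_h (u ^ 2)⁻¹] at h1
  have h2 : S.w 1 * S.h u = S.h u * (S.h (u ^ 2)⁻¹ * S.w 1) := by rw [← h1]; group
  rw [h2, ← mul_assoc, S.h_mul hu (by simp [hu])]; congr 2; field_simp

theorem h_x {t : K} (ht : t ≠ 0) (u : K) : S.h t * S.x u = S.x (t ^ 2 * u) * S.h t := by
  rw [← ((S.h_sc ht).2 u).1]; group

theorem w_ww [Finite K] {c : K} (hc : c ≠ 0) : S.w 1 * S.w (-c⁻¹) = S.h c := by
  have h1 : S.w 1 * S.w 1 = S.h (-1) := by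
    have h2 := S.h_mul (t := -1) (u := -1) (by simp) (by simp)
    rw [neg_mul_neg, one_mul, h_one] at h2
    have h3 : S.h (-1) = (S.w 1 * S.w 1)⁻¹ := by rw [h, ← S.w_inv]; group
    rw [mul_eq_one_iff_eq_inv] at h2
    rw [h2, h3, inv_inv]
  rw [S.w_h (-c⁻¹), ← mul_assoc, S.w_hh (by simpa), mul_assoc, h1, S.h_mul (by simpa) (by simp)]
  simp

open Classical in
/-- the map from `SL₂` -/
noncomputable def fn (g : SpecialLinearGroup (Fin 2) K) : Γ :=
  if g 1 0 = 0 then S.x (g 0 0 * g 0 1) * S.h (g 0 0)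
  else S.x (g 0 0 / g 1 0) * S.w (-(g 1 0)⁻¹) * S.x (g 1 1 / g 1 0)

theorem fn_U (t : K) (g : SpecialLinearGroup (Fin 2) K) : S.fn (slU t * g) = S.x t * S.fn g := by
  have hd := sl_det g
  have e00 : (slU t * g) 0 0 = g 0 0 + t * g 1 0 := by simp [sl_mul]
  have e01 : (slU t * g) 0 1 = g 0 1 + t * g 1 1 := by simp [sl_mul]
  have e10 : (slU t * g) 1 0 = g 1 0 := by simp [sl_mul]
  have e11 : (slU t * g) 1 1 = g 1 1 := by simp [sl_mul]
  unfold fn
  rw [e00, e01, e10, e11]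
  split_ifs with h
  · rw [← mul_assoc, S.addx, h]
    rw [h] at hd
    congr 2
    · linear_combination t * hd
    · simp
  · simp only [← mul_assoc, S.addx]
    congr 3
    field_simp
    ring

theorem x_eq {a : K} (ha : a ≠ 0) : S.y (-a⁻¹) = S.x (-a) * S.w a * S.x (-a) := by
  rw [w, ← S.x_inv]; group

theorem fn_N [Finite K] (g : SpecialLinearGroup (Fin 2) K) : S.fn (slN * g) = S.w 1 * S.fn g := by
  have hd := sl_det g
  have e00 : (slN * g : SpecialLinearGroup (Fin 2) K) 0 0 = g 1 0 := by simp [sl_mul]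
  have e01 : (slN * g : SpecialLinearGroup (Fin 2) K) 0 1 = g 1 1 := by simp [sl_mul]
  have e10 : (slN * g : SpecialLinearGroup (Fin 2) K) 1 0 = -g 0 0 := by simp [sl_mul]
  have e11 : (slN * g : SpecialLinearGroup (Fin 2) K) 1 1 = -g 0 1 := by simp [sl_mul]
  unfold fn
  rw [e00, e01, e10, e11]
  generalize g 0 0 = a at *
  generalize g 0 1 = b at *
  generalize g 1 0 = c at *
  generalize g 1 1 = d at *
  by_cases ha : a = 0
  · have hc : c ≠ 0 := by rintro rfl; simp [ha] at hd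
    rw [if_pos (by simpa), if_neg hc, ha, zero_div, x_zero, one_mul, ← mul_assoc, S.w_ww hc, S.h_x hc]
    congr 2
    field_simp
  · rw [if_neg (by simpa)]
    by_cases hc : c = 0
    · rw [if_pos hc, hc, zero_div, x_zero, one_mul, neg_div_neg_eq, inv_neg, neg_neg, S.w_h a⁻¹,
        ← S.w_hh ha, mul_assoc, S.h_x ha]
      congr 3
      field_simp
    · rw [if_neg hc]
      have h1 := S.w_x one_ne_zero (a / c)
      rw [mul_inv_eq_iff_eq_mul] at h1
      have h2 := S.x_eq (a := c / a) (by simp [ha, hc])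
      have h3 : -((1 : K)⁻¹ ^ 2 * (a / c)) = -(c / a)⁻¹ := by simp
      rw [h3, h2] at h1
      have h4 : S.w (c / a) * S.h c = S.w a⁻¹ := by
        rw [S.w_h (c / a), mul_assoc, S.w_hh hc, ← mul_assoc, S.h_mul (by simp [ha, hc]) (by simpa),
          S.w_h a⁻¹]
        congr 2
        field_simp
      have h5 : S.x (-(c / a)) * S.h c = S.h c * S.x (-(a * c)⁻¹) := by
        rw [S.h_x hc]
        congr 2
        field_simp
      simp only [← mul_assoc]
      rw [h1, mul_assoc _ (S.w 1), S.w_ww hc, mul_assoc _ _ (S.h c), h5, ← mul_assoc,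
        mul_assoc _ _ (S.h c), h4, mul_assoc _ (S.x _) (S.x _), S.addx]
      have h6 : -b / -a = -(a * c)⁻¹ + d / c := by
        field_simp
        linear_combination -hd
      rw [h6, div_neg, inv_neg, neg_neg]

theorem fn_one : S.fn 1 = 1 := by simp [fn, x_zero, h_one]

/-- the homomorphism from `SL₂` -/
noncomputable def hom [Finite K] : SpecialLinearGroup (Fin 2) K →* Γ :=
  MonoidHom.mk' S.fn fun a => by
    refine sl_induction (p := fun a => ∀ b, S.fn (a * b) = S.fn a * S.fn b)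
      (fun t b => ?_) (fun b => ?_) (fun a b ha hb c => ?_) a
    · have := S.fn_U t 1
      rw [mul_one, fn_one, mul_one] at this
      rw [fn_U, this]
    · have := S.fn_N 1
      rw [mul_one, fn_one, mul_one] at this
      rw [S.fn_N, this]
    · rw [mul_assoc, ha, hb, ha, mul_assoc]

theorem hom_U [Finite K] (t : K) : S.hom (slU t) = S.x t := by
  have := S.fn_U t 1
  rwa [mul_one, fn_one, mul_one] at this

theorem hom_N [Finite K] : S.hom slN = S.w 1 := by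
  have := S.fn_N 1
  rwa [mul_one, fn_one, mul_one] at this

theorem hom_L [Finite K] (t : K) : S.hom (slL t) = S.y t := by
  have : slL t = slN * slU (-t) * slN⁻¹ := by
    rw [eq_mul_inv_iff_mul_eq]
    ext i j
    fin_cases i <;> fin_cases j <;> simp [sl_mul]
  rw [this, map_mul, map_mul, map_inv, S.hom_U, S.hom_N, S.w_x one_ne_zero]
  simp

end hom

end St1

end Rk
end CfsgH6
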