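import Cfsg.Agent.H6.Mul4
import Cfsg.Agent.H6.Rk4
import Cfsg.Agent.H6.Aut1
import Cfsg.Agent.H6.Sch2

/-! Central extensions of twisted groups: rank one subgroups and the part in the characteristic. -/

set_option autoImplicit false

namespace CfsgH6
open Subgroup
open scoped commutatorElement
universe u

namespace Rk.St1
variable {K : Type*} [Field K] {Γ : Type*} [Group Γ]

/-- product of two commuting systems -/
def mul (S S' : St1 K Γ) {A B : Subgroup Γ} (h : ∀ a ∈ A, ∀ b ∈ B, a * b = b * a) (hS : ∀ t, S.x t ∈ A ∧ S.y t ∈ A)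
    (hS' : ∀ t, S'.x t ∈ B ∧ S'.y t ∈ B) : St1 K Γ :=
  let θ : A × B →* Γ := A.subtype.noncommCoprod B.subtype fun a b => h _ a.2 _ b.2
  { x t := θ (⟨_, (hS t).1⟩, ⟨_, (hS' t).1⟩)
    y t := θ (⟨_, (hS t).2⟩, ⟨_, (hS' t).2⟩)
    addx t u := (θ.map_mul _ _).symm.trans (congrArg θ (Prod.ext (Subtype.ext (S.addx t u)) (Subtype.ext (S'.addx t u))))
    addy t u := (θ.map_mul _ _).symm.trans (congrArg θ (Prod.ext (Subtype.ext (S.addy t u)) (Subtype.ext (S'.addy t u))))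
    wx t u ht := by
      simp only [← map_mul, ← map_inv]
      exact congrArg θ (Prod.ext (Subtype.ext (S.wx t u ht)) (Subtype.ext (S'.wx t u ht)))
    wy t u ht := by
      simp only [← map_mul, ← map_inv]
      exact congrArg θ (Prod.ext (Subtype.ext (S.wy t u ht)) (Subtype.ext (S'.wy t u ht))) }
end Rk.St1

namespace PreSt
variable {I R : Type} [Fintype I] [DecidableEq I] {Φ : CD I R} {F : Type*} [Field F]
  {Γ : Type*} [Group Γ] {X : PreSt Φ F Γ} {E : Type u} [Group E]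

/-- the rank one system of a root -/
def IsSt.st1 (hX : X.IsSt) (r : R) {K : Type*} [Field K] (f : K →+* F) : Rk.St1 K Γ where
  x t := X.x r (f t)
  y t := X.x (Φ.neg r) (f t)
  addx t u := by rw [X.add, map_add]
  addy t u := by rw [X.add, map_add]
  wx t u ht := by simpa [n] using hX.nself r (f t) ((map_ne_zero f).2 ht) (f u)
  wy t u ht := by simpa [n, Φ.neg_neg] using hX.nself (Φ.neg r) (f t) ((map_ne_zero f).2 ht) (f u)

/-- the rank one system of two orthogonal simple roots -/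
def IsSt.st2 (hX : X.IsSt) {i j : I} (h : Φ.C i j = 0) {K : Type*} [Field K] (f g : K →+* F) : Rk.St1 K Γ :=
  (hX.st1 (Φ.sim i) f).mul (hX.st1 (Φ.sim j) g) (fun _ ha _ hb => comm_orth' h ha hb)
    (fun _ => ⟨X.x_mem_XS (Φ.inJ_singleton.2 (.inl rfl)) _, X.x_mem_XS (Φ.inJ_singleton.2 (.inr rfl)) _⟩)
    fun _ => ⟨X.x_mem_XS (Φ.inJ_singleton.2 (.inl rfl)) _, X.x_mem_XS (Φ.inJ_singleton.2 (.inr rfl)) _⟩

theorem Cov.card_HH [Finite R] [Finite E] {T : X.Tw} {ρ : E →* Γ} {p : ℕ} [Fact p.Prime] (C : Cov T ρ p)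
    (htf : ∀ z, ρ z = 1 → z ^ p = 1 → z = 1) {K : Type*} [Field K] [Finite K] (S : Rk.St1 K Γ) {i : I}
    (hx : ∀ y, y ∈ X.XP (T.orb i) ⊓ T.Fix ↔ ∃ t, y = S.x t) (hy : ∀ y, y ∈ X.XM (T.orb i) ⊓ T.Fix ↔ ∃ t, y = S.y t) :
    Nat.card (T.HH ρ p i) ≤ Nat.card K - 1 := by
  have mx := fun t => (hx _).2 ⟨t, rfl⟩
  have my := fun t => (hy _).2 ⟨t, rfl⟩
  choose x h1 h2 using fun t => exists_lf (C.pP i) (mx t) (C.rg ▸ T.XP_le_M i (mx t))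
  choose y h3 h4 using fun t => exists_lf (C.pM i) (my t) (C.rg ▸ T.XM_le_M i (my t))
  have cj : ∀ {A B : Subgroup Γ}, IsPGroup p A → IsPGroup p B → ∀ {g a b}, a ∈ lf ρ p A → b ∈ lf ρ p B →
      ρ (g * a * g⁻¹) = ρ b → g * a * g⁻¹ = b := fun hA hB g a b ha hb e => by
    obtain ⟨-, k, hk⟩ := (mem_lf C.c hA).1 ha
    exact lf_inj C.c htf hB ((mem_lf C.c hB).2 ⟨e ▸ lf_le _ hb, k, by rw [conj_pow, hk]; simp⟩) hb e
  let Z : Rk.St1 K E := ⟨x, y, fun t u => lf_inj C.c htf (C.pP i) (mul_mem (h1 _) (h1 _)) (h1 _) (by simp [h2, S.addx]),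
    fun t u => lf_inj C.c htf (C.pM i) (mul_mem (h3 _) (h3 _)) (h3 _) (by simp [h4, S.addy]),
    fun t u ht => cj (C.pP i) (C.pM i) (h1 _) (h3 _) (by simp only [map_mul, map_inv, h2, h4, S.wx t u ht]),
    fun t u ht => cj (C.pM i) (C.pP i) (h3 _) (h1 _) (by simp only [map_mul, map_inv, h2, h4, S.wy t u ht])⟩
  have hw : ∀ t, ρ (Z.w t) = S.w t := fun t => by simp [Z, Rk.St1.w, h2, h4]
  have hh : ∀ t, ρ (Z.h t) = S.h t := fun t => by simp [Rk.St1.h, hw]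
  have hL : T.LL ρ p i ≤ Z.hom.range := sup_le (fun e he => by
      obtain ⟨t, ht⟩ := (hx _).1 (lf_le _ he)
      exact ⟨_, (Z.hom_U t).trans (lf_inj C.c htf (C.pP i) (h1 _) he ((h2 t).trans ht.symm))⟩) fun e he => by
    obtain ⟨t, ht⟩ := (hy _).1 (lf_le _ he)
    exact ⟨_, (Z.hom_L t).trans (lf_inj C.c htf (C.pM i) (h3 _) he ((h4 t).trans ht.symm))⟩
  have xU : ∀ t, S.x t ∈ X.U := fun t => XP_le_U _ (il (mx t))
  have yV : ∀ t, S.y t ∈ X.V := fun t => XM_le_V _ (il (my t))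
  have key : ∀ e : T.HH ρ p i, ∃ b : Kˣ, Z.h b = e := fun ⟨e, he, hH⟩ => by
    obtain ⟨g, rfl⟩ := hL he
    change ρ (Z.fn g) ∈ X.H at hH
    change ∃ b : Kˣ, Z.h b = Z.fn g
    unfold Rk.St1.fn at hH ⊢
    split_ifs at hH ⊢ with h0
    · have h5 : g 0 0 ≠ 0 := fun h => by simpa [h, h0] using sl_det g
      generalize g 0 0 * g 0 1 = a at hH ⊢
      rw [map_mul, hh, show ρ (Z.x a) = S.x a from h2 a] at hH
      refine ⟨Units.mk0 _ h5, right_eq_mul.2 (lf_inj C.c htf (C.pP i) (h1 a) (one_mem _) ?_)⟩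
      rw [h2, map_one]
      by_cases ha : a = 0
      · rw [ha, S.x_zero]
      have k1 := C.st.H_conj_mem_XS hH (yV ((g 0 0 ^ 2)⁻¹⁻¹ * -a⁻¹))
      have k2 := ((S.h_sc h5).2 ((g 0 0 ^ 2)⁻¹⁻¹ * -a⁻¹)).2
      rw [inv_inv, inv_mul_cancel_left₀ (pow_ne_zero 2 h5)] at k2
      rw [inv_inv, show ∀ a b c : Γ, a * b * c * (a * b)⁻¹ = a * (b * c * b⁻¹) * a⁻¹ by intros; group, k2] at k1
      refine C.st.eq_one_of_mem_U_V (xU a) ?_
      have k3 : S.x a * S.y (-a⁻¹) * S.x a = _ := S.w_eq ha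
      have k4 : S.y (-a⁻¹) * (S.x a * S.y (-a⁻¹) * (S.x a)⁻¹) * (S.y (-a⁻¹))⁻¹ = S.x a := by
        rw [← mul_assoc, ← mul_assoc, ← k3]; group
      exact k4 ▸ mul_mem (mul_mem (yV _) k1) (inv_mem (yV _))
    · exfalso
      simp only [map_mul, hw, show ∀ a, ρ (Z.x a) = S.x a from h2] at hH
      have h5 : -(g 1 0)⁻¹ ≠ 0 := by simpa using h0
      have h6 : S.w (-(g 1 0)⁻¹) ∈ X.B := by
        exact (mul_mem_cancel_left (X.U_le_B (xU _))).1 ((mul_mem_cancel_right (X.U_le_B (xU _))).1 (X.H_le_B hH))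
      obtain ⟨v, hv, hσ, h7⟩ := C.ne i
      obtain ⟨t, rfl⟩ := (hy v).1 ⟨hv, hσ⟩
      have := C.st.B_conj_mem_U h6 (xU (-((-(g 1 0)⁻¹) ^ 2 * t)))
      rw [S.w_x h5, show -((-(g 1 0)⁻¹)⁻¹ ^ 2 * -((-(g 1 0)⁻¹) ^ 2 * t)) = t by field_simp] at this
      exact h7 (C.st.eq_one_of_mem_U_V this (yV t))
  choose b hb using key
  rw [← Nat.card_units]
  exact Nat.card_le_card_of_injective b fun e e' h => Subtype.ext (by rw [← hb, h, hb])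

/-- the filtration given by a grading -/
def LV (X : PreSt Φ F Γ) (ρ : E →* Γ) (φ : (I → ℤ) →+ ℤ) (m : ℤ) : Subgroup E := (X.XS {s | m ≤ φ (Φ.rt s)}).comap ρ

/-- a grading separating the roots -/
structure Grd (T : X.Tw) (φ : (I → ℤ) →+ ℤ) : Prop where
  pos : ∀ r, Φ.Pos r ↔ 0 < φ (Φ.rt r)
  inj : ∀ r s, φ (Φ.rt r) = φ (Φ.rt s) → r = s
  cl : ∀ m, 0 < m → Closed Φ (T.ρ '' {r | m ≤ φ (Φ.rt r)})

/-- leading coefficient -/
noncomputable def co (X : PreSt Φ F Γ) (ρ : E →* Γ) (φ : (I → ℤ) →+ ℤ) (r : R) (g : E) : F :=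
  haveI : Nonempty F := ⟨0⟩
  Classical.epsilon fun t => (X.x r t)⁻¹ * ρ g ∈ X.XS {s | φ (Φ.rt r) + 1 ≤ φ (Φ.rt s)}

namespace Grd
variable {T : X.Tw} {φ : (I → ℤ) →+ ℤ} (G : Grd T φ) {ρ : E →* Γ} {r : R} (hr : Φ.Pos r)
include G hr

theorem ins : {s | φ (Φ.rt r) ≤ φ (Φ.rt s)} = insert r {s | φ (Φ.rt r) + 1 ≤ φ (Φ.rt s)} := by
  ext s
  refine ⟨fun h => (eq_or_lt_of_le h).imp (fun e => (G.inj _ _ e).symm) id, ?_⟩
  rintro (rfl | h)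
  exacts [le_refl (φ _), le_of_lt (b := φ _) h]

theorem co_spec {g : E} (hg : g ∈ X.LV ρ φ (φ (Φ.rt r))) :
    (X.x r (X.co ρ φ r g))⁻¹ * ρ g ∈ X.XS {s | φ (Φ.rt r) + 1 ≤ φ (Φ.rt s)} := by
  have h0 := (G.pos r).1 hr
  obtain ⟨t, y, hy, e⟩ := X.mem_mul_of_normalizes (r := r) (S := {s | φ (Φ.rt r) + 1 ≤ φ (Φ.rt s)}) (fun s hs => by
    have hs : φ (Φ.rt r) + 1 ≤ φ (Φ.rt s) := hs
    exact .inr ⟨ne_neg_of_phi φ (by omega), fun c hc => le_trans (by omega) (phi_tm_ge φ hc h0.le (by omega))⟩)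
    (g := ρ g) (by rw [← G.ins hr]; exact hg)
  exact @Classical.epsilon_spec _ (fun t => (X.x r t)⁻¹ * ρ g ∈ X.XS {s | φ (Φ.rt r) + 1 ≤ φ (Φ.rt s)})
    ⟨t, by simpa [e] using hy⟩

variable (hX : X.IsSt)
include hX

theorem co_eq {g : E} {t : F} (h : (X.x r t)⁻¹ * ρ g ∈ X.XS {s | φ (Φ.rt r) + 1 ≤ φ (Φ.rt s)}) :
    g ∈ X.LV ρ φ (φ (Φ.rt r)) ∧ X.co ρ φ r g = t := by
  have hg : g ∈ X.LV ρ φ (φ (Φ.rt r)) := by
    simpa [LV] using mul_mem (X.x_mem_XS (S := {s | φ (Φ.rt r) ≤ φ (Φ.rt s)}) (le_refl (φ _)) t)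
      (X.XS_mono (fun s hs => le_of_lt (b := φ _) hs) h)
  have := mul_mem h (inv_mem (G.co_spec hr hg))
  rw [mul_inv_rev, inv_inv, mul_assoc, mul_inv_cancel_left, X.x_inv, X.add] at this
  exact ⟨hg, (neg_add_eq_zero.1 (hX.sep1 φ r _ ((G.pos r).1 hr) (X.XS_mono
    (fun s hs => And.intro (le_of_lt (b := φ _) hs) fun e : s = r => lt_irrefl (φ (Φ.rt r)) (by subst e; exact hs)) this))).symm⟩

theorem lev : Lev (X.LV ρ φ (φ (Φ.rt r))) (X.LV ρ φ (φ (Φ.rt r) + 1)) (X.co ρ φ r) where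
  add x hx y hy := (G.co_eq hr hX (by
    have h0 := (G.pos r).1 hr
    have := mul_mem (X.XS_conj_phi φ (by omega) (inv_mem (X.x_mem_XS (S := {s | 0 ≤ φ (Φ.rt s)}) h0.le (X.co ρ φ r y)))
      (G.co_spec hr hx)) (G.co_spec hr hy)
    rw [← X.add]
    convert this using 1
    simp [mul_assoc])).2
  ker x hx e := by simpa [e, LV] using G.co_spec hr hx

theorem scl {h : E} (hh : ρ h ∈ X.H) {c : F} (hc : ∀ t, ρ h * X.x r t * (ρ h)⁻¹ = X.x r (c * t)) :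
    Scl (X.LV ρ φ (φ (Φ.rt r))) (X.co ρ φ r) (MulAut.conj h) c := fun x hx => G.co_eq hr hX (by
  rw [← hc]
  convert hX.H_conj_mem_XS hh (G.co_spec hr hx) using 1
  simp [mul_assoc])

variable [Finite R]

theorem fix_co {g : E} (hσ : ρ g ∈ T.Fix) (hg : g ∈ X.LV ρ φ (φ (Φ.rt r))) :
    (φ (Φ.rt (T.ρ r)) < φ (Φ.rt r) → X.co ρ φ r g = 0) ∧ (T.ρ r = r → X.x r (X.co ρ φ r g) ∈ T.Fix) := by
  have h0 := (G.pos r).1 hr
  have key : ∀ {S : Set R}, (∀ s ∈ S, 0 < φ (Φ.rt s)) → Closed Φ S → T.ρ r ∉ S → ∀ c,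
      X.x (T.ρ r) c * T.σ ((X.x r (X.co ρ φ r g))⁻¹ * ρ g) ∈ X.XS S → c = 0 := fun hS hc hn c h => by
    by_contra h1
    refine hn (mem_of_x_mul_mem hX.sep1 φ (T := T.ρ '' {s | φ (Φ.rt r) + 1 ≤ φ (Φ.rt s)}) ?_ (G.cl _ (by omega)) ?_ ?_ hS hc h1
      (T.σ_XS (fun s hs => Set.mem_image_of_mem _ hs) (G.co_spec hr hg)) h)
    · rw [← Set.image_insert_eq, ← G.ins hr]
      rintro _ ⟨s, hs, rfl⟩
      exact (G.pos _).1 (T.ρ_pos.2 ((G.pos _).2 (h0.trans_le hs)))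
    · rw [← Set.image_insert_eq, ← G.ins hr]; exact G.cl _ h0
    · simp [T.ρ.injective.mem_set_image]
  refine ⟨fun h => ?_, fun h => ?_⟩
  · by_contra h1
    refine T.τ_ne r h1 (key (S := {s | φ (Φ.rt r) ≤ φ (Φ.rt s)}) (fun s hs => h0.trans_le hs) (closed_phi φ h0.le) h.not_ge _ ?_)
    rwa [← T.σ_x, ← map_mul, mul_inv_cancel_left, Tw.mem_Fix.1 hσ]
  · have := key (S := {s | φ (Φ.rt r) + 1 ≤ φ (Φ.rt s)}) (fun s hs => h0.trans hs) (closed_phi φ (by omega))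
      (by simp [h]) (-X.co ρ φ r g + T.τ r (X.co ρ φ r g)) (by
        rw [← X.add, mul_assoc, ← T.σ_x, ← map_mul, mul_inv_cancel_left, Tw.mem_Fix.1 hσ, h, ← X.x_inv]
        exact G.co_spec hr hg)
    rw [Tw.mem_Fix, T.σ_x, h, ← neg_add_eq_zero.1 this]

end Grd

/-- the torus acting on the cover -/
def TA (X : PreSt Φ F Γ) (ρ : E →* Γ) : Subgroup (MulAut E) := (X.H.comap ρ).map (MulAut.conj (G := E))

/-- invariant forms on two levels vanish -/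
def Van (X : PreSt Φ F Γ) (ρ : E →* Γ) (φ : (I → ℤ) →+ ℤ) (r s : R) : Prop :=
  ∀ (M : Type u) [CommGroup M] (β : E → E → M), Frm (X.LV ρ φ (φ (Φ.rt r))) (X.LV ρ φ (φ (Φ.rt s)))
    (X.LV ρ φ (φ (Φ.rt r) + 1)) (X.LV ρ φ (φ (Φ.rt s) + 1)) (X.TA ρ) β →
    ∀ x ∈ X.LV ρ φ (φ (Φ.rt r)), ∀ y ∈ X.LV ρ φ (φ (Φ.rt s)), β x y = 1

theorem Van.symm {ρ : E →* Γ} {φ : (I → ℤ) →+ ℤ} {r s : R} (h : X.Van ρ φ r s) : X.Van ρ φ s r :=
  fun M _ _ hβ x hx y hy => h M _ hβ.flip y hy x hx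

namespace Cov
variable [Finite R] [Finite F] {T : X.Tw} {ρ : E →* Γ} {p : ℕ} (C : Cov T ρ p) (hM : X.Mult) {φ : (I → ℤ) →+ ℤ}
  (G : Grd T φ)
include C G

omit [Finite R] [Finite F] in
theorem exists_scl {c : I → Fˣ} (hc : C.st.hh hM c ∈ T.M) : ∃ a ∈ X.TA ρ, ∀ r, Φ.Pos r →
    Scl (X.LV ρ φ (φ (Φ.rt r))) (X.co ρ φ r) a (∏ i, c i ^ Φ.A (Φ.sim i) r : Fˣ) := by
  obtain ⟨h, e⟩ := C.rg.ge hc
  have : ρ h ∈ X.H := e ▸ C.st.hh_mem_H hM c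
  exact ⟨_, mem_map_of_mem _ this, fun r hr => G.scl hr C.st this fun t => by rw [e, C.st.hh_conj]⟩

omit [Finite R] in
theorem van_kill {r s : R} (hr : Φ.Pos r) (hs : Φ.Pos s) {c : I → Fˣ} (hc : C.st.hh hM c ∈ T.M)
    (h1 : ∏ i, c i ^ Φ.A (Φ.sim i) r = 1) (h2 : ∏ i, c i ^ Φ.A (Φ.sim i) s ≠ 1) : X.Van ρ φ r s := fun _ _ _ hβ => by
  obtain ⟨a, ha, h⟩ := C.exists_scl hM G hc
  exact hβ.kill (G.lev hr C.st) (G.lev hs C.st) ha (by simpa [h1] using h r hr) (h s hs) (mt Units.val_eq_one.1 h2)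

omit [Finite R] in
theorem van_deg {r s : R} (hr : Φ.Pos r) (hs : Φ.Pos s) (f : F →+* F) {j : ℕ} (hj : j = 1 ∨ j = 2)
    (hc : ∀ v : F, v ≠ 0 → ∃ c, C.st.hh hM c ∈ T.M ∧ (∏ i, c i ^ Φ.A (Φ.sim i) r : Fˣ) = v ^ j ∧
      (∏ i, c i ^ Φ.A (Φ.sim i) s : Fˣ) = f v ^ j) (hK : 4 ^ j < Nat.card F) : X.Van ρ φ r s := fun _ _ _ hβ =>
  hβ.deg (G.lev hr C.st) (G.lev hs C.st) f hj (fun v hv => by
    obtain ⟨c, hc, h1, h2⟩ := hc v hv
    obtain ⟨a, ha, h⟩ := C.exists_scl hM G hc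
    exact ⟨a, ha, h1 ▸ h r hr, h2 ▸ h s hs⟩) hK

omit [Finite F] in
theorem van_low {r s : R} (hr : Φ.Pos r) (h : φ (Φ.rt (T.ρ r)) < φ (Φ.rt r)) : X.Van ρ φ r s := fun _ _ _ hβ x hx y hy =>
  hβ.ll x ((G.lev hr C.st).ker x hx ((G.fix_co hr C.st (C.fix x) hx).1 h)) y hy

omit [Finite F] in
theorem van_fix {r a b : R} (hr : Φ.Pos r) (h : T.ρ r = r) (h1 : b ≠ a) (h2 : b ≠ Φ.neg a) {c : ℤ} (hc : c * c = 1)
    (ht : Φ.tm a b = [(r, c, 1, 1)]) (ha : X.x a 1 ∈ T.Fix) (hb : T.ρ b = b)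
    (h3 : a ≠ r ∧ a ≠ Φ.neg r ∧ Φ.tm r a = []) (h4 : b ≠ r ∧ b ≠ Φ.neg r ∧ Φ.tm r b = []) : X.Van ρ φ r r :=
  fun _ _ _ hβ x hx y hy => by
  have k : ∀ x ∈ X.LV ρ φ (φ (Φ.rt r)), ∃ x', ρ x' = X.x r (X.co ρ φ r x) := fun x hx =>
    C.rg.ge (Tw.x_mem_M C.st C.ne ((G.fix_co hr C.st (C.fix x) hx).2 h))
  obtain ⟨y', hy'⟩ := k y hy
  obtain ⟨x', hx'⟩ := k x hx
  have e := X.dec_of_tm h1 h2 ht 1 (-c * X.co ρ φ r x)
  rw [show -(c : F) * 1 * (-c * X.co ρ φ r x) = X.co ρ φ r x by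
    linear_combination X.co ρ φ r x * (by exact_mod_cast congrArg (Int.cast (R := F)) hc : (c : F) * c = 1)] at e
  have hb' : X.x b (-c * X.co ρ φ r x) ∈ T.Fix := by
    have e1 : T.σ (X.x r (X.co ρ φ r x)) = ρ x' := hx' ▸ C.fix x'
    have e2 := X.dec_of_tm h1 h2 ht 1
    rw [hx', ← e, map_commutatorElement, Tw.mem_Fix.1 ha, T.σ_x, hb, e2, e2] at e1
    rw [Tw.mem_Fix, T.σ_x, hb, mul_left_cancel₀ (by
      simpa using fun h : (c : F) = 0 => by simpa [h] using congrArg (Int.cast (R := F)) hc) (X.x_injective C.st.sep1 r e1)]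
  obtain ⟨a', ha'⟩ := C.rg.ge (Tw.x_mem_M C.st C.ne ha)
  obtain ⟨b', hb''⟩ := C.rg.ge (Tw.x_mem_M C.st C.ne hb')
  have k1 := G.co_eq hr C.st (g := ⁅b', a'⁆) (t := X.co ρ φ r x) (by rw [map_commutatorElement, ha', hb'', e]; simp)
  have k2 := G.co_eq hr C.st (g := y') (t := X.co ρ φ r y) (ρ := ρ) (by simp [hy'])
  rw [hβ.congr (G.lev hr C.st) hx k1.1 hy k1.2.symm, hβ.flip.congr (G.lev hr C.st) hy k2.1 k1.1 k2.2.symm]
  exact hβ.ex _ k1.1 _ k2.1 (commute_comm C.c (by rw [hy', hb'']; exact (comm_of_tm h4.1 h4.2.1 h4.2.2 _ _).symm)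
    (by rw [hy', ha']; exact (comm_of_tm h3.1 h3.2.1 h3.2.2 _ _).symm)).symm

include hM in
theorem tf [Finite E] [hp : Fact p.Prime] [CharP F p] (hi : ¬ p ∣ (X.U.comap ρ).index)
    (H : ∀ r s, Φ.Pos r → Φ.Pos s → X.Van ρ φ r s) (z : E) (h1 : ρ z = 1) (h2 : z ^ p = 1) : z = 1 := by
  haveI := Fintype.ofFinite F
  have e0 : X.LV ρ φ ((0 : ℕ) + 1) = X.U.comap ρ := congrArg (fun S => (X.XS S).comap ρ) (Set.ext fun r => (G.pos r).symm)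
  obtain ⟨c, hc⟩ := (Set.finite_range fun r => (φ (Φ.rt r)).toNat).bddAbove
  have emp : ∀ k : ℤ, (∀ r, φ (Φ.rt r) ≠ k) → X.LV ρ φ k = X.LV ρ φ (k + 1) := fun k h =>
    congrArg (fun S => (X.XS S).comap ρ) (Set.ext fun r => by have := h r; simp only [Set.mem_setOf_eq]; omega)
  refine eq_one_of_filt (fun k => X.LV ρ φ (k + 1)) (fun k => comap_mono (X.XS_mono fun r hr => by
    simp only [Set.mem_setOf_eq] at hr ⊢; omega)) (fun k x hx y hy => ?_) (c := c) (le_trans (fun x hx => ?_) C.c) (X.TA ρ) (p := p) ?_ ?_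
    (fun k l M _ β hβ => ?_) ?_ ?_ h2
  · simpa [commutatorElement_def, add_comm, LV] using X.comm_mem_phi φ (by omega) (by omega) hy hx
  · rwa [LV, Set.eq_empty_of_forall_notMem (s := {s | (c : ℤ) + 1 ≤ φ (Φ.rt s)}) (fun r (hr : (c : ℤ) + 1 ≤ φ (Φ.rt r)) => by
      have : (φ (Φ.rt r)).toNat ≤ c := hc ⟨r, rfl⟩; omega), XS_empty] at hx
  · refine hp.out.coprime_iff_not_dvd.2 fun h => ?_
    obtain ⟨⟨_, a, ha, rfl⟩, h3⟩ := exists_prime_orderOf_dvd_card' p h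
    obtain ⟨d, hd⟩ := (C.st.range_hh hM).ge ha
    have h4 : MulAut.conj a ^ (Fintype.card F - 1) = 1 := by
      rw [← map_pow]
      refine MulEquiv.ext fun g => mul_inv_eq_iff_eq_mul.2 (mem_center_iff.1 (C.c ?_) g).symm
      rw [MonoidHom.mem_ker, map_pow, ← hd, ← map_pow, show d ^ (Fintype.card F - 1) = 1 from funext fun i =>
        Units.ext (by simpa using FiniteField.pow_card_sub_one_eq_one _ (d i).ne_zero), map_one]
    replace h3 := (orderOf_coe _).trans h3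
    obtain ⟨n, -, hn⟩ := FiniteField.card F p
    have := (Nat.dvd_sub_iff_right Fintype.card_pos (hn ▸ dvd_pow_self p n.ne_zero)).1 (h3 ▸ orderOf_dvd_of_pow_eq_one h4)
    exact hp.out.one_lt.ne' (Nat.dvd_one.1 this)
  · rintro _ ⟨a, ha, rfl⟩ k x hx
    simpa [LV] using C.st.H_conj_mem_XS ha hx
  · push_cast at hβ
    by_cases hk : ∃ r, φ (Φ.rt r) = k + 1
    · by_cases hl : ∃ r, φ (Φ.rt r) = l + 1
      · obtain ⟨r, hr⟩ := hk
        obtain ⟨s, hs⟩ := hl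
        simp only [← hr, ← hs] at hβ ⊢
        exact H r s ((G.pos r).2 (by omega)) ((G.pos s).2 (by omega)) M β hβ
      · exact fun x hx y hy => hβ.lr x hx y (emp _ (not_exists.1 hl) ▸ hy)
    · exact fun x hx y hy => hβ.ll x (emp _ (not_exists.1 hk) ▸ hx) y hy
  · simp only [e0]
    exact zpowers_le.2 (pow_index_mem _ (C.c h1) (C.d h1)) (mem_zpowers_pow_iff.2 (Nat.Coprime.coprime_dvd_left
      (orderOf_dvd_of_pow_eq_one h2) (hp.out.coprime_iff_not_dvd.2 hi)).symm)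
  · rintro _ ⟨a, -, rfl⟩
    exact mul_inv_eq_iff_eq_mul.2 (mem_center_iff.1 (C.c h1) a)

end Cov
end PreSt
end CfsgH6
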