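import Cfsg.Agent.H6.Mul5
import Cfsg.Agent.H6.Fx1

/-! The Schur multiplier of `²E₆(q)`. -/

set_option autoImplicit false

namespace CfsgH6
open Subgroup Cfsg.Lie
open scoped commutatorElement
universe u

theorem mem_comm_of_gen {G : Type*} [Group G] {p n : ℕ} (h : ∀ K : Subgroup G, (∀ g, (∃ k, g ^ p ^ k = 1) → g ∈ K) → K = ⊤)
    (hp : p.Coprime n) {z : G} (hz : z ^ n = 1) : z ∈ commutator G := by
  let K : Subgroup G := ⟨⟨⟨{g | ∃ k, Abelianization.of g ^ p ^ k = 1}, fun ⟨k, a⟩ ⟨l, b⟩ => ⟨k + l, by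
    rw [map_mul, mul_pow, pow_add, pow_mul, a, mul_comm (p ^ k), pow_mul, b]; simp⟩⟩, 0, by simp⟩,
    fun ⟨k, a⟩ => ⟨k, by rw [map_inv, inv_pow, a, inv_one]⟩⟩
  obtain ⟨k, e⟩ := (h K fun g ⟨k, e⟩ => ⟨k, by rw [← map_pow, e, map_one]⟩).ge (mem_top z)
  have := pow_gcd_eq_one.2 ⟨e, show Abelianization.of z ^ n = 1 by rw [← map_pow, hz, map_one]⟩
  rwa [hp.pow_left k, pow_one, ← MonoidHom.mem_ker, Abelianization.ker_of] at this

theorem chi_tor {I K : Type*} [Fintype I] [CommGroup K] (a b c : K) (m0 m1 m2 A : I → ℤ) :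
    ∏ i, (a ^ m0 i * b ^ m1 i * c ^ m2 i) ^ A i = a ^ (∑ i, m0 i * A i) * b ^ (∑ i, m1 i * A i) * c ^ ∑ i, m2 i * A i := by
  have : ∀ (a : K) (m : I → ℤ), ∏ i, a ^ m i = a ^ ∑ i, m i := fun a m =>
    (congrArg Additive.toMul (map_sum (zmultiplesHom _ (Additive.ofMul a)) m Finset.univ)).symm
  simp only [mul_zpow, Finset.prod_mul_distrib, ← zpow_mul, this]

theorem PreSt.IsSt.H_pow {I R : Type} [Fintype I] [DecidableEq I] {Φ : CD I R} {F : Type*} [Field F] [Fintype F]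
    {Γ : Type*} [Group Γ] {X : PreSt Φ F Γ} (hX : X.IsSt) (hM : X.Mult) {g : Γ} (h : g ∈ X.H) :
    g ^ (Fintype.card F - 1) = 1 := by
  obtain ⟨d, rfl⟩ := (hX.range_hh hM).ge h
  rw [← map_pow, show d ^ (Fintype.card F - 1) = 1 from funext fun i =>
    Units.ext (by simpa using FiniteField.pow_card_sub_one_eq_one _ (d i).ne_zero), map_one]

theorem coprime_card {F : Type*} [Field F] [Fintype F] (p : ℕ) [hp : Fact p.Prime] [CharP F p] :
    p.Coprime (Fintype.card F - 1) := hp.out.coprime_iff_not_dvd.2 fun h => by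
  obtain ⟨n, -, hn⟩ := FiniteField.card F p
  exact hp.out.one_lt.ne' (Nat.dvd_one.1 ((Nat.dvd_sub_iff_right Fintype.card_pos (hn ▸ dvd_pow_self p n.ne_zero)).1 h))

namespace Chev
open PreSt Good

/-- a grading of the roots -/
def phT (T : FT) (wt : List ℤ) (r : ℕ) : ℤ := isum (fun i => wt.getD i 0 * T.rt r i) T.l
/-- a weight of a root -/
def wT (T : FT) (m : List ℤ) (r : ℕ) : ℤ := isum (fun i => m.getD i 0 * T.car i r) T.l
/-- the permutation of the roots -/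
def rhT (tab r : ℕ) : ℕ := ((mW tab r).map Prod.fst).headD 0
/-- the grading -/
def phi (D : ChevalleyDatum) (wt : List ℤ) : (Fin D.rank → ℤ) →+ ℤ :=
  AddMonoidHom.mk' (fun v => ∑ i : Fin D.rank, wt.getD i 0 * v i) fun a b => by simp [mul_add, Finset.sum_add_distrib]

/-- check of a grading -/
def GrdC (T : FT) (tab : ℕ) (wt : List ℤ) : Prop := (∀ r < T.n, rhT tab r < T.n ∧ (mW tab r).length = 1 ∧
  (T.n / 2 ≤ r ↔ 0 < phT T wt r)) ∧ ((List.range T.n).map (phT T wt)).Nodup ∧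
  ∀ a < T.n, T.n / 2 ≤ a → ∀ b < T.n, T.n / 2 ≤ b → ∀ c ∈ (T.tm (rhT tab a) (rhT tab b)).map Prod.fst,
    ∃ d < T.n, rhT tab d = c ∧ (phT T wt a ≤ phT T wt d ∨ phT T wt b ≤ phT T wt d)
set_option synthInstance.maxSize 512 in
instance (T : FT) (tab : ℕ) (wt : List ℤ) : Decidable (GrdC T tab wt) := inferInstanceAs (Decidable (_ ∧ _))

/-- a fixed root is a sum of fixed roots -/
def FixC (T : FT) (tab r a b : ℕ) : Prop := (rhT tab r = r ∧ mW tab a = [(a, 1, 1)] ∧ rhT tab b = b ∧ b ≠ a ∧ b ≠ T.neg a) ∧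
  (∃ c ∈ [1, -1], T.tm a b = [(r, c, 1, 1)]) ∧ CM T r a ∧ CM T r b
instance (T : FT) (tab r a b : ℕ) : Decidable (FixC T tab r a b) := inferInstanceAs (Decidable (_ ∧ _))

namespace Good
variable {D : ChevalleyDatum} (g : Good D) {F : Type*} [Field F] {Γ : Type*} [Group Γ]

theorem phT_eq (wt : List ℤ) (r : Fin D.nroots) : phi D wt (g.cd.rt r) = phT g.T wt r := by
  simp [phT, phi, g.l_eq, rt, ← Fin.sum_univ_eq_sum_range]

theorem wT_eq (m : List ℤ) (r : Fin D.nroots) : ∑ i : Fin D.rank, m.getD i 0 * g.cd.A (g.cd.sim i) r = wT g.T m r := by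
  simp [wT, g.l_eq, g.A_sim_eq, ← Fin.sum_univ_eq_sum_range]

theorem tm_eq (r s : Fin D.nroots) : g.cd.tm r s = (g.T.tm r s).map fun c => (toF r c.1, c.2) := by
  rw [← g.commTerms_eq r.2 s.2]; rfl

variable {g} {Y : PreSt g.cd F Γ} {T : Y.Tw} {tab : ℕ} {wt : List ℤ} (hG : GrdC g.T tab wt) (hY : Y.IsSt) {φ : F → F}
  (hσ : ∀ r t, T.σ (Y.x r t) = mx Y tab r (φ t))
include hG hY hσ

theorem rho_eq (r : Fin D.nroots) : (T.ρ r : ℕ) = rhT tab r := by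
  obtain ⟨h1, h2, -⟩ := hG.1 r (g.ln r.2)
  obtain ⟨⟨s, c, e⟩, h3⟩ := List.length_eq_one_iff.1 h2
  have := hσ r 1
  simp only [rhT, h3, List.map_cons, List.headD_cons, g.n_eq] at h1 ⊢
  rw [T.σ_x, mx_single Y h3, xn_lt Y h1] at this
  exact congrArg Fin.val (hY.root_eq this (T.τ_ne r one_ne_zero))

theorem grd : Grd T (phi D wt) where
  pos r := by rw [g.phT_eq, g.pos_iff, ← (hG.1 r (g.ln r.2)).2.2, g.n_eq]
  inj r s e := Fin.ext (List.inj_on_of_nodup_map hG.2.1 (List.mem_range.2 (g.ln r.2)) (List.mem_range.2 (g.ln s.2))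
    (by rwa [g.phT_eq, g.phT_eq] at e))
  cl m hm := by
    rintro _ ⟨a, ha, rfl⟩ _ ⟨b, hb, rfl⟩ c hc
    simp only [Set.mem_setOf_eq, g.phT_eq] at ha hb
    have := g.mem_tm hc
    rw [rho_eq hG hY hσ, rho_eq hG hY hσ] at this
    obtain ⟨d, h1, h2, h3⟩ := hG.2.2 a (g.ln a.2) ((hG.1 a (g.ln a.2)).2.2.2 (by omega)) b (g.ln b.2)
      ((hG.1 b (g.ln b.2)).2.2.2 (by omega)) _ (List.mem_map_of_mem this)
    exact ⟨⟨d, g.n_eq ▸ h1⟩, by simp only [Set.mem_setOf_eq, g.phT_eq]; omega, Fin.ext ((rho_eq hG hY hσ _).trans h2)⟩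

omit hY
variable {E : Type u} [Group E] {ρ : E →* Γ} {p : ℕ} (C : Cov T ρ p)
include C

theorem van_low {r s : Fin D.nroots} (hr : g.cd.Pos r) (h : phT g.T wt (rhT tab r) < phT g.T wt r) :
    Y.Van ρ (phi D wt) r s :=
  C.van_low (grd hG C.st hσ) hr (by rwa [g.phT_eq, g.phT_eq, rho_eq hG C.st hσ])

theorem van_fix (h1 : φ 1 = 1) {r : Fin D.nroots} (hr : g.cd.Pos r) {a b : ℕ} (h : FixC g.T tab r a b) :
    Y.Van ρ (phi D wt) r r := by
  obtain ⟨⟨k1, k2, k3, k4, k5⟩, ⟨c, k6, k7⟩, k8, k9⟩ := h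
  lift a to Fin D.nroots using g.n_eq ▸ k8.2.1
  lift b to Fin D.nroots using g.n_eq ▸ k9.2.1
  have cm : ∀ {a : Fin D.nroots}, CM g.T r a → a ≠ r ∧ a ≠ g.cd.neg r ∧ g.cd.tm r a = [] := fun h =>
    ⟨fun e => h.2.2.1 (congrArg _ e), fun e => h.2.2.2.1 ((congrArg _ e).trans (g.ag.neg r r.2)), by
      rw [g.tm_eq, h.2.2.2.2]; rfl⟩
  refine C.van_fix (grd hG C.st hσ) hr (Fin.ext ((rho_eq hG C.st hσ _).trans k1)) (a := a) (b := b) (c := c)
    (fun e => k4 (congrArg _ e)) (fun e => k5 ((congrArg _ e).trans (g.ag.neg a a.2))) (by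
      simp only [List.mem_cons, List.not_mem_nil, or_false] at k6; rcases k6 with rfl | rfl <;> rfl)
    (by rw [g.tm_eq, k7]; simp [toF_of_lt _ r.2]) ?_ (Fin.ext ((rho_eq hG C.st hσ _).trans k3)) (cm k8) (cm k9)
  rw [Tw.mem_Fix, hσ, mx_single Y k2]; simp [h1]

omit hG hσ
variable [Finite E] [Fact p.Prime] (tf : ∀ z, ρ z = 1 → z ^ p = 1 → z = 1) [Finite F]
include tf

theorem card1 (φ : F ≃+* F) (i : Fin D.rank)
    (hx : ∀ y, y ∈ Y.XP (T.orb i) ⊓ T.Fix ↔ ∃ t, φ t = t ∧ y = wd Y [(D.simple i, t)])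
    (hy : ∀ y, y ∈ Y.XM (T.orb i) ⊓ T.Fix ↔ ∃ t, φ t = t ∧ y = wd Y [(D.neg (D.simple i), t)]) :
    Nat.card (T.HH ρ p i) ≤ Nat.card {t // φ t = t} - 1 :=
  C.card_HH tf (C.st.st1 (g.cd.sim i) (φ.toRingHom.eqLocusField (RingHom.id F)).subtype)
    (fun y => (hx y).trans ⟨fun ⟨t, h, e⟩ => ⟨⟨t, h⟩, e.trans ((mul_one _).trans (xn_val Y (g.cd.sim i) _))⟩,
      fun ⟨t, e⟩ => ⟨t, t.2, e.trans ((mul_one _).trans (xn_val Y (g.cd.sim i) _)).symm⟩⟩)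
    fun y => (hy y).trans ⟨fun ⟨t, h, e⟩ => ⟨⟨t, h⟩, e.trans ((mul_one _).trans (xn_val Y (g.cd.neg (g.cd.sim i)) _))⟩,
      fun ⟨t, e⟩ => ⟨t, t.2, e.trans ((mul_one _).trans (xn_val Y (g.cd.neg (g.cd.sim i)) _)).symm⟩⟩

theorem card2 (f f' : F →+* F) (i j : Fin D.rank) (h : g.cd.C i j = 0)
    (hx : ∀ y, y ∈ Y.XP (T.orb i) ⊓ T.Fix ↔ ∃ t, y = wd Y [(D.simple i, f t), (D.simple j, f' t)])
    (hy : ∀ y, y ∈ Y.XM (T.orb i) ⊓ T.Fix ↔ ∃ t, y = wd Y [(D.neg (D.simple i), f t), (D.neg (D.simple j), f' t)]) :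
    Nat.card (T.HH ρ p i) ≤ Nat.card F - 1 :=
  C.card_HH tf (C.st.st2 h f f') (fun y => (hx y).trans (exists_congr fun t => by
    change _ ↔ y = Y.x _ _ * Y.x _ _; simp [← xn_val])) fun y => (hy y).trans (exists_congr fun t => by
    change _ ↔ y = Y.x _ _ * Y.x _ _; simp [← xn_val])

omit C tf
variable (g F)

theorem pU (hY : Y.IsSt) (p : ℕ) [Fact p.Prime] [CharP F p] : IsPGroup p Y.U ∧ IsPGroup p Y.V :=
  ⟨(XS_isPGroup hY.sep1 p RS.ht).to_le (Y.U_eq ▸ le_rfl), (XS_isPGroup hY.sep1 p (-RS.ht)).to_le (Y.V_eq ▸ le_rfl)⟩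

end Good

theorem TwSet.cov {D : ChevalleyDatum} {g : Good D} {F : Type*} [Field F] [Finite F] {K : Subgroup (GL D.Idx F)}
    (S : TwSet g F K) (p : ℕ) [Fact p.Prime] [CharP F p] {E : Type u} [Group E] {τ : E →* K} (h : Cfsg.IsStemExtension τ) :
    Cov S.T (S.ι.comp τ) p ∧ ¬ p ∣ ((g.adjG F).U.comap (S.ι.comp τ)).index ∧ (S.ι.comp τ).ker = τ.ker := by
  have e : (S.ι.comp τ).ker = τ.ker := MonoidHom.ker_comp_of_injective _ _ S.ι_inj
  obtain ⟨P, hP⟩ := Tw.exists_sylow (g.isStG F) S.ne S.ι_inj S.range_ι (g.multG F) p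
  exact ⟨⟨g.isStG F, S.ne, by rw [MonoidHom.range_comp, MonoidHom.range_eq_top.2 h.1, ← MonoidHom.range_eq_map, S.range_ι],
    e ▸ h.2.1, e ▸ h.2.2, (g.pU F (g.isStG F) p).1, (g.pU F (g.isStG F) p).2⟩, by
      rw [← comap_comap, index_comap_of_surjective _ h.1, ← hP]; exact P.not_dvd_index, e⟩

theorem TwSet.exists_stem {D : ChevalleyDatum} (hD : D ∈ [chevG2, chevB2, chevD4, chevF4, chevE6, chevE7, chevE8]) {g : Good D}
    {F : Type*} [Field F] [Fintype F] {K : Subgroup (GL D.Idx F)} (S : TwSet g F K) (p : ℕ) [Fact p.Prime] [CharP F p]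
    {f : Fin D.rank → F →*₀ F} (hf : ∀ i, f i (-1) = -1) (hb : ∀ i, Function.Bijective (f i))
    (hT : g.Gr (g.adjG F) S.T.σ S.T.π fun i => f i) (σ : D.SteinbergGroup F →* D.SteinbergGroup F)
    (hσ : g.Gr (g.st F) σ S.T.π fun i => f i)
    (hl : ∀ i, ∀ j ∈ S.T.orb i, g.cd.lg (S.T.orb i) (g.cd.sim j) = g.cd.neg (g.cd.sim j))
    (h3 : ∀ c ∈ ((g.isStG F).hh (g.multG F)).ker, c ^ 3 = 1) :
    ∃ (L : Subgroup (D.SteinbergGroup F)) (_ : Finite L) (τ : L →* K), Cfsg.IsStemExtension τ ∧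
      Nat.card (Cfix S.T.π f ⊓ ((g.isStG F).hh (g.multG F)).ker : Subgroup _) ≤ Nat.card τ.ker := by
  obtain ⟨T', h1, h2⟩ := hσ.tw g (g.isSt_st F) hb fun i t _ => by
    rw [← neg_one_mul t⁻¹, map_mul, hf, map_inv₀, neg_one_mul]
  have hc : S.T.σ.comp (g.proj F) = (g.proj F).comp T'.σ := (g.isSt_st F).hom_ext_pm' (g.st_G F)
    (fun i t => by simp [g.proj_x, h1, (hT i t).1, (hσ i t).1]) fun i t => by
      simp [g.proj_x, h1, (hT i t).2, (hσ i t).2]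
  have ho : ∀ i, T'.orb i = S.T.orb i := fun i => by rw [Tw.orb, h2]; rfl
  haveI : Finite (D.SteinbergGroup F) := Finite.of_equiv _ (((g.st_G F) ▸ topEquiv :
    (g.st F).G ≃* _).toEquiv) (h := (g.isSt_st F).finite_G (g.st_mult F))
  have hm : ∀ y ∈ T'.M, ((g.proj F y : D.group F) : GL D.Idx F) ∈ K := fun y hy => S.mem_iff.2 ((T'.M_le.2 fun i =>
    ⟨fun a ha => S.T.XP_le_M i (mi (ho i ▸ (g.st F).map_mem_XS _ _ (g.proj_x F) (il ha))
      ((DFunLike.congr_fun hc a).trans (congrArg _ (ir ha)))), fun a ha => S.T.XM_le_M i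
      (mi (ho i ▸ (g.st F).map_mem_XS _ _ (g.proj_x F) (il ha)) ((DFunLike.congr_fun hc a).trans (congrArg _ (ir ha))))⟩ :
      T'.M ≤ S.T.M.comap (g.proj F)) hy)
  let τ : T'.M →* K := (((D.group F).subtype.comp (g.proj F)).comp T'.M.subtype).codRestrict K fun y => hm y y.2
  have hk : ∀ y : T'.M, y ∈ τ.ker ↔ g.proj F y = 1 := fun y =>
    ⟨fun h => Subtype.ext (congrArg (fun x : K => x.1) h), fun h => Subtype.ext (congrArg (fun x : D.group F => x.1) h)⟩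
  have hne : T'.Ne := fun i => by
    obtain ⟨v, hv, e, h⟩ := S.ne i
    obtain ⟨y, hy, rfl⟩ : v ∈ ((g.st F).XM (T'.orb i)).map (g.proj F) := by
      rw [XM, (g.st F).map_XS _ _ (g.proj_x F), ho]; exact hv
    exact ⟨y, hy, (g.st F).eq_of_map_eq _ _ (g.proj_x F) (g.isStG F).sep1 (-RS.ht) ((g.st F).V_eq ▸ T'.σ_V (XM_le_V _ hy))
      ((g.st F).V_eq ▸ XM_le_V _ hy) ((DFunLike.congr_fun hc y).symm.trans e), fun e => h (by simp [e])⟩
  have hh := PreSt.hh_map (g.isSt_st F) (g.st_mult F) (g.isStG F) (g.multG F) _ (g.proj_x F)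
  refine ⟨T'.M, inferInstance, τ, ⟨fun y => ?_, fun y hy => mem_center_iff.2 fun z => Subtype.ext (mem_center_iff.1
    ((g.ker_eq_center F (g.st_G F) _ (g.proj_x F)).le ((hk y).1 hy)) z), fun y hy => mem_comm_of_gen (fun L hL => ?_)
      (coprime_card (F := F) p) (Subtype.ext ((g.isSt_st F).H_pow (g.st_mult F) ((g.st F).ker_mem_H _ _ (g.proj_x F)
        (g.isStG F) (T'.M_le_G y.2) ((hk y).1 hy))))⟩, ?_⟩
  · obtain ⟨z, hz, e⟩ := T'.M_le_map (g.isStG F) S.T _ (g.proj_x F) h2.symm (DFunLike.congr_fun hc)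
      (S.range_ι.le ⟨y, rfl⟩)
    exact ⟨⟨z, hz⟩, Subtype.ext (congrArg (fun x : D.group F => x.1) e)⟩
  · have k : ∀ {A : Subgroup (D.SteinbergGroup F)}, IsPGroup p A → ∀ a ∈ A, a ∈ T'.M → a ∈ L.map T'.M.subtype :=
      fun {A} hA a ha h => ⟨⟨a, h⟩, hL _ ((hA ⟨a, ha⟩).imp fun k e => Subtype.ext (congrArg (fun x : A => x.1) e)), rfl⟩
    refine map_injective T'.M.subtype_injective (le_antisymm (map_mono le_top) ((map_subtype_le _).trans (T'.M_le.2 fun i =>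
      ⟨fun a ha => k (g.pU F (g.isSt_st F) p).1 a (XP_le_U _ (il ha)) (T'.XP_le_M i ha),
        fun a ha => k (g.pU F (g.isSt_st F) p).2 a (XM_le_V _ (il ha)) (T'.XM_le_M i ha)⟩)))
  · have k : ∀ c : (Cfix S.T.π f ⊓ ((g.isStG F).hh (g.multG F)).ker : Subgroup _),
        (g.isSt_st F).hh (g.st_mult F) c ∈ T'.M := fun c => by
      have := Tw.hh_sq_mem (g.isSt_st F) hne (g.st_mult F) (f := f) (by rw [h1, h2]; exact hσ.h hf) (by simpa only [ho] using hl)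
        (c := c.1 * c.1) (by rw [h2]; exact mul_mem (il c.2) (il c.2))
      rwa [show c.1 * c.1 * (c.1 * c.1) = c.1 ^ 3 * c.1 by simp [pow_succ, mul_assoc], h3 _ (ir c.2), one_mul] at this
    exact Nat.card_le_card_of_injective (fun c => (⟨⟨_, k c⟩, (hk _).2 ((hh c).trans (ir c.2))⟩ : τ.ker))
      fun a b e => Subtype.ext (stInj F hD g (congrArg (fun x => x.1.1) e))

theorem grdE6 : GrdC ftE6 tE6g [100, 101, 103, 107, 115, 131] := by decide +kernel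

/-- the second weight for `E₆` -/
def pE6 (m : List ℤ) : List ℤ := [5, 1, 4, 3, 2, 0].map fun i => m.getD i 0

/-- certificate for `E₆` -/
def cE6 : List (List ℤ × List ℕ × List ℕ) := [
  ([1, 1, 2, 2, 2, 1], [43, 46, 50, 53, 56, 58, 61, 64, 65], [42, 44, 51, 57, 59, 60, 62, 63, 67, 68, 70, 71]),
  ([1, 1, 2, 2, 1, 1], [39, 44, 46, 47, 51, 53], [42, 43, 50, 56, 57, 58, 59, 60, 61, 62, 63, 64, 65, 67, 69, 70, 71]),
  ([1, 1, 1, 2, 1, 1], [43, 46, 50, 53, 57, 59, 62, 67, 69], [39, 47, 56, 58, 60, 61, 63, 64, 68, 70, 71]),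
  ([1, 0, 1, 1, 1, 1], [39, 42, 43, 44, 61, 62, 64, 67, 71], [56, 57, 58, 59, 63, 65, 68, 69, 70]),
  ([1, 1, 1, 1, 1, 1], [42, 47, 50, 51, 58, 59, 64, 67, 70], [46, 56, 57, 60, 61, 62, 65, 68, 69, 71]),
  ([-1, 1, 0, 2, 2, 2], [44, 46, 51, 60, 63, 69], [39, 43, 47, 50, 53, 65, 68, 70, 71]),
  ([-1, -1, -1, -1, -1, -1], [42, 47, 50, 51, 58, 59, 64, 67, 70], [39, 43, 44, 53]),
  ([0, -1, -1, -1, 0, 0], [39, 44, 63, 65, 69, 70], [56, 57, 58, 59, 60]),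
  ([-2, -2, -1, 0, -1, -2], [42, 47, 50, 51], [58, 59, 64, 67])]

theorem cE6_1 : ∀ c ∈ cE6, (∀ r ∈ c.2.1, wT ftE6 c.1 r = 0 ∧ wT ftE6 (pE6 c.1) r = 0) ∧
    ∀ s ∈ c.2.2, (wT ftE6 c.1 s, wT ftE6 (pE6 c.1) s) ∈ [(1, 0), (0, 1), (1, 1), (1, -1)] := by decide +kernel

set_option synthInstance.maxSize 2000 in
theorem cE6_2 : ∀ r < 72, 36 ≤ r → phT ftE6 [100, 101, 103, 107, 115, 131] (rhT tE6g r) <
    phT ftE6 [100, 101, 103, 107, 115, 131] r ∨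
    (((∃ m ∈ [[-1, 0, 0, 0, 0, 0], [0, 0, -1, 0, 0, 0], [0, 0, 1, 0, 0, 0], [0, 0, 0, 0, -1, 0], [0, 0, 0, 0, 1, 0],
      [0, 0, 0, 0, 0, -1], [0, 0, 0, 0, 0, 1]], wT ftE6 m r = 1 ∧ wT ftE6 (pE6 m) r = 0) ∨
      ∃ c ∈ [(2, 70), (6, 70), (1, 71), (2, 71), (6, 71), (8, 71), (18, 70), (18, 71), (20, 71), (24, 71), (25, 71), (46, 70)],
        FixC ftE6 tE6g r c.1 c.2) ∧ ∀ s < 72, 36 ≤ s → s = r ∨ phT ftE6 [100, 101, 103, 107, 115, 131] (rhT tE6g s) <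
    phT ftE6 [100, 101, 103, 107, 115, 131] s ∨ ∃ c ∈ cE6, r ∈ c.2.1 ∧ s ∈ c.2.2 ∨ s ∈ c.2.1 ∧ r ∈ c.2.2) := by
  decide +kernel

/-- representatives of the orbits -/
def e6r (i : Fin 4) : Fin chevE6.rank := e6i (i.castLE (by omega))

namespace IsE6
variable {K : Type*} [Field K] {q : ℕ} {φ : K ≃+* K} {T : (gE6.adjG K).Tw} (h : IsE6 q φ T)
include h

theorem tor (m : List ℤ) (v : Kˣ) : ∃ c, (gE6.isStG K).hh (gE6.multG K) c ∈ T.M ∧ ∀ r, ((∏ i, c i ^ gE6.cd.A (gE6.cd.sim i) r :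
    Kˣ) : K) = v ^ wT ftE6 m r * φ v ^ wT ftE6 (pE6 m) r := by
  refine ⟨fun i => v ^ m.getD i 0 * Units.map φ.toMonoidHom v ^ (pE6 m).getD i 0 * 1 ^ (0 : ℤ), h.hh_mem fun i => ?_,
    fun r => by rw [chi_tor, gE6.wT_eq, gE6.wT_eq]; simp; rfl⟩
  rw [h.π]
  have := h.q2
  change Fin 6 at i
  fin_cases i <;> simp [this, pE6, fE6, pm, mul_comm]

variable [Fintype K] (hq : 2 < q) (hK : Fintype.card K = q ^ 2) {E : Type u} [Group E] [Finite E]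
include hq hK

theorem nice {a b : ℤ} (hab : (a, b) ∈ [(1, 0), (0, 1), (1, 1), (1, -1)]) : ∃ v : Kˣ, (v : K) ^ a * φ v ^ b ≠ 1 := by
  have k : ∀ n, n ≠ 0 → n ≤ q + 1 → ∃ v : Kˣ, (v : K) ^ n ≠ 1 := fun n h0 hn => by
    obtain ⟨c, h1, h2⟩ := exists_sq_ne (K := K) (n := n) (by nlinarith) h0
    exact ⟨Units.mk0 c h1, h2⟩
  simp only [List.mem_cons, Prod.mk.injEq, List.not_mem_nil, or_false, h.hφ] at hab ⊢
  rcases hab with ⟨rfl, rfl⟩ | ⟨rfl, rfl⟩ | ⟨rfl, rfl⟩ | ⟨rfl, rfl⟩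
  · simpa using k 1 one_ne_zero (by omega)
  · simpa using k q (by omega) (by omega)
  · simpa [pow_succ'] using k (q + 1) (by omega) le_rfl
  · refine (k (q - 1) (by omega) (by omega)).imp fun v hv e => hv ?_
    rw [zpow_one, zpow_neg_one, mul_inv_eq_one₀ (pow_ne_zero _ v.ne_zero)] at e
    rw [pow_sub₀ _ v.ne_zero (by omega), ← e, pow_one, mul_inv_cancel₀ v.ne_zero]

theorem van {ρ : E →* chevE6.group K} {p : ℕ} (C : Cov T ρ p) (r s : Fin chevE6.nroots) (hr : gE6.cd.Pos r)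
    (hs : gE6.cd.Pos s) : (gE6.adjG K).Van ρ (phi chevE6 [100, 101, 103, 107, 115, 131]) r s := by
  have G := grd (g := gE6) grdE6 C.st h.σ
  have kl : ∀ c ∈ cE6, ∀ {r s : Fin chevE6.nroots}, gE6.cd.Pos r → gE6.cd.Pos s → r.1 ∈ c.2.1 → s.1 ∈ c.2.2 →
      (gE6.adjG K).Van ρ (phi chevE6 [100, 101, 103, 107, 115, 131]) r s := fun c hc r s hr hs h1 h2 => by
    obtain ⟨v, hv⟩ := h.nice hq hK ((cE6_1 c hc).2 s h2)
    obtain ⟨d, h3, h4⟩ := h.tor c.1 v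
    exact C.van_kill _ G hr hs h3 (Units.ext (by simp [h4, (cE6_1 c hc).1 r h1])) fun e => hv (by rw [← h4, e]; rfl)
  rcases cE6_2 r r.2 (gE6.pos_iff.1 hr) with h1 | ⟨h1, h2⟩
  · exact van_low (g := gE6) grdE6 h.σ C hr h1
  rcases h2 s s.2 (gE6.pos_iff.1 hs) with h3 | h3 | ⟨c, hc, h3 | h3⟩
  · obtain rfl := Fin.ext h3
    rcases h1 with ⟨m, -, h4, h5⟩ | ⟨c, -, h4⟩
    · refine C.van_deg (gE6.multG K) G hr hr (RingHom.id K) (.inl rfl) (fun v hv => ?_) (by rw [Nat.card_eq_fintype_card]; nlinarith)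
      obtain ⟨d, h6, h7⟩ := h.tor m (Units.mk0 v hv)
      exact ⟨d, h6, by simp [h7, h4, h5], by simp [h7, h4, h5]⟩
    · exact van_fix (g := gE6) grdE6 h.σ C (map_one φ) hr h4
  · exact (van_low (g := gE6) grdE6 h.σ C hs h3).symm
  · exact kl c hc hr hs h3.1 h3.2
  · exact (kl c hc hs hr h3.1 h3.2).symm

theorem card_le {τ : E →* twistedE6 K q} (hτ : Cfsg.IsStemExtension τ) : Nat.card τ.ker ≤ Nat.gcd 3 (q + 1) := by
  obtain ⟨p, _⟩ := CharP.exists K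
  haveI := Fact.mk (CharP.char_is_prime K p)
  obtain ⟨C, hi, e⟩ := h.set.cov p hτ
  have tf := C.tf (gE6.multG K) (grd (g := gE6) grdE6 C.st h.σ) hi (h.van hq hK C)
  have k := C.card_le tf e6r fun i => by
    have := h.orb
    simp only [show h.set.T = T from rfl, this]
    revert i; decide
  have hF : Nat.card {t // φ t = t} = q := by simp only [h.hφ]; exact card_fix (k := 2) hq.le hK
  have o := h.orb
  have b0 := card2 C tf (RingHom.id K) φ (e6i 0) (e6i 5) (by decide) (fun y => o _ ▸ h.p0 y) fun y => o _ ▸ h.m0 y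
  have b2 := card2 C tf (RingHom.id K) φ (e6i 2) (e6i 4) (by decide) (fun y => o _ ▸ h.p2 y) fun y => o _ ▸ h.m2 y
  have b1 := card1 C tf φ (e6i 1) (fun y => o _ ▸ h.p1 y) fun y => o _ ▸ h.m1 y
  have b3 := card1 C tf φ (e6i 3) (fun y => o _ ▸ h.p3 y) fun y => o _ ▸ h.m3 y
  have k2 := h.set.card_H_mul h.H_eq
  rw [h.card_ker hq.le hK, h.card_C hq.le hK, h.set.card_H] at k2
  rw [Nat.card_eq_fintype_card (α := K), hK] at b0 b2
  rw [hF] at b1 b3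
  rw [e, Fin.prod_univ_four] at k
  haveI := gE6.adjG_G K ▸ (gE6.isStG K).finite_G (gE6.multG K)
  haveI : Finite (chevE6.group K) := Finite.of_equiv _ topEquiv.toEquiv
  refine Nat.le_of_mul_le_mul_right (k.trans (le_of_le_of_eq ?_ k2.symm)) Nat.card_pos
  calc _ ≤ (q ^ 2 - 1) * (q - 1) * (q ^ 2 - 1) * (q - 1) := by gcongr <;> assumption
    _ = _ := by ring

end IsE6

theorem e6_schur {K : Type*} [Field K] [Fintype K] {q : ℕ} (hq : IsPrimePow q) (hK : Fintype.card K = q ^ 2) (h2 : q ≠ 2) :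
    Cfsg.HasCyclicSchurMultiplier (twistedE6 K q) (Nat.gcd 3 (q + 1)) := by
  obtain ⟨φ, T, h⟩ := exists_isE6 hq hK
  have h3 : 2 < q := lt_of_le_of_ne hq.two_le h2.symm
  obtain ⟨p, _⟩ := CharP.exists K
  haveI := Fact.mk (CharP.char_is_prime K p)
  obtain ⟨α, -, hα⟩ := gE6.exists_graphEnd_st ctx0 ctx0_sound _ mE6g _ _ tabE6 φ (by simp) (by simp)
  have hl : ∀ i, ∀ j ∈ T.orb i, gE6.cd.lg (T.orb i) (gE6.cd.sim j) = gE6.cd.neg (gE6.cd.sim j) := fun i j hj => by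
    have : ∀ (js : List ℕ) (l : List (Fin chevE6.rank)), ((∀ i ∈ l, (i : ℕ) ∈ js) ∧
        (∀ j : Fin chevE6.rank, (j : ℕ) ∈ js → actL gE6.T (l.map Fin.val) (chevE6.simple j) < chevE6.nroots / 2) ∧
        ∀ j : Fin chevE6.rank, (j : ℕ) ∈ js → actL gE6.T (l.map Fin.val) (chevE6.simple j) =
          chevE6.neg (chevE6.simple j)) → T.orb i = {j : Fin chevE6.rank | (j : ℕ) ∈ js} →
        gE6.cd.lg (T.orb i) (gE6.cd.sim j) = gE6.cd.neg (gE6.cd.sim j) := fun js l hl e => by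
      rw [e] at hj
      rw [e, gE6.lg_eq_wp js l hl.1 hl.2.1]
      exact Fin.ext ((gE6.actL_eq _ _).symm.trans (hl.2.2 j hj))
    rcases h.orb_cases i with e | e | e | e
    exacts [this _ [e6i 0, e6i 5] (by decide +kernel) e, this _ [e6i 1] (by decide +kernel) e,
      this _ [e6i 2, e6i 4] (by decide +kernel) e, this _ [e6i 3] (by decide +kernel) e]
  obtain ⟨L, _, τ, h4, h5⟩ := h.set.exists_stem (by simp) p (f := fun _ => φ.toMonoidWithZeroHom) (by simp)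
    (fun _ => φ.bijective) (h.π ▸ h.gr) α (by
      rw [show h.set.T = T from rfl, h.π]; simp only [pow_one] at hα; exact hα) hl kerE6_pow
  haveI := Finite.of_surjective _ h4.1
  rw [show h.set.T = T from rfl, h.card_ker h3.le hK] at h5
  have h7 := le_antisymm (h.card_le h3 hK h4) h5
  haveI : Fact (Nat.Prime 3) := ⟨Nat.prime_three⟩
  haveI : IsCyclic τ.ker := isCyclic_of_card_dvd_prime (p := 3) (h7 ▸ Nat.gcd_dvd_left _ _)
  refine CfsgH1.hasSM_of_card h4 (h7 ▸ (zmodCyclicMulEquiv inferInstance).symm) fun E _ _ τ hτ => ?_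
  exact (h.card_le h3 hK hτ).trans_eq (Nat.card_zmod _).symm

end Chev
end CfsgH6
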