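import Cfsg.Agent.H6.Mul6
import Cfsg.Agent.H6.Mul2
import Cfsg.Agent.H6.TF4

/-! The symplectic model of `B₂` and the Suzuki subgroup of `²F₄(q)`. -/

set_option autoImplicit false

namespace CfsgH6
open Subgroup Cfsg.Lie CfsgH7.SzM
open scoped commutatorElement
universe u

theorem mul4 {F : Type*} [CommRing F] (a0 a1 a2 a3 a4 a5 a6 a7 a8 a9 aa ab ac ad ae af b0 b1 b2 b3 b4 b5 b6 b7 b8 b9 ba bb
    bc bd be bf : F) : !![a0, a1, a2, a3; a4, a5, a6, a7; a8, a9, aa, ab; ac, ad, ae, af] *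
      !![b0, b1, b2, b3; b4, b5, b6, b7; b8, b9, ba, bb; bc, bd, be, bf] =
    !![a0 * b0 + a1 * b4 + a2 * b8 + a3 * bc, a0 * b1 + a1 * b5 + a2 * b9 + a3 * bd, a0 * b2 + a1 * b6 + a2 * ba + a3 * be,
      a0 * b3 + a1 * b7 + a2 * bb + a3 * bf; a4 * b0 + a5 * b4 + a6 * b8 + a7 * bc, a4 * b1 + a5 * b5 + a6 * b9 + a7 * bd,
      a4 * b2 + a5 * b6 + a6 * ba + a7 * be, a4 * b3 + a5 * b7 + a6 * bb + a7 * bf; a8 * b0 + a9 * b4 + aa * b8 + ab * bc,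
      a8 * b1 + a9 * b5 + aa * b9 + ab * bd, a8 * b2 + a9 * b6 + aa * ba + ab * be, a8 * b3 + a9 * b7 + aa * bb + ab * bf;
      ac * b0 + ad * b4 + ae * b8 + af * bc, ac * b1 + ad * b5 + ae * b9 + af * bd, ac * b2 + ad * b6 + ae * ba + af * be,
      ac * b3 + ad * b7 + ae * bb + af * bf] := by
  ext i j; fin_cases i <;> fin_cases j <;> simp [Matrix.mul_apply, Fin.sum_univ_four]

theorem sz_odd {F : Type*} [Field F] [Finite F] {θ : F →+* F} {G L : Type u} {Ω : Type*} [Group G] [MulAction G Ω]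
    (S : CfsgH7.SzS θ G Ω) [Group L] [Finite L] {ψ : L →* G} (h : CX ψ) {z : L} (h1 : z ∈ commutator L) (h2 : ψ z = 1)
    (h3 : Odd (orderOf z)) : z = 1 := by
  haveI := S.finG
  by_contra h4
  obtain ⟨r, hr, hd⟩ := Nat.exists_prime_and_dvd (mt orderOf_eq_one_iff.1 h4)
  haveI := Fact.mk hr
  obtain ⟨P⟩ : Nonempty (Sylow r G) := inferInstance
  have : Gd (P : Subgroup G) := by
    by_cases h : (P : Subgroup G) = ⊥
    · exact gd_of_cyclic (h ▸ inferInstance)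
    obtain ⟨U, hU, e⟩ := S.case_odd h fun z hz h1 => by
      obtain ⟨k, hk⟩ := P.isPGroup' ⟨z, hz⟩
      exact orderOf_eq_one_iff.1 (Nat.eq_one_of_dvd_coprimes ((Nat.coprime_two_left.2 (h3.of_dvd_nat hd)).pow_right k)
        (orderOf_dvd_of_pow_eq_one h1) (orderOf_dvd_of_pow_eq_one (congrArg Subtype.val hk)))
    exact (gd_of_cyclic hU.cyc).mono e
  have := this L ψ h _ (pow_index_mem _ (h.cent h2) h1) (by simp [h2])
  rw [index_comap_of_surjective _ h.surj] at this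
  exact P.not_dvd_index (hd.trans (orderOf_dvd_of_pow_eq_one this))

theorem PreSt.Cov.card_HH_sz {I R : Type} [Fintype I] [DecidableEq I] {Φ : CD I R} {F : Type*} [Field F] {Γ : Type*}
    [Group Γ] {X : PreSt Φ F Γ} {E : Type u} [Group E] [Finite R] [Finite E] {T : X.Tw} {ρ : E →* Γ} (C : Cov T ρ 2)
    (tf : ∀ z, ρ z = 1 → z ^ 2 = 1 → z = 1) {K : Type*} [Field K] [Finite K] {θ : K →+* K} {G : Type u} {Ω : Type*} [Group G]
    [MulAction G Ω] (S : CfsgH7.SzS θ G Ω) {W G' : Type*} [Group W] [Group G'] {ι : W →* Γ} {κ : W →* G'} {j : G →* G'}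
    (hι : Function.Injective ι) (hκ : Function.Injective κ) (hj : Function.Injective j) {i : I} {x y : K → K → W}
    (x1 : ∀ a b, κ (x a b) = j (S.u a b)) (y1 : ∀ a b, κ (y a b) = j ((S.conj S.w).u a b))
    (x2 : ∀ g, g ∈ X.XP (T.orb i) ⊓ T.Fix ↔ ∃ a b, g = ι (x a b))
    (y2 : ∀ g, g ∈ X.XM (T.orb i) ⊓ T.Fix ↔ ∃ a b, g = ι (y a b)) : Nat.card (T.HH ρ 2 i) ≤ Nat.card K - 1 := by
  have k0 : T.LL ρ 2 i ≤ ((j.range.comap κ).map ι).comap ρ := sup_le (fun e he => by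
    obtain ⟨a, b, h⟩ := (x2 _).1 (lf_le _ he); exact ⟨_, ⟨_, (x1 a b).symm⟩, h.symm⟩) fun e he => by
    obtain ⟨a, b, h⟩ := (y2 _).1 (lf_le _ he); exact ⟨_, ⟨_, (y1 a b).symm⟩, h.symm⟩
  choose w h1 h2 using fun e : T.LL ρ 2 i => k0 e.2
  choose f hf using h1
  let ψ : T.LL ρ 2 i →* G := MonoidHom.mk' f fun a b => hj (by
    rw [map_mul, hf, hf, hf, ← map_mul]; exact congrArg κ (hι (by simp [h2])))
  have sp : ∀ e v g, ρ e.1 = ι v → κ v = j g → ψ e = g := fun e v g k1 k2 => hj (by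
    rw [← k2, ← hι ((h2 e).trans k1)]; exact hf e)
  have kr : ∀ e, ψ e = 1 → ρ e.1 = 1 := fun e he => by
    rw [← h2, hκ ((hf e).symm.trans ((congrArg j he).trans (by simp : j 1 = κ 1))), map_one]
  have ex : ∀ {A : Set R} {S' : CfsgH7.SzS θ G Ω} {x : K → K → W}, (∀ a b, κ (x a b) = j (S'.u a b)) →
      (∀ g, g ∈ X.XS A ⊓ T.Fix ↔ ∃ a b, g = ι (x a b)) → IsPGroup 2 (X.XS A ⊓ T.Fix : Subgroup Γ) → X.XS A ⊓ T.Fix ≤ T.M →
      lf ρ 2 (X.XS A ⊓ T.Fix) ≤ T.LL ρ 2 i → S'.Q ≤ ψ.range ∧ ∀ e, ρ e.1 ∈ X.H → ψ e • S'.inf = S'.inf :=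
    fun {A S' x} x1 x2 hp hM hL => by
    have : ∀ a b, ∃ e : T.LL ρ 2 i, e.1 ∈ lf ρ 2 (X.XS A ⊓ T.Fix) ∧ ψ e = S'.u a b := fun a b => by
      obtain ⟨e, he, k⟩ := exists_lf hp ((x2 _).2 ⟨a, b, rfl⟩) (C.rg ▸ hM ((x2 _).2 ⟨a, b, rfl⟩))
      exact ⟨⟨e, hL he⟩, he, sp _ _ _ k (x1 a b)⟩
    refine ⟨fun _ ⟨a, b, e⟩ => e ▸ (this a b).imp fun _ h => h.2, fun e he => ?_⟩
    obtain ⟨z, k1, k2⟩ := this 0 1
    obtain ⟨a, b, k3⟩ := (x2 _).1 (lf_le _ (C.conj_lf (C.st.act_H he) (fun _ h => h) k1))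
    exact S'.ti_Q (S'.u_mem 0 1) (S'.z_ne one_ne_zero) ⟨a, b, by
      rw [← k2, ← map_inv, ← map_mul, ← map_mul]; exact sp _ _ _ k3 (x1 a b)⟩
  have e1 := ex x1 x2 (C.pP i) (T.XP_le_M i) le_sup_left
  have e2 := ex y1 y2 (C.pM i) (T.XM_le_M i) le_sup_right
  have cx : CX ψ := ⟨MonoidHom.range_eq_top.1 (S.eq_top_of_Q e1.1 fun h => S.pt_ne 0 0 (((S.conj S.w).Q_fix
    ((S.conj S.w).u_mem 0 1) ((S.conj S.w).z_ne one_ne_zero) (h (e2.1 ((S.conj S.w).u_mem 0 1)))).trans S.w_inf).symm),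
    fun e he => mem_center_iff.2 fun g => Subtype.ext (mem_center_iff.1 (C.c (kr e he)) g)⟩
  rw [← S.card_H]
  haveI := S.finG
  refine Nat.card_le_card_of_injective (fun e : T.HH ρ 2 i => (⟨ψ ⟨e, e.2.1⟩, S.H_eq ▸ ⟨e1.2 _ e.2.2,
    S.w_inf ▸ e2.2 _ e.2.2⟩⟩ : S.H)) fun a b e => ?_
  have k1 : ψ (⟨a, a.2.1⟩ * ⟨b, b.2.1⟩⁻¹) = 1 := by
    rw [map_mul, map_inv, mul_inv_eq_one]; exact congrArg Subtype.val e
  generalize hz : (⟨a, a.2.1⟩ * ⟨b, b.2.1⟩⁻¹ : T.LL ρ 2 i) = z at k1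
  have k2 : Odd (orderOf z) := Nat.not_even_iff_odd.1 fun ⟨k, hk⟩ => by
    have := orderOf_pos z
    exact pow_ne_one_of_lt_orderOf (x := z) (n := k) (by omega) (by omega) (Subtype.ext (tf (z.1 ^ k) (by simp [kr z k1])
      (by rw [← pow_mul, mul_two, ← hk, ← orderOf_coe, pow_orderOf_eq_one])))
  refine Subtype.ext (congrArg (fun x : T.LL ρ 2 i => x.1) (mul_inv_eq_one.1 (hz.trans (sz_odd S cx (mem_comm_of_gen
    (fun L hL => map_injective (T.LL ρ 2 i).subtype_injective (le_antisymm (map_mono le_top) ((map_subtype_le _).trans ?_)))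
    (Nat.coprime_two_left.2 k2) (pow_orderOf_eq_one z)) k1 k2))))
  exact sup_le (fun e he => ⟨⟨e, mem_sup_left he⟩, hL _ (((mem_lf C.c (C.pP i)).1 he).2.imp fun _ h => Subtype.ext h), rfl⟩)
      fun e he => ⟨⟨e, mem_sup_right he⟩, hL _ (((mem_lf C.c (C.pM i)).1 he).2.imp fun _ h => Subtype.ext h), rfl⟩

namespace Chev
open PreSt Good
variable {K : Type u} [Field K]

/-- root elements of `Sp₄` -/
def spM (r : ℕ) (t : K) : Matrix (Fin 4) (Fin 4) K := match r with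
  | 0 => !![1, 0, 0, 0; 0, 1, 0, 0; 0, 0, 1, 0; t, 0, 0, 1]
  | 1 => !![1, 0, 0, 0; 0, 1, 0, 0; -t, 0, 1, 0; 0, t, 0, 1]
  | 2 => !![1, 0, 0, 0; t, 1, 0, 0; 0, 0, 1, 0; 0, 0, t, 1]
  | 3 => !![1, 0, 0, 0; 0, 1, 0, 0; 0, t, 1, 0; 0, 0, 0, 1]
  | 4 => !![1, 0, 0, 0; 0, 1, t, 0; 0, 0, 1, 0; 0, 0, 0, 1]
  | 5 => !![1, t, 0, 0; 0, 1, 0, 0; 0, 0, 1, t; 0, 0, 0, 1]
  | 6 => !![1, 0, -t, 0; 0, 1, 0, t; 0, 0, 1, 0; 0, 0, 0, 1]
  | _ => !![1, 0, 0, t; 0, 1, 0, 0; 0, 0, 1, 0; 0, 0, 0, 1]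

/-- root elements of `Sp₄` -/
def spS (r : ℕ) (t : K) : SL4 K := ⟨spM r t, by unfold spM; split <;> simp [det4]⟩

theorem coe_spS (r : ℕ) (t : K) : (spS r t).1 = spM r t := rfl

omit [Field K] in
theorem eq4 {a0 a1 a2 a3 a4 a5 a6 a7 a8 a9 aa ab ac ad ae af b0 b1 b2 b3 b4 b5 b6 b7 b8 b9 ba bb bc bd be bf : K}
    (h : (a0 = b0 ∧ a1 = b1 ∧ a2 = b2 ∧ a3 = b3) ∧ (a4 = b4 ∧ a5 = b5 ∧ a6 = b6 ∧ a7 = b7) ∧
      (a8 = b8 ∧ a9 = b9 ∧ aa = ba ∧ ab = bb) ∧ ac = bc ∧ ad = bd ∧ ae = be ∧ af = bf) :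
    !![a0, a1, a2, a3; a4, a5, a6, a7; a8, a9, aa, ab; ac, ad, ae, af] =
      !![b0, b1, b2, b3; b4, b5, b6, b7; b8, b9, ba, bb; bc, bd, be, bf] := by simp [h]

/-- commutator table of `B₂` -/
def tmB (r s : ℕ) : List (ℕ × ℤ × ℕ × ℕ) := ([[[], [], [], [], [], [(1,1,1,1),(3,-1,1,2)], [(2,-1,1,1),(4,1,1,2)], []],
  [[], [], [(0,2,1,1)], [], [(2,1,1,1),(0,1,2,1)], [(3,-2,1,1)], [], [(5,-1,1,1),(3,1,2,1)]],
  [[], [(0,-2,1,1)], [], [(1,1,1,1),(0,-1,2,1)], [], [], [(4,-2,1,1)], [(6,1,1,1),(4,-1,2,1)]],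
  [[], [], [(1,-1,1,1),(0,-1,1,2)], [], [], [], [(5,1,1,1),(7,1,1,2)], []],
  [[], [(2,-1,1,1),(0,1,1,2)], [], [], [], [(6,1,1,1),(7,-1,1,2)], [], []],
  [[(1,-1,1,1),(3,-1,2,1)], [(3,2,1,1)], [], [], [(6,-1,1,1),(7,-1,2,1)], [], [(7,2,1,1)], []],
  [[(2,1,1,1),(4,1,2,1)], [], [(4,2,1,1)], [(5,-1,1,1),(7,1,2,1)], [], [(7,-2,1,1)], [], []],
  [[], [(5,1,1,1),(3,1,1,2)], [(6,-1,1,1),(4,-1,1,2)], [], [], [], [], []]].getD r []).getD s []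

theorem tmB_eq : ∀ r s : Fin chevB2.nroots, (gB2.cd.tm r s).map (fun c => (c.1.val, c.2)) = tmB r s := by decide +kernel

set_option maxHeartbeats 1000000 in
theorem sp_comm (r : ℕ) (hr : r < 8) (s : ℕ) (hs : s < 8) (h1 : s ≠ r) (h2 : s + r ≠ 7) (t u : K) : spS s u * spS r t =
    spS r t * spS s u * ((tmB r s).map fun c => spS c.1 ((c.2.1 : K) * (-t) ^ c.2.2.1 * u ^ c.2.2.2)).prod := by
  apply Subtype.ext
  interval_cases r <;> interval_cases s <;> simp only [ne_eq, not_true_eq_false] at h1 h2 <;>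
    simp only [tmB, List.getD_cons_succ, List.getD_cons_zero, List.map_cons, List.map_nil, List.prod_cons, List.prod_nil,
      mul_one, Matrix.SpecialLinearGroup.coe_mul, coe_spS, spM, mul4] <;>
    exact eq4 (by push_cast; refine ⟨⟨?_, ?_, ?_, ?_⟩, ⟨?_, ?_, ?_, ?_⟩, ⟨?_, ?_, ?_, ?_⟩, ?_, ?_, ?_, ?_⟩ <;> ring)

variable (K) in
/-- `Sp₄` as a Steinberg system -/
def sp4 : PreSt gB2.cd K (SL4 K) where
  x r t := spS r t
  add r t u := Subtype.ext (by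
    simp only [coe_spS, Matrix.SpecialLinearGroup.coe_mul, spM]; split <;> simp [mul4, -Matrix.cons_mul, add_comm])
  comm r s t u h1 h2 := by
    rw [sp_comm r r.2 s s.2 (fun e => h1 (Fin.ext e)) (fun e => h2 (by revert r s; decide)), ← tmB_eq, List.map_map]
    rfl

theorem sp4_mult : (sp4 K).Mult := mult_of_simple _ fun i t u ht hu => by
  apply Subtype.ext
  change Fin 2 at i
  fin_cases i
  · change (spS 5 _ * spS 2 _ * spS 5 _ * (spS 5 _ * spS 2 _ * spS 5 _) * (spS 5 _ * spS 2 _ * spS 5 _ *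
      (spS 5 _ * spS 2 _ * spS 5 _))).1 = (spS 5 _ * spS 2 _ * spS 5 _ * (spS 5 _ * spS 2 _ * spS 5 _)).1
    simp only [coe_spS, Matrix.SpecialLinearGroup.coe_mul, spM, mul4]
    simp [ht, hu, mul_comm, mul_mul_mul_comm t u]
  · change (spS 4 _ * spS 3 _ * spS 4 _ * (spS 4 _ * spS 3 _ * spS 4 _) * (spS 4 _ * spS 3 _ * spS 4 _ *
      (spS 4 _ * spS 3 _ * spS 4 _))).1 = (spS 4 _ * spS 3 _ * spS 4 _ * (spS 4 _ * spS 3 _ * spS 4 _)).1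
    simp only [coe_spS, Matrix.SpecialLinearGroup.coe_mul, spM, mul4]
    simp [ht, hu, mul_comm, mul_mul_mul_comm t u]

theorem stB2_simple [CharP K 2] (h : ∃ a : K, a ≠ 0 ∧ a ≠ 1) : IsSimpleGroup (chevB2.SteinbergGroup K) := by
  have hZ : center (chevB2.SteinbergGroup K) = ⊥ := by
    rw [gB2.center_st, eq_bot_iff]
    rintro _ ⟨c, hc, rfl⟩
    have := kerB2_pow c (Subtype.ext ((gB2.hhG_eq K c).trans hc))
    rw [show c = 1 from funext fun i => Units.ext ((frobenius K 2).injective (by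
      simpa [frobenius_def] using congrArg (fun x => (x i : K)) this))]
    simp
  haveI : Nonempty (Fin chevB2.rank) := ⟨⟨0, by decide⟩⟩
  let e : (gB2.st K).G ≃* chevB2.SteinbergGroup K := gB2.st_G K ▸ topEquiv
  haveI := (gB2.isSt_st K).isSimpleGroup (gB2.st_mult K) ⟨⟨0, by decide⟩, by decide +kernel⟩
    (perf_of_mem (by simp) (fun _ => h) gB2 (gB2.isSt_st K)) (eq_bot_iff.2 fun x hx => e.injective (by
      rw [map_one]; exact hZ.le (mem_center_iff.2 fun y => by simpa using congrArg e (mem_center_iff.1 hx (e.symm y)))))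
  exact e.symm.isSimpleGroup

end Chev
end CfsgH6
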