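import Cfsg.Agent.H6.Mul7

/-! The Schur multiplier of `²F₄(q)`. -/

set_option autoImplicit false

namespace CfsgH6
open Subgroup Cfsg.Lie CfsgH7.SzM
open scoped commutatorElement
universe u

open scoped IsMulCommutative in
theorem frm_comm {E : Type u} [Group E] {A B A' B' : Subgroup E} {S : Set (MulAut E)}
    (hc : ∀ x ∈ A, ∀ y ∈ B, ⁅x, y⁆ ∈ center E) (h1 : ∀ x ∈ A', ∀ y ∈ B, Commute x y) (h2 : ∀ x ∈ A, ∀ y ∈ B', Commute x y)
    (hS : ∀ a ∈ S, ∃ g, a = MulAut.conj g) :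
    ∃ (M : Type u) (_ : CommGroup M) (β : E → E → M), Frm A B A' B' S β ∧ ∀ x ∈ A, ∀ y ∈ B, β x y = 1 → Commute x y := by
  classical
  let f : E → center E := fun z => if h : z ∈ center E then ⟨z, h⟩ else 1
  have hf : ∀ z h, f z = ⟨z, h⟩ := fun z h => dif_pos h
  have ex : ∀ x y, Commute x y → f ⁅x, y⁆ = 1 := fun x y h => by
    rw [commutatorElement_eq_one_iff_commute.2 h]; exact hf _ (one_mem _)
  refine ⟨_, inferInstance, fun x y => f ⁅x, y⁆, ⟨fun x hx x' hx' y hy => ?_, fun x hx y hy y' hy' => ?_, fun x hx y hy => ex _ _ (h1 x hx y hy),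
    fun x hx y hy => ex _ _ (h2 x hx y hy), fun a ha x hx y hy => ?_, fun x _ y _ => ex x y⟩, fun x hx y hy e =>
      commutatorElement_eq_one_iff_commute.1 (congrArg Subtype.val ((hf _ (hc x hx y hy)).symm.trans e))⟩
  · rw [hf _ (hc _ (mul_mem hx hx') y hy), hf _ (hc x hx y hy), hf _ (hc x' hx' y hy), mul_comm]
    refine Subtype.ext (Eq.trans ?_ (congrArg (· * ⁅x, y⁆) (mul_inv_eq_iff_eq_mul.2 (mem_center_iff.1 (hc x' hx' y hy) x))))
    simp only [commutatorElement_def]; group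
  · rw [hf _ (hc _ hx _ (mul_mem hy hy')), hf _ (hc x hx y hy), hf _ (hc x hx y' hy')]
    refine Subtype.ext (Eq.trans ?_ (congrArg (⁅x, y⁆ * ·) (mul_inv_eq_iff_eq_mul.2 (mem_center_iff.1 (hc x hx y' hy') y))))
    simp only [commutatorElement_def]; group
  · obtain ⟨g, rfl⟩ := hS a ha
    rw [← map_commutatorElement, MulAut.conj_apply, mul_inv_eq_iff_eq_mul.2 (mem_center_iff.1 (hc x hx y hy) g)]

namespace PreSt
variable {I R : Type} [Fintype I] [DecidableEq I] {Φ : CD I R} {F : Type*} [Field F] {Γ : Type*} [Group Γ]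
  {X : PreSt Φ F Γ} {E : Type u} [Group E] {ρ : E →* Γ} {φ : (I → ℤ) →+ ℤ}

theorem LV_ind [Finite R] {P : Subgroup E → Prop} {k : ℤ} (h0 : P ρ.ker)
    (h1 : ∀ r, k ≤ φ (Φ.rt r) → P (X.LV ρ φ (φ (Φ.rt r) + 1)) → P (X.LV ρ φ (φ (Φ.rt r)))) : P (X.LV ρ φ k) := by
  obtain ⟨c, hc⟩ := (Set.finite_range fun r => φ (Φ.rt r)).bddAbove
  refine Int.le_induction_down (motive := fun n _ => k ≤ n → P (X.LV ρ φ n)) (m := max k (c + 1)) (fun _ => ?_)
    (fun n _ ih hn => ?_) k (le_max_left _ _) le_rfl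
  · rwa [LV, Set.eq_empty_of_forall_notMem (s := {s | max k (c + 1) ≤ φ (Φ.rt s)}) (fun r hr => by
      have : φ (Φ.rt r) ≤ c := hc ⟨r, rfl⟩
      simp only [Set.mem_setOf_eq] at hr; omega), XS_empty]
  by_cases h : ∃ r, φ (Φ.rt r) = n - 1
  · obtain ⟨r, h⟩ := h
    exact h ▸ h1 r (h ▸ hn) (by simpa [h] using ih (by omega))
  · have e : X.LV ρ φ n = X.LV ρ φ (n - 1) := congrArg (fun S => (X.XS S).comap ρ) (Set.ext fun r => by
      have := not_exists.1 h r; simp only [Set.mem_setOf_eq]; omega)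
    exact e ▸ ih (by omega)

theorem Cov.van_rep {T : X.Tw} {p : ℕ} (C : Cov T ρ p) (G : Grd T φ) {n : E} {w : Equiv.Perm R} (ha : X.Act (ρ n) w)
    {r s : R} (hr : Φ.Pos (w r)) (hs : Φ.Pos (w s)) {A B : Set R} (hA : ∀ a ∈ A, φ (Φ.rt (w r)) < φ (Φ.rt (w a)))
    (hB : ∀ a ∈ B, φ (Φ.rt (w s)) < φ (Φ.rt (w a))) (h1 : ∀ v, ∃ a ∈ X.XS A, ∃ b ∈ X.XS A, a * X.x r v * b ∈ T.M)
    (h2 : ∀ v, ∃ a ∈ X.XS B, ∃ b ∈ X.XS B, a * X.x s v * b ∈ T.M)
    (cm : ∀ x y, ρ x ∈ X.XS (insert r A) → ρ y ∈ X.XS (insert s B) → Commute x y) : X.Van ρ φ (w r) (w s) := by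
  have key : ∀ {r : R} {A : Set R}, Φ.Pos (w r) → (∀ a ∈ A, φ (Φ.rt (w r)) < φ (Φ.rt (w a))) →
      (∀ v, ∃ a ∈ X.XS A, ∃ b ∈ X.XS A, a * X.x r v * b ∈ T.M) → ∀ c, ∃ x, ρ x ∈ X.XS (insert r A) ∧
        n * x * n⁻¹ ∈ X.LV ρ φ (φ (Φ.rt (w r))) ∧ X.co ρ φ (w r) (n * x * n⁻¹) = c := fun {r A} hr hA h1 c => by
    obtain ⟨v, hv⟩ := ha.conj_le r c
    obtain ⟨a, k1, b, k2, k3⟩ := h1 v
    obtain ⟨x, hx⟩ := C.rg.ge k3
    have h0 := (G.pos _).1 hr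
    refine ⟨x, hx ▸ mul_mem (mul_mem (X.XS_mono (Set.subset_insert _ _) k1) (X.x_mem_XS (Set.mem_insert _ _) _))
      (X.XS_mono (Set.subset_insert _ _) k2), G.co_eq hr C.st ?_⟩
    have := mul_mem (X.XS_conj_phi φ (by omega) (inv_mem (X.x_mem_XS (S := {s | 0 ≤ φ (Φ.rt s)}) h0.le c))
      (ha.conj_mem (S' := {s | φ (Φ.rt (w r)) + 1 ≤ φ (Φ.rt s)}) hA k1)) (ha.conj_mem hA k2)
    convert this using 1
    simp only [map_mul, map_inv, hx, ← hv]; group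
  intro M _ β hβ x hx y hy
  obtain ⟨x', k1, k2, k3⟩ := key hr hA h1 (X.co ρ φ (w r) x)
  obtain ⟨y', k4, k5, k6⟩ := key hs hB h2 (X.co ρ φ (w s) y)
  rw [hβ.congr (G.lev hr C.st) hx k2 hy k3.symm, hβ.flip.congr (G.lev hs C.st) hy k5 k2 k6.symm]
  exact hβ.ex _ k2 _ k5 ((cm _ _ k1 k4).map (MulAut.conj n))

end PreSt

namespace Chev
open PreSt Good
variable {K : Type u} [Field K]

theorem IsF4.card_HH1 [Fintype K] {m : ℕ} {φ : K ≃+* K} {T : (gF4.adjG K).Tw} (h : IsF4 (2 ^ m) φ T) (hm : 1 ≤ m)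
    (hK : Fintype.card K = 2 ^ (2 * m + 1)) {E : Type u} [Group E] [Finite E] {ρ : E →* chevF4.group K} (C : Cov T ρ 2)
    (tf : ∀ z, ρ z = 1 → z ^ 2 = 1 → z = 1) : Nat.card (T.HH ρ 2 (f4i 1)) ≤ Nat.card K - 1 := by
  haveI := h.ch
  obtain ⟨S, -, -, hu, -, hw⟩ := sz_model hm hK
  have hθ : ∀ t, th K m t = φ t ^ 2 := fun t => by rw [th_apply, h.hφ, ← pow_mul, pow_succ]
  let Z := gB2.mor (gF4.adjG K) ctx0 ctx0_sound tB2F4 mB2F4
  have zx : ∀ r < 8, ∀ t, xn Z r t = xn (gF4.adjG K) ([17, 19, 20, 22, 25, 27, 28, 30].getD r 0) t := fun r hr t => by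
    rw [xn_lt Z hr]
    exact (mx_single (s := [17, 19, 20, 22, 25, 27, 28, 30].getD r 0) (c := 1) (e := 1) _ (by revert r; decide +kernel)
      t).trans (by simp)
  have hh : ∀ i t, Z.h (gB2.cd.sim i) t = (gF4.adjG K).h (gF4.cd.sim ((![1, 2] : Fin 2 → Fin 4) i)) t := fun i t =>
    gB2.h_of_pm (MonoidWithZeroHom.id K) rfl (fun t => by
      rw [← xn_val, ← xn_val, zx _ (gB2.cd.sim i).2]; congr 1; revert i; decide) (fun t => by
      rw [← xn_val, ← xn_val, zx _ (gB2.cd.neg (gB2.cd.sim i)).2]; congr 1; revert i; decide) t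
  have hM : Z.Mult := mult_of_simple Z fun i t u ht hu => by simp only [hh, gF4.multG K _ t u ht hu]
  haveI := stB2_simple S.T.big
  have inj : ∀ {Γ : Type u} [Group Γ] (Y : PreSt gB2.cd K Γ) (hY : Y.Mult), xn Y 4 1 ≠ 1 →
      Function.Injective (lift Y hY) := fun Y hY h1 => (MonoidHom.ker_eq_bot_iff _).1
    ((IsSimpleGroup.eq_bot_or_eq_top_of_normal _ inferInstance).resolve_right fun e =>
      h1 ((lift_stGen Y hY 4 1).symm.trans (e.ge (mem_top _))))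
  have sx : ∀ r < 8, ∀ t, xn (sp4 K) r t = spS r t := fun r hr t => xn_lt _ hr t
  have h2 : (2 : K) = 0 := S.T.two
  have rp : ∀ a b c d : ℕ, a < 8 ∧ b < 8 ∧ c < 8 ∧ d < 8 → ∀ g, (∃ t u, g = wd (gF4.adjG K)
      [([17, 19, 20, 22, 25, 27, 28, 30].getD a 0, φ t), ([17, 19, 20, 22, 25, 27, 28, 30].getD b 0, t),
      ([17, 19, 20, 22, 25, 27, 28, 30].getD c 0, φ t * t + u), ([17, 19, 20, 22, 25, 27, 28, 30].getD d 0, φ u ^ 2)]) ↔
      ∃ s t, g = lift Z hM (chevB2.stGen K a s * chevB2.stGen K b (th K m s) * chevB2.stGen K c t *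
        chevB2.stGen K d (th K m (s * th K m s + t))) := fun a b c d ⟨k1, k2, k3, k4⟩ g => by
    simp only [map_mul (lift Z hM), lift_stGen, zx _ k1, zx _ k2, zx _ k3, zx _ k4, hθ, wd_cons, wd_nil, mul_one, mul_assoc]
    exact ⟨fun ⟨t, u, e⟩ => ⟨φ t, φ t * t + u, by rw [e, h.q2, CharTwo.add_cancel_left]⟩,
      fun ⟨s, t, e⟩ => ⟨φ s ^ 2, s * φ s ^ 2 + t, by rw [e, map_pow, h.q2, CharTwo.add_cancel_left]⟩⟩
  have o : T.orb (f4i 1) = {j : Fin chevF4.rank | (j : ℕ) ∈ [1, 2]} := h.orb _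
  refine C.card_HH_sz tf S (inj Z hM ?_) (inj _ sp4_mult fun e => ?_) (Cfsg.Sz K m).subtype_injective (fun a b => ?_)
    (fun a b => ?_) (fun g => o.symm ▸ (h.p1 g).trans (rp 5 4 6 7 (by simp) g))
    fun g => o.symm ▸ (h.m1 g).trans (rp 2 3 1 0 (by simp) g)
  · rw [zx _ (by simp)]
    simpa using wd_ne_one (gF4.isStG K).sep1 (e := 1) (L := [25]) (w := [(25, 1)]) (by decide +kernel) rfl (by simp)
  · simpa [sx, coe_spS, spM] using congrArg (fun x : SL4 K => x.1 1 2) e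
  · simp only [map_mul (lift _ _), lift_stGen, coe_subtype, hu]
    rw [sx _ (by simp), sx _ (by simp), sx _ (by simp), sx _ (by simp)]
    apply Subtype.ext
    simp only [coe_spS, Matrix.SpecialLinearGroup.coe_mul, spM, mul4, uS, uM]
    simp [CfsgH7.szf, S.T.sq, CharTwo.neg_eq]; constructor <;> ring
  · simp only [map_mul (lift _ _), lift_stGen, coe_subtype, CfsgH7.SzS.conj, S.w_inv, coe_mul, hu, hw]
    rw [sx _ (by simp), sx _ (by simp), sx _ (by simp), sx _ (by simp)]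
    apply Subtype.ext
    simp only [Matrix.SpecialLinearGroup.coe_mul, coe_spS]
    simp only [spM, uS, uM, wS, CfsgH7.SzM.wM, mul4]
    simp [CfsgH7.szf, S.T.sq, CharTwo.neg_eq]; ring

theorem Good.evX_mem_phi {D : ChevalleyDatum} {g : Good D} {F Γ : Type*} [Field F] [Group Γ] (Y : PreSt g.cd F Γ) {C : Ctx}
    {f : ℕ →* F} (hC : C.Sound f) {w : Wd} {wt : List ℤ} {m : ℤ} (h : ∀ a ∈ cNorm g.T C w, m ≤ phT g.T wt a.1) :
    evX Y f w ∈ Y.XS {s | m ≤ phi D wt (g.cd.rt s)} := by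
  rw [← evX_cNorm Y hC, evX_eq]
  refine wd_mem_XS Y fun r hr => ?_
  simp only [evW, List.map_map, List.mem_map, Function.comp] at hr
  obtain ⟨a, ha, e⟩ := hr
  rw [Set.mem_setOf_eq, g.phT_eq, ← e]; exact h a ha

/-- grading for `F₄` -/
def wF4 : List ℤ := [131, 103, 111, 100]
theorem grdF4 : GrdC ftF4 tF4i wF4 := by decide +kernel
/-- first weight for `F₄` -/
def tA (m : List ℤ) (r : ℕ) : ℤ := wT ftF4 [m.getD 0 0, m.getD 1 0, 2 * m.getD 3 0, 2 * m.getD 2 0] r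
/-- second weight for `F₄` -/
def tB (m : List ℤ) (r : ℕ) : ℤ := wT ftF4 [m.getD 2 0, m.getD 3 0, m.getD 1 0, m.getD 0 0] r
/-- bijective characters -/
abbrev nc (m : List ℤ) (r : ℕ) : Prop := (tA m r * tA m r - 2 * (tB m r * tB m r)).natAbs ∈ [0, 1, 2, 3, 4].map (2 ^ ·)
/-- non-minimal roots -/
abbrev lw (r : ℕ) : Prop := phT ftF4 wF4 (rhT tF4i r) < phT ftF4 wF4 r

/-- certificate for `F₄` -/
def cF4 : List (List ℤ × List ℕ × List ℕ) := [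
  ([-3, -3, -2, -2], [35, 40], [24, 26, 27, 28, 29, 36, 37, 38, 39, 44]),
  ([-3, 1, 2, -1], [26, 36], [24, 27, 28, 29, 35, 37, 38, 39, 40, 44]),
  ([-2, -3, -1, -2], [27, 28], [24, 26, 29, 35, 36, 37, 38, 39, 40, 44]),
  ([0, -3, 0, -2], [29, 44], [24, 26, 27, 28, 35, 36, 37, 38, 39, 40]),
  ([-3, -2, 2, 1], [38], [24, 26, 27, 28, 29, 35, 36, 37, 39, 40, 44]),
  ([-3, 0, -2, 0], [39], [24, 26, 27, 28, 29, 35, 36, 37, 38, 40, 44]),
  ([-2, -2, -1, -2], [37], [24, 26, 27, 28, 29, 35, 36, 38, 39, 40, 44])]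

theorem cF4_1 : ∀ c ∈ cF4, (∀ r ∈ c.2.1, tA c.1 r = 0 ∧ tB c.1 r = 0) ∧ ∀ s ∈ c.2.2, nc c.1 s := by decide +kernel

set_option synthInstance.maxSize 2000 in
theorem cF4_2 : ∀ r < 48, 24 ≤ r → lw r ∨ (∃ m ∈ [[1, 0, 0, 0], [0, 1, 0, 0]], nc m r) ∧ ∀ s < 48, 24 ≤ s → s = r ∨ lw s ∨
    (∃ c ∈ cF4, r ∈ c.2.1 ∧ s ∈ c.2.2 ∨ s ∈ c.2.1 ∧ r ∈ c.2.2) ∨
    ∃ c ∈ [(27, 28), (26, 36), (35, 40), (29, 44)], (r, s) = c ∨ (s, r) = c := by decide +kernel

theorem cF4_3 : ∀ r < 48, 314 ≤ phT ftF4 wF4 r → 24 ≤ r ∧ (lw r ∨ r = 29 ∨ r = 44 ∨ nc [0, 1, 0, 0] r) := by decide +kernel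

theorem cF4_4 : ∀ r < 48, phT ftF4 wF4 44 + 1 ≤ phT ftF4 wF4 r → 24 ≤ r ∧ lw r := by decide +kernel

theorem cF4_5 : ∀ r < 48, 24 ≤ r → ∀ s ∈ [44, 47],
    cEq ftF4 (ctxP 2) [(r, [(1, 2)]), (s, [(1, 3)])] [(s, [(1, 3)]), (r, [(1, 2)])] = true := by decide +kernel

/-- the twisting map on units -/
def tU (φ : K ≃+* K) : Kˣ →* Kˣ := (powMonoidHom 2).comp (Units.map φ.toMonoidHom)

namespace IsF4
variable {q : ℕ} {φ : K ≃+* K} {T : (gF4.adjG K).Tw} (h : IsF4 q φ T) [Fintype K]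
include h

theorem tor (m : List ℤ) (v : Kˣ) : ∃ c, (gF4.isStG K).hh (gF4.multG K) c ∈ T.M ∧ ∀ r : Fin chevF4.nroots,
    ∏ i, c i ^ gF4.cd.A (gF4.cd.sim i) r = v ^ tA m r * tU φ v ^ tB m r := by
  refine ⟨fun i => v ^ [m.getD 0 0, m.getD 1 0, 2 * m.getD 3 0, 2 * m.getD 2 0].getD i 0 *
    tU φ v ^ [m.getD 2 0, m.getD 3 0, m.getD 1 0, m.getD 0 0].getD i 0 * 1 ^ (0 : ℤ), h.hh_mem fun i => ?_,
    fun r => by rw [chi_tor, gF4.wT_eq, gF4.wT_eq]; simp; rfl⟩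
  rw [h.π, fe_apply _ (eF4_ne _)]
  have k : ∀ (x : K) (a : ℤ), (x ^ a) ^ 2 = (x ^ 2) ^ a := fun x a => by rw [sq, sq, mul_zpow]
  change Fin 4 at i
  fin_cases i <;> simp [h.q2, tU, eF4, fF4, pm, mul_comm, zpow_mul, mul_pow, k, zpow_ofNat]

theorem nice {m : List ℤ} {r : ℕ} (hr : nc m r) : Function.Bijective fun v : Kˣ => v ^ tA m r * tU φ v ^ tB m r := by
  haveI := h.ch
  obtain ⟨k, -, hk⟩ := List.mem_map.1 hr
  generalize tA m r = a, tB m r = b at hk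
  refine Finite.injective_iff_bijective.1 ((injective_iff_map_eq_one ((zpowGroupHom a : Kˣ →* Kˣ) *
    (zpowGroupHom b).comp (tU φ))).2 fun v (e : v ^ a * tU φ v ^ b = 1) => ?_)
  have e1 := congrArg (tU φ) e
  rw [map_mul, map_zpow, map_zpow, map_one, show tU φ (tU φ v) = v ^ (2 : ℤ) from Units.ext (by
    simp [tU, h.q2, zpow_ofNat])] at e1
  have e2 : v ^ (a * a - 2 * (b * b)) = (v ^ a * tU φ v ^ b) ^ a * ((tU φ v ^ a * (v ^ (2 : ℤ)) ^ b) ^ b)⁻¹ := by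
    simp only [mul_zpow, ← zpow_mul, mul_comm b a, zpow_sub, mul_assoc, mul_inv, mul_inv_cancel_left]
  rw [e, e1, one_zpow, one_zpow, inv_one, mul_one, ← pow_natAbs_eq_one, ← hk] at e2
  exact Units.ext ((iterateFrobenius K 2 k).injective (by simpa [iterateFrobenius_def] using congrArg Units.val e2))

variable (hK : 4 < Nat.card K) {E : Type u} [Group E] {ρ : E →* chevF4.group K} (C : Cov T ρ 2)
include hK

omit h in
theorem ex1 : ∃ v : Kˣ, v ≠ 1 := by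
  obtain ⟨v, h0, h1⟩ := exists_ne_zero_one K (by rw [← Nat.card_eq_fintype_card]; omega)
  exact ⟨Units.mk0 v h0, fun e => h1 (congrArg Units.val e)⟩

include C

theorem top : ∀ x ∈ (gF4.adjG K).LV ρ (phi chevF4 wF4) 314, ∀ y ∈ ((gF4.adjG K).XS (sL _ [44, 47])).comap ρ, Commute x y := by
  haveI := h.ch
  have G := grd (g := gF4) grdF4 C.st h.σ
  set Y := gF4.adjG K
  set B := (Y.XS (sL _ [44, 47])).comap ρ
  let a : Fin chevF4.nroots := ⟨44, by decide⟩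
  have ha : gF4.cd.Pos a := gF4.pos_iff.2 (by decide)
  have lo : ∀ {r : Fin chevF4.nroots}, gF4.cd.Pos r → lw r → Y.LV ρ (phi chevF4 wF4) (phi chevF4 wF4 (gF4.cd.rt r)) ≤
      Y.LV ρ (phi chevF4 wF4) (phi chevF4 wF4 (gF4.cd.rt r) + 1) := fun hr h1 x hx => (G.lev hr C.st).ker x hx
    ((G.fix_co hr C.st (C.fix x) hx).1 (by rwa [gF4.phT_eq, gF4.phT_eq, rho_eq (g := gF4) grdF4 C.st h.σ]))
  have hB : B ≤ Y.LV ρ (phi chevF4 wF4) (phi chevF4 wF4 (gF4.cd.rt a)) := comap_mono (Y.XS_mono fun r hr => by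
    simp only [Set.mem_setOf_eq, gF4.phT_eq, mem_sL] at hr ⊢; revert r; decide +kernel)
  have lB : Lev B ρ.ker (Y.co ρ (phi chevF4 wF4) a) := ⟨fun x hx y hy => (G.lev ha C.st).add x (hB hx) y (hB hy),
    fun x hx e => LV_ind (P := (· ≤ ρ.ker)) le_rfl (fun r hr ih => by
      rw [gF4.phT_eq, gF4.phT_eq] at hr
      exact (lo (gF4.pos_iff.2 (cF4_4 r r.2 hr).1) (cF4_4 r r.2 hr).2).trans ih) ((G.lev ha C.st).ker x (hB hx) e)⟩
  have sB : ∀ {b c}, b ∈ Y.TA ρ → Scl (Y.LV ρ (phi chevF4 wF4) (phi chevF4 wF4 (gF4.cd.rt a))) (Y.co ρ (phi chevF4 wF4) a) b c →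
      Scl B (Y.co ρ (phi chevF4 wF4) a) b c := by
    rintro _ c ⟨b, hb, rfl⟩ H x hx
    exact ⟨by simpa [B] using C.st.H_conj_mem_XS hb hx, (H x (hB hx)).2⟩
  have cU : ∀ x ∈ Y.U, ∀ y ∈ Y.XS (sL _ [44, 47]), Commute x y := fun x hx y hy => by
    refine Y.XS_induction (p := (Commute · y)) (Commute.one_left _) (fun r hr t _ _ => Commute.mul_left ?_) hx
    refine Y.XS_induction (Commute.one_right _) (fun s hs u _ _ => Commute.mul_right ?_) hy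
    obtain ⟨f, rfl, rfl⟩ := exists_val2 t u
    simpa [commute_iff_eq] using cEq_sound Y (ctxP_sound (CharP.cast_eq_zero K 2) f) (cF4_5 r r.2 (gF4.pos_iff.1 hr) s hs)
  refine LV_ind (P := fun A => ∀ x ∈ A, ∀ y ∈ B, Commute x y) (fun x hx y _ => (mem_center_iff.1 (C.c hx) y).symm)
    fun r hr ih => ?_
  rw [gF4.phT_eq] at hr
  obtain ⟨h0, h1⟩ := cF4_3 r r.2 hr
  replace h0 := gF4.pos_iff.2 h0
  have hU : ∀ x ∈ Y.LV ρ (phi chevF4 wF4) (phi chevF4 wF4 (gF4.cd.rt r)), ρ x ∈ Y.U := fun x hx =>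
    Y.XS_mono (fun s hs => (G.pos s).2 (((G.pos r).1 h0).trans_le hs)) hx
  obtain ⟨M, _, β, hβ, hc⟩ := frm_comm (S := Y.TA ρ) (fun x hx y hy => C.c (by
    rw [MonoidHom.mem_ker, map_commutatorElement]; exact commutatorElement_eq_one_iff_commute.2 (cU _ (hU x hx) _ hy))) ih
    (fun x _ y hy => mem_center_iff.1 (C.c hy) x) fun a ha => ha.imp fun _ e => e.2.symm
  rcases h1 with h1 | h1 | h1 | h1
  · exact fun x hx => ih x (lo h0 h1 hx)
  · intro x hx y hy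
    generalize hs : Y.co ρ (phi chevF4 wF4) r x = s
    obtain ⟨f, hf⟩ := exists_mon (φ s) s 1 1 1 1
    obtain ⟨g1, k1⟩ := C.rg.ge (h.mem0p s)
    obtain ⟨g2, k2⟩ := C.rg.ge (h.mem1p 0 1)
    have k3 := G.co_eq h0 C.st (g := ⁅g1, g2⁆) (t := s) (ρ := ρ) (by
      have := evX_mem_phi Y (ctxP_sound (CharP.cast_eq_zero K 2) f) (wt := wF4) (m := phT ftF4 wF4 29 + 1)
        (w := [(29, [(-1, mon 0 1 0 0 0 0)]), (33, [(1, mon 1 0 0 0 0 0)]), (24, [(1, mon 0 1 0 0 0 0)]), (28, [(1, 1)]),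
          (30, [(1, 1)]), (24, [(-1, mon 0 1 0 0 0 0)]), (33, [(-1, mon 1 0 0 0 0 0)]), (30, [(-1, 1)]), (28, [(-1, 1)])])
        (by decide +kernel)
      rw [gF4.phT_eq, ← xn_val, h1]
      simpa [hf, commutatorElement_def, k1, k2, xn_inv, mul_assoc, Y, show gF4.T = ftF4 from rfl] using this)
    have k4 := ih _ ((G.lev h0 C.st).ker _ (mul_mem hx (inv_mem k3.1)) (by
      rw [(G.lev h0 C.st).add _ hx _ (inv_mem k3.1), (G.lev h0 C.st).inv k3.1, k3.2, hs, add_neg_cancel])) y hy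
    exact inv_mul_cancel_right x ⁅g1, g2⁆ ▸ k4.mul_left (commute_comm C.c (cU _ (k1 ▸ wd_mem_U (by simp; decide)) _ hy).symm
      (cU _ (k2 ▸ wd_mem_U (by simp; decide)) _ hy).symm).symm
  · obtain rfl : r = a := Fin.ext h1
    refine fun x hx y hy => hc x hx y hy (hβ.deg (G.lev ha C.st) lB (RingHom.id K) (.inl rfl) (fun v hv => ?_) hK x hx y hy)
    obtain ⟨m, -, h2⟩ := ((cF4_2 44 (by simp) (by simp)).resolve_left (by decide +kernel)).1
    obtain ⟨y, h3⟩ := (h.nice h2).2 (Units.mk0 v hv)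
    obtain ⟨d, h4, h5⟩ := h.tor m y
    obtain ⟨b, h6, h7⟩ := C.exists_scl _ G h4
    have := h7 a ha
    rw [h5, show y ^ tA m a * tU φ y ^ tB m a = _ from h3] at this
    exact ⟨b, h6, by simpa using this, sB h6 (by simpa using this)⟩
  · obtain ⟨v, hv⟩ := ex1 hK
    obtain ⟨d, h4, h5⟩ := h.tor [0, 1, 0, 0] v
    obtain ⟨b, h6, h7⟩ := C.exists_scl _ G h4
    refine fun x hx y hy => hc x hx y hy (hβ.flip.kill lB (G.lev h0 C.st) h6 (sB h6 ?_) (h7 r h0)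
      (fun e => hv ((h.nice h1).1 ?_)) y hy x hx)
    · simpa [h5, show tA [0, 1, 0, 0] a = 0 ∧ tB [0, 1, 0, 0] a = 0 by decide +kernel] using h7 a ha
    · simpa [h5, Units.ext_iff] using e

theorem van_exc (k : ZMod 8) {r s r0 r1 : ℕ} (h01 : (r0, r1) = (27, 25) ∨ (r0, r1) = (25, 27))
    (H : let a := actL ftF4 ((List.replicate k.val (wl 0 ++ wl 1)).flatten.map Fin.val)
      a r0 = r ∧ a 28 = s ∧ 24 ≤ r ∧ 24 ≤ s ∧ (∀ b ∈ [r1, 28, 30], phT ftF4 wF4 r < phT ftF4 wF4 (a b)) ∧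
        phT ftF4 wF4 s < phT ftF4 wF4 (a 30)) (r' s' : Fin chevF4.nroots) (hr : r'.1 = r) (hs : s'.1 = s) :
    (gF4.adjG K).Van ρ (phi chevF4 wF4) r' s' := by
  obtain ⟨e, he⟩ := h.dih
  have ex : ∀ k : ZMod 8, ∃ n, ∃ w : Equiv.Perm _, (gF4.adjG K).Act (ρ n) w ∧ ∀ b : Fin chevF4.nroots,
      (w b : ℕ) = actL ftF4 ((List.replicate k.val (wl 0 ++ wl 1)).flatten.map Fin.val) b := fun k => by
    obtain ⟨_, hn, ha⟩ := Tw.exists_n C.st C.ne (e (.r k)).2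
    obtain ⟨n, rfl⟩ := C.rg.ge (ir hn)
    exact ⟨n, _, ha, fun b => by rw [(he k).1]; exact (gF4.actL_eq _ _).symm⟩
  obtain ⟨n, w, ha, hw⟩ := ex k
  obtain ⟨n', w', ha', hw'⟩ := ex 6
  obtain ⟨k1, k2, k3, k4, k5, k6⟩ := H
  have l0 : r0 < chevF4.nroots := by rcases h01 with h | h <;> cases h <;> decide
  obtain rfl : w ⟨r0, l0⟩ = r' := Fin.ext ((hw _).trans (k1.trans hr.symm))
  obtain rfl : w ⟨28, by decide⟩ = s' := Fin.ext ((hw _).trans (k2.trans hs.symm))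
  have xm : ∀ (L : List ℕ) (b : ℕ), b ∈ L → ∀ t, xn (gF4.adjG K) b t ∈ (gF4.adjG K).XS (sL _ L) := fun L b hb t => by
    simpa using wd_mem_XS (gF4.adjG K) (w := [(b, t)]) (S := sL _ L) (by simp +contextual [mem_sL, hb])
  refine C.van_rep (grd (g := gF4) grdF4 C.st h.σ) ha (gF4.pos_iff.2 (hr ▸ k3)) (gF4.pos_iff.2 (hs ▸ k4))
    (A := sL _ [r1, 28, 30]) (B := sL _ [30]) (fun a h => by rw [gF4.phT_eq, gF4.phT_eq, hr, hw]; exact k5 _ h)
    (fun a h => by rw [gF4.phT_eq, gF4.phT_eq, hs, hw, List.mem_singleton.1 h]; exact k6) (fun v => ?_)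
    (fun v => ⟨1, one_mem _, _, xm _ 30 (by simp) (φ v ^ 2), by simpa [← xn_val] using h.mem1p 0 v⟩) fun x y hx hy => ?_
  · rw [← xn_val]
    rcases h01 with h' | h' <;> cases h'
    · exact ⟨1, one_mem _, _, mul_mem (xm _ 25 (by simp) (φ.symm v)) (xm _ 28 (by simp) (v * φ.symm v)),
        by simpa using h.mem1p (φ.symm v) 0⟩
    · exact ⟨_, xm _ 27 (by simp) (φ v), _, xm _ 28 (by simp) (φ v * v), by simpa [mul_assoc] using h.mem1p v 0⟩
  · refine Commute.of_map (MulAut.conj n').injective (h.top hK C _ ?_ _ ?_)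
    · simpa [LV] using ha'.conj_mem (S' := {s | 314 ≤ phi chevF4 wF4 (gF4.cd.rt s)}) (fun b hb => by
        rw [Set.mem_setOf_eq, gF4.phT_eq, hw']
        replace hb : b.1 ∈ [r0, r1, 28, 30] := List.mem_cons.2 (hb.imp_left (congrArg Fin.val))
        rcases h01 with h | h <;> cases h <;> revert b <;> decide +kernel) hx
    · simpa using ha'.conj_mem (S' := sL _ [44, 47]) (fun b hb => by
        rw [mem_sL, hw']
        replace hb : b.1 ∈ [28, 30] := List.mem_cons.2 (hb.imp_left (congrArg Fin.val))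
        revert b; decide +kernel) hy

theorem van (r s : Fin chevF4.nroots) (hr : gF4.cd.Pos r) (hs : gF4.cd.Pos s) :
    (gF4.adjG K).Van ρ (phi chevF4 wF4) r s := by
  have G := grd (g := gF4) grdF4 C.st h.σ
  have kl : ∀ c ∈ cF4, ∀ {r s : Fin chevF4.nroots}, gF4.cd.Pos r → gF4.cd.Pos s → r.1 ∈ c.2.1 → s.1 ∈ c.2.2 →
      (gF4.adjG K).Van ρ (phi chevF4 wF4) r s := fun c hc r s hr hs h1 h2 => by
    obtain ⟨v, hv⟩ := ex1 hK
    obtain ⟨d, h3, h4⟩ := h.tor c.1 v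
    exact C.van_kill _ G hr hs h3 (by simp [h4, (cF4_1 c hc).1 r h1]) fun e =>
      hv ((h.nice ((cF4_1 c hc).2 s h2)).1 (by simpa [h4] using e))
  have ec : ∀ c ∈ [(27, 28), (26, 36), (35, 40), (29, 44)], ∀ r s : Fin chevF4.nroots, (r.1, s.1) = c →
      (gF4.adjG K).Van ρ (phi chevF4 wF4) r s := fun c hc r s e => by
    simp only [List.mem_cons, List.not_mem_nil, or_false] at hc
    rcases hc with rfl | rfl | rfl | rfl <;> obtain ⟨e1, e2⟩ := Prod.mk.inj e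
    exacts [h.van_exc hK C 0 (.inl rfl) (by decide +kernel) r s e1 e2, h.van_exc hK C 5 (.inr rfl) (by decide +kernel) r s e1 e2,
      h.van_exc hK C 7 (.inl rfl) (by decide +kernel) r s e1 e2, h.van_exc hK C 6 (.inl rfl) (by decide +kernel) r s e1 e2]
  rcases cF4_2 r r.2 (gF4.pos_iff.1 hr) with h1 | ⟨⟨m, -, h1⟩, h2⟩
  · exact van_low (g := gF4) grdF4 h.σ C hr h1
  rcases h2 s s.2 (gF4.pos_iff.1 hs) with h3 | h3 | ⟨c, hc, h3 | h3⟩ | ⟨c, hc, h3 | h3⟩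
  · obtain rfl := Fin.ext h3
    refine C.van_deg (gF4.multG K) G hr hr (RingHom.id K) (.inl rfl) (fun v hv => ?_) hK
    obtain ⟨y, h4⟩ := (h.nice h1).2 (Units.mk0 v hv)
    obtain ⟨d, h6, h7⟩ := h.tor m y
    have := (h7 s).trans h4
    exact ⟨d, h6, by simp [this], by simp [this]⟩
  · exact (van_low (g := gF4) grdF4 h.σ C hs h3).symm
  exacts [kl c hc hr hs h3.1 h3.2, (kl c hc hs hr h3.1 h3.2).symm, ec c hc r s h3, (ec c hc s r h3).symm]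

end IsF4

theorem f4_schur [Fintype K] {m : ℕ} (hm : 1 ≤ m) (hK : Fintype.card K = 2 ^ (2 * m + 1)) :
    Cfsg.HasCyclicSchurMultiplier (twistedF4 K (2 ^ m)) 1 := by
  obtain ⟨φ, T, h⟩ := exists_isF4 hK
  haveI := h.ch
  haveI := gF4.adjG_G K ▸ (gF4.isStG K).finite_G (gF4.multG K)
  haveI : Finite (chevF4.group K) := Finite.of_equiv _ topEquiv.toEquiv
  haveI := Finite.of_injective _ h.set.ι_inj
  refine CfsgH1.hasSM_one_iff.2 (CfsgH1.subsingleton_SM_iff.2 fun E _ _ τ hτ => ?_)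
  obtain ⟨C, hi, e⟩ := h.set.cov 2 hτ
  have tf := C.tf (gF4.multG K) (grd (g := gF4) grdF4 C.st h.σ) hi (h.van (by
    rw [Nat.card_eq_fintype_card, hK]; exact Nat.pow_lt_pow_right (a := 2) (m := 2) (by simp) (by omega)) C)
  have k := C.card_le tf ![f4i 0, f4i 1] fun i => by
    have := h.orb
    simp only [show h.set.T = T from rfl, this]
    revert i; decide
  have b0 := card2 C tf φ (RingHom.id K) (f4i 0) (f4i 3) (by decide) (fun y => h.orb _ ▸ h.p0 y) fun y => h.orb _ ▸ h.m0 y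
  have b1 := h.card_HH1 hm hK C tf
  have k2 := h.card_H
  rw [h.set.card_H] at k2
  rw [e, Fin.prod_univ_two, k2] at k
  rw [Nat.card_eq_fintype_card (α := K)] at b0 b1
  refine card_eq_one.1 (le_antisymm (Nat.le_of_mul_le_mul_right (k.trans ?_) (k2 ▸ Nat.card_pos)) Nat.card_pos)
  rw [one_mul, sq]
  exact Nat.mul_le_mul b0 b1

end Chev
end CfsgH6
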