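import Cfsg.Agent.H6.Mul8

/-! Invariant forms on a central filtration modulo a normal subgroup. -/

set_option autoImplicit false

namespace CfsgH6
open Subgroup Cfsg.Lie
open scoped commutatorElement
universe u

section frm
variable {E : Type u} [Group E]

theorem mem_of_filt (L : ℕ → Subgroup E) (anti : ∀ k, L (k + 1) ≤ L k)
    (hc : ∀ k, ∀ x ∈ L k, ∀ y ∈ L 0, ⁅x, y⁆ ∈ L (k + 1)) {c : ℕ} (hL : L c ≤ center E) (A : Subgroup (MulAut E)) [Finite A]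
    {p : ℕ} (hp : p.Coprime (Nat.card A)) (hA : ∀ a ∈ A, ∀ k, ∀ x ∈ L k, a x ∈ L k) {N : Subgroup E} (hN0 : N ≤ L 0)
    (hN : ∀ x ∈ L 0, ∀ w ∈ N, ⁅w, x⁆ ∈ N) (hAN : ∀ a ∈ A, ∀ w ∈ N, a w ∈ N)
    (H : ∀ k l, ∀ (M : Type u) [CommGroup M] (β : E → E → M), Frm (L k) (L l) (L (k + 1)) (L (l + 1)) A β →
      (∀ x ∈ L k, ∀ y ∈ L l, ⁅x, y⁆ ∈ N → β x y = 1) → ∀ x ∈ L k, ∀ y ∈ L l, β x y = 1) {z : E} (h1 : z ∈ ⁅L 0, L 0⁆)
    (h2 : ∀ a ∈ A, a z = z) (h3 : z ^ p = 1) : z ∈ N := by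
  classical
  haveI := Fintype.ofFinite A
  have a0 : ∀ k, L k ≤ L 0 := fun k => antitone_nat_of_succ_le anti (Nat.zero_le k)
  have hK : ∀ k, ⁅L k, L 0⁆ ≤ L (k + 1) := fun k => commutator_le.2 (hc k)
  have hA2 : ∀ a : MulAut E, (∀ k, ∀ x ∈ L k, a x ∈ L k) → (∀ w ∈ N, a w ∈ N) → ∀ k, ∀ w ∈ ⁅L k, L 0⁆ ⊔ N,
      a w ∈ ⁅L k, L 0⁆ ⊔ N := fun a h1 h2 k w hw => by
    have h0 : ∀ k, (L k).map a.toMonoidHom ≤ L k := fun k => by rintro _ ⟨x, hx, rfl⟩; exact h1 _ x hx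
    have := mem_map_of_mem a.toMonoidHom hw
    rw [Subgroup.map_sup, map_commutator] at this
    exact sup_le_sup (commutator_mono (h0 _) (h0 _)) (by rintro _ ⟨x, hx, rfl⟩; exact h2 x hx) this
  have nrm : ∀ x ∈ L 0, ∀ k, ∀ w ∈ ⁅L k, L 0⁆ ⊔ N, x * w * x⁻¹ ∈ ⁅L k, L 0⁆ ⊔ N := fun x hx => hA2 (MulAut.conj x)
    (fun k y hy => by simpa [commutatorElement_def, mul_assoc] using mul_mem (inv_mem (anti k (hc k y hy x hx))) hy)
    fun y hy => by simpa [commutatorElement_def, mul_assoc] using mul_mem (inv_mem (hN x hx y hy)) hy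
  have key : ∀ k, z ∈ ⁅L k, L 0⁆ ⊔ N := fun k => by
    induction k with
    | zero => exact mem_sup_left h1
    | succ k ih =>
      set K := ⁅L k, L 0⁆ ⊔ N
      set K' := ⁅L (k + 1), L 0⁆ ⊔ N
      have K0 : K ≤ L 0 := sup_le ((hK k).trans (a0 _)) hN0
      have hKK : ∀ x ∈ L 0, ∀ w ∈ K, ⁅w, x⁆ ∈ K' := fun x hx w hw => by
        let P : Subgroup E := ⟨⟨⟨{w | w ∈ L 0 ∧ ⁅w, x⁆ ∈ K'}, fun {a b} ha hb => ⟨mul_mem ha.1 hb.1, by
          simpa [commutatorElement_def, mul_assoc] using mul_mem (nrm a ha.1 _ _ hb.2) ha.2⟩⟩, one_mem _, by simp⟩,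
          fun {a} ha => ⟨inv_mem ha.1, by
            simpa [commutatorElement_def, mul_assoc] using nrm _ (inv_mem ha.1) _ _ (inv_mem ha.2)⟩⟩
        exact ((sup_le (fun w hw => ⟨K0 (mem_sup_left hw), mem_sup_left (commutator_mem_commutator (hK k hw) hx)⟩)
          fun w hw => ⟨hN0 hw, mem_sup_right (hN x hx w hw)⟩ : K ≤ P) hw).2
      have hle : K' ≤ K := sup_le_sup_right (commutator_mono (anti k) le_rfl) _
      haveI : (K'.subgroupOf K).Normal := ⟨fun a ha g => nrm _ (K0 g.2) _ _ ha⟩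
      letI : CommGroup (K ⧸ K'.subgroupOf K) := { (inferInstance : Group _) with
        mul_comm := fun a b => QuotientGroup.induction_on a fun a => QuotientGroup.induction_on b fun b => by
          rw [← commutatorElement_eq_one_iff_mul_comm]
          exact (QuotientGroup.eq_one_iff (⁅a, b⁆ : K)).2 (hKK _ (K0 b.2) _ a.2) }
      have hAK : ∀ a : A, ∀ w ∈ K, a.1 w ∈ K := fun a => hA2 _ (hA _ a.2) (hAN _ a.2) k
      have hAK' : ∀ a : A, ∀ w ∈ K', a.1 w ∈ K' := fun a => hA2 _ (hA _ a.2) (hAN _ a.2) (k + 1)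
      let ν : K →* K ⧸ K'.subgroupOf K := ∏ a : A, (QuotientGroup.mk' _).comp
        ((a.1.toMonoidHom.comp K.subtype).codRestrict K fun w => hAK a w w.2)
      have hν : ∀ w : K, ν w = ∏ a : A, ((⟨a.1 w, hAK a w w.2⟩ : K) : K ⧸ K'.subgroupOf K) := fun w => by
        simp only [ν, MonoidHom.finsetProd_apply]; rfl
      have n1 : ∀ w : K, w.1 ∈ K' → ν w = 1 := fun w hw => by
        rw [hν]; exact Finset.prod_eq_one fun a _ => (QuotientGroup.eq_one_iff _).2 (hAK' a w hw)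
      let β : E → E → K ⧸ K'.subgroupOf K := fun x y => if h : ⁅x, y⁆ ∈ K then ν ⟨_, h⟩ else 1
      have hβ : ∀ x ∈ L k, ∀ y ∈ L 0, ∀ h, β x y = ν ⟨⁅x, y⁆, h⟩ := fun x _ y _ h => dif_pos h
      have cm : ∀ {x y}, x ∈ L k → y ∈ L 0 → ⁅x, y⁆ ∈ K := fun h h' => mem_sup_left (commutator_mem_commutator h h')
      have ml : ∀ x ∈ L k, ∀ x' ∈ L k, ∀ y ∈ L 0, β (x * x') y = β x y * β x' y := fun x hx x' hx' y hy => by
        rw [hβ _ (mul_mem hx hx') _ hy (cm (mul_mem hx hx') hy), hβ _ hx _ hy (cm hx hy), hβ _ hx' _ hy (cm hx' hy),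
          mul_comm, ← map_mul, ← one_mul (ν (_ * _)), ← n1 ⟨_, hle (inv_mem (hKK x (a0 _ hx) _ (cm hx' hy)))⟩
            (inv_mem (hKK x (a0 _ hx) _ (cm hx' hy))), ← map_mul]
        congr 1; ext; simp only [commutatorElement_def, coe_mul]; group
      have mr : ∀ x ∈ L k, ∀ y ∈ L 0, ∀ y' ∈ L 0, β x (y * y') = β x y * β x y' := fun x hx y hy y' hy' => by
        rw [hβ _ hx _ (mul_mem hy hy') (cm hx (mul_mem hy hy')), hβ _ hx _ hy (cm hx hy), hβ _ hx _ hy' (cm hx hy'),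
          ← one_mul (ν ⟨⁅x, y'⁆, _⟩), ← n1 ⟨_, hle (inv_mem (hKK y hy _ (cm hx hy')))⟩ (inv_mem (hKK y hy _ (cm hx hy'))),
          ← map_mul, ← map_mul]
        congr 1; ext; simp only [commutatorElement_def, coe_mul]; group
      have ex : ∀ x ∈ L k, ∀ y ∈ L 0, ⁅x, y⁆ ∈ N → β x y = 1 := fun x hx y hy e => by
        rw [hβ _ hx _ hy (cm hx hy)]
        exact n1 _ (mem_sup_right e)
      have ex' : ∀ x ∈ L k, ∀ y ∈ L 0, Commute x y → β x y = 1 := fun x hx y hy e =>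
        ex x hx y hy (commutatorElement_eq_one_iff_commute.2 e ▸ one_mem _)
      have step : ∀ l, (∀ x ∈ L k, ∀ y ∈ L (l + 1), β x y = 1) → ∀ x ∈ L k, ∀ y ∈ L l, β x y = 1 := fun l ih =>
        H k l _ β ⟨fun x hx x' hx' y hy => ml x hx x' hx' y (a0 _ hy),
          fun x hx y hy y' hy' => mr x hx y (a0 _ hy) y' (a0 _ hy'),
          fun x hx y hy => by
            rw [hβ _ (anti k hx) _ (a0 _ hy) (cm (anti k hx) (a0 _ hy))]
            exact n1 _ (mem_sup_left (commutator_mem_commutator hx (a0 _ hy))), ih,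
          fun a ha x hx y hy => by
            rw [hβ _ hx _ (a0 _ hy) (cm hx (a0 _ hy)), hβ _ (hA a ha _ _ hx) _ (a0 _ (hA a ha _ _ hy))
              (cm (hA a ha _ _ hx) (a0 _ (hA a ha _ _ hy))), hν, hν]
            exact Fintype.prod_equiv (Equiv.mulRight ⟨a, ha⟩) _ _ fun b => by simp [← map_commutatorElement],
          fun x hx y hy => ex' x hx y (a0 _ hy)⟩ fun x hx y hy => ex x hx y (a0 _ hy)
      have all : ∀ x ∈ L k, ∀ y ∈ L 0, β x y = 1 := Nat.decreasingInduction (motive := fun l _ =>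
        ∀ x ∈ L k, ∀ y ∈ L l, β x y = 1) (fun l _ => step l)
        (fun x hx y hy => ex' x hx y (a0 _ hy) (mem_center_iff.1 (hL hy) x)) (Nat.zero_le c)
      have n2 : K ≤ ν.ker.map K.subtype := sup_le (commutator_le.2 fun x hx y hy =>
        ⟨⟨_, cm hx hy⟩, (hβ x hx y hy _).symm.trans (all x hx y hy), rfl⟩) fun w hw =>
        ⟨⟨_, mem_sup_right hw⟩, n1 _ (mem_sup_right hw), rfl⟩
      obtain ⟨⟨w, hw⟩, e, rfl : w = z⟩ := n2 ih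
      have e' : ν ⟨w, hw⟩ = ∏ _a : A, ((⟨w, hw⟩ : K) : K ⧸ K'.subgroupOf K) :=
        (hν _).trans (Finset.prod_congr rfl fun a _ => congrArg _ (Subtype.ext (h2 a a.2)))
      rw [SetLike.mem_coe, MonoidHom.mem_ker, e', Finset.prod_const, ← QuotientGroup.mk_pow, QuotientGroup.eq_one_iff, Finset.card_univ,
        ← Nat.card_eq_fintype_card] at e
      exact zpowers_le.2 (show w ^ Nat.card A ∈ K' from e) (mem_zpowers_pow_iff.2
        (Nat.Coprime.coprime_dvd_left (orderOf_dvd_of_pow_eq_one h3) hp).symm)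
  have := key c
  rwa [commutator_eq_bot_iff_le_centralizer.2 (hL.trans (center_le_centralizer _)), bot_sup_eq] at this

theorem frm_mod {A B A' B' Z N : Subgroup E} {S : Set (MulAut E)} (hc : ∀ x ∈ A, ∀ y ∈ B, ⁅x, y⁆ ∈ Z)
    (hZ : ∀ x, x ∈ A ∨ x ∈ B ∨ x ∈ Z → ∀ z ∈ Z, x * z * x⁻¹ = z) (le1 : A' ≤ A) (le2 : B' ≤ B)
    (h1 : ∀ x ∈ A', ∀ y ∈ B, ⁅x, y⁆ ∈ N) (h2 : ∀ x ∈ A, ∀ y ∈ B', ⁅x, y⁆ ∈ N) (hS : ∀ a ∈ S, ∀ z ∈ Z, a z = z) :
    ∃ (M : Type u) (_ : CommGroup M) (β : E → E → M), Frm A B A' B' S β ∧ ∀ x ∈ A, ∀ y ∈ B, β x y = 1 → ⁅x, y⁆ ∈ N := by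
  classical
  letI : CommGroup Z := { (inferInstance : Group Z) with
    mul_comm := fun a b => Subtype.ext (mul_inv_eq_iff_eq_mul.1 (hZ a (.inr (.inr a.2)) b b.2)) }
  let f : E → Z ⧸ N.subgroupOf Z := fun z => if h : z ∈ Z then ((⟨z, h⟩ : Z) : Z ⧸ N.subgroupOf Z) else 1
  have hf : ∀ z h, f z = ((⟨z, h⟩ : Z) : Z ⧸ N.subgroupOf Z) := fun z h => dif_pos h
  have ex : ∀ x ∈ A, ∀ y ∈ B, f ⁅x, y⁆ = 1 ↔ ⁅x, y⁆ ∈ N := fun x hx y hy => by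
    rw [hf _ (hc x hx y hy)]; exact QuotientGroup.eq_one_iff _
  refine ⟨_, inferInstance, fun x y => f ⁅x, y⁆, ⟨fun x hx x' hx' y hy => ?_, fun x hx y hy y' hy' => ?_,
    fun x hx y hy => (ex _ (le1 hx) _ hy).2 (h1 x hx y hy), fun x hx y hy => (ex _ hx _ (le2 hy)).2 (h2 x hx y hy),
    fun a ha x hx y hy => ?_, fun x hx y hy e => (ex x hx y hy).2 (commutatorElement_eq_one_iff_commute.2 e ▸ one_mem _)⟩,
    fun x hx y hy => (ex x hx y hy).1⟩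
  · rw [hf _ (hc _ (mul_mem hx hx') y hy), hf _ (hc x hx y hy), hf _ (hc x' hx' y hy), mul_comm]
    refine congrArg _ (Subtype.ext (Eq.trans ?_ (congrArg (· * ⁅x, y⁆) (hZ x (.inl hx) _ (hc x' hx' y hy)))))
    simp only [commutatorElement_def]; group
  · rw [hf _ (hc _ hx _ (mul_mem hy hy')), hf _ (hc x hx y hy), hf _ (hc x hx y' hy')]
    refine congrArg _ (Subtype.ext (Eq.trans ?_ (congrArg (⁅x, y⁆ * ·) (hZ y (.inr (.inl hy)) _ (hc x hx y' hy')))))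
    simp only [commutatorElement_def]; group
  · rw [← map_commutatorElement, hS a ha _ (hc x hx y hy)]

theorem comm_hw {U Z : Subgroup E} (hZ : ∀ x ∈ U, ∀ z ∈ Z, x * z * x⁻¹ = z) {g b y : E} (hg : g ∈ U) (hb : b ∈ U) (hy : y ∈ U)
    (h1 : ⁅b, y⁆ ∈ Z) (h2 : ⁅b, ⁅y⁻¹, g⁻¹⁆⁆ ∈ Z) : ⁅⁅g, b⁆, y⁆ = ⁅b, ⁅y⁻¹, g⁻¹⁆⁆ := by
  have : ⁅⁅g, b⁆, y⁆ = g * b * g⁻¹ * (b⁻¹ * ⁅b, y⁆⁻¹ * b⁻¹⁻¹) * (g * b * g⁻¹)⁻¹ *
      (g * (⁅b, y⁆ * (y * ⁅b, ⁅y⁻¹, g⁻¹⁆⁆ * y⁻¹)) * g⁻¹) := by simp only [commutatorElement_def]; group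
  rw [this, hZ _ (inv_mem hb) _ (inv_mem h1), hZ _ (mul_mem (mul_mem hg hb) (inv_mem hg)) _ (inv_mem h1), hZ _ hy _ h2,
    hZ _ hg _ (mul_mem h1 h2), inv_mul_cancel_left]

theorem mem_zpowers_two {a x : E} (h : a ^ 2 = 1) (hx : x ∈ zpowers a) : x = 1 ∨ x = a := by
  obtain ⟨k, rfl⟩ := mem_zpowers_iff.1 hx
  rw [zpow_eq_zpow_emod' k h]
  rcases Int.emod_two_eq_zero_or_one k with e | e <;> simp [e]

end frm

namespace PreSt
variable {I R : Type} [Fintype I] [DecidableEq I] {Φ : CD I R} {F : Type*} [Field F] {Γ : Type*} [Group Γ]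
  {X : PreSt Φ F Γ} {E : Type u} [Group E] {ρ : E →* Γ} {φ : (I → ℤ) →+ ℤ}

/-- the square of a twist -/
def Tw.sq (T : X.Tw) : X.Tw where
  σ := T.σ.comp T.σ
  ρ := T.ρ * T.ρ
  π := T.π * T.π
  τ r := T.τ (T.ρ r) ∘ T.τ r
  σ_x r t := by simp [T.σ_x]
  τ_bij r := (T.τ_bij _).comp (T.τ_bij r)
  τ_zero r := by simp [T.τ_zero]
  τ_neg r t ht := by simp [T.τ_neg r t ht, T.ρ_neg, T.τ_neg _ _ (T.τ_ne r ht)]
  ρ_neg r := by simp [T.ρ_neg]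
  ρ_sim r := by simp [T.ρ_sim]
  ρ_w i r := by simp [T.ρ_w]

/-- invariant forms vanishing on pairs commuting modulo `N` vanish -/
def VanN (X : PreSt Φ F Γ) (ρ : E →* Γ) (φ : (I → ℤ) →+ ℤ) (N : Subgroup E) (r s : R) : Prop :=
  ∀ (M : Type u) [CommGroup M] (β : E → E → M), Frm (X.LV ρ φ (φ (Φ.rt r))) (X.LV ρ φ (φ (Φ.rt s)))
    (X.LV ρ φ (φ (Φ.rt r) + 1)) (X.LV ρ φ (φ (Φ.rt s) + 1)) (X.TA ρ) β →
    (∀ x ∈ X.LV ρ φ (φ (Φ.rt r)), ∀ y ∈ X.LV ρ φ (φ (Φ.rt s)), ⁅x, y⁆ ∈ N → β x y = 1) →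
    ∀ x ∈ X.LV ρ φ (φ (Φ.rt r)), ∀ y ∈ X.LV ρ φ (φ (Φ.rt s)), β x y = 1

theorem VanN.symm {N : Subgroup E} {r s : R} (h : X.VanN ρ φ N r s) : X.VanN ρ φ N s r := fun M _ _ hβ e x hx y hy =>
  h M _ hβ.flip (fun x hx y hy h => e y hy x hx (commutatorElement_inv x y ▸ inv_mem h)) y hy x hx

theorem LV_mono {k l : ℤ} (h : k ≤ l) : X.LV ρ φ l ≤ X.LV ρ φ k := comap_mono (X.XS_mono fun _ hr => h.trans hr)

theorem LV_comm {k l : ℤ} (hk : 0 < k) (hl : 0 < l) {x y : E} (hx : x ∈ X.LV ρ φ k) (hy : y ∈ X.LV ρ φ l) :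
    ⁅x, y⁆ ∈ X.LV ρ φ (k + l) := by
  simpa [commutatorElement_def, add_comm, LV] using X.comm_mem_phi φ hl hk hy hx

theorem Cov.tfN [Finite R] [Finite F] {T : X.Tw} {p : ℕ} (C : Cov T ρ p) (hM : X.Mult) (G : Grd T φ) [Finite E]
    [hp : Fact p.Prime] [CharP F p] (hi : ¬ p ∣ (X.U.comap ρ).index) {N : Subgroup E} (hN0 : N ≤ X.LV ρ φ 1)
    (hN : ∀ x ∈ X.LV ρ φ 1, ∀ w ∈ N, ⁅w, x⁆ ∈ N) (hAN : ∀ a ∈ X.TA ρ, ∀ w ∈ N, a w ∈ N)
    (H : ∀ r s, Φ.Pos r → Φ.Pos s → X.VanN ρ φ N r s) (z : E) (h1 : ρ z = 1) (h2 : z ^ p = 1) : z ∈ N := by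
  haveI := Fintype.ofFinite F
  have e0 : X.LV ρ φ ((0 : ℕ) + 1) = X.U.comap ρ := congrArg (fun S => (X.XS S).comap ρ) (Set.ext fun r => (G.pos r).symm)
  obtain ⟨c, hc⟩ := (Set.finite_range fun r => (φ (Φ.rt r)).toNat).bddAbove
  have emp : ∀ k : ℤ, (∀ r, φ (Φ.rt r) ≠ k) → X.LV ρ φ k = X.LV ρ φ (k + 1) := fun k h =>
    congrArg (fun S => (X.XS S).comap ρ) (Set.ext fun r => by have := h r; simp only [Set.mem_setOf_eq]; omega)
  refine mem_of_filt (fun k => X.LV ρ φ (k + 1)) (fun k => LV_mono (by omega))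
    (fun k x hx y hy => LV_mono (l := k + 1 + ((0 : ℕ) + 1)) (by omega) (LV_comm (by omega) (by omega) hx hy)) (c := c) (le_trans (fun x hx => ?_) C.c)
    (X.TA ρ) (p := p) ?_ ?_ (by simpa using hN0) (by simpa using hN) hAN (fun k l M _ β hβ hx => ?_) ?_ ?_ h2
  · rwa [LV, Set.eq_empty_of_forall_notMem (s := {s | (c : ℤ) + 1 ≤ φ (Φ.rt s)}) (fun r (hr : (c : ℤ) + 1 ≤ φ (Φ.rt r)) => by
      have : (φ (Φ.rt r)).toNat ≤ c := hc ⟨r, rfl⟩; omega), XS_empty] at hx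
  · refine hp.out.coprime_iff_not_dvd.2 fun h => ?_
    obtain ⟨⟨_, a, ha, rfl⟩, h3⟩ := exists_prime_orderOf_dvd_card' p h
    have h4 : MulAut.conj a ^ (Fintype.card F - 1) = 1 := by
      rw [← map_pow]
      exact MulEquiv.ext fun g => mul_inv_eq_iff_eq_mul.2 (mem_center_iff.1 (C.c
        ((map_pow ρ _ _).trans (C.st.H_pow hM ha))) g).symm
    replace h3 := (orderOf_coe _).trans h3
    exact hp.out.coprime_iff_not_dvd.1 (coprime_card (F := F) p) (h3 ▸ orderOf_dvd_of_pow_eq_one h4)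
  · rintro _ ⟨a, ha, rfl⟩ k x hx
    simpa [LV] using C.st.H_conj_mem_XS ha hx
  · push_cast at hβ
    by_cases hk : ∃ r, φ (Φ.rt r) = k + 1
    · by_cases hl : ∃ r, φ (Φ.rt r) = l + 1
      · obtain ⟨r, hr⟩ := hk
        obtain ⟨s, hs⟩ := hl
        simp only [← hr, ← hs] at hβ hx ⊢
        exact H r s ((G.pos r).2 (by omega)) ((G.pos s).2 (by omega)) M β hβ hx
      · exact fun x hx y hy => hβ.lr x hx y (emp _ (not_exists.1 hl) ▸ hy)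
    · exact fun x hx y hy => hβ.ll x (emp _ (not_exists.1 hk) ▸ hx) y hy
  · simp only [e0]
    exact zpowers_le.2 (pow_index_mem _ (C.c h1) (C.d h1)) (mem_zpowers_pow_iff.2 (Nat.Coprime.coprime_dvd_left
      (orderOf_dvd_of_pow_eq_one h2) (hp.out.coprime_iff_not_dvd.2 hi)).symm)
  · rintro _ ⟨a, -, rfl⟩
    exact mul_inv_eq_iff_eq_mul.2 (mem_center_iff.1 (C.c h1) a)

/-- the rank one system of three orthogonal simple roots -/
def IsSt.st3 (hX : X.IsSt) {i j k : I} (h1 : Φ.C i j = 0) (h2 : Φ.C i k = 0) (h3 : Φ.C j k = 0) {K : Type*} [Field K]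
    (f g h : K →+* F) : Rk.St1 K Γ :=
  (hX.st1 (Φ.sim i) f).mul (hX.st2 h3 g h) (A := X.XS {r | Φ.InJ {i} r}) (B := centralizer (X.XS {r | Φ.InJ {i} r}))
    (fun _ ha _ hb => hb _ ha)
    (fun _ => ⟨X.x_mem_XS (Φ.inJ_singleton.2 (.inl rfl)) _, X.x_mem_XS (Φ.inJ_singleton.2 (.inr rfl)) _⟩)
    fun _ => ⟨mul_mem (fun _ ha => comm_orth' h1 ha (X.x_mem_XS (Φ.inJ_singleton.2 (.inl rfl)) _))
      fun _ ha => comm_orth' h2 ha (X.x_mem_XS (Φ.inJ_singleton.2 (.inl rfl)) _),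
      mul_mem (fun _ ha => comm_orth' h1 ha (X.x_mem_XS (Φ.inJ_singleton.2 (.inr rfl)) _))
      fun _ ha => comm_orth' h2 ha (X.x_mem_XS (Φ.inJ_singleton.2 (.inr rfl)) _)⟩

end PreSt
end CfsgH6
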