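import Cfsg.Agent.H6.Oct5
import Cfsg.Agent.H6.Lg10

/-! Excluding element orders `r s` when a Sylow `r`-subgroup has order `r`. -/

set_option autoImplicit false

namespace CfsgH6

open Finset PreSt Cfsg.Lie
open Matrix hiding zpow_mul zpow_add zpow_neg one_zpow zpow_sub inv_zpow

universe u

theorem isConj_pow_of_card {G : Type*} [Group G] [Finite G] {r m : ℕ} [hr : Fact r.Prime] (h : Nat.card G = r * m)
    (hm : ¬ r ∣ m) {x y : G} (hx : orderOf x = r) (hy : orderOf y = r) : ∃ k, IsConj x (y ^ k) := by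
  have k : ∀ z : G, orderOf z = r → ∃ P : Sylow r G, P.1 = Subgroup.zpowers z := fun z hz =>
    ⟨Sylow.ofCard (Subgroup.zpowers z) (by
      rw [Nat.card_zpowers, hz, h, Nat.factorization_mul hr.out.ne_zero (by rintro rfl; simp at hm)]
      simp [hr.out.factorization_self, Nat.factorization_eq_zero_of_not_dvd hm]), rfl⟩
  obtain ⟨P, hP⟩ := k x hx
  obtain ⟨Q, hQ⟩ := k y hy
  obtain ⟨z, hz⟩ := MulAction.exists_smul_eq G P Q
  have : z * x * z⁻¹ ∈ Subgroup.zpowers y := by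
    rw [← hQ, ← hz]
    exact Subgroup.smul_mem_pointwise_smul _ (MulAut.conj z) _ (hP ▸ Subgroup.mem_zpowers x)
  obtain ⟨k, hk⟩ := (mem_powers_iff_mem_zpowers.2 this : _ ∈ Submonoid.powers y)
  exact ⟨k, isConj_iff.2 ⟨z, hk.symm⟩⟩

namespace Chev

/-- matrix of a list -/
def mL (n : ℕ) (L : List (List ℤ)) : Matrix (Fin n) (Fin n) ℤ := Matrix.of fun i j => gl L i j

namespace Good
variable {D : ChevalleyDatum} (g : Good D) (hD : D ∈ [chevG2, chevB2, chevD4, chevF4, chevE6, chevE7, chevE8])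

/-- matrix of a reflection -/
def rM (r : ℕ) : Matrix (Fin D.rank) (Fin D.rank) ℤ :=
  Matrix.of fun i j => (if i = j then 1 else 0) - g.T.car i r * g.T.co r j

theorem wm_refl (r : Fin D.nroots) : g.cd.wm (g.cd.refl r) = g.rM r := by
  ext i j
  rw [RS.wm, of_apply, RS.co_refl, g.cd.co_sim, Pi.sub_apply, Pi.smul_apply, g.cd_A_sim, g.ag.car _ i.2 _ r.2,
    cd_co, g.ag.co _ r.2 _ j.2, Pi.single_apply]
  simp [rM, eq_comm]

include hD in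
theorem no_order (hm : g.cd.Minus) (F : Type u) [Field F] [Fintype F] (p : ℕ) [hp : Fact p.Prime] [CharP F p]
    (hker : Nat.card ((g.isSt F).hh (g.mult F)).ker = 1) {r s m q : ℕ} [hr : Fact r.Prime] (hs : s.Prime)
    (hrp : ¬ p ∣ r * s) (hrs : r ≠ s) (hq : Fintype.card F = q) (hc : Nat.card (D.group F) = r * m) (hm' : ¬ r ∣ m)
    (l : List (Fin D.rank)) (y : List ℤ) (Us : List (List (List ℤ) × List (List ℤ) × ℤ))
    (chk : (∀ j : Fin D.rank, (r : ℤ) ∣ q * y.getD j 0 - ((fun i : Fin D.rank => y.getD i 0) ᵥ* g.wM l id) j) ∧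
      (∃ j : Fin D.rank, ¬ (r : ℤ) ∣ y.getD j 0) ∧ (∃ U ∈ Us, mL D.rank U.1 = 1) ∧
      (∀ ρ < g.T.n, (r : ℤ) ∣ (fun i : Fin D.rank => y.getD i 0) ⬝ᵥ g.rv ρ →
        ∀ U ∈ Us, ∃ V ∈ Us, mL D.rank V.1 = mL D.rank U.1 * g.rM ρ) ∧
      ∀ U ∈ Us, (mL D.rank U.1 * g.wM l id + -((q : ℤ) • 1)) * mL D.rank U.2.1 = U.2.2 • 1 ∧ ¬ (s : ℤ) ∣ U.2.2)
    (x : D.group F) : orderOf x ≠ r * s := fun hx => by
  obtain ⟨c1, c2, c3, c4, c5⟩ := chk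
  obtain ⟨k, -, hk⟩ := FiniteField.card F p
  have hK := algP_closure F p
  have hR := g.rz_fr hD F k.2 hk
  rw [hker] at hR
  obtain ⟨e⟩ := Fam.SE.Rz.equiv _ hK hR 1
  obtain ⟨x, rfl⟩ := e.surjective x
  rw [e.orderOf_eq] at hx
  have hσ : ∀ c, (Fam.SE.fr (g.fam hD) p k.2).σ _ ((g.fam hD).hh (AlgebraicClosure F) c) = (g.fam hD).hh _ (c ^ q) :=
    fun c => by rw [← hq, hk]; exact Fam.Fr_hh (𝒢 := g.fam hD) k c
  obtain ⟨z, c, ec⟩ := (g.fam hD).exists_conj_hh hK hm hrp (s := x.1) (by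
    rw [← hx, ← Subgroup.orderOf_coe, pow_orderOf_eq_one])
  have h5 : IsConj x.1 ((g.fam hD).hh _ c) := isConj_iff.2 ⟨z⁻¹, by rw [inv_inv, ec]⟩
  obtain ⟨w, hw⟩ := Fam.isConj_hh.1 (h5.symm.trans (by
    rw [← hσ]
    convert ((Fam.SE.fr (g.fam hD) p k.2).σ _).map_isConj h5 using 1
    exact ((Fam.SE.mem_TF_one _).1 x.2).symm))
  have oc : orderOf c = r * s := by
    rw [← orderOf_injective _ ((g.fam hD).inj _), ← IsConj.orderOf_eq' h5, Subgroup.orderOf_coe, hx]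
  obtain ⟨ζ, hζ⟩ : ∃ ζ : (AlgebraicClosure F)ˣ, orderOf ζ = r := by
    haveI : NeZero (r : AlgebraicClosure F) := ⟨by
      rw [Ne, CharP.cast_eq_zero_iff _ p]; exact fun h => hrp (h.mul_right _)⟩
    obtain ⟨ζ, hζ⟩ := HasEnoughRootsOfUnity.exists_primitiveRoot (AlgebraicClosure F) r
    exact ⟨(hζ.isUnit hr.out.ne_zero).unit, (hζ.isUnit_unit hr.out.ne_zero).eq_orderOf.symm⟩
  set d : Fin D.rank → (AlgebraicClosure F)ˣ := RS.cv (fun i : Fin D.rank => y.getD i 0) ζ with hd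
  have d1 : d ^ q = g.cd.wa (g.cd.EW.wp l) d := by
    rw [RS.wa_eq, g.wm_wp, ma_cv]
    ext1 j
    rw [Pi.pow_apply, hd, RS.cv_apply, RS.cv_apply, ← zpow_natCast, ← zpow_mul, zpow_eq_zpow_iff_modEq, hζ, mul_comm]
    exact (Int.modEq_iff_dvd.2 (c1 j)).symm
  have od : orderOf d = r := orderOf_eq_prime (by rw [← map_pow, ← hζ, pow_orderOf_eq_one, map_one]) fun h => by
    obtain ⟨j, hj⟩ := c2
    exact hj (hζ ▸ orderOf_dvd_iff_zpow_eq_one.2 (congrFun h j))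
  obtain ⟨t, ht, h6⟩ := (Fam.SE.fr (g.fam hD) p k.2).exists_mem_TF hK 1 (s := (g.fam hD).hh _ d) (by
    rw [hσ]; exact Fam.isConj_hh.2 ⟨_, d1⟩)
  haveI := (Fam.SE.fr (g.fam hD) p k.2).finite_TF hK 1
  obtain ⟨n, hn⟩ := isConj_pow_of_card ((Nat.card_congr e.toEquiv).trans hc) hm' (x := x ^ s) (y := ⟨t, ht⟩)
    (by rw [orderOf_pow_of_dvd hs.ne_zero (hx ▸ dvd_mul_left _ _), hx, Nat.mul_div_cancel _ hs.pos])
    (by rw [← Subgroup.orderOf_coe, ← IsConj.orderOf_eq' h6, orderOf_injective _ ((g.fam hD).inj _), od])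
  obtain ⟨v, hv⟩ : ∃ v : g.cd.W, d ^ n = g.cd.wa v (c ^ s) := (Fam.isConj_hh (𝒢 := g.fam hD)).1 (by
    rw [map_pow, map_pow]
    exact ((h5.pow s).symm.trans ((Subgroup.subtype _).map_isConj hn)).trans (h6.pow n).symm)
  have ov : ∀ a : Fin D.rank → (AlgebraicClosure F)ˣ, orderOf (g.cd.wa v a) = orderOf a :=
    orderOf_injective (G := Fin D.rank → (AlgebraicClosure F)ˣ) (g.cd.wa v)
      fun a b h => by rw [← RS.wa_inv_wa v.2 a, h, RS.wa_inv_wa v.2]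
  have hv2 : orderOf (d ^ n) = r := by
    rw [hv, ov,
      orderOf_pow_of_dvd hs.ne_zero (oc ▸ dvd_mul_left _ _), oc, Nat.mul_div_cancel _ hs.pos]
  have cw : (g.cd.wa v c) ^ q = g.cd.wa (v * w * v⁻¹ : g.cd.W) (g.cd.wa v c) := by
    rw [← map_pow, hw]; simp [RS.wa_mul, mul_mem, RS.wa_inv_wa]
  generalize v * w * v⁻¹ = w' at cw
  have hu : ((g.cd.EW.wp l)⁻¹ * w' : g.cd.W).1 ∈ g.cd.WS {d ^ n} := RS.mem_WS.2 ⟨Subtype.prop _, by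
    rintro _ rfl
    rw [Subgroup.coe_mul, Subgroup.coe_inv, RS.wa_mul (inv_mem (Subtype.prop _))]
    have a : g.cd.wa w' (d ^ n) = g.cd.wa (g.cd.EW.wp l) (d ^ n) := by
      rw [map_pow (g.cd.wa (g.cd.EW.wp l)) d, ← d1, ← pow_mul, mul_comm, pow_mul, hv, map_pow, map_pow, ← cw, ← pow_mul, ← pow_mul,
        mul_comm]
    rw [a]
    exact RS.wa_inv_wa (Subtype.prop _) _⟩
  rw [RS.Conn.eq (Fam.conn hK hm _)] at hu
  obtain ⟨U, hU, eU⟩ : ∃ U ∈ Us, mL D.rank U.1 = g.cd.wm ((g.cd.EW.wp l)⁻¹ * w' : g.cd.W).1 := by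
    generalize ((g.cd.EW.wp l)⁻¹ * w' : g.cd.W).1 = u at hu
    have key : ∀ a ∈ g.cd.refl '' g.cd.Psi {d ^ n}, ∀ u, (∃ U ∈ Us, mL D.rank U.1 = g.cd.wm u) →
        ∃ U ∈ Us, mL D.rank U.1 = g.cd.wm (a * u) := by
      rintro _ ⟨ρ, hρ, rfl⟩ u ⟨U, hU, e⟩
      rw [RS.wm_mul (g.cd.refl_mem ρ), g.wm_refl, ← e]
      refine c4 ρ (g.ln ρ.2) ?_ U hU
      have := hρ _ rfl
      rw [map_pow, g.ch_eq, hd, ca_cv, ← zpow_natCast, ← zpow_mul, ← orderOf_dvd_iff_zpow_eq_one, hζ] at this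
      refine ((Nat.prime_iff_prime_int.1 hr.out).dvd_or_dvd this).resolve_right fun h => hr.out.one_lt.ne' ?_
      rw [← hv2, orderOf_eq_one_iff, ← orderOf_dvd_iff_pow_eq_one, od]
      exact Int.natCast_dvd_natCast.1 h
    induction hu using Subgroup.closure_induction_left with
    | one => rwa [RS.wm_one]
    | mul_left a ha u _ ih => exact key a ha u ih
    | inv_mul_cancel a ha u _ ih =>
      obtain ⟨ρ, hρ, rfl⟩ := ha
      rw [RS.refl_inv]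
      exact key _ ⟨ρ, hρ, rfl⟩ u ih
  have h7 : ma (mL D.rank U.1 * g.wM l id) (g.cd.wa v c) = g.cd.wa v c ^ q := by
    rw [cw, eU, ← g.wm_wp, ← RS.wm_mul (Subtype.prop _), ← Subgroup.coe_mul, mul_inv_cancel_left, RS.wa_eq _ w'.1]
  have h8 := congrArg (ma · (g.cd.wa v c)) (c5 U hU).1
  simp only [← ma_ma _ (mL D.rank U.2.1), ma_add, ma_neg, ma_smul, ma_one, h7, zpow_natCast, mul_inv_cancel,
    map_one] at h8
  refine (c5 U hU).2 (Int.dvd_trans ?_ (orderOf_dvd_iff_zpow_eq_one.2 h8.symm))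
  rw [ov, oc]
  exact Int.natCast_dvd_natCast.2 (dvd_mul_left _ _)

end Good

/-- certificates for `E₇(2)` -/
def e7U : List (List (List ℤ) × List (List ℤ) × ℤ) :=
  [([[1, 0, 0, 0, 0, 0, 0], [0, 1, 0, 0, 0, 0, 0], [0, 0, 1, 0, 0, 0, 0], [0, 0, 0, 1, 0, 0, 0], [0, 0, 0, 0, 1, 0, 0], [0, 0, 0, 0, 0, 1, 0], [0, 0, 0, 0, 0, 0, 1]],
    [[51, 14, 31, 21, 9, 3, 0], [28, 63, 42, 49, 21, 7, 0], [11, 28, 62, 42, 18, 6, 0], [-6, -7, -9, 35, 15, 5, 0], [-12, -14, -18, -21, 30, 10, 0], [-24, -28, -36, -42, -31, 20, 0], [48, 56, 72, 84, 62, 51, 91]], -91),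
   ([[1, 0, 0, 0, 0, 0, 0], [0, 1, 0, 0, 0, 0, 0], [-1, -1, -1, -2, -2, -2, -1], [1, 1, 2, 3, 2, 2, 1], [0, 0, 0, 0, 1, 0, 0], [-1, -1, -2, -2, -2, -1, -1], [0, 0, 0, 0, 0, 0, 1]],
    [[60, 5, 25, 1, -7, -11, -13], [36, 81, 54, 63, 27, 9, 0], [3, 10, 50, 2, -14, -22, -26], [9, 30, 33, 123, 75, 51, 39], [-21, -31, -38, -53, 20, -2, -13], [-42, -62, -76, -106, -77, -4, -26], [45, 33, 48, 30, 24, 21, 78]], -117),
   ([[0, -1, -1, -2, -2, -1, -1], [0, 1, 0, 0, 0, 0, 0], [1, 1, 2, 2, 2, 1, 1], [0, 0, 0, 1, 0, 0, 0], [-1, -1, -1, -2, -1, -1, -1], [1, 1, 1, 2, 2, 2, 1], [-1, -1, -1, -2, -2, -1, 0]],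
    [[47, -8, -1, -25, -33, -37, -26], [36, 81, 54, 63, 27, 9, 0], [42, 75, 141, 132, 90, 69, 39], [-17, -22, -32, 19, -3, -14, -13], [-34, -44, -64, -79, -6, -28, -26], [-3, 3, 15, 24, 27, 87, 39], [6, -6, -30, -48, -54, -57, 39]], -117),
   ([[1, 1, 1, 2, 1, 1, 1], [0, 1, 0, 0, 0, 0, 0], [0, 0, 1, 0, 0, 0, 0], [0, -1, -1, -1, -1, -1, -1], [0, 1, 1, 2, 2, 1, 1], [0, 0, 0, 0, 0, 1, 0], [0, -1, -1, -2, -1, -1, 0]],
    [[99, 57, 90, 105, 84, 54, 39], [36, 81, 54, 63, 27, 9, 0], [3, 23, 63, 28, -1, -9, -13], [-30, -35, -45, -7, -29, -27, -26], [18, 21, 27, 51, 111, 63, 39], [-42, -49, -63, -80, -64, 9, -13], [6, 7, 9, -22, -41, -18, 52]], -117),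
   ([[0, -1, -1, -2, -2, -1, -1], [0, 1, 0, 0, 0, 0, 0], [0, 0, 0, 0, 0, -1, 0], [1, 1, 2, 3, 2, 2, 1], [-1, -1, -1, -2, -1, -1, -1], [0, 0, -1, 0, 0, 0, 0], [-1, -1, -1, -2, -2, -1, 0]],
    [[38, 1, 5, -5, -17, -23, -13], [28, 63, 42, 49, 21, 7, 0], [24, 15, 75, 16, 18, 19, -13], [-6, 19, 4, 87, 41, 18, 26], [-25, -27, -44, -47, 4, -16, -13], [-11, -41, -23, -68, -31, 33, -13], [9, 17, -6, 6, -16, -27, 52]], -91),
   ([[1, 1, 1, 2, 1, 1, 1], [0, 1, 0, 0, 0, 0, 0], [-1, -1, -1, -2, -2, -2, -1], [1, 0, 1, 1, 1, 1, 0], [0, 1, 1, 2, 2, 1, 1], [-1, -1, -2, -2, -2, -1, -1], [0, -1, -1, -2, -1, -1, 0]],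
    [[90, 40, 70, 73, 74, 42, 26], [28, 63, 42, 49, 21, 7, 0], [11, 15, 49, 16, 5, -7, -13], [-45, -20, -35, 9, -37, -21, -13], [27, 12, 21, 31, 95, 49, 26], [-24, -41, -49, -68, -44, 7, -13], [9, 4, 7, -20, -29, -14, 39]], -91),
   ([[0, 0, 0, 0, -1, 0, 0], [0, 1, 0, 0, 0, 0, 0], [1, 1, 2, 2, 2, 1, 1], [0, -1, -1, -1, -1, -1, -1], [-1, 0, 0, 0, 0, 0, 0], [1, 1, 1, 2, 2, 2, 1], [-1, -2, -2, -4, -3, -2, -1]],
    [[51, 1, -8, -5, -4, -36, -13], [28, 63, 42, 49, 21, 7, 0], [24, 54, 114, 94, 57, 58, 26], [-19, -20, -22, 9, -11, -8, -13], [-12, -27, -57, -47, 17, -29, -13], [-11, -2, 16, 10, 8, 72, 26], [-4, -9, -19, -46, -55, -40, 26]], -91),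
   ([[0, 0, 0, 0, -1, 0, 0], [0, 1, 0, 0, 0, 0, 0], [0, 0, 0, 0, 0, -1, 0], [1, 0, 1, 1, 1, 1, 0], [-1, 0, 0, 0, 0, 0, 0], [0, 0, -1, 0, 0, 0, 0], [-1, -2, -2, -4, -3, -2, -1]],
    [[60, 18, 12, 27, 6, -24, 0], [36, 81, 54, 63, 27, 9, 0], [42, 36, 102, 54, 51, 30, 0], [-30, -9, -6, 45, -3, 12, 0], [-21, -18, -51, -27, 33, -15, 0], [-3, -36, -24, -54, -12, 48, 0], [-7, -6, -17, -48, -67, -44, 39]], -117)]

theorem e7_no65 (x : chevE7.group (ZMod 2)) : orderOf x ≠ 13 * 5 := by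
  haveI : Fact (Nat.Prime 13) := ⟨by norm_num⟩
  have h := cardE7 (ZMod 2)
  rw [Nat.card_zmod] at h
  exact gE7.no_order (by simp) minusE7 (ZMod 2) 2 (by rw [kerE7, Nat.card_zmod]; rfl) (q := 2)
    (m := 2 ^ 63 * 3 * 63 * 255 * 1023 * 315 * (2 ^ 14 - 1) * (2 ^ 18 - 1)) Nat.prime_five (by norm_num) (by norm_num)
    (by simp) (by norm_num at h ⊢; exact h) (by norm_num)
    ([0, 1, 2, 3, 4, 5] : List (Fin 7)) [4, 9, 6, 7, 3, 1, 0] e7U (by decide +kernel) x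

end Chev

end CfsgH6
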