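import Cfsg.Agent.H6.Br4
import Cfsg.Agent.H6.All

/-! Numerical facts for the seven types. -/

set_option autoImplicit false
set_option maxRecDepth 100000

namespace CfsgH6
namespace Chev

open Cfsg.Lie

theorem univ_eq {n : ℕ} (L : List ℕ) (h : ∀ i < n, i ∈ L) : {i : Fin n | (i : ℕ) ∈ L} = Set.univ :=
  Set.eq_univ_of_forall fun i => h i i.2

theorem card_W_eq {I R : Type} [Fintype I] [DecidableEq I] (Φ : RS I R) [Fintype Φ.W] :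
    Nat.card Φ.W = Φ.PS (fun _ => True) Set.univ 1 := by
  simp [RS.PS_univ]

theorem empty_eq {n : ℕ} : {i : Fin n | (i : ℕ) ∈ ([] : List ℕ)} = ∅ := by simp

theorem cartanG2 : ∀ i j : Fin 2, chevG2.cartan i (chevG2.simple j) =
    (![![2, -3], ![-1, 2]] : Fin 2 → Fin 2 → ℤ) i j := by decide +kernel

theorem coxG2 : ∃ cs : CoxeterSystem (CoxeterMatrix.G₂) gG2.cd.W, ∀ i, cs.simple i = gG2.cd.sW i :=
  gG2.exists_cox (CoxeterMatrix.G₂) (show ∀ i j : Fin 2, chkOrd ftG2 [i, j] ((CoxeterMatrix.G₂) i j) = true by decide +kernel)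

theorem ordG2 : orderOf (gG2.cd.EW.wp (List.finRange 2)) = 6 :=
  gG2.orderOf_wp _ (show chkOrd ftG2 (List.range 2) 6 = true by decide +kernel)

theorem highG2 : ∀ i < chevG2.rank, co chevG2 0 i ≠ 0 := by decide +kernel

theorem cntG2_0 : cnts ftG2 [0] (fun _ => true) 2 [initL ftG2 []] =
    [1, 1, 0] := by decide +kernel

theorem cntG2_1 : cnts ftG2 [1, 0] (fun _ => true) 6 [initL ftG2 [0]] =
    [1, 1, 1, 1, 1, 1, 0] := by decide +kernel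

theorem poinG2 [Fintype gG2.cd.W] (q : ℕ) :
    (gG2.cd.PS (fun _ => True) Set.univ q : ℤ) * (q - 1) ^ 2 = (q ^ 2 - 1) * (q ^ 6 - 1) := by
  rw [← univ_eq (n := chevG2.rank) [1, 0] (by decide), gG2.PS_step0 [0] [1, 0] (by decide) (by decide) _ _ cntG2_1 rfl,
    gG2.PS_step0 [] [0] (by decide) (by decide) _ _ cntG2_0 rfl, empty_eq, RS.PS_empty _ trivial]
  simp only [hor, List.foldr]
  push_cast
  ring

theorem cardWG2 : Nat.card gG2.cd.W = 12 := by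
  classical
  rw [card_W_eq, ← univ_eq (n := chevG2.rank) [1, 0] (by decide), gG2.PS_step0 [0] [1, 0] (by decide) (by decide) _ _ cntG2_1 rfl,
    gG2.PS_step0 [] [0] (by decide) (by decide) _ _ cntG2_0 rfl, empty_eq, RS.PS_empty _ trivial]
  decide

theorem stG2_1 : 1 < chevG2.nroots ∧ 11 < chevG2.nroots ∧ 11 ≠ 1 ∧ 11 ≠ chevG2.neg 1 ∧
    chevG2.commTerms 1 11 = [(chevG2.simple 1, -1, 1, 1)] := by decide +kernel

theorem cartanB2 : ∀ i j : Fin 2, chevB2.cartan i (chevB2.simple j) =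
    (![![2, -2], ![-1, 2]] : Fin 2 → Fin 2 → ℤ) i j := by decide +kernel

theorem coxB2 : ∃ cs : CoxeterSystem (CoxeterMatrix.B 2) gB2.cd.W, ∀ i, cs.simple i = gB2.cd.sW i :=
  gB2.exists_cox (CoxeterMatrix.B 2) (show ∀ i j : Fin 2, chkOrd ftB2 [i, j] ((CoxeterMatrix.B 2) i j) = true by decide +kernel)

theorem ordB2 : orderOf (gB2.cd.EW.wp (List.finRange 2)) = 4 :=
  gB2.orderOf_wp _ (show chkOrd ftB2 (List.range 2) 4 = true by decide +kernel)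

theorem highB2 : ∀ i < chevB2.rank, co chevB2 0 i ≠ 0 := by decide +kernel

theorem cntB2_0 : cnts ftB2 [0] (fun _ => true) 2 [initL ftB2 []] =
    [1, 1, 0] := by decide +kernel

theorem cntB2_1 : cnts ftB2 [1, 0] (fun _ => true) 4 [initL ftB2 [0]] =
    [1, 1, 1, 1, 0] := by decide +kernel

theorem poinB2 [Fintype gB2.cd.W] (q : ℕ) :
    (gB2.cd.PS (fun _ => True) Set.univ q : ℤ) * (q - 1) ^ 2 = (q ^ 2 - 1) * (q ^ 4 - 1) := by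
  rw [← univ_eq (n := chevB2.rank) [1, 0] (by decide), gB2.PS_step0 [0] [1, 0] (by decide) (by decide) _ _ cntB2_1 rfl,
    gB2.PS_step0 [] [0] (by decide) (by decide) _ _ cntB2_0 rfl, empty_eq, RS.PS_empty _ trivial]
  simp only [hor, List.foldr]
  push_cast
  ring

theorem cardWB2 : Nat.card gB2.cd.W = 8 := by
  classical
  rw [card_W_eq, ← univ_eq (n := chevB2.rank) [1, 0] (by decide), gB2.PS_step0 [0] [1, 0] (by decide) (by decide) _ _ cntB2_1 rfl,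
    gB2.PS_step0 [] [0] (by decide) (by decide) _ _ cntB2_0 rfl, empty_eq, RS.PS_empty _ trivial]
  decide

theorem stB2_1 : 2 < chevB2.nroots ∧ 6 < chevB2.nroots ∧ 6 ≠ 2 ∧ 6 ≠ chevB2.neg 2 ∧
    chevB2.commTerms 2 6 = [(chevB2.simple 1, -2, 1, 1)] := by decide +kernel

theorem cartanD4 : ∀ i j : Fin 4, chevD4.cartan i (chevD4.simple j) =
    (![![2, -1, 0, 0], ![-1, 2, -1, -1], ![0, -1, 2, 0], ![0, -1, 0, 2]] : Fin 4 → Fin 4 → ℤ) i j := by decide +kernel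

theorem coxD4 : ∃ cs : CoxeterSystem (coxeterD4) gD4.cd.W, ∀ i, cs.simple i = gD4.cd.sW i :=
  gD4.exists_cox (coxeterD4) (show ∀ i j : Fin 4, chkOrd ftD4 [i, j] ((coxeterD4) i j) = true by decide +kernel)

theorem ordD4 : orderOf (gD4.cd.EW.wp (List.finRange 4)) = 6 :=
  gD4.orderOf_wp _ (show chkOrd ftD4 (List.range 4) 6 = true by decide +kernel)

theorem highD4 : ∀ i < chevD4.rank, co chevD4 0 i ≠ 0 := by decide +kernel

theorem cntD4_0 : cnts ftD4 [0] (fun _ => true) 2 [initL ftD4 []] =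
    [1, 1, 0] := by decide +kernel

theorem cntD4_1 : cnts ftD4 [1, 0] (fun _ => true) 3 [initL ftD4 [0]] =
    [1, 1, 1, 0] := by decide +kernel

theorem cntD4_2 : cnts ftD4 [2, 1, 0] (fun _ => true) 4 [initL ftD4 [1, 0]] =
    [1, 1, 1, 1, 0] := by decide +kernel

theorem cntD4_3 : cnts ftD4 [3, 2, 1, 0] (fun _ => true) 7 [initL ftD4 [2, 1, 0]] =
    [1, 1, 1, 2, 1, 1, 1, 0] := by decide +kernel

theorem poinD4 [Fintype gD4.cd.W] (q : ℕ) :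
    (gD4.cd.PS (fun _ => True) Set.univ q : ℤ) * (q - 1) ^ 4 = (q ^ 2 - 1) * (q ^ 4 - 1) * (q ^ 4 - 1) * (q ^ 6 - 1) := by
  rw [← univ_eq (n := chevD4.rank) [3, 2, 1, 0] (by decide), gD4.PS_step0 [2, 1, 0] [3, 2, 1, 0] (by decide) (by decide) _ _ cntD4_3 rfl,
    gD4.PS_step0 [1, 0] [2, 1, 0] (by decide) (by decide) _ _ cntD4_2 rfl,
    gD4.PS_step0 [0] [1, 0] (by decide) (by decide) _ _ cntD4_1 rfl,
    gD4.PS_step0 [] [0] (by decide) (by decide) _ _ cntD4_0 rfl, empty_eq, RS.PS_empty _ trivial]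
  simp only [hor, List.foldr]
  push_cast
  ring

theorem cardWD4 : Nat.card gD4.cd.W = 192 := by
  classical
  rw [card_W_eq, ← univ_eq (n := chevD4.rank) [3, 2, 1, 0] (by decide), gD4.PS_step0 [2, 1, 0] [3, 2, 1, 0] (by decide) (by decide) _ _ cntD4_3 rfl,
    gD4.PS_step0 [1, 0] [2, 1, 0] (by decide) (by decide) _ _ cntD4_2 rfl,
    gD4.PS_step0 [0] [1, 0] (by decide) (by decide) _ _ cntD4_1 rfl,
    gD4.PS_step0 [] [0] (by decide) (by decide) _ _ cntD4_0 rfl, empty_eq, RS.PS_empty _ trivial]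
  decide

theorem stD4_0 : 6 < chevD4.nroots ∧ 22 < chevD4.nroots ∧ 22 ≠ 6 ∧ 22 ≠ chevD4.neg 6 ∧
    chevD4.commTerms 6 22 = [(chevD4.simple 0, 1, 1, 1)] := by decide +kernel

theorem stD4_1 : 1 < chevD4.nroots ∧ 23 < chevD4.nroots ∧ 23 ≠ 1 ∧ 23 ≠ chevD4.neg 1 ∧
    chevD4.commTerms 1 23 = [(chevD4.simple 1, -1, 1, 1)] := by decide +kernel

theorem stD4_2 : 3 < chevD4.nroots ∧ 22 < chevD4.nroots ∧ 22 ≠ 3 ∧ 22 ≠ chevD4.neg 3 ∧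
    chevD4.commTerms 3 22 = [(chevD4.simple 2, -1, 1, 1)] := by decide +kernel

theorem stD4_3 : 2 < chevD4.nroots ∧ 22 < chevD4.nroots ∧ 22 ≠ 2 ∧ 22 ≠ chevD4.neg 2 ∧
    chevD4.commTerms 2 22 = [(chevD4.simple 3, -1, 1, 1)] := by decide +kernel

theorem cartanF4 : ∀ i j : Fin 4, chevF4.cartan i (chevF4.simple j) =
    (![![2, -1, 0, 0], ![-1, 2, -2, 0], ![0, -1, 2, -1], ![0, 0, -1, 2]] : Fin 4 → Fin 4 → ℤ) i j := by decide +kernel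

theorem coxF4 : ∃ cs : CoxeterSystem (CoxeterMatrix.F₄) gF4.cd.W, ∀ i, cs.simple i = gF4.cd.sW i :=
  gF4.exists_cox (CoxeterMatrix.F₄) (show ∀ i j : Fin 4, chkOrd ftF4 [i, j] ((CoxeterMatrix.F₄) i j) = true by decide +kernel)

theorem ordF4 : orderOf (gF4.cd.EW.wp (List.finRange 4)) = 12 :=
  gF4.orderOf_wp _ (show chkOrd ftF4 (List.range 4) 12 = true by decide +kernel)

theorem highF4 : ∀ i < chevF4.rank, co chevF4 0 i ≠ 0 := by decide +kernel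

theorem cntF4_0 : cnts ftF4 [1] (fun _ => true) 2 [initL ftF4 []] =
    [1, 1, 0] := by decide +kernel

theorem cntF4_1 : cnts ftF4 [2, 1] (fun _ => true) 4 [initL ftF4 [1]] =
    [1, 1, 1, 1, 0] := by decide +kernel

theorem cntF4_2 : cnts ftF4 [0, 2, 1] (fun _ => true) 6 [initL ftF4 [2, 1]] =
    [1, 1, 1, 1, 1, 1, 0] := by decide +kernel

theorem cntF4_3 : cnts ftF4 [3, 0, 2, 1] (fun _ => true) 16 [initL ftF4 [0, 2, 1]] =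
    [1, 1, 1, 1, 2, 2, 2, 2, 2, 2, 2, 2, 1, 1, 1, 1, 0] := by decide +kernel

theorem poinF4 [Fintype gF4.cd.W] (q : ℕ) :
    (gF4.cd.PS (fun _ => True) Set.univ q : ℤ) * (q - 1) ^ 4 = (q ^ 2 - 1) * (q ^ 6 - 1) * (q ^ 8 - 1) * (q ^ 12 - 1) := by
  rw [← univ_eq (n := chevF4.rank) [3, 0, 2, 1] (by decide), gF4.PS_step0 [0, 2, 1] [3, 0, 2, 1] (by decide) (by decide) _ _ cntF4_3 rfl,
    gF4.PS_step0 [2, 1] [0, 2, 1] (by decide) (by decide) _ _ cntF4_2 rfl,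
    gF4.PS_step0 [1] [2, 1] (by decide) (by decide) _ _ cntF4_1 rfl,
    gF4.PS_step0 [] [1] (by decide) (by decide) _ _ cntF4_0 rfl, empty_eq, RS.PS_empty _ trivial]
  simp only [hor, List.foldr]
  push_cast
  ring

theorem cardWF4 : Nat.card gF4.cd.W = 1152 := by
  classical
  rw [card_W_eq, ← univ_eq (n := chevF4.rank) [3, 0, 2, 1] (by decide), gF4.PS_step0 [0, 2, 1] [3, 0, 2, 1] (by decide) (by decide) _ _ cntF4_3 rfl,
    gF4.PS_step0 [2, 1] [0, 2, 1] (by decide) (by decide) _ _ cntF4_2 rfl,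
    gF4.PS_step0 [1] [2, 1] (by decide) (by decide) _ _ cntF4_1 rfl,
    gF4.PS_step0 [] [1] (by decide) (by decide) _ _ cntF4_0 rfl, empty_eq, RS.PS_empty _ trivial]
  decide

theorem stF4_0 : 7 < chevF4.nroots ∧ 44 < chevF4.nroots ∧ 44 ≠ 7 ∧ 44 ≠ chevF4.neg 7 ∧
    chevF4.commTerms 7 44 = [(chevF4.simple 0, -1, 1, 1)] := by decide +kernel

theorem stF4_1 : 8 < chevF4.nroots ∧ 40 < chevF4.nroots ∧ 40 ≠ 8 ∧ 40 ≠ chevF4.neg 8 ∧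
    chevF4.commTerms 8 40 = [(chevF4.simple 1, -1, 1, 1)] := by decide +kernel

theorem stF4_2 : 2 < chevF4.nroots ∧ 46 < chevF4.nroots ∧ 46 ≠ 2 ∧ 46 ≠ chevF4.neg 2 ∧
    chevF4.commTerms 2 46 = [(chevF4.simple 2, -1, 1, 1)] := by decide +kernel

theorem stF4_3 : 1 < chevF4.nroots ∧ 47 < chevF4.nroots ∧ 47 ≠ 1 ∧ 47 ≠ chevF4.neg 1 ∧
    chevF4.commTerms 1 47 = [(chevF4.simple 3, -1, 1, 1)] := by decide +kernel

theorem cartanE6 : ∀ i j : Fin 6, chevE6.cartan i (chevE6.simple j) =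
    (![![2, 0, -1, 0, 0, 0], ![0, 2, 0, -1, 0, 0], ![-1, 0, 2, -1, 0, 0], ![0, -1, -1, 2, -1, 0], ![0, 0, 0, -1, 2, -1], ![0, 0, 0, 0, -1, 2]] : Fin 6 → Fin 6 → ℤ) i j := by decide +kernel

theorem coxE6 : ∃ cs : CoxeterSystem (CoxeterMatrix.E₆) gE6.cd.W, ∀ i, cs.simple i = gE6.cd.sW i :=
  gE6.exists_cox (CoxeterMatrix.E₆) (show ∀ i j : Fin 6, chkOrd ftE6 [i, j] ((CoxeterMatrix.E₆) i j) = true by decide +kernel)

theorem ordE6 : orderOf (gE6.cd.EW.wp (List.finRange 6)) = 12 :=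
  gE6.orderOf_wp _ (show chkOrd ftE6 (List.range 6) 12 = true by decide +kernel)

theorem highE6 : ∀ i < chevE6.rank, co chevE6 0 i ≠ 0 := by decide +kernel

theorem cntE6_0 : cnts ftE6 [0] (fun _ => true) 2 [initL ftE6 []] =
    [1, 1, 0] := by decide +kernel

theorem cntE6_1 : cnts ftE6 [2, 0] (fun _ => true) 3 [initL ftE6 [0]] =
    [1, 1, 1, 0] := by decide +kernel

theorem cntE6_2 : cnts ftE6 [3, 2, 0] (fun _ => true) 4 [initL ftE6 [2, 0]] =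
    [1, 1, 1, 1, 0] := by decide +kernel

theorem cntE6_3 : cnts ftE6 [1, 3, 2, 0] (fun _ => true) 5 [initL ftE6 [3, 2, 0]] =
    [1, 1, 1, 1, 1, 0] := by decide +kernel

theorem cntE6_4 : cnts ftE6 [4, 1, 3, 2, 0] (fun _ => true) 11 [initL ftE6 [1, 3, 2, 0]] =
    [1, 1, 1, 2, 2, 2, 2, 2, 1, 1, 1, 0] := by decide +kernel

theorem cntE6_5 : cnts ftE6 [5, 4, 1, 3, 2, 0] (fun _ => true) 17 [initL ftE6 [4, 1, 3, 2, 0]] =
    [1, 1, 1, 1, 2, 2, 2, 2, 3, 2, 2, 2, 2, 1, 1, 1, 1, 0] := by decide +kernel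

theorem poinE6 [Fintype gE6.cd.W] (q : ℕ) :
    (gE6.cd.PS (fun _ => True) Set.univ q : ℤ) * (q - 1) ^ 6 = (q ^ 2 - 1) * (q ^ 5 - 1) * (q ^ 6 - 1) * (q ^ 8 - 1) * (q ^ 9 - 1) * (q ^ 12 - 1) := by
  rw [← univ_eq (n := chevE6.rank) [5, 4, 1, 3, 2, 0] (by decide), gE6.PS_step0 [4, 1, 3, 2, 0] [5, 4, 1, 3, 2, 0] (by decide) (by decide) _ _ cntE6_5 rfl,
    gE6.PS_step0 [1, 3, 2, 0] [4, 1, 3, 2, 0] (by decide) (by decide) _ _ cntE6_4 rfl,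
    gE6.PS_step0 [3, 2, 0] [1, 3, 2, 0] (by decide) (by decide) _ _ cntE6_3 rfl,
    gE6.PS_step0 [2, 0] [3, 2, 0] (by decide) (by decide) _ _ cntE6_2 rfl,
    gE6.PS_step0 [0] [2, 0] (by decide) (by decide) _ _ cntE6_1 rfl,
    gE6.PS_step0 [] [0] (by decide) (by decide) _ _ cntE6_0 rfl, empty_eq, RS.PS_empty _ trivial]
  simp only [hor, List.foldr]
  push_cast
  ring

theorem cardWE6 : Nat.card gE6.cd.W = 51840 := by
  classical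
  rw [card_W_eq, ← univ_eq (n := chevE6.rank) [5, 4, 1, 3, 2, 0] (by decide), gE6.PS_step0 [4, 1, 3, 2, 0] [5, 4, 1, 3, 2, 0] (by decide) (by decide) _ _ cntE6_5 rfl,
    gE6.PS_step0 [1, 3, 2, 0] [4, 1, 3, 2, 0] (by decide) (by decide) _ _ cntE6_4 rfl,
    gE6.PS_step0 [3, 2, 0] [1, 3, 2, 0] (by decide) (by decide) _ _ cntE6_3 rfl,
    gE6.PS_step0 [2, 0] [3, 2, 0] (by decide) (by decide) _ _ cntE6_2 rfl,
    gE6.PS_step0 [0] [2, 0] (by decide) (by decide) _ _ cntE6_1 rfl,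
    gE6.PS_step0 [] [0] (by decide) (by decide) _ _ cntE6_0 rfl, empty_eq, RS.PS_empty _ trivial]
  decide

theorem stE6_0 : 16 < chevE6.nroots ∧ 66 < chevE6.nroots ∧ 66 ≠ 16 ∧ 66 ≠ chevE6.neg 16 ∧
    chevE6.commTerms 16 66 = [(chevE6.simple 0, 1, 1, 1)] := by decide +kernel

theorem stE6_1 : 1 < chevE6.nroots ∧ 71 < chevE6.nroots ∧ 71 ≠ 1 ∧ 71 ≠ chevE6.neg 1 ∧
    chevE6.commTerms 1 71 = [(chevE6.simple 1, -1, 1, 1)] := by decide +kernel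

theorem stE6_2 : 5 < chevE6.nroots ∧ 69 < chevE6.nroots ∧ 69 ≠ 5 ∧ 69 ≠ chevE6.neg 5 ∧
    chevE6.commTerms 5 69 = [(chevE6.simple 2, -1, 1, 1)] := by decide +kernel

theorem stE6_3 : 2 < chevE6.nroots ∧ 70 < chevE6.nroots ∧ 70 ≠ 2 ∧ 70 ≠ chevE6.neg 2 ∧
    chevE6.commTerms 2 70 = [(chevE6.simple 3, -1, 1, 1)] := by decide +kernel

theorem stE6_4 : 3 < chevE6.nroots ∧ 69 < chevE6.nroots ∧ 69 ≠ 3 ∧ 69 ≠ chevE6.neg 3 ∧
    chevE6.commTerms 3 69 = [(chevE6.simple 4, -1, 1, 1)] := by decide +kernel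

theorem stE6_5 : 4 < chevE6.nroots ∧ 68 < chevE6.nroots ∧ 68 ≠ 4 ∧ 68 ≠ chevE6.neg 4 ∧
    chevE6.commTerms 4 68 = [(chevE6.simple 5, -1, 1, 1)] := by decide +kernel

theorem cartanE7 : ∀ i j : Fin 7, chevE7.cartan i (chevE7.simple j) =
    (![![2, 0, -1, 0, 0, 0, 0], ![0, 2, 0, -1, 0, 0, 0], ![-1, 0, 2, -1, 0, 0, 0], ![0, -1, -1, 2, -1, 0, 0], ![0, 0, 0, -1, 2, -1, 0], ![0, 0, 0, 0, -1, 2, -1], ![0, 0, 0, 0, 0, -1, 2]] : Fin 7 → Fin 7 → ℤ) i j := by decide +kernel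

theorem coxE7 : ∃ cs : CoxeterSystem (CoxeterMatrix.E₇) gE7.cd.W, ∀ i, cs.simple i = gE7.cd.sW i :=
  gE7.exists_cox (CoxeterMatrix.E₇) (show ∀ i j : Fin 7, chkOrd ftE7 [i, j] ((CoxeterMatrix.E₇) i j) = true by decide +kernel)

theorem ordE7 : orderOf (gE7.cd.EW.wp (List.finRange 7)) = 18 :=
  gE7.orderOf_wp _ (show chkOrd ftE7 (List.range 7) 18 = true by decide +kernel)

theorem highE7 : ∀ i < chevE7.rank, co chevE7 0 i ≠ 0 := by decide +kernel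

theorem cntE7_0 : cnts ftE7 [0] (fun _ => true) 2 [initL ftE7 []] =
    [1, 1, 0] := by decide +kernel

theorem cntE7_1 : cnts ftE7 [2, 0] (fun _ => true) 3 [initL ftE7 [0]] =
    [1, 1, 1, 0] := by decide +kernel

theorem cntE7_2 : cnts ftE7 [3, 2, 0] (fun _ => true) 4 [initL ftE7 [2, 0]] =
    [1, 1, 1, 1, 0] := by decide +kernel

theorem cntE7_3 : cnts ftE7 [1, 3, 2, 0] (fun _ => true) 5 [initL ftE7 [3, 2, 0]] =
    [1, 1, 1, 1, 1, 0] := by decide +kernel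

theorem cntE7_4 : cnts ftE7 [4, 1, 3, 2, 0] (fun _ => true) 11 [initL ftE7 [1, 3, 2, 0]] =
    [1, 1, 1, 2, 2, 2, 2, 2, 1, 1, 1, 0] := by decide +kernel

theorem cntE7_5 : cnts ftE7 [5, 4, 1, 3, 2, 0] (fun _ => true) 17 [initL ftE7 [4, 1, 3, 2, 0]] =
    [1, 1, 1, 1, 2, 2, 2, 2, 3, 2, 2, 2, 2, 1, 1, 1, 1, 0] := by decide +kernel

theorem cntE7_6 : cnts ftE7 [6, 5, 4, 1, 3, 2, 0] (fun _ => true) 28 [initL ftE7 [5, 4, 1, 3, 2, 0]] =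
    [1, 1, 1, 1, 1, 2, 2, 2, 2, 3, 3, 3, 3, 3, 3, 3, 3, 3, 3, 2, 2, 2, 2, 1, 1, 1, 1, 1, 0] := by decide +kernel

theorem poinE7 [Fintype gE7.cd.W] (q : ℕ) :
    (gE7.cd.PS (fun _ => True) Set.univ q : ℤ) * (q - 1) ^ 7 = (q ^ 2 - 1) * (q ^ 6 - 1) * (q ^ 8 - 1) * (q ^ 10 - 1) * (q ^ 12 - 1) * (q ^ 14 - 1) * (q ^ 18 - 1) := by
  rw [← univ_eq (n := chevE7.rank) [6, 5, 4, 1, 3, 2, 0] (by decide), gE7.PS_step0 [5, 4, 1, 3, 2, 0] [6, 5, 4, 1, 3, 2, 0] (by decide) (by decide) _ _ cntE7_6 rfl,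
    gE7.PS_step0 [4, 1, 3, 2, 0] [5, 4, 1, 3, 2, 0] (by decide) (by decide) _ _ cntE7_5 rfl,
    gE7.PS_step0 [1, 3, 2, 0] [4, 1, 3, 2, 0] (by decide) (by decide) _ _ cntE7_4 rfl,
    gE7.PS_step0 [3, 2, 0] [1, 3, 2, 0] (by decide) (by decide) _ _ cntE7_3 rfl,
    gE7.PS_step0 [2, 0] [3, 2, 0] (by decide) (by decide) _ _ cntE7_2 rfl,
    gE7.PS_step0 [0] [2, 0] (by decide) (by decide) _ _ cntE7_1 rfl,
    gE7.PS_step0 [] [0] (by decide) (by decide) _ _ cntE7_0 rfl, empty_eq, RS.PS_empty _ trivial]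
  simp only [hor, List.foldr]
  push_cast
  ring

theorem cardWE7 : Nat.card gE7.cd.W = 2903040 := by
  classical
  rw [card_W_eq, ← univ_eq (n := chevE7.rank) [6, 5, 4, 1, 3, 2, 0] (by decide), gE7.PS_step0 [5, 4, 1, 3, 2, 0] [6, 5, 4, 1, 3, 2, 0] (by decide) (by decide) _ _ cntE7_6 rfl,
    gE7.PS_step0 [4, 1, 3, 2, 0] [5, 4, 1, 3, 2, 0] (by decide) (by decide) _ _ cntE7_5 rfl,
    gE7.PS_step0 [1, 3, 2, 0] [4, 1, 3, 2, 0] (by decide) (by decide) _ _ cntE7_4 rfl,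
    gE7.PS_step0 [3, 2, 0] [1, 3, 2, 0] (by decide) (by decide) _ _ cntE7_3 rfl,
    gE7.PS_step0 [2, 0] [3, 2, 0] (by decide) (by decide) _ _ cntE7_2 rfl,
    gE7.PS_step0 [0] [2, 0] (by decide) (by decide) _ _ cntE7_1 rfl,
    gE7.PS_step0 [] [0] (by decide) (by decide) _ _ cntE7_0 rfl, empty_eq, RS.PS_empty _ trivial]
  decide

theorem stE7_0 : 1 < chevE7.nroots ∧ 125 < chevE7.nroots ∧ 125 ≠ 1 ∧ 125 ≠ chevE7.neg 1 ∧
    chevE7.commTerms 1 125 = [(chevE7.simple 0, -1, 1, 1)] := by decide +kernel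

theorem stE7_1 : 7 < chevE7.nroots ∧ 122 < chevE7.nroots ∧ 122 ≠ 7 ∧ 122 ≠ chevE7.neg 7 ∧
    chevE7.commTerms 7 122 = [(chevE7.simple 1, -1, 1, 1)] := by decide +kernel

theorem stE7_2 : 2 < chevE7.nroots ∧ 124 < chevE7.nroots ∧ 124 ≠ 2 ∧ 124 ≠ chevE7.neg 2 ∧
    chevE7.commTerms 2 124 = [(chevE7.simple 2, -1, 1, 1)] := by decide +kernel

theorem stE7_3 : 3 < chevE7.nroots ∧ 123 < chevE7.nroots ∧ 123 ≠ 3 ∧ 123 ≠ chevE7.neg 3 ∧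
    chevE7.commTerms 3 123 = [(chevE7.simple 3, -1, 1, 1)] := by decide +kernel

theorem stE7_4 : 4 < chevE7.nroots ∧ 122 < chevE7.nroots ∧ 122 ≠ 4 ∧ 122 ≠ chevE7.neg 4 ∧
    chevE7.commTerms 4 122 = [(chevE7.simple 4, -1, 1, 1)] := by decide +kernel

theorem stE7_5 : 5 < chevE7.nroots ∧ 121 < chevE7.nroots ∧ 121 ≠ 5 ∧ 121 ≠ chevE7.neg 5 ∧
    chevE7.commTerms 5 121 = [(chevE7.simple 5, -1, 1, 1)] := by decide +kernel

theorem stE7_6 : 6 < chevE7.nroots ∧ 120 < chevE7.nroots ∧ 120 ≠ 6 ∧ 120 ≠ chevE7.neg 6 ∧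
    chevE7.commTerms 6 120 = [(chevE7.simple 6, -1, 1, 1)] := by decide +kernel

theorem cartanE8 : ∀ i j : Fin 8, chevE8.cartan i (chevE8.simple j) =
    (![![2, 0, -1, 0, 0, 0, 0, 0], ![0, 2, 0, -1, 0, 0, 0, 0], ![-1, 0, 2, -1, 0, 0, 0, 0], ![0, -1, -1, 2, -1, 0, 0, 0], ![0, 0, 0, -1, 2, -1, 0, 0], ![0, 0, 0, 0, -1, 2, -1, 0], ![0, 0, 0, 0, 0, -1, 2, -1], ![0, 0, 0, 0, 0, 0, -1, 2]] : Fin 8 → Fin 8 → ℤ) i j := by decide +kernel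

theorem coxE8 : ∃ cs : CoxeterSystem (CoxeterMatrix.E₈) gE8.cd.W, ∀ i, cs.simple i = gE8.cd.sW i :=
  gE8.exists_cox (CoxeterMatrix.E₈) (show ∀ i j : Fin 8, chkOrd ftE8 [i, j] ((CoxeterMatrix.E₈) i j) = true by decide +kernel)

theorem ordE8 : orderOf (gE8.cd.EW.wp (List.finRange 8)) = 30 :=
  gE8.orderOf_wp _ (show chkOrd ftE8 (List.range 8) 30 = true by decide +kernel)

theorem highE8 : ∀ i < chevE8.rank, co chevE8 0 i ≠ 0 := by decide +kernel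

theorem cntE8_0 : cnts ftE8 [0] (fun _ => true) 2 [initL ftE8 []] =
    [1, 1, 0] := by decide +kernel

theorem cntE8_1 : cnts ftE8 [2, 0] (fun _ => true) 3 [initL ftE8 [0]] =
    [1, 1, 1, 0] := by decide +kernel

theorem cntE8_2 : cnts ftE8 [3, 2, 0] (fun _ => true) 4 [initL ftE8 [2, 0]] =
    [1, 1, 1, 1, 0] := by decide +kernel

theorem cntE8_3 : cnts ftE8 [1, 3, 2, 0] (fun _ => true) 5 [initL ftE8 [3, 2, 0]] =
    [1, 1, 1, 1, 1, 0] := by decide +kernel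

theorem cntE8_4 : cnts ftE8 [4, 1, 3, 2, 0] (fun _ => true) 11 [initL ftE8 [1, 3, 2, 0]] =
    [1, 1, 1, 2, 2, 2, 2, 2, 1, 1, 1, 0] := by decide +kernel

theorem cntE8_5 : cnts ftE8 [5, 4, 1, 3, 2, 0] (fun _ => true) 17 [initL ftE8 [4, 1, 3, 2, 0]] =
    [1, 1, 1, 1, 2, 2, 2, 2, 3, 2, 2, 2, 2, 1, 1, 1, 1, 0] := by decide +kernel

theorem cntE8_6 : cnts ftE8 [6, 5, 4, 1, 3, 2, 0] (fun _ => true) 28 [initL ftE8 [5, 4, 1, 3, 2, 0]] =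
    [1, 1, 1, 1, 1, 2, 2, 2, 2, 3, 3, 3, 3, 3, 3, 3, 3, 3, 3, 2, 2, 2, 2, 1, 1, 1, 1, 1, 0] := by decide +kernel

theorem cntE8_7 : cnts ftE8 [7, 6, 5, 4, 1, 3, 2, 0] (fun _ => true) 58 [initL ftE8 [6, 5, 4, 1, 3, 2, 0]] =
    [1, 1, 1, 1, 1, 1, 2, 2, 2, 2, 3, 3, 4, 4, 4, 4, 5, 5, 6, 6, 6, 6, 7, 7, 7, 7, 7, 7, 8, 8, 7, 7, 7, 7, 7, 7, 6, 6, 6, 6, 5, 5, 4, 4, 4, 4, 3, 3, 2, 2, 2, 2, 1, 1, 1, 1, 1, 1, 0] := by decide +kernel

theorem poinE8 [Fintype gE8.cd.W] (q : ℕ) :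
    (gE8.cd.PS (fun _ => True) Set.univ q : ℤ) * (q - 1) ^ 8 = (q ^ 2 - 1) * (q ^ 8 - 1) * (q ^ 12 - 1) * (q ^ 14 - 1) * (q ^ 18 - 1) * (q ^ 20 - 1) * (q ^ 24 - 1) * (q ^ 30 - 1) := by
  rw [← univ_eq (n := chevE8.rank) [7, 6, 5, 4, 1, 3, 2, 0] (by decide), gE8.PS_step0 [6, 5, 4, 1, 3, 2, 0] [7, 6, 5, 4, 1, 3, 2, 0] (by decide) (by decide) _ _ cntE8_7 rfl,
    gE8.PS_step0 [5, 4, 1, 3, 2, 0] [6, 5, 4, 1, 3, 2, 0] (by decide) (by decide) _ _ cntE8_6 rfl,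
    gE8.PS_step0 [4, 1, 3, 2, 0] [5, 4, 1, 3, 2, 0] (by decide) (by decide) _ _ cntE8_5 rfl,
    gE8.PS_step0 [1, 3, 2, 0] [4, 1, 3, 2, 0] (by decide) (by decide) _ _ cntE8_4 rfl,
    gE8.PS_step0 [3, 2, 0] [1, 3, 2, 0] (by decide) (by decide) _ _ cntE8_3 rfl,
    gE8.PS_step0 [2, 0] [3, 2, 0] (by decide) (by decide) _ _ cntE8_2 rfl,
    gE8.PS_step0 [0] [2, 0] (by decide) (by decide) _ _ cntE8_1 rfl,
    gE8.PS_step0 [] [0] (by decide) (by decide) _ _ cntE8_0 rfl, empty_eq, RS.PS_empty _ trivial]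
  simp only [hor, List.foldr]
  push_cast
  ring

theorem cardWE8 : Nat.card gE8.cd.W = 696729600 := by
  classical
  rw [card_W_eq, ← univ_eq (n := chevE8.rank) [7, 6, 5, 4, 1, 3, 2, 0] (by decide), gE8.PS_step0 [6, 5, 4, 1, 3, 2, 0] [7, 6, 5, 4, 1, 3, 2, 0] (by decide) (by decide) _ _ cntE8_7 rfl,
    gE8.PS_step0 [5, 4, 1, 3, 2, 0] [6, 5, 4, 1, 3, 2, 0] (by decide) (by decide) _ _ cntE8_6 rfl,
    gE8.PS_step0 [4, 1, 3, 2, 0] [5, 4, 1, 3, 2, 0] (by decide) (by decide) _ _ cntE8_5 rfl,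
    gE8.PS_step0 [1, 3, 2, 0] [4, 1, 3, 2, 0] (by decide) (by decide) _ _ cntE8_4 rfl,
    gE8.PS_step0 [3, 2, 0] [1, 3, 2, 0] (by decide) (by decide) _ _ cntE8_3 rfl,
    gE8.PS_step0 [2, 0] [3, 2, 0] (by decide) (by decide) _ _ cntE8_2 rfl,
    gE8.PS_step0 [0] [2, 0] (by decide) (by decide) _ _ cntE8_1 rfl,
    gE8.PS_step0 [] [0] (by decide) (by decide) _ _ cntE8_0 rfl, empty_eq, RS.PS_empty _ trivial]
  decide

theorem stE8_0 : 14 < chevE8.nroots ∧ 233 < chevE8.nroots ∧ 233 ≠ 14 ∧ 233 ≠ chevE8.neg 14 ∧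
    chevE8.commTerms 14 233 = [(chevE8.simple 0, -1, 1, 1)] := by decide +kernel

theorem stE8_1 : 7 < chevE8.nroots ∧ 234 < chevE8.nroots ∧ 234 ≠ 7 ∧ 234 ≠ chevE8.neg 7 ∧
    chevE8.commTerms 7 234 = [(chevE8.simple 1, -1, 1, 1)] := by decide +kernel

theorem stE8_2 : 6 < chevE8.nroots ∧ 234 < chevE8.nroots ∧ 234 ≠ 6 ∧ 234 ≠ chevE8.neg 6 ∧
    chevE8.commTerms 6 234 = [(chevE8.simple 2, -1, 1, 1)] := by decide +kernel

theorem stE8_3 : 5 < chevE8.nroots ∧ 235 < chevE8.nroots ∧ 235 ≠ 5 ∧ 235 ≠ chevE8.neg 5 ∧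
    chevE8.commTerms 5 235 = [(chevE8.simple 3, -1, 1, 1)] := by decide +kernel

theorem stE8_4 : 4 < chevE8.nroots ∧ 236 < chevE8.nroots ∧ 236 ≠ 4 ∧ 236 ≠ chevE8.neg 4 ∧
    chevE8.commTerms 4 236 = [(chevE8.simple 4, -1, 1, 1)] := by decide +kernel

theorem stE8_5 : 3 < chevE8.nroots ∧ 237 < chevE8.nroots ∧ 237 ≠ 3 ∧ 237 ≠ chevE8.neg 3 ∧
    chevE8.commTerms 3 237 = [(chevE8.simple 5, -1, 1, 1)] := by decide +kernel

theorem stE8_6 : 2 < chevE8.nroots ∧ 238 < chevE8.nroots ∧ 238 ≠ 2 ∧ 238 ≠ chevE8.neg 2 ∧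
    chevE8.commTerms 2 238 = [(chevE8.simple 6, -1, 1, 1)] := by decide +kernel

theorem stE8_7 : 1 < chevE8.nroots ∧ 239 < chevE8.nroots ∧ 239 ≠ 1 ∧ 239 ≠ chevE8.neg 1 ∧
    chevE8.commTerms 1 239 = [(chevE8.simple 7, -1, 1, 1)] := by decide +kernel

end Chev
end CfsgH6
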