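import Cfsg.Agent.H6.Oct1
import Cfsg.Prelude.Def_G2

/-! The representations of `G₂` on the octonions and, in characteristic two, in dimension six. -/

set_option autoImplicit false

noncomputable section

namespace CfsgH6
namespace Chev

open Cfsg.Lie Matrix

universe u

/-- columns on the octonions -/
def tab8 : List (List (List Tm)) :=
  [[[], [], [⟨3, -1, 1⟩], [], [], [], [⟨5, 1, 1⟩], []],
   [[], [⟨3, 1, 1⟩], [], [], [], [], [⟨4, -1, 1⟩], []],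
   [[⟨3, -1, 1⟩], [⟨5, -1, 1⟩], [⟨4, 1, 1⟩], [], [], [], [⟨0, 1, 1⟩, ⟨7, -1, 1⟩, ⟨3, -1, 2⟩], [⟨3, 1, 1⟩]],
   [[⟨5, -1, 1⟩], [], [⟨0, 1, 1⟩, ⟨7, -1, 1⟩, ⟨5, -1, 2⟩], [], [⟨3, 1, 1⟩], [], [⟨1, -1, 1⟩], [⟨5, 1, 1⟩]],
   [[⟨4, 1, 1⟩], [⟨0, -1, 1⟩, ⟨7, 1, 1⟩, ⟨4, -1, 2⟩], [], [], [], [⟨3, 1, 1⟩], [⟨2, -1, 1⟩], [⟨4, -1, 1⟩]],
   [[], [], [⟨1, -1, 1⟩], [], [⟨5, 1, 1⟩], [], [], []],
   [[], [⟨2, -1, 1⟩], [], [], [], [⟨4, 1, 1⟩], [], []],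
   [[⟨1, -1, 1⟩], [], [⟨6, -1, 1⟩], [⟨5, 1, 1⟩], [⟨0, 1, 1⟩, ⟨7, -1, 1⟩, ⟨1, -1, 2⟩], [], [], [⟨1, 1, 1⟩]],
   [[⟨2, 1, 1⟩], [⟨6, -1, 1⟩], [], [⟨4, 1, 1⟩], [], [⟨0, -1, 1⟩, ⟨7, 1, 1⟩, ⟨2, -1, 2⟩], [], [⟨2, -1, 1⟩]],
   [[⟨6, 1, 1⟩], [], [], [⟨0, -1, 1⟩, ⟨7, 1, 1⟩, ⟨6, -1, 2⟩], [⟨2, 1, 1⟩], [⟨1, -1, 1⟩], [], [⟨6, -1, 1⟩]],
   [[], [], [], [⟨1, 1, 1⟩], [⟨6, -1, 1⟩], [], [], []],
   [[], [], [], [⟨2, -1, 1⟩], [], [⟨6, 1, 1⟩], [], []]]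

/-- columns in dimension six -/
def tab6 : List (List (List Tm)) :=
  [[[], [⟨2, -1, 1⟩], [], [], [], [⟨4, 1, 1⟩]],
   [[⟨2, 1, 1⟩], [], [], [], [], [⟨3, -1, 1⟩]],
   [[⟨4, -1, 1⟩], [⟨3, 1, 1⟩], [], [], [], [⟨2, -1, 2⟩]],
   [[], [⟨4, -1, 2⟩], [], [⟨2, 1, 1⟩], [], [⟨0, -1, 1⟩]],
   [[⟨3, -1, 2⟩], [], [], [], [⟨2, 1, 1⟩], [⟨1, -1, 1⟩]],
   [[], [⟨0, -1, 1⟩], [], [⟨4, 1, 1⟩], [], []],
   [[⟨1, -1, 1⟩], [], [], [], [⟨3, 1, 1⟩], []],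
   [[], [⟨5, -1, 1⟩], [⟨4, 1, 1⟩], [⟨0, -1, 2⟩], [], []],
   [[⟨5, -1, 1⟩], [], [⟨3, 1, 1⟩], [], [⟨1, -1, 2⟩], []],
   [[], [], [⟨5, -1, 2⟩], [⟨1, 1, 1⟩], [⟨0, -1, 1⟩], []],
   [[], [], [⟨0, 1, 1⟩], [⟨5, -1, 1⟩], [], []],
   [[], [], [⟨1, -1, 1⟩], [], [⟨5, 1, 1⟩], []]]

def cl8 (r b : ℕ) : List Tm := (tab8.getD r []).getD b []
def cl6 (r b : ℕ) : List Tm := (tab6.getD r []).getD b []
def wt8 (i b : ℕ) : ℤ := ([[0, 2, -1, -1, -2, 1, 1, 0], [0, -1, 1, 0, 1, -1, 0, 0]].getD i []).getD b 0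
def wt6 (i b : ℕ) : ℤ := ([[2, -1, -1, -2, 1, 1], [-1, 1, 0, 1, -1, 0]].getD i []).getD b 0

theorem chk8 : chkRep gG2.T 8 cl8 ctx0.cz wt8 = true := by decide +kernel
theorem chk6 : chkRep gG2.T 6 cl6 (ctxP 2).cz wt6 = true := by decide +kernel

section
variable {F : Type u} [Field F] {Γ : Type*} [Group Γ] (Y : PreSt gG2.cd F Γ) (hM : Y.Mult)

/-- homomorphism from the Chevalley group -/
def homG2 : chevG2.group F →* Γ := (Good.lift Y hM).comp (gG2.iso (by simp) adG2_C F).symm.toMonoidHom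

theorem homG2_x (r t) : homG2 Y hM ((gG2.adjG F).x r t) = Y.x r t := by
  rw [← gG2.iso_x (by simp) adG2_C F r t]
  simp only [homG2, MonoidHom.comp_apply, MulEquiv.coe_toMonoidHom, MulEquiv.symm_apply_apply]
  exact Good.lift_x Y hM r t

end

variable (F : Type u) [Field F]

/-- the Steinberg system on the octonions -/
def oct : PreSt gG2.cd F (GL (Fin 8) F) := gG2.rep (ctx0_sound (F := F) 1).cz chk8

/-- the octonion representation -/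
def ρ8 : chevG2.group F →* GL (Fin 8) F := homG2 (oct F) (gG2.rep_mult _ _)

theorem ρ8_x (r t) : ρ8 F ((gG2.adjG F).x r t) = (oct F).x r t := homG2_x _ _ r t

variable {F}

theorem o7 (t : F) (v : Fin 8 → F) : XM 8 cl8 7 t *ᵥ v =
    ![v 0 + t * v 4, v 1 - t * v 0 - t ^ 2 * v 4 + t * v 7, v 2, v 3, v 4, v 5 + t * v 3, v 6 - t * v 2,
      v 7 - t * v 4] := by
  ext i
  fin_cases i <;> simp [mulVec, dotProduct, Fin.sum_univ_eight, XM, bs, cSum, cl8, tab8] <;> ring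

theorem o4 (t : F) (v : Fin 8 → F) : XM 8 cl8 4 t *ᵥ v =
    ![v 0 - t * v 1, v 1, v 2 - t * v 6, v 3 + t * v 5, v 4 + t * v 0 - t ^ 2 * v 1 - t * v 7, v 5, v 6,
      v 7 + t * v 1] := by
  ext i
  fin_cases i <;> simp [mulVec, dotProduct, Fin.sum_univ_eight, XM, bs, cSum, cl8, tab8] <;> ring

theorem o6 (t : F) (v : Fin 8 → F) : XM 8 cl8 6 t *ᵥ v =
    ![v 0, v 1, v 2 - t * v 1, v 3, v 4 + t * v 5, v 5, v 6, v 7] := by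
  ext i
  fin_cases i <;> simp [mulVec, dotProduct, Fin.sum_univ_eight, XM, bs, cSum, cl8, tab8] <;> ring

theorem o5 (t : F) (v : Fin 8 → F) : XM 8 cl8 5 t *ᵥ v =
    ![v 0, v 1 - t * v 2, v 2, v 3, v 4, v 5 + t * v 4, v 6, v 7] := by
  ext i
  fin_cases i <;> simp [mulVec, dotProduct, Fin.sum_univ_eight, XM, bs, cSum, cl8, tab8] <;> ring

theorem m4 (t : F) (x y : Fin 8 → F) :
    XM 8 cl8 4 t *ᵥ zornMul x y = zornMul (XM 8 cl8 4 t *ᵥ x) (XM 8 cl8 4 t *ᵥ y) := by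
  simp only [o4]
  ext i
  fin_cases i <;> simp [zornMul, dot3, cross3] <;> ring

theorem m5 (t : F) (x y : Fin 8 → F) :
    XM 8 cl8 5 t *ᵥ zornMul x y = zornMul (XM 8 cl8 5 t *ᵥ x) (XM 8 cl8 5 t *ᵥ y) := by
  simp only [o5]
  ext i
  fin_cases i <;> simp [zornMul, dot3, cross3] <;> ring

theorem m6 (t : F) (x y : Fin 8 → F) :
    XM 8 cl8 6 t *ᵥ zornMul x y = zornMul (XM 8 cl8 6 t *ᵥ x) (XM 8 cl8 6 t *ᵥ y) := by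
  simp only [o6]
  ext i
  fin_cases i <;> simp [zornMul, dot3, cross3] <;> ring

theorem m7 (t : F) (x y : Fin 8 → F) :
    XM 8 cl8 7 t *ᵥ zornMul x y = zornMul (XM 8 cl8 7 t *ᵥ x) (XM 8 cl8 7 t *ᵥ y) := by
  simp only [o7]
  ext i
  fin_cases i <;> simp [zornMul, dot3, cross3] <;> ring

theorem oct_mem (r : Fin chevG2.nroots) (hr : (r : ℕ) = 4 ∨ (r : ℕ) = 5 ∨ (r : ℕ) = 6 ∨ (r : ℕ) = 7) (t : F) :
    (oct F).x r t ∈ G2 F := by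
  intro x y
  change XM 8 cl8 r t *ᵥ _ = zornMul (XM 8 cl8 r t *ᵥ _) (XM 8 cl8 r t *ᵥ _)
  rcases hr with h | h | h | h <;> rw [h]
  exacts [m4 t x y, m5 t x y, m6 t x y, m7 t x y]

theorem ρ8_mem (y : chevG2.group F) : ρ8 F y ∈ G2 F := by
  have := (gG2.isStG F).G_le_of_pm (K := (G2 F).comap (ρ8 F)) (fun i t => by
    rw [Subgroup.mem_comap, ρ8_x]
    exact oct_mem _ (by revert i; decide +kernel) t) fun i t => by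
    rw [Subgroup.mem_comap, ρ8_x]
    exact oct_mem _ (by revert i; decide +kernel) t
  exact this (by rw [gG2.adjG_G]; trivial)

end Chev
end CfsgH6
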