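import Cfsg.Agent.H6.Lg7

/-! Homocyclic Sylow subgroups. -/

set_option autoImplicit false

universe u

namespace CfsgH6

open Finset PreSt Cfsg.Lie
open Matrix hiding zpow_mul zpow_add zpow_neg one_zpow zpow_sub inv_zpow

theorem pev_take_drop (d : ℕ) (p : List ℤ) (x : ℤ) : pev p x = pev (p.take d) x + x ^ d * pev (p.drop d) x := by
  induction d generalizing p with
  | zero => simp
  | succ d ih =>
    cases p with
    | nil => simp
    | cons a p => rw [List.take_succ_cons, List.drop_succ_cons, pev_cons, pev_cons, ih p]; ring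

/-- reduction modulo `x ^ d - 1` -/
def pred (d : ℕ) : ℕ → List ℤ → List ℤ
  | 0, p => p
  | n + 1, p => padd (p.take d) (pred d n (p.drop d))

theorem pev_pred (d n : ℕ) (p : List ℤ) (x : ℤ) : x ^ d - 1 ∣ pev p x - pev (pred d n p) x := by
  induction n generalizing p with
  | zero => simp [pred]
  | succ n ih =>
    rw [pred, pev_padd, pev_take_drop d p]
    obtain ⟨k, hk⟩ := ih (p.drop d)
    exact ⟨k + pev (p.drop d) x, by linear_combination hk⟩

/-- multiplication by `∏ (x ^ e - 1)` -/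
def pmulS (S : List ℕ) (p : List ℤ) : List ℤ :=
  S.foldr (fun e p => padd (List.replicate e 0 ++ p) (p.map (-1 * ·))) p

theorem pev_pmulS (S : List ℕ) (p : List ℤ) (x : ℤ) :
    pev (pmulS S p) x = (S.map (x ^ · - 1)).prod * pev p x := by
  induction S with
  | nil => simp [pmulS]
  | cons e S ih =>
    have : ∀ (e : ℕ) (p : List ℤ), pev (List.replicate e 0 ++ p) x = x ^ e * pev p x := fun e p => by
      induction e with
      | zero => simp
      | succ e ih => rw [List.replicate_succ, List.cons_append, pev_cons, ih]; ring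
    rw [pmulS, List.foldr_cons, pev_padd, pev_map, this, ← pmulS, ih, List.map_cons, List.prod_cons]
    ring

theorem pev_eq_zero {p : List ℤ} (h : ∀ a ∈ p, a = 0) (x : ℤ) : pev p x = 0 := by
  induction p with
  | nil => rfl
  | cons a p ih => rw [pev_cons, h a (by simp), ih fun b hb => h b (by simp [hb])]; simp

theorem exists_torus_hom {I : Type} [Fintype I] {A C : Type*} [CommGroup A] [CommGroup C] (M : Matrix I I ℤ) (q : ℤ)
    {d a m : ℕ} (V : Fin a → ℕ → I → ℤ) (B : Fin a → I → ℤ)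
    (hV : ∀ j, ∀ k < d, V j k ᵥ* M = V j ((k + 1) % d)) (hm : (m : ℤ) ∣ q ^ d - 1) {N : ℕ} (hN : N.Coprime m)
    (hB : ∀ i j, (m : ℤ) ∣ ∑ k ∈ range d, (V j k ⬝ᵥ B i) * q ^ k - if i = j then (N : ℤ) else 0)
    (χ : C →* A) (hχ : Function.Injective χ) (hC : ∀ x : C, x ^ m = 1) :
    ∃ φ : (Fin a → C) →* (I → A), Function.Injective φ ∧ ∀ x, ma (q • M) (φ x) = φ x := by
  have h1 : ∀ (x : C) {n : ℤ}, (m : ℤ) ∣ n → χ x ^ n = 1 := fun x n ⟨k, hk⟩ => by
    rw [hk, zpow_mul, zpow_natCast, ← map_pow, hC, map_one, one_zpow]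
  set y : Fin a → I → ℤ := fun j => ∑ k ∈ range d, q ^ k • V j k with hy
  have hd : ∀ i j, y j ⬝ᵥ B i = ∑ k ∈ range d, (V j k ⬝ᵥ B i) * q ^ k := fun i j => by
    rw [hy, sum_dotProduct]
    exact sum_congr rfl fun k _ => by rw [smul_dotProduct, smul_eq_mul, mul_comm]
  refine ⟨∏ j, (RS.cv (y j)).comp (χ.comp (Pi.evalMonoidHom _ j)), (injective_iff_map_eq_one _).2 fun x hx => ?_,
    fun x => ?_⟩
  · ext i
    have := congrArg (ca (B i)) hx
    simp only [MonoidHom.finset_prod_apply, map_prod, MonoidHom.comp_apply, ca_cv, map_one,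
      Pi.evalMonoidHom_apply] at this
    rw [prod_eq_single i (fun j _ hj => h1 _ (by simpa [hd, hj.symm] using hB i j))
      (by simp)] at this
    have h2 := h1 (x i) (hB i i)
    rw [if_pos rfl, zpow_sub, ← hd, this, one_mul, inv_eq_one, zpow_natCast, ← map_pow,
      map_eq_one_iff _ hχ] at h2
    exact (pow_eq_one_iff_of_coprime hN).1 ⟨h2, hC _⟩
  · simp only [MonoidHom.finset_prod_apply, map_prod, MonoidHom.comp_apply, ma_cv, Pi.evalMonoidHom_apply]
    refine prod_congr rfl fun j _ => funext fun s => ?_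
    rw [RS.cv_apply, RS.cv_apply, ← mul_inv_eq_one, ← zpow_sub]
    refine h1 _ (hm.trans ?_)
    have : y j ᵥ* (q • M) = ∑ k ∈ range d, q ^ (k + 1) • V j ((k + 1) % d) := by
      rw [hy, sum_vecMul]
      exact sum_congr rfl fun k hk => by
        rw [vecMul_smul, smul_vecMul, hV j k (mem_range.1 hk), smul_smul, pow_succ']
    have h3 := sum_range_succ' (fun k => q ^ k • V j (k % d)) d
    rw [sum_range_succ, ← this, sum_congr rfl fun k hk => by rw [Nat.mod_eq_of_lt (mem_range.1 hk)]] at h3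
    have h4 := congrFun h3 s
    simp only [Nat.mod_self, Nat.zero_mod, Pi.add_apply, Pi.smul_apply, smul_eq_mul, pow_zero, one_mul] at h4
    exact ⟨V j 0 s, by simp only [hy]; linear_combination -h4⟩

section nt
variable {r q : ℕ} [hr : Fact r.Prime]

theorem dvd_pow_sub_one_iff (hq : 0 < q) (e : ℕ) : r ∣ q ^ e - 1 ↔ orderOf (q : ZMod r) ∣ e := by
  rw [orderOf_dvd_iff_pow_eq_one, ← ZMod.natCast_eq_zero_iff, Nat.cast_sub (Nat.one_le_pow _ _ hq), sub_eq_zero]
  simp

theorem padic_cyclotomic (hq : 1 < q) (hrq : ¬ r ∣ q) : padicValNat r (q ^ orderOf (q : ZMod r) - 1) =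
    padicValNat r ((Polynomial.cyclotomic (orderOf (q : ZMod r)) ℤ).eval (q : ℤ)).natAbs := by
  set d := orderOf (q : ZMod r) with hd
  have h0 : 0 < d := orderOf_pos_iff.2 (isOfFinOrder_iff_pow_eq_one.2 ⟨r - 1, by have := hr.out.one_lt; omega,
    ZMod.pow_card_sub_one_eq_one (by rwa [Ne, ZMod.natCast_eq_zero_iff])⟩)
  have key : ∀ e, 0 < e → q ^ e - 1 = ∏ k ∈ e.divisors, ((Polynomial.cyclotomic k ℤ).eval (q : ℤ)).natAbs :=
    fun e he => by
      have := congrArg (fun f => (Polynomial.eval (q : ℤ) f).natAbs) (Polynomial.prod_cyclotomic_eq_X_pow_sub_one he ℤ)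
      simp only [Polynomial.eval_prod, Polynomial.eval_sub, Polynomial.eval_pow, Polynomial.eval_X,
        Polynomial.eval_one] at this
      rw [← Int.natAbsHom_apply, map_prod] at this
      rw [← Int.natAbs_natCast (q ^ e - 1), Chev.cast_pow_sub_one hq.le]
      exact this.symm
  have h1 : q ^ d - 1 ≠ 0 := Nat.sub_ne_zero_of_lt (Nat.one_lt_pow h0.ne' hq)
  rw [key d h0, ← Nat.insert_self_properDivisors h0.ne', prod_insert (by simp)] at h1 ⊢
  rw [padicValNat.mul (left_ne_zero_of_mul h1) (right_ne_zero_of_mul h1), padicValNat.eq_zero_of_not_dvd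
    (n := ∏ _ ∈ _, _), add_zero]
  refine hr.out.prime.not_dvd_finset_prod fun k hk h => ?_
  have h2 := Nat.pos_of_mem_properDivisors hk
  refine Nat.not_dvd_of_pos_of_lt h2 (Nat.mem_properDivisors.1 hk).2 ((dvd_pow_sub_one_iff (by omega) k).1 ?_)
  rw [key k h2]
  exact h.trans (dvd_prod_of_mem (fun k => ((Polynomial.cyclotomic k ℤ).eval (q : ℤ)).natAbs)
    (Nat.mem_divisors_self k h2.ne'))

theorem padic_prod (hq : 1 < q) (hrq : ¬ r ∣ q) (h2 : r ≠ 2) (L : List ℕ) (hL : ¬ r ∣ L.prod) :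
    padicValNat r (L.map (q ^ · - 1)).prod =
      padicValNat r (q ^ orderOf (q : ZMod r) - 1) * (L.filter (orderOf (q : ZMod r) ∣ ·)).length ∧
      (L.map (q ^ · - 1)).prod ≠ 0 := by
  induction L with
  | nil => simp
  | cons e L ih =>
    rw [List.prod_cons, hr.out.dvd_mul, not_or] at hL
    have he : e ≠ 0 := fun h => hL.1 (by simp [h])
    have h1 : q ^ e - 1 ≠ 0 := Nat.sub_ne_zero_of_lt (Nat.one_lt_pow he hq)
    rw [List.map_cons, List.prod_cons, padicValNat.mul h1 (ih hL.2).2, (ih hL.2).1]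
    refine ⟨?_, mul_ne_zero h1 (ih hL.2).2⟩
    by_cases h : orderOf (q : ZMod r) ∣ e
    · obtain ⟨k, rfl⟩ := h
      have := padicValNat.pow_sub_pow (hr.out.odd_of_ne_two h2) (Nat.one_lt_pow (left_ne_zero_of_mul he) hq)
        ((dvd_pow_sub_one_iff (by omega) _).2 dvd_rfl) (fun h => hrq (hr.out.dvd_of_dvd_pow h))
        (right_ne_zero_of_mul he)
      rw [one_pow, ← pow_mul] at this
      rw [this, padicValNat.eq_zero_of_not_dvd (n := k) fun h => hL.1 (h.mul_left _), List.filter_cons_of_pos (by simp),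
        List.length_cons]
      ring
    · rw [List.filter_cons_of_neg (by simpa), padicValNat.eq_zero_of_not_dvd
        ((dvd_pow_sub_one_iff (by omega) _).not.2 h), zero_add]

end nt

theorem Sylow.equiv_of_card {G H : Type*} [Group G] [Finite G] [Group H] {r : ℕ} [Fact r.Prime] (P : Sylow r G)
    (f : H →* G) (hf : Function.Injective f) (h : Nat.card H = r ^ padicValNat r (Nat.card G)) :
    Nonempty (P ≃* H) :=
  ⟨(P.equiv (Sylow.ofCard f.range (by
    rw [← Nat.card_congr (f.ofInjective hf).toEquiv, h, Nat.factorization_def _ Fact.out]))).trans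
    (f.ofInjective hf).symm⟩

end CfsgH6
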