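import Cfsg.Agent.H6.Oct3
import Cfsg.Agent.H6.Syl1

/-! Sylow `2`-subgroups of `G₂(q)`, `q` odd. -/

set_option autoImplicit false

namespace CfsgH6

open Finset PreSt Cfsg.Lie

universe u

theorem exists_ext {G : Type*} [Group G] (H : Subgroup G) {x : G} (hx : ∀ h ∈ H, x * h * x⁻¹ ∈ H)
    (h2 : x * x ∈ H) (hn : x ∉ H) :
    ∃ H' : Subgroup G, (∀ g, g ∈ H' ↔ g ∈ H ∨ g * x ∈ H) ∧ Nat.card H' = 2 * Nat.card H := by
  have hx' : ∀ h ∈ H, x⁻¹ * h * x ∈ H := fun h hh => by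
    simpa [mul_assoc] using H.mul_mem (H.mul_mem (H.inv_mem h2) (hx h hh)) h2
  let H' : Subgroup G :=
    { carrier := {g | g ∈ H ∨ g * x ∈ H}
      one_mem' := .inl H.one_mem
      mul_mem' := by
        rintro a b (ha | ha) (hb | hb)
        · exact .inl (H.mul_mem ha hb)
        · exact .inr (mul_assoc a b x ▸ H.mul_mem ha hb)
        · exact .inr (by simpa [mul_assoc] using H.mul_mem ha (hx' b hb))
        · exact .inl (by simpa [mul_assoc] using H.mul_mem (H.mul_mem ha (hx' _ hb)) (H.inv_mem h2))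
      inv_mem' := by
        rintro a (ha | ha)
        · exact .inl (H.inv_mem ha)
        · exact .inr (by simpa [mul_assoc] using H.mul_mem (hx _ (H.inv_mem ha)) h2) }
  refine ⟨H', fun _ => Iff.rfl, ?_⟩
  have hle : H ≤ H' := fun g hg => .inl hg
  rw [← (H.subgroupOf H').index_mul_card, Nat.card_congr (Subgroup.subgroupOfEquivOfLe hle).toEquiv,
    Subgroup.index_eq_two_iff.2 ⟨⟨x, .inr h2⟩, fun b => ?_⟩]
  simp only [Subgroup.mem_subgroupOf, Subgroup.coe_mul]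
  have : ¬ (b.1 * x ∈ H ∧ b.1 ∈ H) := fun h => hn (by simpa using H.mul_mem (H.inv_mem h.2) h.1)
  rcases b.2 with h | h
  · exact .inr ⟨h, fun h' => this ⟨h', h⟩⟩
  · exact .inl ⟨h, fun h' => this ⟨h, h'⟩⟩

theorem exists_four {G : Type*} [Group G] (T : Subgroup G) {x y : G} (hx : ∀ t ∈ T, x * t * x⁻¹ = t⁻¹)
    (hy : ∀ t ∈ T, y * t * y⁻¹ ∈ T) (x2 : x * x = 1) (y2 : y * y = 1) (hxy : y * x * y⁻¹ * x ∈ T)
    (hn : x ∉ T) (hn1 : y ∉ T) (hn2 : y * x ∉ T) :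
    ∃ Q : Subgroup G, (∀ K : Subgroup G, T ≤ K → x ∈ K → y ∈ K → Q ≤ K) ∧ Nat.card Q = 4 * Nat.card T ∧
      ∀ {A : Type*} [CommGroup A] (φ : Q →* A) (g : Q), φ g ^ 2 = 1 := by
  obtain ⟨H, h1, c1⟩ := exists_ext T (x := x) (fun t ht => hx t ht ▸ T.inv_mem ht) (x2 ▸ T.one_mem) hn
  obtain ⟨Q, h2, c2⟩ := exists_ext H (x := y) (fun h hh => (h1 _).2 (by
    rcases (h1 _).1 hh with hh | hh
    · exact .inl (hy _ hh)
    · refine .inr ?_
      have := T.mul_mem (hy _ hh) hxy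
      rwa [show y * (h * x) * y⁻¹ * (y * x * y⁻¹ * x) = y * h * (x * x) * y⁻¹ * x by group, x2, mul_one] at this))
    (y2 ▸ H.one_mem) fun h => ((h1 _).1 h).elim hn1 hn2
  have key : ∀ K : Subgroup G, T ≤ K → x ∈ K → y ∈ K → Q ≤ K := fun K a b c g hg => by
    have : H ≤ K := fun g hg => ((h1 _).1 hg).elim (fun h => a h) fun h => (K.mul_mem_cancel_right b).1 (a h)
    exact ((h2 _).1 hg).elim (fun h => this h) fun h => (K.mul_mem_cancel_right c).1 (this h)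
  refine ⟨Q, key, by rw [c2, c1]; ring, fun φ g => ?_⟩
  have xq : x ∈ Q := (h2 _).2 (.inl ((h1 _).2 (.inr (x2 ▸ T.one_mem))))
  have yq : y ∈ Q := (h2 _).2 (.inr (y2 ▸ H.one_mem))
  have a : ∀ z : Q, z.1 * z.1 = 1 → φ z ^ 2 = 1 := fun z hz => by
    rw [sq, ← map_mul, show z * z = 1 from Subtype.ext hz, map_one]
  obtain ⟨_, h, e⟩ := key ((((powMonoidHom 2).comp φ).ker).map Q.subtype) (fun t ht => by
    have tq : t ∈ Q := (h2 _).2 (.inl ((h1 _).2 (.inl ht)))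
    refine ⟨⟨t, tq⟩, ?_, rfl⟩
    have := a (⟨t, tq⟩ * ⟨x, xq⟩) (by
      change t * x * (t * x) = 1
      rw [show t * x * (t * x) = t * (x * t * x⁻¹) * (x * x) by group, hx t ht, x2]; simp)
    rwa [map_mul, mul_pow, a ⟨x, xq⟩ x2, mul_one] at this) ⟨⟨x, xq⟩, a _ x2, rfl⟩ ⟨⟨y, yq⟩, a _ y2, rfl⟩ g.2
  rw [← Subtype.ext e]
  exact h

namespace Fam
variable {I R : Type} [Fintype I] [DecidableEq I] {Φ : CD I R} {𝒢 : Fam.{u} Φ} [Finite R]
  {K : Type u} [Field K] [IsAlgClosed K] {p : ℕ} [hp : Fact p.Prime] [CharP K p]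

theorem syl_two (h2 : (2 : K) ≠ 0) {a b : R}
    (hab : ∀ r ∈ [a, Φ.neg a], ∀ s ∈ [b, Φ.neg b], s ≠ r ∧ s ≠ Φ.neg r ∧ Φ.tm r s = [])
    (hA : Φ.A b a = 0 ∧ Φ.A a b = 0)
    (hM : ∀ i j, Φ.A (Φ.sim i) a * Φ.co a j + Φ.A (Φ.sim i) b * Φ.co b j = if i = j then 2 else 0)
    (he : ∀ j, Even (Φ.co a j + Φ.co b j)) {y : I → ℤ} (hy : Φ.pr y (Φ.rt a) = 1) {k : ℕ} (hk : 0 < k) (m : ℕ)
    (hq : m ∣ p ^ k - 1 ∨ m ∣ p ^ k + 1) (hm : 2 ∣ m) (hmK : (m : K) ≠ 0) :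
    ∃ z : 𝒢.Γ K, ∃ Q ≤ (SE.fr 𝒢 p hk).TF z, Nat.card Q = 4 * m ^ Fintype.card I ∧
      ∀ {A : Type*} [CommGroup A] (φ : Q →* A) (g : Q), φ g ^ 2 = 1 := by
  set X := 𝒢.X K
  have hX := 𝒢.st K
  have hM' := 𝒢.mu K
  have n1 : (-1 : K) ≠ 0 := by simp
  have cx : ∀ r ∈ [a, Φ.neg a], ∀ s ∈ [b, Φ.neg b], ∀ t u, Commute (X.x r t) (X.x s u) := fun r hr s hs t u => by
    obtain ⟨h1, h2, h3⟩ := hab r hr s hs
    exact (show _ = _ by simpa [h3] using X.comm r s t u h1 h2 : Commute (X.x s u) (X.x r t)).symm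
  have cn : Commute (X.n a (-1)) (X.n b (-1)) := by
    simp only [PreSt.n]
    refine ((Commute.mul_left ?_ ?_).mul_left ?_) <;> refine ((Commute.mul_right ?_ ?_).mul_right ?_) <;>
      exact cx _ (by simp) _ (by simp) _ _
  have aa := hX.act_n a n1
  have ab := hX.act_n b n1
  have ax := aa.mul ab
  have inv : ∀ c, X.n a (-1) * X.n b (-1) * 𝒢.hh K c * (X.n a (-1) * X.n b (-1))⁻¹ = (𝒢.hh K c)⁻¹ := fun c => by
    rw [hX.conj_hh hM' ax, ← map_inv, RS.wa_mul (Φ.refl_mem a), RS.wa_refl, RS.wa_refl, map_mul (Φ.ch a),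
      map_inv (Φ.ch a : (I → Kˣ) →* Kˣ), RS.ch_cv, show Φ.pr (Φ.co b) (Φ.rt a) = 0 from hA.1, zpow_zero, inv_one, mul_one]
    congr 1
    rw [mul_assoc, ← mul_inv, mul_inv_eq_iff_eq_mul, eq_inv_mul_iff_mul_eq]
    ext1 j
    simp only [Pi.mul_apply, RS.cv_apply, RS.ch_apply, ← prod_zpow, ← zpow_mul, ← prod_mul_distrib, ← zpow_add,
      add_comm (Φ.A _ b * _), hM]
    simp [apply_ite, sq, zpow_two]
  have sq : ∀ r, X.n r (-1) * X.n r (-1) = 𝒢.hh K (RS.cv (Φ.co r) (-1)) := fun r => by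
    rw [← hX.h_eq hM']; rfl
  have x2 : X.n a (-1) * X.n b (-1) * (X.n a (-1) * X.n b (-1)) = 1 := by
    rw [cn.symm.mul_mul_mul_comm, sq, sq, ← map_mul, ← map_one (𝒢.hh K)]
    congr 1
    ext1 j
    rw [Pi.mul_apply, RS.cv_apply, RS.cv_apply, ← zpow_add, (he j).neg_one_zpow]; rfl
  set d : I → Kˣ := RS.cv y (-1)
  have d2 : d * d = 1 := by rw [← map_mul]; simp
  have y2 : 𝒢.hh K d * X.n a (-1) * (𝒢.hh K d * X.n a (-1)) = 1 := by
    rw [show 𝒢.hh K d * X.n a (-1) * (𝒢.hh K d * X.n a (-1)) = 𝒢.hh K d * (X.n a (-1) * 𝒢.hh K d *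
      (X.n a (-1))⁻¹) * (X.n a (-1) * X.n a (-1)) by group, hX.conj_hh hM' aa, sq, ← map_mul, ← map_mul,
      RS.wa_refl, RS.ch_cv, hy, zpow_one, ← mul_assoc, d2, one_mul, inv_mul_cancel, map_one]
  let T := ((powMonoidHom m : (I → Kˣ) →* _).ker).map (𝒢.hh K)
  have dT : 𝒢.hh K d ∈ T := ⟨d, by
    obtain ⟨l, rfl⟩ := hm
    rw [SetLike.mem_coe, MonoidHom.mem_ker, powMonoidHom_apply, pow_mul, pow_two, d2, one_pow], rfl⟩
  have nT : ∀ {g σ}, X.Act g σ → g ∈ T → σ = 1 := fun hg ⟨c, _, e⟩ =>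
    hX.act_unique hg (hX.act_H (e ▸ hX.hh_mem hM' c))
  have ay := (hX.act_H (hX.hh_mem hM' d)).mul aa
  have r1 : Φ.refl b a = a := Φ.rt_inj (by rw [Φ.rt_refl, hA.1]; simp)
  have r2 : Φ.refl a b = b := Φ.rt_inj (by rw [Φ.rt_refl, hA.2]; simp)
  obtain ⟨Q, h1, h2, h3⟩ := exists_four T (x := X.n a (-1) * X.n b (-1)) (y := 𝒢.hh K d * X.n a (-1))
    (by rintro _ ⟨c, -, rfl⟩; exact inv c)
    (by
      rintro _ ⟨c, hc, rfl⟩
      rw [hX.conj_hh hM' ay]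
      exact ⟨_, by
        rw [SetLike.mem_coe, MonoidHom.mem_ker, powMonoidHom_apply] at hc ⊢
        rw [← map_pow, hc, map_one], rfl⟩) x2 y2
    (by
      have e : X.n a (-1) * (X.n a (-1) * X.n b (-1)) * (X.n a (-1))⁻¹ = X.n a (-1) * X.n b (-1) := by
        rw [mul_assoc, mul_assoc, cn.symm.inv_right.eq]; group
      rw [show 𝒢.hh K d * X.n a (-1) * (X.n a (-1) * X.n b (-1)) * (𝒢.hh K d * X.n a (-1))⁻¹ *
        (X.n a (-1) * X.n b (-1)) = 𝒢.hh K d * (X.n a (-1) * (X.n a (-1) * X.n b (-1)) * (X.n a (-1))⁻¹) *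
        (𝒢.hh K d)⁻¹ * (X.n a (-1) * X.n b (-1)) by group, e, ← inv d]
      rw [show ∀ D Z : 𝒢.Γ K, D * Z * (Z * D * Z⁻¹) * Z = D * (Z * Z) * D from fun _ _ => by group, x2, mul_one]
      exact T.mul_mem dT dT)
    (fun h => Φ.neg_ne a (by simpa [r1, Φ.refl_self] using DFunLike.congr_fun (nT ax h) a))
    (fun h => Φ.neg_ne a (by simpa [Φ.refl_self] using DFunLike.congr_fun (nT ay h) a))
    (fun h => Φ.neg_ne b (by simpa [Φ.refl_self, Φ.refl_refl] using DFunLike.congr_fun (nT (ay.mul ax) h) b))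
  have fn : ∀ r, (SE.fr 𝒢 p hk).σ K (X.n r (-1)) = X.n r (-1) := fun r => (𝒢.map_n _ r _).trans (by simp [X])
  have cT : Nat.card T = m ^ Fintype.card I := by
    rw [Subgroup.card_map_of_injective (𝒢.inj K)]
    have := card_ker_ma K ((m : ℤ) • (1 : Matrix I I ℤ)) (by rw [Matrix.det_smul]; simp [hmK])
    simp only [ma_smul, ma_one, Matrix.det_smul, Matrix.det_one, mul_one, Int.natAbs_pow, Int.natAbs_natCast,
      zpow_natCast] at this
    exact this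
  have hq1 : 1 ≤ p ^ k := Nat.one_le_pow _ _ hp.out.pos
  rcases hq with ⟨l, hl⟩ | ⟨l, hl⟩
  · have hT : T ≤ (SE.fr 𝒢 p hk).TF 1 := by
      rintro _ ⟨c, hc, rfl⟩
      rw [SE.mem_TF_one]
      refine (Fr_hh k c).trans (congrArg _ ?_)
      rw [← Nat.sub_add_cancel hq1, pow_succ, hl, pow_mul, show c ^ m = 1 from hc, one_pow, one_mul]
    refine ⟨1, Q, h1 _ hT ?_ (mul_mem (hT dT) ?_), by rw [h2, cT], h3⟩
    · rw [SE.mem_TF_one, map_mul, fn, fn]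
    · rw [SE.mem_TF_one, fn]
  · have hT : T ≤ (SE.fr 𝒢 p hk).TF (X.n a (-1) * X.n b (-1)) := by
      rintro _ ⟨c, hc, rfl⟩
      rw [SE.mem_TF, show (SE.fr 𝒢 p hk).σ K _ = _ from Fr_hh k c, inv, ← map_inv]
      congr 1
      rw [inv_eq_iff_mul_eq_one, ← pow_succ, hl, pow_mul, show c ^ m = 1 from hc, one_pow]
    refine ⟨_, Q, h1 _ hT ?_ (mul_mem (hT dT) ?_), by rw [h2, cT], h3⟩
    · rw [SE.mem_TF, map_mul, fn, fn, mul_inv_cancel_right]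
    · rw [SE.mem_TF, fn, mul_inv_eq_iff_eq_mul, mul_assoc, ← cn.eq]

end Fam

theorem padic_two {n a o : ℕ} (h : n = 2 ^ a * o) (ho : Odd o) : padicValNat 2 n = a := by
  rw [h, padicValNat.mul (by simp) ho.pos.ne', padicValNat.prime_pow,
    padicValNat.eq_zero_of_not_dvd (by rw [← even_iff_two_dvd]; exact Nat.not_even_iff_odd.2 ho), add_zero]

theorem two_part_G2 {q : ℕ} (hq : Odd q) (h1 : 1 < q) : ∃ k, 0 < k ∧ (2 ^ k ∣ q - 1 ∨ 2 ^ k ∣ q + 1) ∧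
    padicValNat 2 (q ^ 6 * (q ^ 2 - 1) * (q ^ 6 - 1)) = 2 * k + 2 := by
  obtain ⟨s, rfl⟩ := hq
  have key : ∀ k o o', Odd o → Odd o' → 4 * (s * (s + 1)) = 2 ^ k * o * (2 * o') →
      padicValNat 2 ((2 * s + 1) ^ 6 * ((2 * s + 1) ^ 2 - 1) * ((2 * s + 1) ^ 6 - 1)) = 2 * k + 2 := by
    intro k o o' h h' e
    refine padic_two (o := (2 * s + 1) ^ 6 * (o * o') ^ 2 * (2 * (8 * s ^ 4 + 16 * s ^ 3 + 14 * s ^ 2 + 6 * s + 1) + 1))
      ?_ (((odd_two_mul_add_one s).pow.mul (h.mul h').pow).mul (odd_two_mul_add_one _))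
    rw [show (2 * s + 1) ^ 2 - 1 = 4 * (s * (s + 1)) from Nat.sub_eq_of_eq_add (by ring),
      show (2 * s + 1) ^ 6 - 1 = 4 * (s * (s + 1)) * (2 * (8 * s ^ 4 + 16 * s ^ 3 + 14 * s ^ 2 + 6 * s + 1) + 1) from
        Nat.sub_eq_of_eq_add (by ring), e]
    ring
  rcases Nat.even_or_odd s with hs | hs
  · obtain ⟨k, o, ho, e⟩ := Nat.exists_eq_two_pow_mul_odd (n := s) (by omega)
    refine ⟨k + 1, by omega, .inl ⟨o, by rw [Nat.add_sub_cancel, pow_succ, e]; ring⟩,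
      key _ o (s + 1) ho hs.add_one ?_⟩
    rw [pow_succ]
    linear_combination (4 * (s + 1)) * e
  · obtain ⟨k, o, ho, e⟩ := Nat.exists_eq_two_pow_mul_odd (n := s + 1) (by omega)
    refine ⟨k + 1, by omega, .inr ⟨o, by rw [pow_succ]; linear_combination 2 * e⟩, key _ o s ho hs ?_⟩
    rw [pow_succ]
    linear_combination (4 * s) * e

namespace Chev

theorem syl_G2 {F : Type u} [Field F] [Fintype F] (hF : Odd (Fintype.card F)) (P : Sylow 2 (G2 F)) (x : P.1) :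
    x ^ 2 ∈ commutator P.1 := by
  obtain ⟨p, hp, _, h2, -⟩ := char_odd F hF
  haveI := Fact.mk hp
  obtain ⟨k, -, hk⟩ := FiniteField.card F p
  obtain ⟨e⟩ := isoG2 (F := F) ⟨-1, by simp, fun h => h2 ((CharP.cast_eq_zero_iff F p 2).1 (by
    push_cast; linear_combination -h))⟩
  obtain ⟨m, hm, h3, h4⟩ := two_part_G2 hF Fintype.one_lt_card
  have k2 : (2 : AlgebraicClosure F) ≠ 0 := fun h => h2 ((CharP.cast_eq_zero_iff _ p 2).1 h)
  obtain ⟨z, Q, hQ, c, h⟩ := Fam.syl_two (𝒢 := gG2.fam (by simp)) (p := p) k2 (a := ⟨7, by decide⟩)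
    (b := ⟨11, by decide⟩) (by decide +kernel) (by decide +kernel) (by decide +kernel) (by decide +kernel)
    (y := fun _ => 1) (by decide +kernel) k.2 (2 ^ m) (hk ▸ h3) (dvd_pow_self _ hm.ne') (by simp [k2])
  have hR := gG2.rz_fr (by simp) F k.2 hk
  rw [kerG2, pow_zero] at hR
  obtain ⟨e'⟩ := Fam.SE.Rz.equiv _ (algP_closure F p) hR z
  obtain ⟨ψ⟩ := Sylow.equiv_of_card P ((e'.trans e).toMonoidHom.comp (Subgroup.inclusion hQ))
    ((e'.trans e).injective.comp (Subgroup.inclusion_injective hQ)) (by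
      have := cardG2 F
      rw [pow_zero, one_mul, Nat.card_congr e.toEquiv, Nat.card_eq_fintype_card (α := F)] at this
      rw [this, h4, c, Fintype.card_fin, show chevG2.rank = 2 from rfl]; ring)
  have := h (Abelianization.of.comp ψ.symm.toMonoidHom) (ψ x)
  rw [← Abelianization.ker_of, MonoidHom.mem_ker, map_pow]
  simpa using this

end Chev

end CfsgH6
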