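import Cfsg.Agent.H6.Lg16
import Cfsg.Agent.H6.Syl1

/-! Maximal tori of `F₄`. -/

set_option autoImplicit false

universe u

namespace CfsgH6

open Finset PreSt Cfsg.Lie
open Matrix hiding zpow_mul zpow_add zpow_neg one_zpow zpow_sub inv_zpow

/-- strictly increasing keys -/
def incB (f : ℕ → ℕ) (L : List ℕ) : ℕ → Bool :=
  List.rec (fun _ => true) (fun n _ ih a => Chev.strict (f n) fun b => Chev.band (Nat.blt a b) (ih b)) L

theorem incB_spec {f : ℕ → ℕ} {L : List ℕ} {a : ℕ} (h : incB f L a = true) :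
    (∀ n ∈ L, a < f n) ∧ (L.map f).Nodup := by
  induction L generalizing a with
  | nil => simp
  | cons n L ih =>
    replace h : Chev.strict (f n) (fun b => Chev.band (Nat.blt a b) (incB f L b)) = true := h
    rw [Chev.strict_eq, Chev.band_iff, Nat.blt_eq] at h
    obtain ⟨h1, h2⟩ := ih h.2
    refine ⟨fun m hm => (List.mem_cons.1 hm).elim (fun e => e ▸ h.1) fun hm => h.1.trans (h1 m hm), ?_⟩
    rw [List.map_cons, List.nodup_cons]
    exact ⟨fun hm => by
      obtain ⟨m, hm, e⟩ := List.mem_map.1 hm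
      exact (h1 m hm).ne' e, h2⟩

theorem det4 (A : Matrix (Fin 4) (Fin 4) ℤ) : A.det =
    A 0 0 * (A 1 1 * A 2 2 * A 3 3 - A 1 1 * A 2 3 * A 3 2 - A 1 2 * A 2 1 * A 3 3 + A 1 2 * A 2 3 * A 3 1 +
      A 1 3 * A 2 1 * A 3 2 - A 1 3 * A 2 2 * A 3 1) -
    A 0 1 * (A 1 0 * A 2 2 * A 3 3 - A 1 0 * A 2 3 * A 3 2 - A 1 2 * A 2 0 * A 3 3 + A 1 2 * A 2 3 * A 3 0 +
      A 1 3 * A 2 0 * A 3 2 - A 1 3 * A 2 2 * A 3 0) +
    A 0 2 * (A 1 0 * A 2 1 * A 3 3 - A 1 0 * A 2 3 * A 3 1 - A 1 1 * A 2 0 * A 3 3 + A 1 1 * A 2 3 * A 3 0 +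
      A 1 3 * A 2 0 * A 3 1 - A 1 3 * A 2 1 * A 3 0) -
    A 0 3 * (A 1 0 * A 2 1 * A 3 2 - A 1 0 * A 2 2 * A 3 1 - A 1 1 * A 2 0 * A 3 2 + A 1 1 * A 2 2 * A 3 0 +
      A 1 2 * A 2 0 * A 3 1 - A 1 2 * A 2 1 * A 3 0) := by
  rw [det_succ_row_zero, Fin.sum_univ_four]
  simp only [det_fin_three, submatrix_apply]
  simp [Fin.succAbove, Fin.lt_def]
  ring

namespace Chev

namespace Good
variable {D : ChevalleyDatum} (g : Good D) {A : Type*} [CommGroup A] {c : Fin D.rank → A} {q : ℕ}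

theorem pow_of_ann (l : List (Fin D.rank)) (f : List ℤ) (h : ∀ i j : Fin D.rank,
    ∑ k ∈ range 5, f.getD k 0 * g.T.co (iterL g.T (l.map Fin.val) k (g.T.sim i)) j = 0)
    (hc : c ^ q = g.cd.wa (g.cd.EW.wp l) c) : c ^ (∑ k ∈ range 5, f.getD k 0 * (q : ℤ) ^ k) = 1 := by
  have key : ∀ k, c ^ q ^ k = ma (g.cd.wm (g.cd.EW.wp l ^ k).1) c := fun k => by
    rw [← RS.wa_eq]
    induction k with
    | zero => simp
    | succ k ih => rw [pow_succ' q, pow_mul, hc, ← map_pow, ih, ← RS.wa_mul (Subtype.prop _), pow_succ']; rfl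
  have h0 : ∑ k ∈ range 5, f.getD k 0 • g.cd.wm (g.cd.EW.wp l ^ k).1 = (0 : ℤ) • 1 := by
    ext i j
    rw [zero_smul, Matrix.zero_apply, Matrix.sum_apply]
    refine (sum_congr rfl fun k _ => congrArg (f.getD k 0 * ·) ?_).trans (h i j)
    rw [← g.ag.sim _ i.2, ← g.cd_sim, g.iterL_eq]
    exact g.ag.co _ (Fin.is_lt _) _ j.2
  have := congrArg (ma · c) h0
  simp only [sum_range_succ, range_zero, sum_empty, zero_add, ma_add, ma_smul, ← key, zpow_zero] at this ⊢
  simpa only [_root_.zpow_add, ← zpow_natCast, ← zpow_mul, mul_comm, Nat.cast_pow] using this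

theorem pow_of_span (l : List (Fin D.rank)) (B : List (List (List ℤ))) (h : ∀ r < g.T.n, g.T.n / 2 ≤ r →
    ∀ j i : Fin D.rank, ∑ k ∈ range 4, gl (B.getD (r - g.T.n / 2) []) j k *
      g.T.car i (iterL g.T (l.reverse.map Fin.val) k r) = if i = j then 12 else 0)
    (hc : c ^ q = g.cd.wa (g.cd.EW.wp l) c) {r : Fin D.nroots} (hr : g.cd.Pos r) (h1 : g.cd.ch r c = 1) :
    c ^ 12 = 1 := by
  have key : ∀ k, g.cd.ch ((g.cd.EW.wp l.reverse ^ k).1 r) c = 1 := fun k => by
    induction k with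
    | zero => exact h1
    | succ k ih =>
      rw [pow_succ', ExchSys.wp_reverse] at *
      exact (RS.ch_wa' (Subtype.prop _) _ c).symm.trans (by rw [← hc, map_pow, ih, one_pow])
  ext j
  have := ca_sum (range 4) (fun k => gl (B.getD (r - g.T.n / 2) []) j k • g.rv ((g.cd.EW.wp l.reverse ^ k).1 r)) c
  simp only [ca_smul, ← ch_eq, key, one_zpow, prod_const_one] at this
  rw [Pi.one_apply, ← this, Pi.pow_apply, ← zpow_natCast, ← ca_single j c, ← ca_smul]
  congr 2
  ext i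
  have := (h r (g.ln r.2) (g.lh (g.pos_iff.1 hr)) j i).symm
  simp only [g.iterL_eq] at this
  simpa [rv, Pi.single_apply] using this

end Good

def w8 : List (Fin 4) := [3, 2, 1, 2, 1, 0]
def w12 : List (Fin 4) := [3, 2, 1, 0]
def wo : List (List (Fin 4)) := [[], [0], [2], [1, 0], [2, 0], [2, 1], [3, 2], [2, 1, 0], [3, 1, 0], [3, 2, 0], [3, 2, 1], [2, 1, 2, 1], [2, 1, 2, 1, 0], [3, 2, 1, 2, 1], [2, 3, 2, 1, 2, 0, 1, 0], [2, 1, 2, 0, 1, 2, 0, 1, 0], [3, 2, 1, 2, 3, 2, 1, 2, 1], [3, 2, 1, 2, 0, 1, 2, 0, 1, 0], [3, 2, 1, 2, 3, 2, 1, 2, 1, 0], [3, 2, 1, 2, 3, 2, 0, 1, 2, 0, 1, 0], [3, 2, 1, 2, 3, 2, 1, 2, 0, 1, 2, 0, 1, 0], [2, 3, 2, 1, 2, 0, 1, 2, 3, 2, 0, 1, 2, 0, 1, 0], [3, 2, 1, 2, 0, 1, 2, 3, 2, 1, 2, 0, 1, 2, 3, 2, 1, 2, 0, 1, 2, 0, 1, 0]]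
def cw4 : List ℕ := [3089614, 2251904, 15510, 171147, 679051, 564352, 13224229, 10953961, 38652202, 37441, 149857, 2738473, 13224234, 11412, 727, 9354, 149866, 37473, 183, 37450, 52897002, 9345, 8788, 37482, 9007680, 772398, 10865003, 772390, 730336, 12876, 2716235, 182560, 2921408, 3212, 3089646, 3089638, 36086, 684619, 2738539, 3089606, 9014, 146, 599498, 149953, 599489, 10953929, 149962, 2196, 3306053, 2738537, 9663050, 149793, 599265, 684617, 736387, 9029991, 736390, 9007692, 9663052, 2257479, 11782502, 641390, 736395, 35104, 562016, 564364, 2940043, 140480, 2945606, 2251916, 160334, 140512, 10865001, 826501, 736385, 641321, 679049, 720, 2397121, 171145, 2716233, 176, 605317, 2565353, 2415754, 599233, 2397025, 2565321, 605322, 52, 2248128, 605324, 2415756, 564359, 562112, 40078, 10953934, 580736, 40086, 45643, 182635, 146560, 146573, 580751, 15505, 3283, 13171, 146575, 2399375, 181, 826515, 591, 37743, 10600, 848467, 9423, 9591951, 2632,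 757, 2415, 10787968, 48270, 10787979, 192, 187526, 9068, 43146379, 48262, 43146368, 2252, 146574, 864, 730560, 149964, 599500, 9159, 182720, 974, 576975, 168904, 675272, 10692, 144335, 2509, 36030752, 193102, 43459819, 193094, 182624, 37484, 605327, 53, 212115, 2351, 144239, 42216, 586317, 2323023, 38367823, 648, 168808, 2660, 62033, 819, 3306067, 143, 36079, 621, 2738478, 212096, 172585536, 556, 149868, 2279, 160342, 11403, 43151947, 32, 45664, 238, 730571, 586304, 750150, 36300, 586318, 3520, 52691, 575791, 150991, 11400, 2293, 9679, 10864939, 45632, 11685664, 9356, 772462, 772454, 842899, 36047, 2415759, 10536, 245, 9455, 9663055, 42184, 2345325, 644, 9212879, 2664, 3371603, 9007, 248177, 141, 3315, 623, 46742720, 37452, 10953966, 551, 842880, 2284, 43459787, 11392, 641398, 46, 45675, 224, 3000678, 2345326, 182731, 960, 2345312, 9164, 37839, 565, 13267, 2511, 2303215, 10696, 3306058, 42132, 247, 3210, 599274, 12897, 47129830, 2565358, 2923659,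 8768, 168800, 146572, 35986, 54, 146582, 651, 168811, 2662, 586326, 2635, 11694667, 2176, 10592, 8814, 168532, 826506, 38368106, 33, 730337, 233, 2397130, 42113, 2921409, 969, 3089641, 869, 567, 12874, 9597802, 193, 10612, 874, 675275, 10694, 675264, 140428, 35278, 37472, 55, 149802, 13224298, 3201, 35124, 12906, 11689099, 42176, 11782438, 580748, 641326, 35168, 580758, 42187, 143986, 646, 246, 2667, 46778731, 2624, 2345334, 2190, 10603, 8800, 9592010, 182561, 674164, 41, 3300490, 225, 9592001, 772393, 9588170, 197, 168545, 3529, 2399434, 2644, 2295, 202, 51562, 865, 168896, 10702, 168907, 9344, 42438, 561772, 2397994, 599841, 2397985, 3089609, 599850, 660, 2323030, 10539, 46778667, 640, 42208, 2670, 46756427, 10528, 9292150, 654, 42219, 2656, 47129798, 2323020, 575954, 2630, 10598, 2247116, 215, 599242, 2397034, 37, 887, 42, 52808042, 12865, 562036, 201, 206282, 2273, 140500, 51658, 13201994, 545, 51553, 873, 2565326, 140736, 982, 10699, 42443,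 35264, 9078, 2696395, 10785643, 10953926, 2262, 562, 248113, 211, 13224243, 559, 9071, 2285, 13486387, 2255, 992497, 557, 883, 2287, 992465, 51, 56, 49, 241, 243, 43142603, 2738470, 10953958, 35, 10785739, 966, 36310, 674091, 9074, 38, 2294, 203, 2258, 566, 9174, 43, 2696427, 230, 9165, 36303, 977, 979, 3539, 9167, 2702464, 171150, 2702475, 800, 679046, 36076, 43459817, 212101, 2923649, 160329, 187529, 240, 674100, 212106, 52752970, 161, 182625, 745, 684622, 826496, 46756704, 140, 599276, 615, 13188234, 705, 11694657, 40073, 62313, 13157, 2716230, 144332, 2397132, 2503, 586599, 2915, 10809931, 3264, 11694944, 588, 62318, 62310, 730561, 3017, 750153, 560, 52677, 226153, 10804363, 171142, 10804352, 9004, 564366, 3296, 9588513, 48265, 10864937, 48, 842885, 641385, 38354122, 45633, 2696436, 169, 842890, 737, 11689152, 149804, 2738542, 135, 3300480, 620, 46742721, 15561, 52747402, 3269, 2913, 154761, 9588172, 146631, 10864998, 707, 576972, 9671, 2923712,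 15566, 43239787, 15558, 13152, 2412, 3000681, 13253, 182721, 56521, 11721, 2288, 2922272, 599244, 2397036, 36647, 730912, 3886, 9588522, 11393, 11685665, 3881, 772457, 3301, 38354113, 193097, 38352682, 805, 45665, 14121, 43217483, 684614, 2738534, 163, 43142955, 3878, 43459785, 208, 10785748, 713, 2921, 880, 43217472, 36044, 9029998, 583, 52672, 2668, 2257486, 13248, 13201984, 652, 144236, 2407, 3371589, 2476393, 3371594, 3009, 11713, 619081, 9591946, 206017, 824161, 992457, 2399370, 180, 580822, 42123, 46756715, 160, 168544, 750, 11689163, 42112, 2323318, 174, 168555, 736, 599, 206026, 824170, 133, 2423, 138, 12002502, 580812, 144338, 710, 2918, 562124, 13202282, 3265, 675284, 585, 52682, 8801, 168916, 13258, 3300554, 2177, 13153, 2409, 9381070, 36288, 2518, 3019, 11723, 9152, 151, 51498, 3306346, 801, 42228, 3306, 2922283, 168512, 3000614, 145196, 2345262, 9056, 145206, 168523, 36082, 166, 630, 747, 38367818, 51489, 168820, 137, 825130, 609,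 11694955, 704, 586614, 558, 2923, 2272, 3296705, 248105, 3296714, 581, 42209, 9673, 9597514, 724, 8823, 586, 13162, 2401, 674240, 3022, 674251, 2336, 11718, 140524, 826570, 10548, 631, 810, 206058, 3297, 12002534, 9381102, 730923, 2240, 674144, 36652, 9010, 150, 36662, 171, 674155, 742, 42196, 206634, 52807978, 129, 206049, 617, 146646, 715, 2923723, 544, 2912, 2286, 824266, 10529, 824257, 2505, 992489, 2405, 2199, 3274, 38390122, 577, 2932, 2410, 2696651, 3014, 2696640, 35116, 9166, 9440, 2307887, 675624, 2701096, 42788, 577327, 10029, 10864934, 577324, 9588524, 10023, 160615, 11491, 38352684, 40135, 43459814, 2851, 2307884, 38695, 43459782, 2309324, 577330, 2854, 11494, 2248492, 10804424, 171204, 684900, 34, 10785736, 964, 9231567, 674088, 160621, 36, 9237359, 200, 40141, 2309327, 36926319, 40, 2696424, 228, 46019, 619367, 46022, 8993996, 9231564, 154823, 8992544, 2303180, 9212780, 146567, 2248480, 15502, 38354058, 2849, 46742657, 15497, 193385,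 12901, 11689153, 48329, 52747466, 3205, 11489, 56457, 12002505, 592, 10804436, 2633, 10601, 2416, 10804427, 171206, 684902, 643, 43217771, 15494, 10804416, 143948, 2257774, 167, 206272, 748, 564430, 51648, 3300544, 172, 575852, 743, 842949, 619369, 842954, 10689, 42433, 154825, 2701099, 42790, 2701088, 35980, 141102, 12896, 2922273, 12073, 3000617, 144, 210725, 160617, 52753258, 11457, 2701108, 649, 210730, 2657, 11694945, 62025, 13186858, 2341, 10593, 38697, 35970240, 575788, 684910, 39, 825120, 236, 36851148, 586311, 2716518, 2627, 2303436, 3015, 8993984, 62030, 10810219, 62022, 51552, 876, 750441, 51653, 46017, 225865, 42441, 8816, 675616, 42798, 675627, 3200, 169766, 143980, 12002537, 53029, 730913, 40137, 46889, 624, 675636, 53034, 13188298, 641, 45921, 2665, 3297066, 2625, 2923713, 10025, 248169, 9445, 171214, 206624, 13188288, 44, 2303212, 231, 679110, 575948, 9212876, 967, 2345319, 10595, 2702539, 12864, 3297056, 204, 248174, 248166,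 183745, 10697, 187593, 2192, 37829, 903529, 210739, 143951, 603951, 42120, 629, 37487, 43239723, 11456, 43152224, 2348, 193390, 193382, 172585824, 9420, 36119790, 2183, 210720, 8812, 43152235, 2848, 160630, 142, 11499, 608, 2415823, 168520, 586605, 164, 2323311, 744, 842963, 35983, 62321, 45, 12915, 239, 149967, 2197, 51667, 815, 586607, 3016, 750438, 586606, 46027, 2496, 586592, 35276, 151343, 149, 53043, 9359, 575855, 42792, 10788032, 48334, 43146443, 48326, 45920, 9452, 9029934, 53024, 43146432, 2188, 37740, 8807, 40150, 2859, 10788043, 128, 11488, 622, 146637, 580815, 9592015, 168, 674152, 740, 15569, 3219, 826579, 47, 143983, 237, 56531, 146639, 599503, 2856, 8821, 3311, 183755, 146624, 187590, 140748, 146638, 9664, 36653, 145199, 3889, 3891, 14131, 36655, 36119758, 145184, 10038, 11467, 45931, 36640, 2696992, 12078, 2697003, 576, 46886, 35180, 10786603, 12070, 10786592, 8780, 36654, 2400, 599855, 597, 206643, 207, 149871, 2920, 212179,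 37455, 2397999, 712, 2421, 879, 2303439, 171208, 684904, 3012, 575951, 973, 183744, 37836, 150988, 35271, 46016, 2510, 992462, 562976, 3894, 42795, 169771, 141088, 13486373, 9905385, 13486378, 9409, 37729, 2476329, 38390058, 2868, 2647, 2346, 37738, 9441, 663, 9418, 53945546, 2337, 2260, 9450, 2251968, 248110, 2716523, 248102, 206048, 3276, 679115, 51488, 824256, 812, 992494, 992486, 15574, 171211, 684907, 992454, 35990, 50, 150986, 37825, 150977, 9905353, 37834, 564, 826565, 684905, 2415818, 42785, 169761, 171209, 184099, 2257767, 184102, 2251980, 2415820, 564423, 2945894, 160622, 184107, 10016, 160608, 141100, 735019, 40128, 736454, 562988, 40142, 38688, 2716521, 206629, 184097, 903465, 169769, 2640, 679105, 42793, 679113, 656, 151333, 3613929, 603946, 151329, 603937, 3613897, 151338, 148, 619360, 151340, 603948, 141095, 154816, 10030]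
def sp8 : List (List (List ℤ)) := [[[0, -6, -6, 0], [0, -6, -12, -6], [0, -12, -12, -12], [6, -6, -6, -6]], [[6, 12, 6, 0], [6, 18, 18, 6], [12, 24, 24, 12], [0, 12, 12, 12]], [[0, -6, -12, -6], [6, -6, -18, -18], [12, -12, -24, -24], [12, 0, -12, -12]], [[0, -12, -12, -12], [12, -12, -24, -24], [12, -12, -36, -36], [12, 0, -12, -24]], [[12, 12, 0, -12], [24, 24, 12, -12], [36, 36, 12, -12], [12, 24, 12, 0]], [[0, 0, -12, 0], [0, 0, -12, -12], [12, -12, -12, -12], [12, 0, -12, 0]], [[6, 0, -6, -12], [18, 6, -6, -18], [24, 12, -12, -24], [12, 12, 0, -12]], [[0, -6, 0, -6], [6, -6, -6, -6], [0, 0, -12, -12], [0, 0, 0, -12]], [[0, 0, -6, -6], [6, 0, -6, -12], [12, 0, -12, -12], [6, 6, -6, -6]], [[6, 6, 6, 6], [0, 12, 12, 12], [0, 12, 24, 12], [0, 0, 12, 12]], [[12, 12, 12, 0], [12, 24, 24, 12], [12, 36, 36, 12], [0, 12, 24, 12]], [[0, 12, 0, 0], [0, 12, 12, 0], [12, 12, 12, 12], [0, 12, 0, 12]], [[12, 0, -12, -12], [24, 12, -12, -24], [36, 12, -12,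 -36], [24, 12, 0, -12]], [[6, 6, 6, -6], [12, 12, 12, 0], [12, 24, 12, 0], [0, 12, 12, 0]], [[6, -6, -6, -6], [12, 0, -12, -12], [12, 0, -12, -24], [12, 0, 0, -12]], [[6, 6, -6, -6], [12, 12, 0, -12], [24, 12, 0, -12], [12, 12, 0, 0]], [[0, 0, 0, -12], [12, 0, 0, -12], [12, 12, -12, -12], [0, 12, 0, -12]], [[6, 0, 6, 0], [6, 6, 6, 6], [0, 12, 12, 0], [0, 0, 12, 0]], [[12, 6, 0, -6], [18, 18, 6, -6], [24, 24, 12, -12], [12, 12, 12, 0]], [[6, 6, 0, 0], [6, 12, 6, 0], [12, 12, 12, 0], [6, 6, 6, 6]], [[12, 0, 0, 0], [12, 12, 0, 0], [12, 12, 12, -12], [12, 0, 12, 0]], [[6, 0, 0, -6], [12, 6, 0, -6], [12, 12, 0, -12], [6, 6, 6, -6]], [[0, 6, 0, -6], [6, 6, 6, -6], [12, 12, 0, 0], [0, 12, 0, 0]], [[6, 0, -6, 0], [6, 6, -6, -6], [12, 0, 0, -12], [12, 0, 0, 0]]]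
def sp12 : List (List (List ℤ)) := [[[0, -6, -6, -6], [6, -6, -18, -12], [12, 0, -24, -24], [12, 0, -12, -12]], [[6, 0, -12, -6], [12, 6, -18, -18], [24, 12, -24, -24], [12, 12, -12, -12]], [[6, -6, -6, 0], [6, 0, -12, -6], [12, 0, -12, -12], [12, 0, -12, 0]], [[0, 12, 12, 0], [0, 12, 24, 12], [-12, 12, 36, 24], [-12, 0, 24, 12]], [[12, 12, -12, -12], [24, 24, -12, -24], [36, 36, -12, -24], [12, 24, 0, -12]], [[0, 0, 0, -12], [12, 0, -12, -12], [12, 12, -12, -24], [12, 0, 0, -12]], [[6, 12, 0, -6], [12, 18, 6, -6], [12, 24, 12, 0], [0, 12, 12, 0]], [[6, 6, -6, -12], [18, 12, -12, -18], [24, 24, -12, -24], [12, 12, 0, -12]], [[0, 6, -6, -6], [6, 6, -6, -12], [12, 12, -12, -12], [0, 12, 0, -12]], [[0, 0, 12, 12], [-12, 0, 24, 24], [-24, -12, 36, 36], [-12, -12, 12, 24]], [[0, 0, 12, 0], [0, 0, 12, 12], [-12, 0, 24, 12], [0, -12, 12, 12]], [[12, 12, 0, 0], [12, 24, 12, 0], [12, 24, 24, 12], [0, 12, 12, 12]], [[12, 0, -12, -12], [24, 12, -24, -24],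 [36, 24, -24, -36], [24, 12, -12, -12]], [[0, 12, 0, 0], [0, 12, 12, 0], [0, 12, 12, 12], [-12, 12, 12, 0]], [[12, 12, 0, -12], [24, 24, 0, -12], [24, 36, 12, -12], [12, 12, 12, 0]], [[12, 0, -12, 0], [12, 12, -12, -12], [24, 12, -12, -12], [12, 12, -12, 0]], [[0, 12, 0, -12], [12, 12, 0, -12], [12, 24, 0, -12], [0, 12, 12, -12]], [[6, 0, 0, 6], [0, 6, 6, 6], [0, 0, 12, 12], [0, 0, 0, 12]], [[6, 6, 6, 0], [6, 12, 12, 6], [0, 12, 24, 12], [0, 0, 12, 12]], [[12, 6, -6, -6], [18, 18, -6, -12], [24, 24, 0, -12], [12, 12, 0, 0]], [[12, 0, 0, 0], [12, 12, 0, 0], [12, 12, 12, 0], [12, 0, 0, 12]], [[0, 6, 6, -6], [6, 6, 6, 0], [0, 12, 12, 0], [0, 0, 12, 0]], [[6, 6, -6, 0], [6, 12, 0, -6], [12, 12, 0, 0], [0, 12, 0, 0]], [[6, 0, 0, -6], [12, 6, -6, -6], [12, 12, 0, -12], [12, 0, 0, 0]]]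

/-- decoding of words -/
def dec4 : ℕ → ℕ → List (Fin 4)
  | 0, _ => []
  | f + 1, n => if n ≤ 1 then [] else Fin.ofNat 4 n :: dec4 f (n / 4)

/-- elements of the Weyl group as conjugates of class representatives -/
def cwd (n : ℕ) : List (Fin 4) := dec4 12 (n / 32) ++ (w8 :: w12 :: wo).getD (n % 32) [] ++ (dec4 12 (n / 32)).reverse

/-- images of the simple roots -/
def key4 (l : List ℕ) : ℕ := ((actL ftF4 l 33 * 48 + actL ftF4 l 27) * 48 + actL ftF4 l 25) * 48 + actL ftF4 l 24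

theorem cw4_inc : incB (fun n => key4 ((cwd n).map Fin.val)) cw4 0 = true := by decide +kernel

theorem conj4 (w : gF4.cd.W) : ∃ v : gF4.cd.W, ∃ l ∈ w8 :: w12 :: wo, w = v * gF4.cd.EW.wp l * v⁻¹ := by
  classical
  have := Fintype.ofFinite gF4.cd.W
  have h1 : (cw4.map fun n => gF4.cd.EW.wp (cwd n)).Nodup := by
    refine List.Nodup.of_map (fun w : gF4.cd.W => (((w.1 ⟨33, by decide⟩ : ℕ) * 48 + w.1 ⟨27, by decide⟩) * 48 +
      w.1 ⟨25, by decide⟩) * 48 + w.1 ⟨24, by decide⟩) ?_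
    rw [List.map_map]
    convert (incB_spec cw4_inc).2 using 2
    funext n
    have := fun r => (gF4.actL_eq (cwd n) r).symm
    exact congrArg₂ (· * 48 + ·) (congrArg₂ (· * 48 + ·) (congrArg₂ (· * 48 + ·) (this _) (this _)) (this _)) (this _)
  have h2 := Finset.eq_univ_of_card (cw4.map fun n => gF4.cd.EW.wp (cwd n)).toFinset (by
    rw [List.toFinset_card_of_nodup h1, ← Nat.card_eq_fintype_card, cardWF4, List.length_map]; decide +kernel)
  obtain ⟨n, -, rfl⟩ := List.mem_map.1 (List.mem_toFinset.1 (h2 ▸ mem_univ w))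
  refine ⟨gF4.cd.EW.wp (dec4 12 (n / 32)), (w8 :: w12 :: wo).getD (n % 32) [], ?_, ?_⟩
  · rw [List.getD_eq_getElem?_getD]
    cases h : (w8 :: w12 :: wo)[n % 32]? with
    | none => decide
    | some l => exact List.mem_of_getElem? h
  · exact (ExchSys.wp_append _ _ _).trans (congrArg₂ (· * ·) (ExchSys.wp_append _ _ _) (ExchSys.wp_reverse _ _))

/-- annihilating polynomials -/
def Ann4 (l : List (Fin 4)) (f : List ℤ) : Prop :=
  ∀ i j : Fin 4, ∑ k ∈ range 5, f.getD k 0 * ftF4.co (iterL ftF4 (l.map Fin.val) k (ftF4.sim i)) j = 0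

instance (l : List (Fin 4)) (f : List ℤ) : Decidable (Ann4 l f) := inferInstanceAs (Decidable (∀ _, _))

theorem ann4 : Ann4 w8 [1, 0, 0, 0, 1] ∧ Ann4 w12 [1, 0, -1, 0, 1] ∧
    ∀ l ∈ wo, Ann4 l [-1, -1, 0, 1, 1] ∨ Ann4 l [-1, 0, 0, 0, 1] ∨ Ann4 l [-1, 1, 0, -1, 1] := by decide +kernel

theorem tor4 {A : Type*} [CommGroup A] {c : Fin chevF4.rank → A} {q : ℕ} {w : gF4.cd.W} (hc : c ^ q = gF4.cd.wa w c) :
    (c ^ (((q : ℤ) ^ 2 - 1) * (q ^ 2 + q + 1)) = 1 ∨ c ^ ((q : ℤ) ^ 4 - 1) = 1 ∨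
      c ^ (((q : ℤ) ^ 2 - 1) * (q ^ 2 - q + 1)) = 1) ∨
    ((c ^ ((q : ℤ) ^ 4 + 1) = 1 ∨ c ^ ((q : ℤ) ^ 4 - q ^ 2 + 1) = 1) ∧
      ∀ r, gF4.cd.ch r c = 1 → c ^ 12 = 1) := by
  obtain ⟨v, l, hl, rfl⟩ := conj4 w
  obtain ⟨c, rfl⟩ : ∃ d, c = gF4.cd.wa v d := ⟨_, (RS.wa_wa_inv v.2 c).symm⟩
  have hi : Function.Injective (gF4.cd.wa (A := A) v) := Function.LeftInverse.injective (RS.wa_inv_wa v.2)
  replace hc : c ^ q = gF4.cd.wa (gF4.cd.EW.wp l) c := hi (by
    rw [map_pow, hc, ← RS.wa_mul (Subtype.prop _), ← RS.wa_mul (Subtype.prop _)]; simp)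
  simp only [← map_zpow, ← map_pow, map_eq_one_iff _ hi, RS.ch_wa' v.2]
  have k := fun f h => gF4.pow_of_ann l f h hc
  have k' : ∀ B h r, gF4.cd.ch r c = 1 → c ^ 12 = 1 := fun B h r e => by
    by_cases hr : gF4.cd.Pos r
    · exact gF4.pow_of_span l B h hc hr e
    · exact gF4.pow_of_span l B h hc ((gF4.cd.pos_neg_iff r).2 hr) (by rw [RS.ch_neg, e, inv_one])
  simp only [List.mem_cons] at hl
  rcases hl with rfl | rfl | hl
  · exact .inr ⟨.inl (by convert k _ ann4.1 using 2; simp [sum_range_succ]; ring),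
      fun r => k' sp8 (by decide +kernel) _⟩
  · exact .inr ⟨.inr (by convert k _ ann4.2.1 using 2; simp [sum_range_succ]; ring),
      fun r => k' sp12 (by decide +kernel) _⟩
  · refine .inl ((ann4.2.2 l hl).imp (fun h => ?_) (.imp (fun h => ?_) fun h => ?_)) <;>
      convert k _ h using 2 <;> simp [sum_range_succ] <;> ring

end Chev

end CfsgH6
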