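import Cfsg.Agent.H6.Pg1

/-! The prime graph of `F₄(2^n)`. -/

set_option autoImplicit false

universe u

namespace CfsgH6

open Finset PreSt Cfsg.Lie
open Matrix hiding zpow_mul zpow_add zpow_neg one_zpow zpow_sub inv_zpow

theorem ord5 {K : Type*} [Field K] {x : K} (h2 : (2 : K) ≠ 0) (h3 : (3 : K) = 0 → x ^ 2 = 1) {e : ℕ}
    (he : orderOf x = e) : ((x ^ 2 - 1) * (x ^ 2 + x + 1) = 0 ↔ e = 1 ∨ e = 2 ∨ e = 3) ∧
      (x ^ 4 - 1 = 0 ↔ e = 1 ∨ e = 2 ∨ e = 4) ∧ ((x ^ 2 - 1) * (x ^ 2 - x + 1) = 0 ↔ e = 1 ∨ e = 2 ∨ e = 6) ∧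
      (x ^ 4 + 1 = 0 ↔ e = 8) ∧ (x ^ 4 - x ^ 2 + 1 = 0 ↔ e = 12) := by
  have h : ∀ n, x ^ n - 1 = 0 ↔ e ∣ n := fun n => by rw [sub_eq_zero, ← he, orderOf_dvd_iff_pow_eq_one]
  have d : ∀ n, 0 < n → x ^ n - 1 = 0 → e ≤ n ∧ e ∣ n := fun n h0 h1 => ⟨Nat.le_of_dvd h0 ((h n).1 h1), (h n).1 h1⟩
  refine ⟨⟨fun a => ?_, fun a => ?_⟩, ⟨fun a => ?_, fun a => (h 4).2 (by rcases a with rfl | rfl | rfl <;> omega)⟩, ⟨fun a => ?_, fun a => ?_⟩,
    ⟨fun a => ?_, fun a => ?_⟩, fun a => ?_, fun a => ?_⟩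
  · rcases mul_eq_zero.1 a with a | a
    · obtain ⟨b, c⟩ := d 2 two_pos a
      interval_cases e <;> omega
    · obtain ⟨b, c⟩ := d 3 three_pos (by linear_combination (x - 1) * a)
      interval_cases e <;> omega
  · rcases a with rfl | rfl | rfl
    iterate 2 exact mul_eq_zero_of_left ((h 2).2 (by omega)) _
    have := (h 1).not.2 (by omega)
    exact mul_eq_zero_of_right _ (mul_left_cancel₀ this (by linear_combination (h 3).2 (by omega)))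
  · obtain ⟨b, c⟩ := d 4 four_pos a
    interval_cases e <;> omega
  · rcases mul_eq_zero.1 a with a | a
    · obtain ⟨b, c⟩ := d 2 two_pos a
      interval_cases e <;> omega
    · obtain ⟨b, c⟩ := d 6 (by omega) (by linear_combination (x + 1) * (x ^ 3 - 1) * a)
      have := (h 3).not.1 fun b => h2 (by linear_combination (x + 1) * a - b)
      interval_cases e <;> omega
  · rcases a with rfl | rfl | rfl
    iterate 2 exact mul_eq_zero_of_left ((h 2).2 (by omega)) _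
    have := (h 3).not.2 (by omega)
    exact mul_left_cancel₀ this (by linear_combination (x - 1) * (h 6).2 (by omega))
  · obtain ⟨b, c⟩ := d 8 (by omega) (by linear_combination (x ^ 4 - 1) * a)
    have := (h 4).not.1 fun b => h2 (by linear_combination a - b)
    interval_cases e <;> omega
  · subst a
    exact mul_left_cancel₀ ((h 4).not.2 (by omega)) (by linear_combination (h 8).2 (by omega))
  · obtain ⟨b, c⟩ := d 12 (by omega) (by linear_combination (x ^ 2 + 1) * (x ^ 6 - 1) * a)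
    have := (h 6).not.1 fun b => h2 (by linear_combination (x ^ 2 + 1) * a - b)
    have := (h 4).not.1 fun b => one_ne_zero (α := K) (by
      linear_combination a - b + h3 (by linear_combination (x ^ 2 + 2) * a - (x ^ 2 + 1) * b))
    interval_cases e <;> omega
  · subst a
    exact mul_left_cancel₀ (mul_ne_zero ((h 6).not.2 (by omega)) ((h 4).not.2 (by omega)))
      (by linear_combination (x ^ 2 - 1) * (h 12).2 (by omega))

theorem ord5' {r q : ℕ} (hr : r.Prime) (h2 : r ≠ 2) (hq : ¬ r ∣ q) {e : ℕ} (he : orderOf (q : ZMod r) = e) :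
    ((r : ℤ) ∣ (q ^ 2 - 1) * (q ^ 2 + q + 1) ↔ e = 1 ∨ e = 2 ∨ e = 3) ∧
      ((r : ℤ) ∣ q ^ 4 - 1 ↔ e = 1 ∨ e = 2 ∨ e = 4) ∧
      ((r : ℤ) ∣ (q ^ 2 - 1) * (q ^ 2 - q + 1) ↔ e = 1 ∨ e = 2 ∨ e = 6) ∧
      ((r : ℤ) ∣ q ^ 4 + 1 ↔ e = 8) ∧ ((r : ℤ) ∣ q ^ 4 - q ^ 2 + 1 ↔ e = 12) := by
  have := Fact.mk hr
  simp only [← ZMod.intCast_zmod_eq_zero_iff_dvd]
  push_cast
  refine ord5 (fun h => h2 ((Nat.prime_dvd_prime_iff_eq hr Nat.prime_two).1 ((ZMod.natCast_eq_zero_iff 2 r).1 h)))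
    (fun h => ?_) he
  obtain rfl := (Nat.prime_dvd_prime_iff_eq hr Nat.prime_three).1 ((ZMod.natCast_eq_zero_iff 3 r).1 h)
  exact ZMod.pow_card_sub_one_eq_one (by rwa [Ne, ZMod.natCast_eq_zero_iff])

namespace Chev

/-- matrices of the Weyl group of `F₄` -/
def wM4 (l : List (Fin 4)) : Matrix (Fin 4) (Fin 4) ℤ := gF4.wM l id

/-- the highest root -/
def rv4 : Fin 4 → ℤ := gF4.rv 47

variable {F : Type u} [Field F] [Fintype F] [CharP F 2] {q : ℕ} (hq : Fintype.card F = q)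
include hq

theorem two_dvd : 2 ∣ q := by
  obtain ⟨n, -, hn⟩ := FiniteField.card F 2
  exact hq ▸ hn ▸ dvd_pow_self 2 n.2.ne'

theorem exists_TT4 (l : List (Fin 4)) (M : Matrix (Fin 4) (Fin 4) ℤ) (hM : wM4 l = M) {N : ℤ}
    (h : ((q : ℤ) • M - 1).det = (-1) ^ l.length * N) (hN : Odd N) {r : ℕ} (hr : r.Prime) (hrN : (r : ℤ) ∣ N) :
    ∃ c : TT (AlgebraicClosure F)ˣ ((Fintype.card F : ℤ) • wM4 l), orderOf c = r := by
  have := Fact.mk hr
  have h1 := card_TT (AlgebraicClosure F) (N := N.natAbs) (by rw [h]; simp [Int.natAbs_mul, Int.natAbs_pow]) fun e =>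
    (Int.natAbs_odd.2 hN).not_two_dvd_nat ((CharP.cast_eq_zero_iff _ 2 _).1 e)
  rw [hq, hM]
  have : Finite (TT (AlgebraicClosure F)ˣ ((q : ℤ) • M)) := Nat.finite_of_card_ne_zero (by
    rw [h1]; rintro e; simp [Int.natAbs_eq_zero.1 e] at hN)
  exact exists_prime_orderOf_dvd_card' r (h1 ▸ Int.natCast_dvd.1 hrN)

omit hq in
theorem torus4 (l : List (Fin 4)) : ∃ τ : TT (AlgebraicClosure F)ˣ ((Fintype.card F : ℤ) • wM4 l) →*
    chevF4.group F, Function.Injective τ ∧ ∀ c, actL ftF4 (l.map Fin.val) 47 = 47 →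
      ca rv4 c.1 = 1 → ∃ x, orderOf x = 2 ∧ Commute (τ c) x := by
  obtain ⟨τ, h1, h2⟩ := gF4.torus (by simp) F 2 l
  rw [kerF4, pow_zero] at h1
  exact ⟨τ, (injective_iff_map_eq_one _).2 fun c hc => (pow_one c).symm.trans (h1 c hc),
    fun c h h' => h2 c ⟨47, by decide⟩ h ((gF4.ch_eq _ _).trans h')⟩

theorem exists_mul (l : List (Fin 4)) (M : Matrix (Fin 4) (Fin 4) ℤ) (hM : wM4 l = M) {N : ℤ}
    (h : ((q : ℤ) • M - 1).det = (-1) ^ l.length * N) (hN : Odd N) {r s : ℕ} (hr : r.Prime) (hs : s.Prime) (hrs : r ≠ s)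
    (hrN : (r : ℤ) ∣ N) (hsN : (s : ℤ) ∣ N) : ∃ x : chevF4.group F, orderOf x = r * s := by
  obtain ⟨τ, h1, -⟩ := torus4 (F := F) l
  obtain ⟨a, ha⟩ := exists_TT4 hq l M hM h hN hr hrN
  obtain ⟨b, hb⟩ := exists_TT4 hq l M hM h hN hs hsN
  exact ⟨τ (a * b), by
    rw [orderOf_injective _ h1, (Commute.all a b).orderOf_mul_eq_mul_orderOf_of_coprime
      (by rwa [ha, hb, Nat.coprime_primes hr hs]), ha, hb]⟩

omit hq in
theorem exists_two' (l : List (Fin 4)) (hl : actL ftF4 (l.map Fin.val) 47 = 47) {s : ℕ} (hs : s.Prime) (h2 : s ≠ 2)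
    (c : TT (AlgebraicClosure F)ˣ ((Fintype.card F : ℤ) • wM4 l)) (hc : orderOf c = s)
    (h : ca rv4 c.1 = 1) : ∃ x : chevF4.group F, orderOf x = 2 * s := by
  obtain ⟨τ, h1, h3⟩ := torus4 (F := F) l
  obtain ⟨x, h4, h5⟩ := h3 c hl h
  exact ⟨x * τ c, by
    rw [h5.symm.orderOf_mul_eq_mul_orderOf_of_coprime (by
      rw [h4, orderOf_injective _ h1, hc, Nat.coprime_primes Nat.prime_two hs]; exact h2.symm), h4,
      orderOf_injective _ h1, hc]⟩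

theorem exists_two (l : List (Fin 4)) (M : Matrix (Fin 4) (Fin 4) ℤ) (hM : wM4 l = M ∧
    actL ftF4 (l.map Fin.val) 47 = 47 ∧ M *ᵥ rv4 = rv4) {N : ℤ}
    (h : ((q : ℤ) • M - 1).det = (-1) ^ l.length * N) (hN : Odd N) {s : ℕ} (hs : s.Prime) (h2 : s ≠ 2) (hsN : (s : ℤ) ∣ N)
    (h1 : ¬ s ∣ q - 1) : ∃ x : chevF4.group F, orderOf x = 2 * s := by
  obtain ⟨c, hc⟩ := exists_TT4 hq l M hM.1 h hN hs hsN
  refine exists_two' l hM.2.1 hs h2 c hc ((pow_eq_one_iff_of_coprime (hs.coprime_iff_not_dvd.2 h1)).1 ⟨?_, ?_⟩)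
  · rw [← map_pow, ← Subgroup.coe_pow, ← hc, pow_orderOf_eq_one, Subgroup.coe_one, map_one]
  · have := congrArg (ca rv4) (mem_TT.1 c.2)
    generalize c.1 = d at this ⊢
    rw [ma_smul, map_zpow, ca_ma, hM.1, hq, hM.2.2] at this
    have h0 : 1 ≤ q := hq ▸ Fintype.card_pos
    rw [pow_sub _ h0, pow_one, mul_inv_eq_one]
    exact (zpow_natCast _ _).symm.trans this

theorem jordan4 (x : chevF4.group F) : ∃ m k : ℕ, orderOf x = m * 2 ^ k ∧ ¬ 2 ∣ m ∧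
    (((m : ℤ) ∣ (q ^ 2 - 1) * (q ^ 2 + q + 1) ∨ (m : ℤ) ∣ q ^ 4 - 1 ∨ (m : ℤ) ∣ (q ^ 2 - 1) * (q ^ 2 - q + 1)) ∨
      (((m : ℤ) ∣ q ^ 4 + 1 ∨ (m : ℤ) ∣ q ^ 4 - q ^ 2 + 1) ∧ (k ≠ 0 → m ∣ 12))) := by
  obtain ⟨g, rfl⟩ := (gF4.iso (by simp) adF4_C F).surjective x
  obtain ⟨c, ⟨w, hw⟩, u, hu, e, hc⟩ := Fam.jordan (𝒢 := gF4.fam (by simp)) minusF4 (p := 2) g
  have h1 := gF4.U_pow (p := 2) (k := 5) (N := 11) (by decide +kernel) (by norm_num) (map_mem_XS _ _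
    (gF4.iso (by simp) adF4_C _).toMonoidHom (gF4.iso_x _ _ _) (XS_mono _ Set.inter_subset_left hu))
  obtain ⟨k, -, hk⟩ := (Nat.dvd_prime_pow Nat.prime_two).1 (orderOf_dvd_of_pow_eq_one h1)
  replace hk := (MulEquiv.orderOf_eq _ u).symm.trans hk
  refine ⟨_, k, by rw [MulEquiv.orderOf_eq, e, hk], hc, ?_⟩
  simp only [orderOf_dvd_iff_zpow_eq_one, orderOf_dvd_iff_pow_eq_one]
  refine (tor4 (hq ▸ hw)).imp_right (And.imp_right fun h h0 => ?_)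
  obtain ⟨r, hr⟩ : ∃ r, r ∈ {r | gF4.cd.Pos r} ∩ gF4.cd.Psi {c} := by_contra fun h => h0 (by
    rw [Set.eq_empty_iff_forall_notMem.2 (not_exists.1 h), XS_empty, Subgroup.mem_bot] at hu
    simpa [hu] using hk.symm)
  exact h r (hr.2 c rfl)

theorem adj_odd {r s : ℕ} (hr : r.Prime) (hs : s.Prime) (hrs : r ≠ s) (h2 : r ≠ 2) (h2' : s ≠ 2) :
    (∃ x : chevF4.group F, orderOf x = r * s) ↔ ∃ N ∈ [((q : ℤ) ^ 2 - 1) * (q ^ 2 + q + 1), (q : ℤ) ^ 4 - 1,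
      ((q : ℤ) ^ 2 - 1) * (q ^ 2 - q + 1), (q : ℤ) ^ 4 + 1, (q : ℤ) ^ 4 - q ^ 2 + 1], (r : ℤ) ∣ N ∧ (s : ℤ) ∣ N := by
  obtain ⟨t, rfl⟩ := two_dvd hq
  refine ⟨fun ⟨x, hx⟩ => ?_, fun ⟨N, hN, h⟩ => ?_⟩
  · obtain ⟨m, k, h1, -, h3⟩ := jordan4 hq x
    have : ∀ r : ℕ, r.Prime → r ≠ 2 → r ∣ m * 2 ^ k → (r : ℤ) ∣ m := fun r hr h2 h =>
      Int.natCast_dvd_natCast.2 ((Nat.Coprime.pow_right _ ((Nat.coprime_primes hr Nat.prime_two).2 h2)).dvd_of_dvd_mul_right h)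
    have a := this r hr h2 (h1 ▸ hx ▸ dvd_mul_right _ _)
    have b := this s hs h2' (h1 ▸ hx ▸ dvd_mul_left _ _)
    rcases h3 with (h | h | h) | ⟨h | h, -⟩ <;> exact ⟨_, by simp, a.trans h, b.trans h⟩
  simp only [List.mem_cons, List.not_mem_nil, or_false] at hN
  rcases hN with rfl | rfl | rfl | rfl | rfl
  · exact exists_mul hq [3, 1, 0] !![-1, -1, 0, 0; 1, 0, 0, 0; 0, 1, 1, 1; 0, 0, 0, -1] (by decide +kernel)
      (by rw [det4]; simp [w8, w12]; ring) (by grind) hr hs hrs h.1 h.2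
  · exact exists_mul hq [2, 1, 2, 1, 0] !![-1, -2, -2, 0; 1, 1, 2, 0; 0, 0, -1, 0; 0, 1, 2, 1] (by decide +kernel)
      (by rw [det4]; simp [w8, w12]; ring) (by grind) hr hs hrs h.1 h.2
  · exact exists_mul hq [2, 1, 0] !![-1, -1, -2, 0; 1, 0, 0, 0; 0, 1, 1, 0; 0, 0, 1, 1] (by decide +kernel)
      (by rw [det4]; simp [w8, w12]; ring) (by grind) hr hs hrs h.1 h.2
  · exact exists_mul hq w8 !![-1, -2, -2, -2; 1, 1, 2, 2; 0, 0, -1, -1; 0, 1, 2, 1] (by decide +kernel)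
      (by rw [det4]; simp [w8, w12]; ring) (by grind) hr hs hrs h.1 h.2
  · exact exists_mul hq w12 !![-1, -1, -2, -2; 1, 0, 0, 0; 0, 1, 1, 1; 0, 0, 1, 0] (by decide +kernel)
      (by rw [det4]; simp [w8, w12]; ring) (by grind) hr hs hrs h.1 h.2

theorem adj_two {s : ℕ} (hs : s.Prime) (h2 : s ≠ 2) {e : ℕ} (he : orderOf (q : ZMod s) = e)
    (h : e ∣ 8 ∨ e ∣ 12) : (∃ x : chevF4.group F, orderOf x = 2 * s) ↔ ¬ (e = 8 ∨ e = 12) := by
  have := Fact.mk hs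
  have h0 : 1 ≤ q := hq ▸ Fintype.card_pos
  have hsq : ¬ s ∣ q := fun h => by
    obtain ⟨n, -, hn⟩ := FiniteField.card F 2
    exact h2 ((Nat.prime_dvd_prime_iff_eq hs Nat.prime_two).1 (hs.dvd_of_dvd_pow (hn ▸ hq ▸ h)))
  obtain ⟨a1, a2, a3, -⟩ := ord5' hs h2 hsq he
  have a0 := dvd_pow_sub_one_iff (r := s) h0 1
  rw [he, pow_one] at a0
  obtain ⟨t, rfl⟩ := two_dvd hq
  refine ⟨fun ⟨x, hx⟩ => ?_, fun h' => ?_⟩
  · obtain ⟨m, k, h1, h3, h4⟩ := jordan4 hq x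
    have a := (Nat.Coprime.pow_right _ ((Nat.coprime_primes hs Nat.prime_two).2 h2)).dvd_of_dvd_mul_right
      (h1 ▸ hx ▸ dvd_mul_left _ _)
    have b := Int.natCast_dvd_natCast.2 a
    rcases h4 with (h | h | h) | ⟨-, h⟩
    · have := a1.1 (b.trans h); omega
    · have := a2.1 (b.trans h); omega
    · have := a3.1 (b.trans h); omega
    have := a.trans (h (by rintro rfl; omega))
    obtain rfl : s = 3 := (Nat.prime_dvd_prime_iff_eq hs Nat.prime_three).1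
      ((Nat.Coprime.pow_right 2 ((Nat.coprime_primes hs Nat.prime_two).2 h2)).dvd_of_dvd_mul_left this)
    have := Nat.le_of_dvd two_pos (he ▸ ZMod.orderOf_dvd_card_sub_one (by rwa [Ne, ZMod.natCast_eq_zero_iff]))
    omega
  have : e = 1 ∨ e = 3 ∨ e = 6 ∨ e = 2 ∨ e = 4 := by
    have : e ≤ 12 := h.elim (fun h => (Nat.le_of_dvd (by omega) h).trans (by omega)) (Nat.le_of_dvd (by omega))
    interval_cases e <;> omega
  rcases this with rfl | rfl | rfl | h3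
  · obtain ⟨c, h3, h4⟩ := exists_TT (AlgebraicClosure F) (M := (Fintype.card F : ℤ) • wM4 []) (N := s)
      (fun e => h2 ((Nat.prime_dvd_prime_iff_eq Nat.prime_two hs).1 ((CharP.cast_eq_zero_iff _ 2 _).1 e)).symm)
      (y := Pi.single 0 1) (i := 0) (fun j => by
        rw [show wM4 [] = 1 by decide +kernel, vecMul_smul, vecMul_one, hq, Pi.smul_apply, smul_eq_mul,
          ← sub_one_mul, ← Nat.cast_pred h0]
        exact (Int.natCast_dvd_natCast.2 (a0.2 dvd_rfl)).mul_right _) (by simp)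
    exact exists_two' [] rfl hs h2 c h3 (h4 _ (by rw [single_dotProduct, show rv4 0 = 0 by decide +kernel]; simp))
  · refine exists_two hq [1, 0] !![-1, -1, 0, 0; 1, 0, 0, 0; 0, 1, 1, 0; 0, 0, 0, 1] (by decide +kernel)
      (N := ((2 * t : ℕ) - 1) * ((2 * t : ℕ) ^ 3 - 1)) (by rw [det4]; simp [w8, w12]; ring) (by grind) hs h2
      (Dvd.dvd.mul_left ?_ _) (a0.not.2 (by omega))
    rw [← cast_pow_sub_one h0, Int.natCast_dvd_natCast, dvd_pow_sub_one_iff h0, he]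
  · exact exists_two hq [2, 1, 0] !![-1, -1, -2, 0; 1, 0, 0, 0; 0, 1, 1, 0; 0, 0, 1, 1] (by decide +kernel)
      (by rw [det4]; simp [w8, w12]; ring) (by grind) hs h2 (a3.2 (by omega)) (a0.not.2 (by omega))
  · exact exists_two hq [2, 1, 2, 1, 0] !![-1, -2, -2, 0; 1, 1, 2, 0; 0, 0, -1, 0; 0, 1, 2, 1] (by decide +kernel)
      (by rw [det4]; simp [w8, w12]; ring) (by grind) hs h2 (a2.2 (by omega)) (a0.not.2 (by rcases h3 with rfl | rfl <;> omega))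

theorem ord_dvd {r : ℕ} (hr : r.Prime) (h2 : r ≠ 2) (h : r ∣ Nat.card (chevF4.group F)) :
    ¬ r ∣ q ∧ (orderOf (q : ZMod r) ∣ 8 ∨ orderOf (q : ZMod r) ∣ 12) := by
  have := Fact.mk hr
  have h0 : 1 ≤ q := hq ▸ Fintype.card_pos
  have hsq : ¬ r ∣ q := fun h => by
    obtain ⟨n, -, hn⟩ := FiniteField.card F 2
    exact h2 ((Nat.prime_dvd_prime_iff_eq hr Nat.prime_two).1 (hr.dvd_of_dvd_pow (hn ▸ hq ▸ h)))
  have h1 := h.mul_left (Nat.gcd 1 (Nat.card F - 1) ^ 0)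
  rw [cardF4, Nat.card_eq_fintype_card, hq] at h1
  simp only [hr.dvd_mul, dvd_pow_sub_one_iff h0] at h1
  refine ⟨hsq, ?_⟩
  rcases h1 with (((h | h) | h) | h) | h
  exacts [absurd (hr.dvd_of_dvd_pow h) hsq, .inl (h.trans (by decide)), .inr (h.trans (by decide)), .inl h, .inr h]

end Chev

end CfsgH6
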