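import Cfsg.Agent.H6.Oct3
import Cfsg.Agent.H6.Aut4

/-! Regular unipotent elements; three classes of subgroups `F₄(2)` in `²E₆(2)`. -/

set_option autoImplicit false

namespace CfsgH6

open Finset Cfsg.Lie

namespace PreSt
variable {I R : Type} [Fintype I] [DecidableEq I] {Φ : CD I R} {F : Type*} [Field F]
  {Γ : Type*} [Group Γ] (X : PreSt Φ F Γ)

/-- the coordinate at a fundamental root -/
def Co (i : I) (g : Γ) (t : F) : Prop := (X.x (Φ.sim i) t)⁻¹ * g ∈ X.UJ {i}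

variable {X} {i : I} {g g' : Γ} {t t' : F}

theorem Co.mem (h : X.Co i g t) : g ∈ X.U := by
  simpa using mul_mem (X.x_mem_U (Φ.pos_sim i) t) (X.UJ_le_U _ h)

theorem co_sim (i : I) (t : F) : X.Co i (X.x (Φ.sim i) t) t := by simp [Co]

theorem co_of_mem (h : g ∈ X.UJ {i}) : X.Co i g 0 := by simpa [Co] using h

theorem co_ne {r : R} (hr : Φ.Pos r) (h : r ≠ Φ.sim i) (t : F) : X.Co i (X.x r t) 0 :=
  co_of_mem (X.UJ_singleton i ▸ X.x_mem_XS (S := {r | Φ.Pos r ∧ r ≠ Φ.sim i}) ⟨hr, h⟩ t)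

namespace IsSt
variable (hX : X.IsSt)
include hX

theorem B_conj_UJ {b : Γ} (hb : b ∈ X.B) (h : g ∈ X.UJ {i}) : b * g * b⁻¹ ∈ X.UJ {i} :=
  (Subgroup.mem_normalizer_iff.1 (hX.PJ_le_normalizer {i} (X.B_le_PJ _ hb)) g).1 h

theorem co_mul (h : X.Co i g t) (h' : X.Co i g' t') : X.Co i (g * g') (t + t') := by
  have := mul_mem (hX.B_conj_UJ (inv_mem (X.U_le_B (X.x_mem_U (Φ.pos_sim i) t'))) h) h'
  rw [Co, ← X.add]
  convert this using 1
  group

theorem co_inv (h : X.Co i g t) : X.Co i g⁻¹ (-t) := by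
  have := hX.B_conj_UJ (X.U_le_B (X.x_mem_U (Φ.pos_sim i) t)) (inv_mem h)
  rw [Co, ← X.x_inv]
  convert this using 1
  group

theorem co_unique (h : X.Co i g t) (h' : X.Co i g t') : t = t' := by
  have := hX.co_mul h (hX.co_inv h')
  rw [Co, mul_inv_cancel, mul_one, inv_mem_iff, UJ_singleton] at this
  refine sub_eq_zero.1 ((sub_eq_add_neg t t').symm ▸ hX.sep1 RS.ht _ _ (Φ.ht_pos (Φ.pos_sim i))
    (X.XS_mono (fun s hs => ?_) this))
  exact ⟨by rw [Φ.ht_sim]; exact Φ.ht_pos hs.1, hs.2⟩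

theorem exists_co {A : AddSubgroup F} {S : Set Γ} (hS : ∀ g ∈ S, ∃ r, Φ.Pos r ∧ ∃ t ∈ A, g = X.x r t) (i : I)
    (h : g ∈ Subgroup.closure S) : ∃ t ∈ A, X.Co i g t := by
  induction h using Subgroup.closure_induction with
  | mem g hg =>
    obtain ⟨r, hr, t, ht, rfl⟩ := hS g hg
    by_cases e : r = Φ.sim i
    exacts [⟨t, ht, e ▸ co_sim i t⟩, ⟨0, zero_mem _, co_ne hr e t⟩]
  | one => exact ⟨0, zero_mem _, co_of_mem (one_mem _)⟩
  | mul _ _ _ _ h h' =>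
    obtain ⟨t, a, h⟩ := h; obtain ⟨t', a', h'⟩ := h'
    exact ⟨_, add_mem a a', hX.co_mul h h'⟩
  | inv _ _ h => obtain ⟨t, a, h⟩ := h; exact ⟨_, neg_mem a, hX.co_inv h⟩

theorem co_conj_U {u : Γ} (hu : u ∈ X.U) (h : X.Co i g t) : X.Co i (u * g * u⁻¹) t := by
  obtain ⟨s, -, hs⟩ := hX.exists_co (A := ⊤) (S := {g | ∃ r ∈ {r | Φ.Pos r}, ∃ t, g = X.x r t})
    (fun g ⟨r, hr, t, e⟩ => ⟨r, hr, t, trivial, e⟩) i hu
  simpa using hX.co_mul (hX.co_mul hs h) (hX.co_inv hs)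

theorem co_conj_hh (hM : X.Mult) (c : I → Fˣ) (h : X.Co i g t) :
    X.Co i (hX.hh hM c * g * (hX.hh hM c)⁻¹) (Φ.ch (Φ.sim i) c * t) := by
  have := hX.B_conj_UJ (X.H_le_B (hX.hh_mem hM c)) h
  rw [Co, ← hX.hh_conj' hM]
  convert this using 1
  group

theorem mem_B_of_reg [Finite R] {s : I → F} (hs : ∀ i, s i ≠ 0) (h : ∀ i, X.Co i g (s i)) (hg : g ∈ X.U) {y : Γ}
    (hy : y ∈ X.G) (e : y * g * y⁻¹ ∈ X.U) : y ∈ X.B := by
  obtain ⟨b, hb, n, hn, σ, -, ha, u, hu, rfl⟩ := hX.bruhat hy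
  replace hu := Um_le_U σ hu
  obtain ⟨a, h1, a', h2, e'⟩ := X.U_split {r | Φ.Pos (σ r)} (mul_mem (mul_mem hu hg) (inv_mem hu))
  have h3 : n * a * n⁻¹ ∈ X.U := ha.conj_mem (fun r hr => hr.2) h1
  have h4 : n * a' * n⁻¹ = 1 := hX.eq_one_of_mem_U_V (by
    have := mul_mem (inv_mem h3) (hX.B_conj_mem_U (inv_mem hb) e)
    convert this using 1
    rw [eq_inv_mul_iff_mul_eq.2 e'.symm]; group) (ha.conj_mem (fun r hr => hr.2) h2)
  rw [mul_inv_eq_one, mul_eq_left] at h4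
  rw [h4, mul_one] at e'
  refine mul_mem (mul_mem hb (X.H_le_B (hX.mem_H_of_act hn ha fun i => by_contra fun hi => hs i ?_))) (X.U_le_B hu)
  refine hX.co_unique (hX.co_conj_U hu (h i)) (co_of_mem ?_)
  rw [e', UJ_singleton]
  exact X.XS_mono (S' := {r | Φ.Pos r ∧ r ≠ Φ.sim i}) (fun r hr => ⟨hr.1, fun e => hi (e ▸ hr.2)⟩) h1

end IsSt
end PreSt

namespace Chev
open Good PreSt

theorem Good.IsA.co {D : ChevalleyDatum} {g : Good D} {F : Type*} [Field F] {α : MulAut (D.group F)}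
    {c : Fin D.rank → Fˣ} (h : g.IsA α c (.refl F)) {i y t} (e : (g.adjG F).Co i y t) :
    (g.adjG F).Co i (α y) (c i * t) := by
  have := (h.XS _ _).2 e
  rwa [map_mul, map_inv, h, g.charOf_sim] at this

theorem Good.co_wd {D : ChevalleyDatum} {g : Good D} {F : Type*} [Field F] {Γ : Type*} [Group Γ] {Y : PreSt g.cd F Γ}
    (hY : Y.IsSt) (i : Fin D.rank) (L : List ℕ) (h : ∀ r ∈ L, D.nroots / 2 ≤ r ∧ r < D.nroots) (t : F) :
    Y.Co i (wd Y (L.map fun r => (r, t))) (L.count (D.simple i) * t) := by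
  induction L with
  | nil => simpa using co_of_mem (one_mem _)
  | cons r L ih =>
    obtain ⟨h1, h2⟩ := h r List.mem_cons_self
    replace ih := ih fun r hr => h r (List.mem_cons_of_mem _ hr)
    rw [List.map_cons, wd_cons, xn_lt _ h2]
    by_cases e : r = D.simple i
    · subst e
      rw [List.count_cons_self, Nat.cast_succ, add_mul, one_mul, add_comm]
      exact hY.co_mul (co_sim i t) ih
    · simpa [List.count_cons_of_ne e] using
        hY.co_mul (co_ne (g.pos_iff.2 h1 : g.cd.Pos ⟨r, h2⟩) (fun e' => e (congrArg Fin.val e')) t) ih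

theorem three_F4 {K : Type*} [Field K] [Fintype K] (hK : Fintype.card K = 4) :
    ∃ H : Fin 3 → Subgroup (twistedE6 K 2), (∀ i, Nonempty ((H i) ≃* chevF4.group (ZMod 2))) ∧
      (∀ i j, i ≠ j → ∀ g : (twistedE6 K 2), (H i).map (MulAut.conj g).toMonoidHom ≠ H j) := by
  haveI : CharP K 2 := charP_of_card Nat.prime_two (n := 2) hK
  obtain ⟨φ, T, h⟩ := exists_isE6 (K := K) (q := 2) Nat.prime_two.isPrimePow hK
  have hX := gE6.isStG K
  let f := ZMod.castHom (dvd_refl 2) K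
  let Y := gF4.mor ((gE6.adjG K).comap f) ctx0 ctx0_sound _ mF4E6
  obtain ⟨θ, hθ⟩ := (gF4.isStG (ZMod 2)).exists_hom' (gF4.adjG_G _) Y fun y hy _ =>
    (Y.H_le (K := ⊥)).2 (fun r t ht => by
      rw [show t = 1 by revert t; decide, h_one]; exact one_mem _) hy
  have xf : ∀ r t, xn ((gE6.adjG K).comap f) r t = xn (gE6.adjG K) r (f t) := fun r t => by
    unfold xn; split_ifs <;> rfl
  have k : ∀ (r : ℕ) (hr : r < chevF4.nroots) (L : List ℕ), mW tF4E6 r = L.map (fun s => (s, 1, 1)) → ∀ t,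
      θ ((gF4.adjG _).x ⟨r, hr⟩ t) = wd (gE6.adjG K) (L.map fun s => (s, f t)) := fun r _ L h t => by
    rw [hθ]
    exact (mx_eq_wd _ h t).trans (by simp [wd, xf, Function.comp_def])
  have c : ∀ a b, CM gE6.T a b → ∀ t, wd (gE6.adjG K) [(b, t), (a, t)] = wd (gE6.adjG K) [(a, t), (b, t)] :=
    fun a b h t => by simp [h.comm]
  have ff : ∀ t, φ (f t) = f t := fun t => RingHom.congr_fun (RingHom.ext_zmod ((φ : K →+* K).comp f) f) t
  have m2 : ∀ {r s : ℕ}, (r, s) ∈ [(56, 36), (15, 35), (42, 37), (29, 34)] → ∀ t,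
      wd (gE6.adjG K) [(r, f t), (s, f t)] ∈ T.M := fun hr t => by simpa only [ff] using h.mem2 hr (f t)
  have hM : ∀ y, θ y ∈ T.M := fun y => (gF4.isStG (ZMod 2)).G_le_of_pm (K := T.M.comap θ) (fun i t => by
    change Fin 4 at i; fin_cases i
    exacts [((k 33 (by decide) [36, 56] (by decide +kernel) t).trans (c _ _ (by decide +kernel) _)).symm.subst
      (m2 (by simp) t), ((k 27 (by decide) [37, 42] (by decide +kernel) t).trans (c _ _ (by decide +kernel) _)).symm.subst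
      (m2 (by simp) t), (k 25 (by decide) [39] (by decide +kernel) t).symm.subst (h.mem1 (by simp) (ff t)),
      (k 24 (by decide) [46] (by decide +kernel) t).symm.subst (h.mem1 (by simp) (ff t))]) (fun i t => by
    change Fin 4 at i; fin_cases i
    exacts [(k 14 (by decide) [15, 35] (by decide +kernel) t).symm.subst (m2 (by simp) t),
      (k 20 (by decide) [29, 34] (by decide +kernel) t).symm.subst (m2 (by simp) t),
      (k 22 (by decide) [32] (by decide +kernel) t).symm.subst (h.mem1 (by simp) (ff t)),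
      (k 23 (by decide) [25] (by decide +kernel) t).symm.subst (h.mem1 (by simp) (ff t))])
    (gF4.adjG_G (ZMod 2) ▸ Subgroup.mem_top y)
  haveI := (gF4.simple (ZMod 2) (by decide +kernel) (perfF4 _)).1
  have hi : Function.Injective θ := inj_of_simple θ (x := (gF4.adjG _).x ⟨25, by decide⟩ 1) fun e => by
    rw [k 25 (by decide) [39] (by decide +kernel)] at e
    have e' : (gE6.adjG K).x ⟨39, by decide⟩ (f 1) = 1 := (mul_one _).symm.trans e
    simpa using hX.x_eq_one e'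
  have hU : ∀ y ∈ (gF4.adjG (ZMod 2)).U, ∀ i, ∃ t ∈ f.toAddMonoidHom.range, (gE6.adjG K).Co i (θ y) t := fun y hy i => by
    refine hX.exists_co (S := {g | ∃ r, gE6.cd.Pos r ∧ ∃ t ∈ f.toAddMonoidHom.range, g = (gE6.adjG K).x r t})
      (fun _ h => h) i (Subgroup.mem_comap.1 ((XS_le _ (K := Subgroup.comap θ _)).2 (fun r hr t => ?_) hy))
    rw [Subgroup.mem_comap, hθ]
    change mx _ tF4E6 r t ∈ _
    rw [mx]
    refine list_prod_mem fun z hz => ?_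
    obtain ⟨a, ha, rfl⟩ := List.mem_map.1 hz
    have : ∀ r < 48, 24 ≤ r → ∀ a ∈ mW tF4E6 r, 36 ≤ a.1 ∧ a.1 < 72 := by decide +kernel
    obtain ⟨h1, h2⟩ := this r r.2 (gF4.pos_iff.1 hr) a ha
    rw [xf, xn_lt _ h2]
    exact Subgroup.subset_closure ⟨⟨_, h2⟩, gE6.pos_iff.2 h1, _, ⟨_, rfl⟩, rfl⟩
  obtain ⟨ω, hω⟩ : ∃ ω : Kˣ, orderOf ω = 3 := exists_prime_orderOf_dvd_card' 3 (by simp [Nat.card_units, hK])
  have K3 : ∀ t : Kˣ, t ^ 3 = 1 := fun t => by
    rw [show 3 = Nat.card Kˣ by simp [Nat.card_units, hK], pow_card_eq_one']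
  let c0 : Fin chevE6.rank → Kˣ := fun i => ω ^ [1, 0, 0, 0, 0, 2].getD i 0
  have hc : c0 ∈ Cfix T.π fun _ => φ.toMonoidWithZeroHom := fun i => by
    rw [h.π]
    change _ = φ _
    rw [h.hφ, ← Units.val_pow_eq_pow_val]
    congr 1
    change Fin 6 at i
    fin_cases i <;> simp [c0, fE6, pm, ← pow_mul]
    exact (by rw [pow_succ, K3, one_mul] : ω ^ (3 + 1) = ω).symm
  choose α hα using fun k : Fin 3 => gE6.exists_isA (c0 ^ (k : ℕ)) (.refl K)
  have hαM : ∀ k y, α k (θ y) ∈ T.M := fun k y => ((hα k).M ((hα k).comm (f := fun _ => φ.toMonoidWithZeroHom)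
    (h.π ▸ h.gr) (fun _ _ => rfl) (pow_mem hc _)) _).2 (hM y)
  let ψ : Fin 3 → chevF4.group (ZMod 2) →* twistedE6 K 2 := fun k =>
    ((chevE6.group K).subtype.comp ((α k).toMonoidHom.comp θ)).codRestrict _ fun y => h.set.mem_iff.2 (hαM k y)
  have hψ : ∀ k y, h.set.ι (ψ k y) = α k (θ y) := fun _ _ => rfl
  have hψi : ∀ k, Function.Injective (ψ k) := fun k a b e => hi ((α k).injective (by rw [← hψ, e, hψ]))
  refine ⟨fun k => (ψ k).range, fun k => ⟨(MonoidHom.ofInjective (hψi k)).symm⟩, fun i j hij g e => hij ?_⟩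
  let u := (gF4.adjG (ZMod 2)).x ⟨33, by decide⟩ 1 * (gF4.adjG (ZMod 2)).x ⟨27, by decide⟩ 1 *
    (gF4.adjG (ZMod 2)).x ⟨25, by decide⟩ 1 * (gF4.adjG (ZMod 2)).x ⟨24, by decide⟩ 1
  have hu : u ∈ (gF4.adjG (ZMod 2)).U := by
    refine mul_mem (mul_mem (mul_mem ?_ ?_) ?_) ?_ <;> exact x_mem_U _ (gF4.pos_iff.2 (by decide)) _
  have eu : θ u = wd (gE6.adjG K) ([36, 56, 37, 42, 39, 46].map fun s => (s, f 1)) := by
    simp only [u, map_mul, k 33 (by decide) [36, 56] (by decide +kernel), k 27 (by decide) [37, 42] (by decide +kernel),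
      k 25 (by decide) [39] (by decide +kernel), k 24 (by decide) [46] (by decide +kernel), ← wd_append]
    rfl
  have cu : ∀ l, (gE6.adjG K).Co l (α i (θ u)) ((c0 ^ (i : ℕ)) l) := fun l => by
    have := (hα i).co (co_wd hX l [36, 56, 37, 42, 39, 46] (by decide) (f 1))
    rwa [← eu, show List.count (chevE6.simple l) [36, 56, 37, 42, 39, 46] = 1 by clear this; revert l; decide, map_one,
      Nat.cast_one, mul_one, mul_one] at this
  obtain ⟨v, hv⟩ : g * ψ i u * g⁻¹ ∈ (ψ j).range := e.le ⟨_, ⟨u, rfl⟩, rfl⟩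
  obtain ⟨P, hP⟩ := (gF4.isStG (ZMod 2)).exists_sylow (gF4.multG _) (gF4.adjG_G _) 2
  haveI := gF4.finiteG (ZMod 2)
  obtain ⟨n, hn⟩ := P.2 ⟨u, hP ▸ hu⟩
  have hv2 : v ^ 2 ^ n = 1 := hψi j (by
    rw [map_pow, hv, conj_pow, ← map_pow, show u ^ 2 ^ n = 1 from congrArg Subtype.val hn]; simp)
  obtain ⟨Q, hQ⟩ := (IsPGroup.of_card_dvd_pow (G := Subgroup.zpowers v) (p := 2) (n := n) (by
    rw [Nat.card_zpowers]; exact orderOf_dvd_of_pow_eq_one hv2)).exists_le_sylow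
  obtain ⟨z, hz⟩ := MulAction.exists_smul_eq (chevF4.group (ZMod 2)) Q P
  have hzv : z * v * z⁻¹ ∈ (gF4.adjG (ZMod 2)).U := by
    rw [← hP, ← hz]
    exact Subgroup.smul_mem_pointwise_smul _ (MulAut.conj z) _ (hQ (Subgroup.mem_zpowers v))
  have e1 : h.set.ι (ψ j z * g) * α i (θ u) * (h.set.ι (ψ j z * g))⁻¹ = α j (θ (z * v * z⁻¹)) := by
    rw [← hψ, ← hψ, map_mul (ψ j), map_mul (ψ j), hv, ← map_inv, ← map_mul, ← map_mul, map_inv]
    congr 1; group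
  have hB := hX.mem_B_of_reg (fun l => Units.ne_zero _) cu (cu (e6i 0)).mem (gE6.adjG_G K ▸ Subgroup.mem_top _)
    (e1 ▸ ((hα j).co (hU _ hzv (e6i 0)).choose_spec.2).mem)
  obtain ⟨w, hw, _, hd, e2⟩ := hX.mem_B.1 hB
  obtain ⟨d, rfl⟩ := hX.exists_hh (gE6.multG K) hd
  have key : ∀ l, gE6.cd.ch (gE6.cd.sim l) d * (c0 ^ (i : ℕ)) l = (c0 ^ (j : ℕ)) l := fun l => by
    obtain ⟨_, ⟨t, rfl⟩, ht⟩ := hU _ hzv l
    have a := hX.co_conj_U hw (hX.co_conj_hh (gE6.multG K) d (cu l))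
    have b := (hα j).co ht
    rw [← e1, e2] at b
    have := hX.co_unique (by convert a using 1; group) b
    rcases (by decide : ∀ t : ZMod 2, t = 0 ∨ t = 1) t with rfl | rfl
    · simp at this
    · exact Units.ext (by simpa using this)
  have k2 : ∏ l : Fin chevE6.rank, gE6.cd.ch (gE6.cd.sim l) d ^ ([1, 0, 2, 0, 1, 2].getD l 0 : ℤ) = 1 := by
    simp only [RS.ch_apply, ← prod_zpow, ← zpow_mul]
    rw [prod_comm]
    refine prod_eq_one fun m _ => ?_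
    obtain ⟨a, ha⟩ : (3 : ℤ) ∣ ∑ l : Fin chevE6.rank,
      gE6.cd.A (gE6.cd.sim m) (gE6.cd.sim l) * [1, 0, 2, 0, 1, 2].getD l 0 := by revert m; decide +kernel
    rw [← RS.zpow_sum', ha, zpow_mul, zpow_ofNat, K3, one_zpow]
  have k3 := prod_congr (s₂ := univ) rfl fun (l : Fin chevE6.rank) _ => congrArg (· ^ ([1, 0, 2, 0, 1, 2].getD l 0 : ℤ)) (key l)
  simp only [mul_zpow, prod_mul_distrib, k2, one_mul] at k3
  have k4 : ∀ m : ℕ, ∏ l : Fin chevE6.rank, (c0 ^ m) l ^ ([1, 0, 2, 0, 1, 2].getD l 0 : ℤ) = ω ^ (5 * m) := fun m => by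
    refine (Fin.prod_univ_six _).trans ?_
    change ((ω ^ 1) ^ m) ^ (1 : ℤ) * ((ω ^ 0) ^ m) ^ (0 : ℤ) * ((ω ^ 0) ^ m) ^ (2 : ℤ) * ((ω ^ 0) ^ m) ^ (0 : ℤ) *
      ((ω ^ 0) ^ m) ^ (1 : ℤ) * ((ω ^ 2) ^ m) ^ (2 : ℤ) = _
    simp only [pow_zero, one_pow, one_zpow, mul_one, zpow_one, zpow_ofNat, ← pow_mul, ← pow_add]
    congr 1; ring
  rw [k4, k4, pow_eq_pow_iff_modEq, hω] at k3
  exact (by decide : ∀ i j : Fin 3, 5 * (i : ℕ) ≡ 5 * j [MOD 3] → i = j) i j k3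

end Chev

end CfsgH6
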