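import Mathlib
import Cfsg.Prelude.Def_RootSubgroups

set_option autoImplicit false
set_option linter.unusedSectionVars false

namespace CfsgH6
namespace Rk
open Cfsg

variable {G : Type*} [Group G]

theorem mem_cb {A : Subgroup G} {g x : G} : x ∈ conjBy A g ↔ g⁻¹ * x * g ∈ A := by
  constructor
  · rintro ⟨y, hy, rfl⟩
    simpa [mul_assoc] using hy
  · intro h
    exact ⟨_, h, by simp [mul_assoc]⟩

theorem cb_mem {A : Subgroup G} {x : G} (hx : x ∈ A) (g : G) : g * x * g⁻¹ ∈ conjBy A g := by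
  rw [mem_cb]; simpa [mul_assoc] using hx

theorem cb_cb (A : Subgroup G) (g h : G) : conjBy (conjBy A g) h = conjBy A (h * g) := by
  ext x; simp only [mem_cb]; simp [mul_assoc]

@[simp] theorem cb_one (A : Subgroup G) : conjBy A 1 = A := by
  ext x; simp [mem_cb]

theorem cb_inv_cb (A : Subgroup G) (g : G) : conjBy (conjBy A g) g⁻¹ = A := by
  rw [cb_cb]; simp

theorem cb_cb_inv (A : Subgroup G) (g : G) : conjBy (conjBy A g⁻¹) g = A := by
  rw [cb_cb]; simp

theorem cb_inj {A B : Subgroup G} {g : G} (h : conjBy A g = conjBy B g) : A = B := by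
  rw [← cb_inv_cb A g, h, cb_inv_cb]

theorem cb_self {A : Subgroup G} {a : G} (ha : a ∈ A) : conjBy A a = A := by
  ext x; rw [mem_cb]
  constructor
  · intro h
    have := A.mul_mem (A.mul_mem ha h) (A.inv_mem ha)
    simpa [mul_assoc] using this
  · intro h; exact A.mul_mem (A.mul_mem (A.inv_mem ha) h) ha

theorem cb_eq_iff {A : Subgroup G} {g : G} : conjBy A g = A ↔ g ∈ Subgroup.normalizer (A : Set G) := by
  rw [← Subgroup.inv_mem_iff, Subgroup.mem_normalizer_iff]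
  constructor
  · intro h x
    conv_lhs => rw [← h]
    simp only [mem_cb, inv_inv, SetLike.mem_coe]
  · intro h; ext x
    rw [mem_cb]; have := h x
    simp only [inv_inv, SetLike.mem_coe] at this
    exact this.symm

theorem cb_move {A B : Subgroup G} {g : G} (h : conjBy A g = B) : A = conjBy B g⁻¹ := by
  rw [← h, cb_inv_cb]

theorem cb_move' {A B : Subgroup G} {g : G} (h : A = conjBy B g) : conjBy A g⁻¹ = B := by
  rw [h, cb_inv_cb]

theorem cb_mono {A B : Subgroup G} (h : A ≤ B) (g : G) : conjBy A g ≤ conjBy B g :=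
  Subgroup.map_mono h

theorem cb_le_iff {A B : Subgroup G} {g : G} : conjBy A g ≤ conjBy B g ↔ A ≤ B := by
  refine ⟨fun h => ?_, fun h => cb_mono h g⟩
  have := cb_mono h g⁻¹
  rwa [cb_inv_cb, cb_inv_cb] at this

theorem cb_le {A N : Subgroup G} {g : G} (hA : A ≤ N) (hg : g ∈ N) : conjBy A g ≤ N := by
  have := cb_mono hA g
  rwa [cb_self hg] at this

theorem cb_sup (A B : Subgroup G) (g : G) : conjBy (A ⊔ B) g = conjBy A g ⊔ conjBy B g :=
  Subgroup.map_sup _ _ _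

theorem cb_inf (A B : Subgroup G) (g : G) : conjBy (A ⊓ B) g = conjBy A g ⊓ conjBy B g := by
  ext x; simp only [mem_cb, Subgroup.mem_inf]

theorem cb_comm (A B : Subgroup G) (g : G) : conjBy ⁅A, B⁆ g = ⁅conjBy A g, conjBy B g⁆ :=
  Subgroup.map_commutator _ _ _

@[simp] theorem cb_bot (g : G) : conjBy (⊥ : Subgroup G) g = ⊥ := Subgroup.map_bot _

@[simp] theorem cb_top (g : G) : conjBy (⊤ : Subgroup G) g = ⊤ := by
  ext x; simp only [mem_cb, Subgroup.mem_top]

theorem cb_eq_bot {A : Subgroup G} {g : G} : conjBy A g = ⊥ ↔ A = ⊥ := by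
  refine ⟨fun h => ?_, fun h => by simp [h]⟩
  rw [cb_move h]; simp

theorem cb_of_cent {A : Subgroup G} {g : G} (h : ∀ a ∈ A, g * a = a * g) : conjBy A g = A := by
  ext x; rw [mem_cb]
  constructor
  · intro hx
    have := h _ hx
    have e : g⁻¹ * x * g = x := by
      have h2 : g * (g⁻¹ * x * g) = x * g := by group
      rw [h2] at this
      exact (mul_right_cancel this).symm
    rwa [e] at hx
  · intro hx
    have e : g⁻¹ * x * g = x := by rw [mul_assoc, ← h x hx]; group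
    rwa [e]

theorem cb_normal {N : Subgroup G} [hN : N.Normal] (g : G) : conjBy N g = N := by
  ext x; rw [mem_cb]
  constructor
  · intro h; have := hN.conj_mem _ h g; simpa [mul_assoc] using this
  · intro h; have := hN.conj_mem _ h g⁻¹; simpa using this

theorem normal_of_cb {N : Subgroup G} (h : ∀ g, conjBy N g = N) : N.Normal :=
  ⟨fun n hn g => by rw [← h g]; exact cb_mem hn g⟩

theorem comm_bot_iff {A B : Subgroup G} : ⁅A, B⁆ = ⊥ ↔ ∀ a ∈ A, ∀ b ∈ B, a * b = b * a := by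
  rw [Subgroup.commutator_eq_bot_iff_le_centralizer]
  constructor
  · intro h a ha b hb; exact ((Subgroup.mem_centralizer_iff.1 (h ha)) b hb).symm
  · intro h a ha; exact Subgroup.mem_centralizer_iff.2 fun b hb => (h a ha b hb).symm

theorem cb_map {H : Type*} [Group H] (f : G →* H) (A : Subgroup G) (g : G) :
    (conjBy A g).map f = conjBy (A.map f) (f g) := by
  simp only [conjBy, Subgroup.map_map]
  congr 1; ext x; simp

/-- equivalence between a subgroup and its conjugate -/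
noncomputable def cbEquiv (A : Subgroup G) (g : G) : A ≃* conjBy A g :=
  A.equivMapOfInjective _ (MulAut.conj g).injective

theorem cb_nilp {A : Subgroup G} (h : Group.IsNilpotent A) (g : G) : Group.IsNilpotent (conjBy A g) :=
  nilpotent_of_mulEquiv (cbEquiv A g)

theorem cb_isComm {A : Subgroup G} (h : IsMulCommutative A) (g : G) : IsMulCommutative (conjBy A g) := by
  refine ⟨⟨fun x y => Subtype.ext ?_⟩⟩
  have := congrArg Subtype.val (h.is_comm.comm ⟨_, mem_cb.1 x.2⟩ ⟨_, mem_cb.1 y.2⟩)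
  simp only [Subgroup.coe_mul] at this ⊢
  have h2 : g * (g⁻¹ * x * g * (g⁻¹ * y * g)) * g⁻¹ = g * (g⁻¹ * y * g * (g⁻¹ * x * g)) * g⁻¹ := by rw [this]
  simpa [mul_assoc] using h2

theorem comm_of {A : Subgroup G} (h : IsMulCommutative A) {x y : G} (hx : x ∈ A) (hy : y ∈ A) : x * y = y * x :=
  congrArg Subtype.val (h.is_comm.comm ⟨x, hx⟩ ⟨y, hy⟩)

theorem isComm_of {A : Subgroup G} (h : ∀ x ∈ A, ∀ y ∈ A, x * y = y * x) : IsMulCommutative A :=
  ⟨⟨fun x y => Subtype.ext (h x x.2 y y.2)⟩⟩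

/-- induction over a join of two subgroups -/
theorem sup_ind {A B : Subgroup G} {p : G → Prop} (hA : ∀ a ∈ A, p a) (hB : ∀ b ∈ B, p b)
    (hm : ∀ x y, p x → p y → p (x * y)) {x : G} (hx : x ∈ A ⊔ B) : p x := by
  have : ∀ x ∈ A ⊔ B, p x ∧ p x⁻¹ := by
    intro x hx
    rw [Subgroup.sup_eq_closure] at hx
    induction hx using Subgroup.closure_induction with
    | mem x hx =>
      rcases hx with hx | hx
      · exact ⟨hA x hx, hA _ (A.inv_mem hx)⟩
      · exact ⟨hB x hx, hB _ (B.inv_mem hx)⟩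
    | one => exact ⟨hA 1 A.one_mem, by simpa using hA 1 A.one_mem⟩
    | mul x y _ _ ihx ihy => exact ⟨hm _ _ ihx.1 ihy.1, by rw [mul_inv_rev]; exact hm _ _ ihy.2 ihx.2⟩
    | inv x _ ih => exact ⟨ih.2, by simpa using ih.1⟩
  exact (this x hx).1

/-! ### rank one pairs -/

section R1
variable {A B : Subgroup G}

theorem cond_iff : RankOneCondition A B ↔ ∀ a ∈ A, a ≠ 1 → ∃ b ∈ B, b ≠ 1 ∧ conjBy A b = conjBy B a := by
  constructor
  · intro h a ha h1
    obtain ⟨b, hb, hb1, e⟩ := h a⁻¹ (A.inv_mem ha) (by simpa using h1)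
    exact ⟨b⁻¹, B.inv_mem hb, by simpa using hb1, by simpa using e⟩
  · intro h a ha h1
    obtain ⟨b, hb, hb1, e⟩ := h a⁻¹ (A.inv_mem ha) (by simpa using h1)
    exact ⟨b⁻¹, B.inv_mem hb, by simpa using hb1, by simpa using e⟩

theorem r1_symm (h : IsRankOnePair A B) : IsRankOnePair B A := RankOnePair_symm h

theorem r1_ex (h : IsRankOnePair A B) {a : G} (ha : a ∈ A) (h1 : a ≠ 1) :
    ∃ b ∈ B, b ≠ 1 ∧ conjBy A b = conjBy B a := cond_iff.1 h.cond_left a ha h1

theorem r1_ex' (h : IsRankOnePair A B) {b : G} (hb : b ∈ B) (h1 : b ≠ 1) :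
    ∃ a ∈ A, a ≠ 1 ∧ conjBy A b = conjBy B a := by
  obtain ⟨a, ha, ha1, e⟩ := r1_ex (r1_symm h) hb h1
  exact ⟨a, ha, ha1, e.symm⟩

theorem r1_norm (h : IsRankOnePair A B) {a : G} (ha : a ∈ A) (e : conjBy B a = B) : a = 1 := by
  by_contra h1
  obtain ⟨b, hb, -, e2⟩ := r1_ex h ha h1
  rw [e] at e2
  exact h.ne (by rw [cb_move e2, cb_self (B.inv_mem hb)])

theorem r1_inj (h : IsRankOnePair A B) {a a' : G} (ha : a ∈ A) (ha' : a' ∈ A)
    (e : conjBy B a = conjBy B a') : a = a' := by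
  have : conjBy B (a'⁻¹ * a) = B := by rw [← cb_cb, e, cb_inv_cb]
  have := r1_norm h (A.mul_mem (A.inv_mem ha') ha) this
  rw [inv_mul_eq_one] at this; exact this.symm

theorem r1_ne_bot (h : IsRankOnePair A B) : A ≠ ⊥ := by
  intro hA
  have hB : B ≠ ⊥ := fun hB => h.ne (hA.trans hB.symm)
  obtain ⟨⟨b, hb⟩, hb1⟩ := (Subgroup.ne_bot_iff_exists_ne_one).1 hB
  obtain ⟨a, ha, ha1, -⟩ := r1_ex' h hb (fun e => hb1 (Subtype.ext e))
  rw [hA] at ha; exact ha1 ha

theorem ex_ne_one {A : Subgroup G} (h : A ≠ ⊥) : ∃ a ∈ A, a ≠ 1 := by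
  obtain ⟨⟨b, hb⟩, hb1⟩ := (Subgroup.ne_bot_iff_exists_ne_one).1 h
  exact ⟨b, hb, fun e => hb1 (Subtype.ext e)⟩

theorem r1_inf (h : IsRankOnePair A B) {a : G} (ha : a ∈ A) (hb : a ∈ B) : a = 1 :=
  r1_norm h ha (cb_self hb)

theorem r1_not_comm (h : IsRankOnePair A B) {a : G} (ha : a ∈ A) (hc : ∀ b ∈ B, a * b = b * a) : a = 1 :=
  r1_norm h ha (cb_of_cent hc)

theorem r1_comm_ne (h : IsRankOnePair A B) : ⁅A, B⁆ ≠ ⊥ := by
  intro e
  obtain ⟨a, ha, ha1⟩ := ex_ne_one (r1_ne_bot h)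
  exact ha1 (r1_not_comm h ha (comm_bot_iff.1 e a ha))

theorem r1_ne_cb (h : IsRankOnePair A B) {a : G} (ha : a ∈ A) : conjBy B a ≠ A := by
  intro e
  exact h.ne (by rw [cb_move e, cb_self (A.inv_mem ha)])

theorem r1_cb (h : IsRankOnePair A B) (g : G) : IsRankOnePair (conjBy A g) (conjBy B g) := by
  have key : ∀ {A B : Subgroup G}, IsRankOnePair A B → RankOneCondition (conjBy A g) (conjBy B g) := by
    intro A B h
    rw [cond_iff]
    intro a ha h1
    obtain ⟨b, hb, hb1, e⟩ := r1_ex h (mem_cb.1 ha) (fun e => h1 (by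
      have : g * (g⁻¹ * a * g) * g⁻¹ = 1 := by rw [e]; simp
      simpa [mul_assoc] using this))
    refine ⟨g * b * g⁻¹, cb_mem hb g, fun e => hb1 (by
      have : g⁻¹ * (g * b * g⁻¹) * g = 1 := by rw [e]; simp
      simpa [mul_assoc] using this), ?_⟩
    rw [cb_cb, cb_cb]
    have := congrArg (fun X => conjBy X g) e
    simp only [cb_cb] at this
    simpa [mul_assoc] using this
  exact ⟨fun e => h.ne (cb_inj e), cb_nilp h.nilpotent_left g, cb_nilp h.nilpotent_right g, key h, key (r1_symm h)⟩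

theorem r1_cb_iff {g : G} : IsRankOnePair (conjBy A g) (conjBy B g) ↔ IsRankOnePair A B :=
  ⟨fun h => by have := r1_cb h g⁻¹; rwa [cb_inv_cb, cb_inv_cb] at this, fun h => r1_cb h g⟩

theorem T_iff (h : IsRankOnePair A B) {C : Subgroup G} :
    (C = A ∨ ∃ a ∈ A, C = conjBy B a) ↔ (C = B ∨ ∃ b ∈ B, C = conjBy A b) := by
  have key : ∀ {A B : Subgroup G}, IsRankOnePair A B →
      (C = A ∨ ∃ a ∈ A, C = conjBy B a) → (C = B ∨ ∃ b ∈ B, C = conjBy A b) := by
    intro A B h hC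
    rcases hC with rfl | ⟨a, ha, rfl⟩
    · exact Or.inr ⟨1, B.one_mem, by simp⟩
    · by_cases h1 : a = 1
      · left; simp [h1]
      · obtain ⟨b, hb, -, e⟩ := r1_ex h ha h1
        exact Or.inr ⟨b, hb, e.symm⟩
  exact ⟨key h, key (r1_symm h)⟩

theorem T_cb (h : IsRankOnePair A B) {x : G} (hx : x ∈ A ⊔ B) :
    ∀ C : Subgroup G, (C = A ∨ ∃ a ∈ A, C = conjBy B a) → (conjBy C x = A ∨ ∃ a ∈ A, conjBy C x = conjBy B a) := by
  refine sup_ind (p := fun x => ∀ C : Subgroup G, (C = A ∨ ∃ a ∈ A, C = conjBy B a) →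
    (conjBy C x = A ∨ ∃ a ∈ A, conjBy C x = conjBy B a)) ?_ ?_ ?_ hx
  · intro a ha C hC
    rcases hC with rfl | ⟨a', ha', rfl⟩
    · exact Or.inl (cb_self ha)
    · exact Or.inr ⟨a * a', A.mul_mem ha ha', cb_cb _ _ _⟩
  · intro b hb C hC
    rw [T_iff h] at hC ⊢
    rcases hC with rfl | ⟨a', ha', rfl⟩
    · exact Or.inl (cb_self hb)
    · exact Or.inr ⟨b * a', B.mul_mem hb ha', cb_cb _ _ _⟩
  · intro x y hx hy C hC
    rw [← cb_cb]; exact hx _ (hy _ hC)

theorem B_mem_unip (h : IsRankOnePair A B) : B ∈ unipotentSubgroups A B := by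
  obtain ⟨a, ha, ha1⟩ := ex_ne_one (r1_ne_bot h)
  obtain ⟨b, hb, -, e⟩ := r1_ex h ha ha1
  refine ⟨a⁻¹ * b, (A ⊔ B).mul_mem (Subgroup.mem_sup_left (A.inv_mem ha)) (Subgroup.mem_sup_right hb), ?_⟩
  rw [← cb_cb, e, cb_inv_cb]

theorem A_mem_unip : A ∈ unipotentSubgroups A B := ⟨1, Subgroup.one_mem _, by simp⟩

theorem unip_cb {C : Subgroup G} (hC : C ∈ unipotentSubgroups A B) {x : G} (hx : x ∈ A ⊔ B) :
    conjBy C x ∈ unipotentSubgroups A B := by
  obtain ⟨y, hy, rfl⟩ := hC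
  exact ⟨x * y, Subgroup.mul_mem _ hx hy, cb_cb _ _ _⟩

theorem mem_unip (h : IsRankOnePair A B) {C : Subgroup G} :
    C ∈ unipotentSubgroups A B ↔ (C = A ∨ ∃ a ∈ A, C = conjBy B a) := by
  constructor
  · rintro ⟨x, hx, rfl⟩
    exact T_cb h hx A (Or.inl rfl)
  · rintro (rfl | ⟨a, ha, rfl⟩)
    · exact A_mem_unip
    · exact unip_cb (B_mem_unip h) (Subgroup.mem_sup_left ha)

theorem mem_unip' (h : IsRankOnePair A B) {C : Subgroup G} :
    C ∈ unipotentSubgroups A B ↔ (C = B ∨ ∃ b ∈ B, C = conjBy A b) := by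
  rw [mem_unip h, T_iff h]

theorem unip_symm (h : IsRankOnePair A B) : unipotentSubgroups B A = unipotentSubgroups A B := by
  ext C; rw [mem_unip (r1_symm h), mem_unip' h]

theorem unip_le {C : Subgroup G} (hC : C ∈ unipotentSubgroups A B) : C ≤ A ⊔ B := by
  obtain ⟨y, hy, rfl⟩ := hC
  exact cb_le le_sup_left hy

theorem unip_pair (h : IsRankOnePair A B) {C D : Subgroup G} (hC : C ∈ unipotentSubgroups A B)
    (hD : D ∈ unipotentSubgroups A B) (hne : C ≠ D) : ∃ x ∈ A ⊔ B, conjBy A x = C ∧ conjBy B x = D := by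
  obtain ⟨y, hy, rfl⟩ := hC
  have h1 := unip_cb hD ((A ⊔ B).inv_mem hy)
  rcases (mem_unip h).1 h1 with e | ⟨a, ha, e⟩
  · exact absurd (by rw [← e, cb_cb_inv]) hne
  · refine ⟨y * a, Subgroup.mul_mem _ hy (Subgroup.mem_sup_left ha), ?_, ?_⟩
    · rw [← cb_cb, cb_self ha]
    · rw [← cb_cb, ← e, cb_cb_inv]

theorem unip_r1 (h : IsRankOnePair A B) {C D : Subgroup G} (hC : C ∈ unipotentSubgroups A B)
    (hD : D ∈ unipotentSubgroups A B) (hne : C ≠ D) : IsRankOnePair C D := by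
  obtain ⟨x, -, rfl, rfl⟩ := unip_pair h hC hD hne
  exact r1_cb h x

theorem unip_sup (h : IsRankOnePair A B) {C D : Subgroup G} (hC : C ∈ unipotentSubgroups A B)
    (hD : D ∈ unipotentSubgroups A B) (hne : C ≠ D) : C ⊔ D = A ⊔ B := by
  obtain ⟨x, hx, rfl, rfl⟩ := unip_pair h hC hD hne
  rw [← cb_sup, cb_self hx]

theorem unip_eq (h : IsRankOnePair A B) {C D : Subgroup G} (hC : C ∈ unipotentSubgroups A B)
    (hD : D ∈ unipotentSubgroups A B) (hne : C ≠ D) : unipotentSubgroups C D = unipotentSubgroups A B := by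
  have e := unip_sup h hC hD hne
  obtain ⟨x, hx, rfl⟩ := hC
  ext E
  simp only [unipotentSubgroups, Set.mem_setOf_eq, e]
  constructor
  · rintro ⟨y, hy, rfl⟩; exact ⟨y * x, Subgroup.mul_mem _ hy hx, cb_cb _ _ _⟩
  · rintro ⟨y, hy, rfl⟩
    exact ⟨y * x⁻¹, Subgroup.mul_mem _ hy (Subgroup.inv_mem _ hx), by rw [cb_cb]; simp⟩

theorem unip_inf (h : IsRankOnePair A B) {C D : Subgroup G} (hC : C ∈ unipotentSubgroups A B)
    (hD : D ∈ unipotentSubgroups A B) {x : G} (hx1 : x ≠ 1) (h1 : x ∈ C) (h2 : x ∈ D) : C = D := by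
  by_contra hne
  exact hx1 (r1_inf (unip_r1 h hC hD hne) h1 h2)

/-- an element of a unipotent subgroup fixing another one is trivial -/
theorem unip_fix (h : IsRankOnePair A B) {C D : Subgroup G} (hC : C ∈ unipotentSubgroups A B)
    (hD : D ∈ unipotentSubgroups A B) (hne : C ≠ D) {x : G} (h1 : x ∈ C) (h2 : conjBy D x = D) : x = 1 :=
  r1_norm (unip_r1 h hC hD hne) h1 h2

/-- an element normalizing `A`, normalized by... : relative form of the normal subgroup lemma -/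
theorem r1_normal (h : IsRankOnePair A B) {N : Subgroup G} (hN : N ≤ A ⊔ B)
    (hn : ∀ x ∈ A ⊔ B, ∀ n ∈ N, x * n * x⁻¹ ∈ N) :
    A ⊔ B ≤ N ⊔ A ∨ ∀ n ∈ N, ∀ x ∈ A ⊔ B, n * x = x * n := by
  by_cases hc : ∀ n ∈ N, conjBy A n = A
  · right
    have hall : ∀ n ∈ N, ∀ C ∈ unipotentSubgroups A B, conjBy C n = C := by
      rintro n hn' C ⟨x, hx, rfl⟩
      have := hc _ (hn x⁻¹ (Subgroup.inv_mem _ hx) n hn')
      rw [cb_cb]
      conv_rhs => rw [← this]
      rw [cb_cb]; congr 1; group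
    have key : ∀ {C D : Subgroup G}, IsRankOnePair C D → C ≤ A ⊔ B → C ∈ unipotentSubgroups A B →
        D ∈ unipotentSubgroups A B → ∀ n ∈ N, ∀ c ∈ C, n * c = c * n := by
      intro C D h' hle hC hD n hn' c hc'
      have h1 : c * n * c⁻¹ * n⁻¹ ∈ N := N.mul_mem (hn c (hle hc') n hn') (N.inv_mem hn')
      have h2 : c * n * c⁻¹ * n⁻¹ ∈ C := by
        have := cb_mem (C.inv_mem hc') n
        rw [hall n hn' C hC] at this
        simpa [mul_assoc] using C.mul_mem hc' this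
      have := r1_norm h' h2 (hall _ h1 D hD)
      have e : c * n = (c * n * c⁻¹ * n⁻¹) * (n * c) := by group
      rw [e, this, one_mul]
    intro n hn' x hx
    refine sup_ind (p := fun x => n * x = x * n) (key h le_sup_left A_mem_unip (B_mem_unip h) n hn')
      (key (r1_symm h) le_sup_right (B_mem_unip h) A_mem_unip n hn') ?_ hx
    intro x y hx hy
    rw [← mul_assoc, hx, mul_assoc, hy, mul_assoc]
  · left
    push Not at hc
    obtain ⟨n, hn', hne⟩ := hc
    rcases (mem_unip h).1 (unip_cb A_mem_unip (hN hn')) with e | ⟨a, ha, e⟩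
    · exact absurd e hne
    · refine sup_le le_sup_right ?_
      have e2 : B = conjBy A (a⁻¹ * n) := by rw [← cb_cb, e, cb_inv_cb]
      refine e2.le.trans ?_
      exact cb_le le_sup_right (Subgroup.mul_mem _ (Subgroup.mem_sup_right (A.inv_mem ha)) (Subgroup.mem_sup_left hn'))

end R1

end Rk
end CfsgH6
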