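import Cfsg.Agent.H6.Rk1
import Cfsg.Agent.H6.StE
import Cfsg.Agent.Lead.Component

set_option autoImplicit false
set_option linter.unusedSectionVars false

namespace CfsgH6
namespace Rk
open Cfsg

variable {G : Type*} [Group G]

theorem r1_not_norm {A B : Subgroup G} (h : IsRankOnePair A B) (hn : ∀ b ∈ B, conjBy A b = A) : False := by
  obtain ⟨b, hb, hb1⟩ := ex_ne_one (r1_ne_bot (r1_symm h))
  exact hb1 (r1_norm (r1_symm h) hb (hn b hb))

theorem eq_top_of_nilp {X : Type*} [Group X] [Group.IsPerfect X] {N A : Subgroup X} [N.Normal]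
    (hA : Group.IsNilpotent A) (h : N ⊔ A = ⊤) : N = ⊤ := by
  have hs : Function.Surjective ((QuotientGroup.mk' N).comp A.subtype) := by
    intro y
    obtain ⟨x, rfl⟩ := QuotientGroup.mk'_surjective N y
    have hx : x ∈ ((N ⊔ A : Subgroup X) : Set X) := by rw [h]; trivial
    rw [Subgroup.normal_mul] at hx
    obtain ⟨n, hn, a, ha, rfl⟩ := hx
    refine ⟨⟨a, ha⟩, ?_⟩
    simp only [MonoidHom.comp_apply, Subgroup.coe_subtype, map_mul, QuotientGroup.mk'_apply]
    rw [(QuotientGroup.eq_one_iff n).2 hn, one_mul]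
  have := Group.nilpotent_of_surjective _ hs
  by_contra hne
  have : Nontrivial (X ⧸ N) := QuotientGroup.nontrivial_iff.2 hne
  exact Group.IsPerfect.not_isNilpotent (X ⧸ N) inferInstance

theorem r1g_normal {X : Type*} [Group X] {A B : Subgroup X} (h : IsRankOneGroup X A B)
    (N : Subgroup X) (hN : N.Normal) : N ⊔ A = ⊤ ∨ N ≤ Subgroup.center X := by
  rcases r1_normal h.2 (N := N) (by rw [h.1]; exact le_top) (fun x _ n hn => hN.conj_mem n hn x) with h1 | h1
  · left; rw [h.1] at h1; exact top_le_iff.1 h1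
  · right; intro n hn
    rw [Subgroup.mem_center_iff]
    intro g; exact (h1 n hn g (by rw [h.1]; trivial)).symm

theorem r1g_qs {X : Type*} [Group X] {A B : Subgroup X} (h : IsRankOneGroup X A B)
    (hp : Group.IsPerfect X) : IsQuasisimple X := by
  rw [CfsgLead.isQuasisimple_iff]
  refine ⟨hp.commutator_eq_top, ?_, fun N hN => ?_⟩
  · obtain ⟨a, -, ha1⟩ := ex_ne_one (r1_ne_bot h.2)
    exact ⟨a, 1, ha1⟩
  · rcases r1g_normal h N hN with h1 | h1
    · exact Or.inl (eq_top_of_nilp h.2.nilpotent_left h1)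
    · exact Or.inr h1

theorem r1g_Z2 {X : Type*} [Group X] {A B : Subgroup X} (h : IsRankOneGroup X A B) :
    Subgroup.upperCentralSeries X 2 = Subgroup.center X := by
  have hn : ∀ N : Subgroup X, (∀ n ∈ N, conjBy A n = A) → ¬ (⊤ ≤ N ⊔ A) := by
    intro N hN hle
    refine r1_not_norm h.2 fun b _ => ?_
    refine sup_ind (p := fun x => conjBy A x = A) hN (fun a ha => cb_self ha) ?_ (hle (Subgroup.mem_top b))
    intro x y hx hy; rw [← cb_cb, hy, hx]
  have hZ : ∀ z ∈ Subgroup.center X, conjBy A z = A := fun z hz =>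
    cb_of_cent fun a _ => (Subgroup.mem_center_iff.1 hz a).symm
  apply le_antisymm
  · rcases r1g_normal h (Subgroup.upperCentralSeries X 2) inferInstance with h1 | h1
    · refine absurd h1.ge (hn _ fun z hz => ?_)
      by_contra hne
      have h2 := unip_sup h.2 (unip_cb (A_mem_unip (A := A) (B := B)) (x := z) (by rw [h.1]; trivial)) A_mem_unip hne
      refine hn _ hZ ?_
      rw [← h.1, ← h2]
      refine sup_le ?_ le_sup_right
      intro x hx
      rw [mem_cb] at hx
      have h3 := Subgroup.mem_upperCentralSeries_succ_iff.1 hz (z⁻¹ * x * z)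
      rw [Subgroup.upperCentralSeries_one] at h3
      have : x = (z * (z⁻¹ * x * z) * z⁻¹ * (z⁻¹ * x * z)⁻¹) * (z⁻¹ * x * z) := by group
      rw [this]
      exact Subgroup.mul_mem _ (Subgroup.mem_sup_left h3) (Subgroup.mem_sup_right hx)
    · exact h1
  · rw [← Subgroup.upperCentralSeries_one]; exact Subgroup.upperCentralSeries_mono X (by norm_num)

/-! ### SL₂ -/

section SL2
open Matrix PreSt
variable {k : Type*} [Field k]

theorem slU_add (s t : k) : slU s * slU t = slU (s + t) := by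
  ext i j; fin_cases i <;> fin_cases j <;> simp [sl_mul, add_comm]

theorem slL_add (s t : k) : slL s * slL t = slL (s + t) := by
  ext i j; fin_cases i <;> fin_cases j <;> simp [sl_mul]

theorem slU_zero : slU (0 : k) = 1 := by ext i j; fin_cases i <;> fin_cases j <;> simp
theorem slL_zero : slL (0 : k) = 1 := by ext i j; fin_cases i <;> fin_cases j <;> simp

theorem slU_inv (t : k) : (slU t)⁻¹ = slU (-t) := by
  rw [inv_eq_iff_mul_eq_one, slU_add]; simp [slU_zero]
theorem slL_inv (t : k) : (slL t)⁻¹ = slL (-t) := by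
  rw [inv_eq_iff_mul_eq_one, slL_add]; simp [slL_zero]

theorem slU_eq_one {t : k} (h : slU t = 1) : t = 0 := by
  have := congrArg (fun g : SpecialLinearGroup (Fin 2) k => g 0 1) h
  simpa [slU] using this
theorem slL_eq_one {t : k} (h : slL t = 1) : t = 0 := by
  have := congrArg (fun g : SpecialLinearGroup (Fin 2) k => g 1 0) h
  simpa [slL] using this

theorem mem_upper {g : SpecialLinearGroup (Fin 2) k} : g ∈ upperUnipotentSL2 k ↔ ∃ t, g = slU t := by
  constructor
  · intro hg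
    induction hg using Subgroup.closure_induction with
    | mem x hx =>
      obtain ⟨h1, h2, h3⟩ := hx
      refine ⟨x 0 1, ?_⟩
      ext i j; fin_cases i <;> fin_cases j <;> simp_all
    | one => exact ⟨0, slU_zero.symm⟩
    | mul x y _ _ hx hy =>
      obtain ⟨s, rfl⟩ := hx; obtain ⟨t, rfl⟩ := hy; exact ⟨_, slU_add s t⟩
    | inv x _ hx => obtain ⟨s, rfl⟩ := hx; exact ⟨_, slU_inv s⟩
  · rintro ⟨t, rfl⟩
    exact Subgroup.subset_closure (by simp)

theorem mem_lower {g : SpecialLinearGroup (Fin 2) k} : g ∈ lowerUnipotentSL2 k ↔ ∃ t, g = slL t := by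
  constructor
  · intro hg
    induction hg using Subgroup.closure_induction with
    | mem x hx =>
      obtain ⟨h1, h2, h3⟩ := hx
      refine ⟨x 1 0, ?_⟩
      ext i j; fin_cases i <;> fin_cases j <;> simp_all
    | one => exact ⟨0, slL_zero.symm⟩
    | mul x y _ _ hx hy =>
      obtain ⟨s, rfl⟩ := hx; obtain ⟨t, rfl⟩ := hy; exact ⟨_, slL_add s t⟩
    | inv x _ hx => obtain ⟨s, rfl⟩ := hx; exact ⟨_, slL_inv s⟩
  · rintro ⟨t, rfl⟩
    exact Subgroup.subset_closure (by simp)

theorem upper_comm : IsMulCommutative (upperUnipotentSL2 k) := isComm_of fun x hx y hy => by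
  obtain ⟨s, rfl⟩ := mem_upper.1 hx; obtain ⟨t, rfl⟩ := mem_upper.1 hy
  rw [slU_add, slU_add, add_comm]

theorem lower_comm : IsMulCommutative (lowerUnipotentSL2 k) := isComm_of fun x hx y hy => by
  obtain ⟨s, rfl⟩ := mem_lower.1 hx; obtain ⟨t, rfl⟩ := mem_lower.1 hy
  rw [slL_add, slL_add, add_comm]

theorem nilp_of_comm {A : Subgroup G} (h : IsMulCommutative A) : Group.IsNilpotent A := by
  open scoped IsMulCommutative in infer_instance

theorem slN_eq : (slN : SpecialLinearGroup (Fin 2) k) = slU 1 * slL (-1) * slU 1 := by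
  ext i j; fin_cases i <;> fin_cases j <;> simp [sl_mul]

theorem upper_sup_lower : upperUnipotentSL2 k ⊔ lowerUnipotentSL2 k = ⊤ := by
  rw [eq_top_iff]
  intro g _
  refine sl_induction (p := fun g => g ∈ upperUnipotentSL2 k ⊔ lowerUnipotentSL2 k) (fun t => ?_) ?_
    (fun a b ha hb => Subgroup.mul_mem _ ha hb) g
  · exact Subgroup.mem_sup_left (mem_upper.2 ⟨t, rfl⟩)
  · rw [slN_eq]
    exact Subgroup.mul_mem _ (Subgroup.mul_mem _ (Subgroup.mem_sup_left (mem_upper.2 ⟨_, rfl⟩))
      (Subgroup.mem_sup_right (mem_lower.2 ⟨_, rfl⟩))) (Subgroup.mem_sup_left (mem_upper.2 ⟨_, rfl⟩))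

theorem conj_LU {s t : k} (h : s * t = 1) (u : k) :
    slU s * slL u * (slU s)⁻¹ = slL t * slU (-(u * s ^ 2)) * (slL t)⁻¹ := by
  rw [slU_inv, slL_inv]
  ext i j; fin_cases i <;> fin_cases j <;> simp [sl_mul]
  · linear_combination (-u * s) * h
  · ring
  · linear_combination (-u * (s * t + 1)) * h
  · linear_combination (-u * s) * h

theorem cb_LU {s t : k} (h : s * t = 1) :
    conjBy (lowerUnipotentSL2 k) (slU s) = conjBy (upperUnipotentSL2 k) (slL t) := by
  have hs : s ≠ 0 := by rintro rfl; simp at h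
  apply le_antisymm
  · rintro _ ⟨x, hx, rfl⟩
    obtain ⟨u, rfl⟩ := mem_lower.1 hx
    change slU s * slL u * (slU s)⁻¹ ∈ _
    rw [conj_LU h]; exact cb_mem (mem_upper.2 ⟨_, rfl⟩) _
  · rintro _ ⟨x, hx, rfl⟩
    obtain ⟨u, rfl⟩ := mem_upper.1 hx
    change slL t * slU u * (slL t)⁻¹ ∈ _
    have := conj_LU h (-u / s ^ 2)
    rw [show -(-u / s ^ 2 * s ^ 2) = u by field_simp] at this
    rw [← this]; exact cb_mem (mem_lower.2 ⟨_, rfl⟩) _

theorem sl2_r1 : IsRankOnePair (lowerUnipotentSL2 k) (upperUnipotentSL2 k) := by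
  refine ⟨fun e => ?_, nilp_of_comm lower_comm, nilp_of_comm upper_comm, cond_iff.2 fun a ha h1 => ?_,
    cond_iff.2 fun a ha h1 => ?_⟩
  · have : slL (1 : k) ∈ upperUnipotentSL2 k := e ▸ mem_lower.2 ⟨_, rfl⟩
    obtain ⟨t, ht⟩ := mem_upper.1 this
    have := congrArg (fun g : SpecialLinearGroup (Fin 2) k => g 1 0) ht
    simp [slL, slU] at this
  · obtain ⟨t, rfl⟩ := mem_lower.1 ha
    have ht : t ≠ 0 := by rintro rfl; exact h1 slL_zero
    exact ⟨slU t⁻¹, mem_upper.2 ⟨_, rfl⟩, fun e => ht (by simpa using slU_eq_one e), cb_LU (by field_simp)⟩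
  · obtain ⟨t, rfl⟩ := mem_upper.1 ha
    have ht : t ≠ 0 := by rintro rfl; exact h1 slU_zero
    exact ⟨slL t⁻¹, mem_lower.2 ⟨_, rfl⟩, fun e => ht (by simpa using slL_eq_one e), (cb_LU (by field_simp)).symm⟩

theorem sl2_special : IsSpecialRankOnePair (lowerUnipotentSL2 k) (upperUnipotentSL2 k) := by
  refine ⟨sl2_r1, fun a ha h1 b hb hb1 e => ?_⟩
  obtain ⟨t, rfl⟩ := mem_lower.1 ha
  obtain ⟨s, rfl⟩ := mem_upper.1 hb
  have ht : t ≠ 0 := by rintro rfl; exact h1 slL_zero
  rw [slU_inv, slL_inv] at e ⊢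
  have e2 := cb_LU (s := -t⁻¹) (t := -t) (by field_simp)
  rw [← e2] at e
  have := r1_inj (r1_symm sl2_r1) (mem_upper.2 ⟨_, rfl⟩) (mem_upper.2 ⟨_, rfl⟩) e
  have h3 := congrArg (fun g : SpecialLinearGroup (Fin 2) k => g 0 1) this
  have h4 : s = t⁻¹ := by simpa [slU] using h3
  subst h4
  ext i j; fin_cases i <;> fin_cases j <;> simp [sl_mul, ht]
  ring

end SL2

end Rk
end CfsgH6
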