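import Cfsg.Agent.H6.Rk2

set_option autoImplicit false
set_option linter.unusedSectionVars false

namespace CfsgH6
namespace Rk
open Cfsg

section quad
variable {X : Type*} [Group X] {R : Type*} [Ring R] (ρ : X →* R)

/-- quadratic action -/
def Quad (A : Subgroup X) : Prop := ∀ a ∈ A, ∀ a' ∈ A, (ρ a' - 1) * (ρ a - 1) = 0

theorem rho_inv_mul (g : X) : ρ g⁻¹ * ρ g = 1 := by rw [← map_mul]; simp
theorem rho_mul_inv (g : X) : ρ g * ρ g⁻¹ = 1 := by rw [← map_mul]; simp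

theorem rho_conj (g x : X) : ρ (g * x * g⁻¹) - 1 = ρ g * (ρ x - 1) * ρ g⁻¹ := by
  rw [mul_sub, sub_mul, mul_one, rho_mul_inv, map_mul, map_mul]

variable {ρ}

theorem Quad.cb {A : Subgroup X} (h : Quad ρ A) (g : X) : Quad ρ (conjBy A g) := by
  rintro _ ⟨a, ha, rfl⟩ _ ⟨a', ha', rfl⟩
  change (ρ (g * a' * g⁻¹) - 1) * (ρ (g * a * g⁻¹) - 1) = 0
  rw [rho_conj, rho_conj]
  calc _ = ρ g * ((ρ a' - 1) * (ρ g⁻¹ * ρ g) * (ρ a - 1)) * ρ g⁻¹ := by noncomm_ring
    _ = 0 := by rw [rho_inv_mul, mul_one, h a ha a' ha']; simp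

theorem Quad.inv {A : Subgroup X} (h : Quad ρ A) {a : X} (ha : a ∈ A) : ρ a⁻¹ = 1 - (ρ a - 1) := by
  have h1 := h a⁻¹ (A.inv_mem ha) a ha
  have h2 := rho_mul_inv ρ a
  have : (ρ a - 1) * (ρ a⁻¹ - 1) = ρ a * ρ a⁻¹ - ρ a - ρ a⁻¹ + 1 := by noncomm_ring
  rw [this, h2] at h1
  have : ρ a⁻¹ = 1 - (ρ a - 1) - (1 - ρ a - ρ a⁻¹ + 1) := by noncomm_ring
  rw [this, h1, sub_zero]

theorem Quad.mul {A : Subgroup X} (h : Quad ρ A) {a a' : X} (ha : a ∈ A) (ha' : a' ∈ A) :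
    ρ (a * a') - 1 = (ρ a - 1) + (ρ a' - 1) := by
  have h1 := h a' ha' a ha
  rw [map_mul]
  have : ρ a * ρ a' - 1 = (ρ a - 1) + (ρ a' - 1) + (ρ a - 1) * (ρ a' - 1) := by noncomm_ring
  rw [this, h1, add_zero]

theorem Quad.pow {A : Subgroup X} (h : Quad ρ A) {a : X} (ha : a ∈ A) (n : ℕ) :
    ρ (a ^ n) - 1 = n • (ρ a - 1) := by
  induction n with
  | zero => simp
  | succ n ih => rw [pow_succ, h.mul (A.pow_mem ha n) ha, ih, succ_nsmul]

theorem unit_cancel {g g' : X} {x : R} (h : ρ g * x * ρ g' = 0) : x = 0 := by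
  have : x = ρ g⁻¹ * (ρ g * x * ρ g') * ρ g'⁻¹ := by
    calc x = (ρ g⁻¹ * ρ g) * x * (ρ g' * ρ g'⁻¹) := by rw [rho_inv_mul, rho_mul_inv]; simp
      _ = _ := by noncomm_ring
  rw [this, h]; simp

theorem quad_rel {A B : Subgroup X} (hA : Quad ρ A) (hB : Quad ρ B) {a b : X} (ha : a ∈ A) (hb : b ∈ B)
    (e : conjBy A b = conjBy B a) {a' b' : X} (ha' : a' ∈ A) (hb' : b' ∈ B) :
    (ρ a' - 1) * (ρ b' - 1) = (ρ a' - 1) * (ρ b - 1) * (ρ a - 1) * (ρ b' - 1) := by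
  have h := hA.cb b _ (e ▸ cb_mem hb' a) _ (cb_mem ha' b)
  rw [rho_conj, rho_conj] at h
  have h2 : (ρ a' - 1) * ρ b⁻¹ * ρ a * (ρ b' - 1) = 0 := by
    apply unit_cancel (g := b) (g' := a⁻¹)
    rw [← h]; noncomm_ring
  rw [hB.inv hb] at h2
  have h3 := hA a ha a' ha'
  have h4 := hB b' hb' b hb
  generalize ρ a' - 1 = α' at *
  generalize ρ b' - 1 = β' at *
  generalize ρ b - 1 = β at *
  have e1 : ρ a = 1 + (ρ a - 1) := by noncomm_ring
  rw [e1] at h2
  generalize ρ a - 1 = α at *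
  have : α' * β' - α' * β * α * β' = α' * (1 - β) * (1 + α) * β' - (α' * α) * β' + α' * (β * β') := by noncomm_ring
  rw [h2, h3, h4] at this
  rw [← sub_eq_zero, this]; simp

/-- the centralizer of `[V, X]` -/
def KK (ρ : X →* R) : Subgroup X where
  carrier := {x | ∀ y, ρ x * (ρ y - 1) = ρ y - 1}
  mul_mem' := fun {a b} ha hb y => by rw [map_mul, mul_assoc, hb, ha]
  one_mem' := fun y => by simp
  inv_mem' := fun {a} ha y => by
    conv_lhs => rw [← ha y]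
    rw [← mul_assoc, rho_inv_mul, one_mul]

instance : (KK ρ).Normal := ⟨fun x hx g y => by
  have h1 := hx (g⁻¹ * y)
  have h2 := hx g⁻¹
  have e : ρ g⁻¹ * (ρ y - 1) = (ρ (g⁻¹ * y) - 1) - (ρ g⁻¹ - 1) := by rw [map_mul]; noncomm_ring
  rw [map_mul, map_mul, mul_assoc, mul_assoc, e, mul_sub (ρ x), h1, h2, ← e, ← mul_assoc, rho_mul_inv, one_mul]⟩

theorem mem_KK {A B : Subgroup X} (hAB : A ⊔ B = ⊤) {x : X} (h1 : ∀ a ∈ A, (ρ x - 1) * (ρ a - 1) = 0)
    (h2 : ∀ a ∈ B, (ρ x - 1) * (ρ a - 1) = 0) : x ∈ KK ρ := by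
  intro y
  have : (ρ x - 1) * ρ y = ρ x - 1 := by
    refine sup_ind (A := A) (B := B) (p := fun y => (ρ x - 1) * ρ y = ρ x - 1) ?_ ?_ ?_ (by rw [hAB]; trivial)
    · intro a ha; have := h1 a ha; rwa [mul_sub, mul_one, sub_eq_zero] at this
    · intro a ha; have := h2 a ha; rwa [mul_sub, mul_one, sub_eq_zero] at this
    · intro y z hy hz; rw [map_mul, ← mul_assoc, hy, hz]
  rw [← sub_eq_zero]
  have e : ρ x * (ρ y - 1) - (ρ y - 1) = (ρ x - 1) * ρ y - (ρ x - 1) := by noncomm_ring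
  rw [e, this, sub_self]

theorem quad_B {A B : Subgroup X} (h : IsRankOnePair A B) (hA : Quad ρ A) : Quad ρ B := by
  obtain ⟨x, -, e⟩ := B_mem_unip h
  rw [e]; exact hA.cb x

theorem KK_alt {A B : Subgroup X} (h : IsRankOneGroup X A B) (hA : Quad ρ A) :
    KK ρ ≤ Subgroup.center X ∨ ∀ x y, ρ x * (ρ y - 1) = ρ y - 1 := by
  rcases r1g_normal h (KK ρ) inferInstance with h1 | h1
  · right
    have h2 : KK ρ ⊔ B = ⊤ := by
      obtain ⟨x, -, e⟩ := B_mem_unip h.2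
      have := congrArg (fun Y => conjBy Y x) h1
      simp only [cb_sup, cb_top, cb_normal] at this
      rwa [← e] at this
    have key : ∀ C : Subgroup X, KK ρ ⊔ C = ⊤ → Quad ρ C → ∀ x, ∀ c ∈ C, (ρ x - 1) * (ρ c - 1) = 0 := by
      intro C hC hq x c hc
      rw [sub_mul, one_mul, sub_eq_zero]
      refine sup_ind (A := KK ρ) (B := C) (p := fun x => ρ x * (ρ c - 1) = ρ c - 1) (fun a ha => ha c) ?_ ?_
        (by rw [hC]; trivial)
      · intro a ha; have := hq c hc a ha; rwa [sub_mul, one_mul, sub_eq_zero] at this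
      · intro x y hx hy; rw [map_mul, mul_assoc, hy, hx]
    intro x
    exact mem_KK h.1 (key A h1 hA x) (key B h2 (quad_B h.2 hA) x)
  · exact Or.inl h1

theorem special_iff {G : Type*} [Group G] {A B : Subgroup G} : IsSpecialRankOnePair A B ↔ IsRankOnePair A B ∧
    ∀ a ∈ A, a ≠ 1 → ∀ b ∈ B, b ≠ 1 → conjBy A b = conjBy B a → b * a * b⁻¹ = a * b⁻¹ * a⁻¹ := by
  refine and_congr_right fun _ => ⟨fun h a ha h1 b hb h2 e => ?_, fun h a ha h1 b hb h2 e => ?_⟩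
  · have := h a⁻¹ (A.inv_mem ha) (by simpa) b⁻¹ (B.inv_mem hb) (by simpa) (by simpa using e)
    have := congrArg Inv.inv this
    simpa [mul_assoc] using this
  · have := h a⁻¹ (A.inv_mem ha) (by simpa) b⁻¹ (B.inv_mem hb) (by simpa) e
    have := congrArg Inv.inv this
    simpa [mul_assoc] using this

theorem quad_special {A B : Subgroup X} (h : IsRankOneGroup X A B) (hA : Quad ρ A)
    (hX : ∃ x y, ρ x * (ρ y - 1) ≠ ρ y - 1) : IsSpecialRankOnePair A B := by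
  have hB := quad_B h.2 hA
  rcases KK_alt h hA with hK | hK
  swap
  · obtain ⟨x, y, hne⟩ := hX; exact absurd (hK x y) hne
  refine special_iff.2 ⟨h.2, fun a ha h1 b hb h2 e => ?_⟩
  have hu : b * a * b⁻¹ ∈ conjBy A b := cb_mem ha b
  have hw : a * b * a⁻¹ ∈ conjBy A b := e ▸ cb_mem hb a
  have hd : ρ ((b * a * b⁻¹) * (a * b * a⁻¹)) - 1 =
      (ρ a - 1) + (ρ b - 1) - (ρ b - 1) * (ρ a - 1) * (ρ b - 1) - (ρ a - 1) * (ρ b - 1) * (ρ a - 1) := by
    rw [(hA.cb b).mul hu hw, rho_conj, rho_conj, hA.inv ha, hB.inv hb]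
    noncomm_ring
  have hc : (b * a * b⁻¹) * (a * b * a⁻¹) ∈ KK ρ := by
    refine mem_KK h.1 (fun a' ha' => ?_) (fun b' hb' => ?_)
    · have r1 := quad_rel hB hA hb ha e.symm hb ha'
      have r2 := hA a' ha' a ha
      rw [hd]
      generalize ρ a' - 1 = α' at *
      generalize ρ b - 1 = β at *
      generalize ρ a - 1 = α at *
      have : (α + β - β * α * β - α * β * α) * α' = α * α' + (β * α' - β * α * β * α') - α * β * (α * α') := by
        noncomm_ring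
      rw [this, r2, ← r1]; simp
    · have r1 := quad_rel hA hB ha hb e ha hb'
      have r2 := hB b' hb' b hb
      rw [hd]
      generalize ρ b' - 1 = β' at *
      generalize ρ b - 1 = β at *
      generalize ρ a - 1 = α at *
      have : (α + β - β * α * β - α * β * α) * β' = β * β' + (α * β' - α * β * α * β') - β * α * (β * β') := by
        noncomm_ring
      rw [this, r2, ← r1]; simp
  have h3 := r1_not_comm (r1_cb h.2 b) (Subgroup.mul_mem _ hu hw)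
    (fun y _ => (Subgroup.mem_center_iff.1 (hK hc) y).symm)
  rw [mul_eq_one_iff_eq_inv] at h3
  rw [h3]; group

theorem quad_elem {A B : Subgroup X} (h : IsRankOneGroup X A B) (hA : Quad ρ A) (hf : Function.Injective ρ) :
    (∀ a ∈ A, a ≠ 1 → ¬ IsOfFinOrder a) ∨ ∃ p : ℕ, p.Prime ∧ IsElementaryAbelian p A := by
  have hB := quad_B h.2 hA
  rcases KK_alt h hA with hK | hK
  swap
  · exfalso
    refine r1_comm_ne h.2 (comm_bot_iff.2 fun a _ b _ => hf ?_)
    have h1 := hK a b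
    have h2 := hK b a
    rw [map_mul, map_mul]
    have e1 : ρ a * ρ b = ρ a * (ρ b - 1) + ρ a := by noncomm_ring
    have e2 : ρ b * ρ a = ρ b * (ρ a - 1) + ρ b := by noncomm_ring
    rw [e1, e2, h1, h2]; noncomm_ring
  by_cases hc : ∀ a ∈ A, a ≠ 1 → ¬ IsOfFinOrder a
  · exact Or.inl hc
  right
  push Not at hc
  obtain ⟨a0, ha0, h1, hfin⟩ := hc
  obtain ⟨p, hp, hdvd⟩ := Nat.exists_prime_and_dvd (n := orderOf a0) (by simpa using h1)
  set a := a0 ^ (orderOf a0 / p) with hadef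
  have hord : orderOf a = p := orderOf_pow_orderOf_div hfin.orderOf_pos.ne' hdvd
  have ha : a ∈ A := A.pow_mem ha0 _
  have ha1 : a ≠ 1 := fun e => by rw [e, orderOf_one] at hord; exact hp.one_lt.ne hord
  have hpa : p • (ρ a - 1) = 0 := by rw [← hA.pow ha, ← hord, pow_orderOf_eq_one]; simp
  obtain ⟨b, hb, -, e⟩ := r1_ex h.2 ha ha1
  refine ⟨p, hp, isComm_of fun x hx y hy => hf ?_, fun a' ha' => ?_⟩
  · rw [← sub_left_inj (a := (1 : R)), hA.mul hx hy, hA.mul hy hx, add_comm]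
  · have : a' ^ p ∈ KK ρ := by
      refine mem_KK h.1 (fun x hx => hA x hx _ (A.pow_mem ha' p)) (fun b' hb' => ?_)
      rw [hA.pow ha', smul_mul_assoc, quad_rel hA hB ha hb e ha' hb', ← smul_mul_assoc, ← mul_smul_comm, hpa]
      simp
    exact r1_not_comm h.2 (A.pow_mem ha' p) (fun y _ => (Subgroup.mem_center_iff.1 (hK this) y).symm)

end quad

end Rk
end CfsgH6
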