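import Cfsg.Agent.H6.Rk4

set_option autoImplicit false
set_option linter.unusedSectionVars false

namespace CfsgH6
namespace Rk
open Cfsg

variable {G : Type*} [Group G] {A B : Subgroup G}

theorem special_symm (hs : IsSpecialRankOnePair A B) : IsSpecialRankOnePair B A := by
  rw [special_iff] at hs ⊢
  refine ⟨r1_symm hs.1, fun b hb h1 a ha h2 e => ?_⟩
  have := congrArg Inv.inv (hs.2 a ha h2 b hb h1 e.symm)
  simpa [mul_assoc] using this.symm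

theorem special_cb (hs : IsSpecialRankOnePair A B) (g : G) : IsSpecialRankOnePair (conjBy A g) (conjBy B g) := by
  rw [special_iff] at hs ⊢
  refine ⟨r1_cb hs.1 g, ?_⟩
  rintro _ ⟨a, ha, rfl⟩ h1 _ ⟨b, hb, rfl⟩ h2 e
  change g * a * g⁻¹ ≠ 1 at h1
  change g * b * g⁻¹ ≠ 1 at h2
  change conjBy _ (g * b * g⁻¹) = conjBy _ (g * a * g⁻¹) at e
  change g * b * g⁻¹ * (g * a * g⁻¹) * (g * b * g⁻¹)⁻¹ = g * a * g⁻¹ * (g * b * g⁻¹)⁻¹ * (g * a * g⁻¹)⁻¹
  rw [cb_cb, cb_cb, inv_mul_cancel_right, inv_mul_cancel_right, ← cb_cb, ← cb_cb] at e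
  have := hs.2 a ha (fun e => h1 (by simp [e])) b hb (fun e => h2 (by simp [e])) (cb_inj e)
  calc _ = g * (b * a * b⁻¹) * g⁻¹ := by group
    _ = _ := by rw [this]; group

/-- elements swapping `A` and `B` -/
def Sw (A B : Subgroup G) (ρ : G) : Prop := conjBy A ρ = B ∧ conjBy B ρ = A

/-- graph of the permutation induced by a swapping element -/
def FF (B : Subgroup G) (ρ x y : G) : Prop := conjBy B (ρ * x) = conjBy B y

theorem FF_iff {ρ x y : G} (hρ : Sw A B ρ) : FF B ρ x y ↔ conjBy A (ρ * x * ρ⁻¹) = conjBy B y := by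
  have : conjBy A (ρ * x * ρ⁻¹) = conjBy B (ρ * x) := by
    conv_lhs => rw [← hρ.2]
    rw [cb_cb, inv_mul_cancel_right]
  rw [this]; rfl

theorem FF_ex (h : IsRankOnePair A B) {ρ x : G} (hρ : Sw A B ρ) (hx : x ∈ A) (h1 : x ≠ 1) :
    ∃ y ∈ A, y ≠ 1 ∧ FF B ρ x y := by
  obtain ⟨y, hy, hy1, e⟩ := r1_ex' h (b := ρ * x * ρ⁻¹) (hρ.1 ▸ cb_mem hx ρ) (fun e => h1 (by simpa using e))
  exact ⟨y, hy, hy1, (FF_iff hρ).2 e⟩

theorem FF_uniq (h : IsRankOnePair A B) {ρ x y y' : G} (hy : y ∈ A) (hy' : y' ∈ A) (e : FF B ρ x y)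
    (e' : FF B ρ x y') : y = y' := r1_inj h hy hy' (e.symm.trans e')

theorem FF_inj (h : IsRankOnePair A B) {ρ x x' y : G} (hx : x ∈ A) (hx' : x' ∈ A) (e : FF B ρ x y)
    (e' : FF B ρ x' y) : x = x' := by
  have := e.trans e'.symm
  rw [← cb_cb, ← cb_cb] at this
  exact r1_inj h hx hx' (cb_inj this)

theorem FF_comp {ρ μ x y : G} (hρ : Sw A B ρ) (hμ : Sw A B μ) (e : FF B μ x y) :
    FF B ρ x (ρ * μ⁻¹ * y * (ρ * μ⁻¹)⁻¹) := by
  have h1 : conjBy B (ρ * μ⁻¹)⁻¹ = B := by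
    rw [mul_inv_rev, inv_inv, ← cb_cb, cb_move' hρ.1.symm, hμ.1]
  unfold FF at *
  rw [← cb_cb _ (ρ * μ⁻¹)⁻¹, h1, ← cb_cb _ y, ← e, cb_cb]; congr 1; group

theorem Sw_mem {ρ μ y : G} (hρ : Sw A B ρ) (hμ : Sw A B μ) (hy : y ∈ A) : ρ * μ⁻¹ * y * (ρ * μ⁻¹)⁻¹ ∈ A := by
  have h1 : conjBy A (ρ * μ⁻¹) = A := by
    rw [← cb_cb, cb_move' hμ.2.symm, hρ.2]
  rw [← h1]; exact cb_mem hy _

theorem braid (hs : IsSpecialRankOnePair A B) {a b : G} (ha : a ∈ A) (h1 : a ≠ 1) (hb : b ∈ B) (h2 : b ≠ 1)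
    (e : conjBy A b = conjBy B a) :
    Sw A B (a * b⁻¹ * a) ∧ a * b⁻¹ * a * a * (a * b⁻¹ * a)⁻¹ = b⁻¹ ∧ a * b⁻¹ * a * b * (a * b⁻¹ * a)⁻¹ = a⁻¹ ∧
      conjBy A b⁻¹ = conjBy B a⁻¹ := by
  have h := hs.1
  have h3 := (special_iff.1 hs).2 a ha h1 b hb h2 e
  have br : a * b⁻¹ * a = b⁻¹ * a * b⁻¹ := by
    calc a * b⁻¹ * a = b⁻¹ * (b * a * b⁻¹) * a := by group
      _ = b⁻¹ * a * b⁻¹ := by rw [h3]; group
  have e1 : a * b⁻¹ * a * a * (a * b⁻¹ * a)⁻¹ = b⁻¹ := by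
    rw [mul_inv_eq_iff_eq_mul]
    conv_lhs => rw [br]
    group
  have e2 : a * b⁻¹ * a * b * (a * b⁻¹ * a)⁻¹ = a⁻¹ := by
    rw [mul_inv_eq_iff_eq_mul]
    conv_lhs => rw [br]
    group
  have s2 : conjBy B (a * b⁻¹ * a) = A := by
    rw [br, ← cb_cb, cb_self (B.inv_mem hb), ← cb_cb, ← e, cb_inv_cb]
  have s1 : conjBy A (a * b⁻¹ * a) = B := by
    refine unip_inf h (unip_cb A_mem_unip ?_) (B_mem_unip h) (x := b⁻¹) (by simpa) (by have := cb_mem ha (a * b⁻¹ * a); rwa [e1] at this) (B.inv_mem hb)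
    exact Subgroup.mul_mem _ (Subgroup.mul_mem _ (Subgroup.mem_sup_left ha) (Subgroup.mem_sup_right (B.inv_mem hb)))
      (Subgroup.mem_sup_left ha)
  refine ⟨⟨s1, s2⟩, e1, e2, ?_⟩
  rw [← cb_cb, cb_self ha, ← cb_cb] at s1
  exact cb_move s1

theorem FF_inv (hs : IsSpecialRankOnePair A B) {ρ x y : G} (hρ : Sw A B ρ) (hx : x ∈ A) (h1 : x ≠ 1)
    (hy : y ∈ A) (e : FF B ρ x y) : FF B ρ x⁻¹ y⁻¹ := by
  obtain ⟨y', hy', hy1, e'⟩ := FF_ex hs.1 hρ hx h1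
  obtain rfl := FF_uniq hs.1 hy hy' e e'
  rw [FF_iff hρ] at e ⊢
  have := (braid hs hy hy1 (hρ.1 ▸ cb_mem hx ρ) (fun e => h1 (by simpa using e)) e).2.2.2
  simpa [mul_assoc] using this

theorem ex_mu (hs : IsSpecialRankOnePair A B) {a : G} (ha : a ∈ A) (h1 : a ≠ 1) :
    ∃ μ ∈ A ⊔ B, Sw A B μ ∧ FF B μ a a⁻¹ ∧ μ * a⁻¹ * μ * a⁻¹ = a * μ := by
  obtain ⟨b, hb, h2, e⟩ := r1_ex hs.1 ha h1
  obtain ⟨s, e1, e2, e3⟩ := braid hs ha h1 hb h2 e
  refine ⟨a * b⁻¹ * a, Subgroup.mul_mem _ (Subgroup.mul_mem _ (Subgroup.mem_sup_left ha)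
    (Subgroup.mem_sup_right (B.inv_mem hb))) (Subgroup.mem_sup_left ha), s, (FF_iff s).2 (by rw [e1, e3]), ?_⟩
  have : a * b⁻¹ * a * b⁻¹ * (a * b⁻¹ * a)⁻¹ = a := by
    have := congrArg Inv.inv e2
    simpa [mul_assoc] using this
  rw [mul_inv_eq_iff_eq_mul] at this
  rw [← this]; group

theorem FF_id {μ a x u v : G} (hid : μ * a⁻¹ * μ * a⁻¹ = a * μ) (e1 : FF B μ (a⁻¹ * x) u) (e2 : FF B μ x v) :
    FF B μ (a⁻¹ * u) (a * v) := by
  unfold FF at *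
  rw [← mul_assoc, ← cb_cb _ u, ← e1, ← cb_cb _ v, ← e2, cb_cb, cb_cb]
  congr 1
  rw [← mul_assoc, ← mul_assoc, ← mul_assoc, hid]

theorem FF_pow (hs : IsSpecialRankOnePair A B) (hA : IsMulCommutative A) (n : ℕ) :
    ∀ ρ, Sw A B ρ → ∀ x ∈ A, x ^ n ≠ 1 → ∀ y ∈ A, FF B ρ (x ^ n) y → FF B ρ x (y ^ n) := by
  have h := hs.1
  induction n with
  | zero => intro ρ _ x _ h1; simp at h1
  | succ n ih =>
    intro ρ hρ a ha h1 y hy e
    have ha1 : a ≠ 1 := by rintro rfl; simp at h1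
    obtain ⟨μ, -, hμ, f1, hid⟩ := ex_mu hs ha ha1
    have e' := FF_comp hμ hρ e
    set v := μ * ρ⁻¹ * y * (μ * ρ⁻¹)⁻¹ with hvdef
    have hv : v ∈ A := Sw_mem hμ hρ hy
    have key : v ^ (n + 1) = a⁻¹ := by
      by_cases h2 : a ^ n = 1
      · rw [pow_succ, h2, one_mul] at e'
        rw [FF_uniq h hv (A.inv_mem ha) e' f1, pow_succ, inv_pow, h2]; simp
      · obtain ⟨u, hu, -, e2⟩ := FF_ex h hμ (A.pow_mem ha n) h2
        have e3 := FF_uniq h (A.pow_mem hu n) (A.inv_mem ha) (ih μ hμ a ha h2 u hu e2) f1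
        have e4 := FF_id hid (x := a ^ (n + 1)) (u := u) (by rwa [pow_succ', inv_mul_cancel_left]) e'
        have e5 : (a⁻¹ * u) ^ n = (a ^ (n + 1))⁻¹ := by
          rw [Commute.mul_pow (comm_of hA (A.inv_mem ha) hu), e3, pow_succ', mul_inv_rev, inv_pow]
        have e6 := FF_inv hs hμ (A.pow_mem ha _) h1 hv e'
        rw [← e5] at e6
        have e7 := ih μ hμ _ (A.mul_mem (A.inv_mem ha) hu) (by rw [e5]; simpa using h1) _ (A.inv_mem hv) e6
        have e8 := FF_uniq h (A.mul_mem ha hv) (A.pow_mem (A.inv_mem hv) n) e4 e7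
        rw [pow_succ', eq_inv_iff_mul_eq_one, ← comm_of hA ha (A.mul_mem hv (A.pow_mem hv n)), ← mul_assoc, e8, inv_pow]
        simp
    rw [← key] at f1
    have := FF_comp hρ hμ f1
    rw [hvdef, conj_pow] at this
    convert this using 1
    group

theorem special_struct (hs : IsSpecialRankOnePair A B) (hA : IsMulCommutative A) :
    (∃ p : ℕ, p.Prime ∧ IsElementaryAbelian p A) ∨
    ((∀ a ∈ A, a ≠ 1 → ¬ IsOfFinOrder a) ∧ ∀ a ∈ A, ∀ n : ℕ, 0 < n → ∃ c ∈ A, c ^ n = a) := by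
  have h := hs.1
  by_cases hc : ∀ a ∈ A, a ≠ 1 → ¬ IsOfFinOrder a
  · refine Or.inr ⟨hc, fun a ha n hn => ?_⟩
    by_cases h1 : a = 1
    · exact ⟨1, A.one_mem, by simp [h1]⟩
    have h2 : a ^ n ≠ 1 := fun e => hc a ha h1 (isOfFinOrder_iff_pow_eq_one.2 ⟨n, hn, e⟩)
    obtain ⟨μ, -, hμ, f1, -⟩ := ex_mu hs ha h1
    obtain ⟨u, hu, -, e2⟩ := FF_ex h hμ (A.pow_mem ha n) h2
    have e3 := FF_uniq h (A.pow_mem hu n) (A.inv_mem ha) (FF_pow hs hA n μ hμ a ha h2 u hu e2) f1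
    exact ⟨u⁻¹, A.inv_mem hu, by rw [inv_pow, e3, inv_inv]⟩
  left
  push Not at hc
  obtain ⟨a0, ha0, h1, hfin⟩ := hc
  obtain ⟨p, hp, hdvd⟩ := Nat.exists_prime_and_dvd (n := orderOf a0) (by simpa using h1)
  set a := a0 ^ (orderOf a0 / p) with hadef
  have hord : orderOf a = p := orderOf_pow_orderOf_div hfin.orderOf_pos.ne' hdvd
  have ha : a ∈ A := A.pow_mem ha0 _
  have ha1 : a ≠ 1 := fun e => by rw [e, orderOf_one] at hord; exact hp.one_lt.ne hord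
  have hap : a ^ p = 1 := by rw [← hord, pow_orderOf_eq_one]
  refine ⟨p, hp, hA, fun y hy => ?_⟩
  by_contra h2
  obtain ⟨μ, -, hμ, -, -⟩ := ex_mu hs ha ha1
  obtain ⟨u, hu, -, e2⟩ := FF_ex h hμ (A.pow_mem hy p) h2
  have e3 : (y * a) ^ p = y ^ p := by rw [Commute.mul_pow (comm_of hA hy ha), hap, mul_one]
  have f1 := FF_pow hs hA p μ hμ y hy h2 u hu e2
  have f2 := FF_pow hs hA p μ hμ (y * a) (A.mul_mem hy ha) (by rwa [e3]) u hu (by rwa [e3])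
  exact ha1 (by simpa using FF_inj h (A.mul_mem hy ha) hy f2 f1)

theorem special_big (hs : IsSpecialRankOnePair A B) (hA : IsMulCommutative A) (hbig : 3 < ENat.card A) :
    ⁅A, rankOneDiagonal A B⁆ = A := by
  have h := hs.1
  apply le_antisymm
  · rw [Subgroup.commutator_le]
    intro a ha g hg
    have := cb_mem (A.inv_mem ha) g
    rw [cb_eq_iff.2 hg.1.2] at this
    simpa [commutatorElement_def, mul_assoc] using A.mul_mem ha this
  set M := ⁅A, rankOneDiagonal A B⁆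
  have k1 : ∀ ρ ∈ A ⊔ B, Sw A B ρ → ∀ x ∈ A, x ≠ 1 → ∀ y ∈ A, FF B ρ x y → x * y ∈ M := by
    intro ρ hρ1 hρ x hx h1 y hy e
    obtain ⟨μ, hμ1, hμ, f1, -⟩ := ex_mu hs hx h1
    rw [FF_uniq h hy (Sw_mem hρ hμ (A.inv_mem hx)) e (FF_comp hρ hμ f1)]
    have : ρ * μ⁻¹ ∈ rankOneDiagonal A B := by
      refine ⟨⟨Subgroup.mul_mem _ hρ1 (Subgroup.inv_mem _ hμ1), cb_eq_iff.1 ?_⟩, cb_eq_iff.1 ?_⟩
      · rw [← cb_cb, cb_move' hμ.2.symm, hρ.2]
      · rw [← cb_cb, cb_move' hμ.1.symm, hρ.1]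
    have := Subgroup.commutator_mem_commutator hx this
    simpa [commutatorElement_def, mul_assoc] using this
  have k2 : ∀ a ∈ A, a ≠ 1 → ∀ x ∈ A, x ≠ 1 → x ≠ a → a⁻¹ * x * x ∈ M := by
    intro a ha h1 x hx h2 h3
    obtain ⟨μ, hμ1, hμ, f1, hid⟩ := ex_mu hs ha h1
    have h4 : a⁻¹ * x ≠ 1 := fun e => h3 (by rw [inv_mul_eq_one] at e; exact e.symm)
    obtain ⟨u, hu, -, e1⟩ := FF_ex h hμ (A.mul_mem (A.inv_mem ha) hx) h4
    obtain ⟨v, hv, -, e2⟩ := FF_ex h hμ hx h2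
    have e3 := FF_id hid e1 e2
    have h5 : a⁻¹ * u ≠ 1 := by
      intro e
      rw [inv_mul_eq_one] at e
      subst e
      have := FF_inv hs hμ ha h1 (A.inv_mem ha) f1
      rw [inv_inv] at this
      exact h2 (by simpa using FF_inj h (A.mul_mem (A.inv_mem ha) hx) (A.inv_mem ha) e1 this)
    have m1 := k1 μ hμ1 hμ _ (A.mul_mem (A.inv_mem ha) hx) h4 _ hu e1
    have m2 := k1 μ hμ1 hμ _ hx h2 _ hv e2
    have m3 := k1 μ hμ1 hμ _ (A.mul_mem (A.inv_mem ha) hu) h5 _ (A.mul_mem ha hv) e3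
    have := M.mul_mem (M.mul_mem m1 m2) (M.inv_mem m3)
    convert this using 1
    lift a to A using ha
    lift x to A using hx
    lift u to A using hu
    lift v to A using hv
    norm_cast
    apply Additive.ofMul.injective
    simp only [ofMul_mul, ofMul_inv]
    open scoped IsMulCommutative in abel
  have k3 : ∀ a z : G, ∃ x ∈ A, x ≠ 1 ∧ x ≠ a ∧ x ≠ z := by
    intro a z
    by_contra hc
    push Not at hc
    have h4 : (A : Set G) ⊆ {1, a, z} := fun x hx => by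
      by_cases h1 : x = 1
      · exact Or.inl h1
      by_cases h2 : x = a
      · exact Or.inr (Or.inl h2)
      · exact Or.inr (Or.inr (hc x hx h1 h2))
    have h5 := Set.encard_le_encard h4
    have h6 : ({1, a, z} : Set G).encard ≤ 3 := by
      refine (Set.encard_insert_le _ _).trans ?_
      refine (add_le_add_left (Set.encard_insert_le _ _) 1).trans ?_
      rw [Set.encard_singleton]; rfl
    exact absurd (hbig.trans_le (h5.trans h6)) (lt_irrefl _)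
  intro a ha
  by_cases h1 : a = 1
  · rw [h1]; exact M.one_mem
  obtain ⟨z, hz, hz1, hza, -⟩ := k3 a a
  obtain ⟨x, hx, hx1, hxa, hxz⟩ := k3 a z
  have m1 := k2 a ha h1 x hx hx1 hxa
  have m2 := k2 z hz hz1 x hx hx1 hxz
  have m3 := k2 z hz hz1 a ha h1 hza.symm
  have := M.mul_mem (M.mul_mem m1 (M.inv_mem m2)) m3
  convert this using 1
  group

section St
variable {p : ℕ} [Fact p.Prime]

theorem pw_add {g : G} (hg : g ^ p = 1) (s t : ZMod p) : g ^ s.val * g ^ t.val = g ^ (s + t).val := by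
  rw [← pow_add, ZMod.val_add, ← pow_eq_pow_mod _ hg]

theorem pw_mul {g : G} (hg : g ^ p = 1) (s t : ZMod p) : (g ^ s.val) ^ t.val = g ^ (s * t).val := by
  rw [← pow_mul, ZMod.val_mul, ← pow_eq_pow_mod _ hg]

theorem pw_ne {g : G} (hg : g ^ p = 1) (h1 : g ≠ 1) {t : ZMod p} (ht : t ≠ 0) : g ^ t.val ≠ 1 := by
  intro e
  have := pw_mul hg t t⁻¹
  rw [e, one_pow, mul_inv_cancel₀ ht, ZMod.val_one, pow_one] at this
  exact h1 this.symm

theorem pw_neg {g : G} (hg : g ^ p = 1) (t : ZMod p) : (g ^ t.val)⁻¹ = g ^ (-t).val := by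
  rw [inv_eq_iff_mul_eq_one, pw_add hg]; simp

theorem partner_pow (hs : IsSpecialRankOnePair A B) (hA : IsMulCommutative A) {a b : G} (ha : a ∈ A) (h1 : a ≠ 1)
    (hb : b ∈ B) (h2 : b ≠ 1) (e : conjBy A b = conjBy B a) (hp : ∀ x ∈ A, x ^ p = 1) {t : ZMod p} (ht : t ≠ 0) :
    conjBy A (b ^ (t⁻¹).val) = conjBy B (a ^ t.val) := by
  obtain ⟨s, e1, e2, e3⟩ := braid hs ha h1 hb h2 e
  set μ := a * b⁻¹ * a
  have hb' : μ * a⁻¹ * μ⁻¹ = b := by
    have := congrArg Inv.inv e1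
    simpa [mul_assoc] using this
  have f0 : FF B μ a⁻¹ a := (FF_iff s).2 (by rw [hb', e])
  have h3 : a⁻¹ ^ (t⁻¹).val ≠ 1 := pw_ne (hp _ (A.inv_mem ha)) (by simpa) (inv_ne_zero ht)
  obtain ⟨z, hz, -, f1⟩ := FF_ex hs.1 s (A.pow_mem (A.inv_mem ha) _) h3
  have f2 := FF_uniq hs.1 (A.pow_mem hz _) ha (FF_pow hs hA _ μ s _ (A.inv_mem ha) h3 z hz f1) f0
  rw [FF_iff s, ← conj_pow, hb'] at f1
  rw [f1, ← f2, pw_mul (hp z hz), inv_mul_cancel₀ ht, ZMod.val_one, pow_one]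

theorem st_rel (hs : IsSpecialRankOnePair A B) (hA : IsMulCommutative A) {a b : G} (ha : a ∈ A) (h1 : a ≠ 1)
    (hb : b ∈ B) (h2 : b ≠ 1) (e : conjBy A b = conjBy B a) (hp : ∀ x ∈ A, x ^ p = 1) (hp' : ∀ x ∈ B, x ^ p = 1)
    (t u : ZMod p) (ht : t ≠ 0) :
    a ^ t.val * b ^ (-t⁻¹).val * a ^ t.val * a ^ u.val * (a ^ t.val * b ^ (-t⁻¹).val * a ^ t.val)⁻¹ =
      b ^ (-(t⁻¹ ^ 2 * u)).val := by
  have e' := partner_pow hs hA ha h1 hb h2 e hp ht
  obtain ⟨-, e1, -, -⟩ := braid hs (A.pow_mem ha _) (pw_ne (hp a ha) h1 ht) (B.pow_mem hb _)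
    (pw_ne (hp' b hb) h2 (inv_ne_zero ht)) e'
  rw [pw_neg (hp' b hb)] at e1
  have : a ^ u.val = (a ^ t.val) ^ (t⁻¹ * u).val := by
    rw [pw_mul (hp a ha)]; congr 2; field_simp
  rw [this, ← conj_pow, e1, pw_mul (hp' b hb)]
  congr 2; ring

theorem B_comm (h : IsRankOnePair A B) (hA : IsMulCommutative A) : IsMulCommutative B := by
  obtain ⟨x, -, e⟩ := B_mem_unip h
  rw [e]; exact cb_isComm hA x

theorem B_exp (h : IsRankOnePair A B) {n : ℕ} (hp : ∀ x ∈ A, x ^ n = 1) : ∀ x ∈ B, x ^ n = 1 := by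
  obtain ⟨g, -, e⟩ := B_mem_unip h
  rw [e]
  rintro _ ⟨x, hx, rfl⟩
  rw [← map_pow, hp x hx, map_one]

open PreSt in
theorem special_hom (hs : IsSpecialRankOnePair A B) (hA : IsMulCommutative A) {a b : G} (ha : a ∈ A) (h1 : a ≠ 1)
    (hb : b ∈ B) (h2 : b ≠ 1) (e : conjBy A b = conjBy B a) (hp : ∀ x ∈ A, x ^ p = 1) :
    ∃ φ : Matrix.SpecialLinearGroup (Fin 2) (ZMod p) →* G, φ.range = Subgroup.closure {a, b} ∧
      φ.ker ≤ Subgroup.center _ ∧ (∀ t, φ (slU t) = a ^ t.val) ∧ ∀ t, φ (slL t) = b ^ t.val := by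
  have hp' := B_exp hs.1 hp
  let S : St1 (ZMod p) G :=
    { x := fun t => a ^ t.val
      y := fun t => b ^ t.val
      addx := pw_add (hp a ha)
      addy := pw_add (hp' b hb)
      wx := st_rel hs hA ha h1 hb h2 e hp hp'
      wy := st_rel (special_symm hs) (B_comm hs.1 hA) hb h2 ha h1 e.symm hp' hp }
  have hU : ∀ t, S.hom (slU t) = a ^ t.val := S.hom_U
  have hL : ∀ t, S.hom (slL t) = b ^ t.val := S.hom_L
  refine ⟨S.hom, ?_, ?_, hU, hL⟩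
  · apply le_antisymm
    · rw [MonoidHom.range_eq_map, ← upper_sup_lower, Subgroup.map_sup]
      refine sup_le ?_ ?_
      · rintro _ ⟨g, hg, rfl⟩
        obtain ⟨t, rfl⟩ := mem_upper.1 hg
        rw [hU]; exact Subgroup.pow_mem _ (Subgroup.subset_closure (by simp)) _
      · rintro _ ⟨g, hg, rfl⟩
        obtain ⟨t, rfl⟩ := mem_lower.1 hg
        rw [hL]; exact Subgroup.pow_mem _ (Subgroup.subset_closure (by simp)) _
    · rw [Subgroup.closure_le]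
      rintro x (rfl | rfl)
      · exact ⟨slU 1, by rw [hU, ZMod.val_one, pow_one]⟩
      · exact ⟨slL 1, by rw [hL, ZMod.val_one, pow_one]⟩
  · rcases r1g_normal (X := Matrix.SpecialLinearGroup (Fin 2) (ZMod p))
      ⟨by rw [sup_comm, upper_sup_lower], sl2_r1⟩ S.hom.ker inferInstance with h3 | h3
    · exfalso
      have : ∀ g, S.hom g ∈ B := by
        intro g
        refine sup_ind (A := S.hom.ker) (B := lowerUnipotentSL2 (ZMod p)) (p := fun g => S.hom g ∈ B) ?_ ?_ ?_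
          (by rw [h3]; trivial)
        · intro g hg; rw [MonoidHom.mem_ker.1 hg]; exact B.one_mem
        · intro g hg; obtain ⟨t, rfl⟩ := mem_lower.1 hg; rw [hL]; exact B.pow_mem hb _
        · intro x y hx hy; rw [map_mul]; exact B.mul_mem hx hy
      have h4 := this (slU 1)
      rw [hU, ZMod.val_one, pow_one] at h4
      exact h1 (r1_inf hs.1 ha h4)
    · exact h3

end St

theorem sl2_center {k : Type*} [Field k] {z : Matrix.SpecialLinearGroup (Fin 2) k}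
    (hz : z ∈ Subgroup.center _) : z = 1 ∨ z = -1 := by
  obtain ⟨r, hr, e⟩ := Matrix.SpecialLinearGroup.mem_center_iff.1 hz
  rw [Fintype.card_fin, sq_eq_one_iff] at hr
  rcases hr with rfl | rfl
  · left; ext i j; rw [← e]; simp
  · right; ext i j; rw [← e]; fin_cases i <;> fin_cases j <;> simp

theorem sl2_quot {k : Type*} [Field k] (φ : Matrix.SpecialLinearGroup (Fin 2) k →* G)
    (hφ : φ.ker ≤ Subgroup.center _) : φ.ker = ⊥ ∨ φ.ker = Subgroup.center _ := by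
  by_cases h : φ.ker = ⊥
  · exact Or.inl h
  right
  refine le_antisymm hφ fun z hz => ?_
  obtain ⟨x, hx, hx1⟩ := ex_ne_one h
  rcases sl2_center hz with rfl | rfl
  · exact Subgroup.one_mem _
  · rcases sl2_center (hφ hx) with rfl | rfl
    · exact absurd rfl hx1
    · exact hx

theorem sl2_image {k : Type*} [Field k] (φ : Matrix.SpecialLinearGroup (Fin 2) k →* G)
    (hφ : φ.ker ≤ Subgroup.center _) : Nonempty (φ.range ≃* Matrix.SpecialLinearGroup (Fin 2) k) ∨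
      Nonempty (φ.range ≃* Matrix.ProjectiveSpecialLinearGroup (Fin 2) k) := by
  rcases sl2_quot φ hφ with h | h
  · exact Or.inl ⟨(MonoidHom.ofInjective ((MonoidHom.ker_eq_bot_iff _).1 h)).symm⟩
  · exact Or.inr ⟨(QuotientGroup.quotientKerEquivRange φ).symm.trans (QuotientGroup.quotientMulEquivOfEq h)⟩

end Rk
end CfsgH6
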