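import Cfsg.Agent.H6.Rk5

set_option autoImplicit false
set_option linter.unusedSectionVars false

namespace CfsgH6
namespace Rk
open Cfsg

variable {G : Type*} [Group G]

section r1more
variable {A B : Subgroup G}

theorem r1_fix_all (h : IsRankOnePair A B) {n : G} (hn : ∀ C ∈ unipotentSubgroups A B, conjBy C n = C) :
    ∀ x ∈ A ⊔ B, n * x = x * n := by
  have key : ∀ {C D : Subgroup G}, IsRankOnePair C D → C ∈ unipotentSubgroups A B →
      D ∈ unipotentSubgroups A B → ∀ c ∈ C, n * c = c * n := by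
    intro C D h' hC hD c hc
    have h2 : n * c * n⁻¹ * c⁻¹ ∈ C := by
      have := cb_mem hc n
      rw [hn C hC] at this
      exact C.mul_mem this (C.inv_mem hc)
    have h3 : conjBy D (n * c * n⁻¹ * c⁻¹) = D := by
      have h4 := hn _ (unip_cb hD ((A ⊔ B).inv_mem (unip_le hC hc)))
      rw [← cb_cb, ← cb_cb, cb_move' h4.symm, ← cb_cb, cb_cb_inv, hn D hD]
    have := r1_norm h' h2 h3
    calc n * c = (n * c * n⁻¹ * c⁻¹) * (c * n) := by group
      _ = c * n := by rw [this, one_mul]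
  intro x hx
  refine sup_ind (p := fun x => n * x = x * n) (key h A_mem_unip (B_mem_unip h))
    (key (r1_symm h) (B_mem_unip h) A_mem_unip) ?_ hx
  intro x y hx hy
  rw [← mul_assoc, hx, mul_assoc, hy, mul_assoc]

theorem r1_nil2 (h : IsRankOnePair A B) {C : Subgroup G} (hC : C ∈ unipotentSubgroups A B) {x : G} (hx : x ∈ A ⊔ B)
    (hn : ∀ c ∈ C, conjBy C (x * c * x⁻¹) = C) : conjBy C x = C := by
  by_contra hne
  obtain ⟨c, hc, hc1⟩ := ex_ne_one (r1_ne_bot (unip_r1 h hC (unip_cb hC hx) (Ne.symm hne)))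
  have := unip_fix h (unip_cb hC hx) hC hne (cb_mem hc x) (hn c hc)
  exact hc1 (by simpa using this)

theorem r1_of_map {H : Type*} [Group H] {f : G →* H} (hf : Function.Injective f)
    (h : IsRankOnePair (A.map f) (B.map f)) : IsRankOnePair A B := by
  have key : ∀ {A B : Subgroup G}, IsRankOnePair (A.map f) (B.map f) → RankOneCondition A B := by
    intro A B h
    rw [cond_iff]
    intro a ha h1
    obtain ⟨_, ⟨b, hb, rfl⟩, hb1, e⟩ := r1_ex h (Subgroup.mem_map_of_mem f ha) (fun e => h1 (hf (by simpa using e)))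
    refine ⟨b, hb, fun e => hb1 (by simp [e]), Subgroup.map_injective hf ?_⟩
    rw [cb_map, cb_map, e]
  refine ⟨fun e => h.ne (by rw [e]), ?_, ?_, key h, key (r1_symm h)⟩
  · have := h.nilpotent_left
    exact Group.nilpotent_of_mulEquiv (A.equivMapOfInjective f hf).symm
  · have := h.nilpotent_right
    exact Group.nilpotent_of_mulEquiv (B.equivMapOfInjective f hf).symm

theorem special_map {H : Type*} [Group H] {f : G →* H} (hf : Function.Injective f)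
    (h : IsRankOnePair (A.map f) (B.map f)) (hs : IsSpecialRankOnePair A B) :
    IsSpecialRankOnePair (A.map f) (B.map f) := by
  rw [special_iff] at hs ⊢
  refine ⟨h, ?_⟩
  rintro _ ⟨a, ha, rfl⟩ h1 _ ⟨b, hb, rfl⟩ h2 e
  rw [← cb_map, ← cb_map] at e
  have := hs.2 a ha (fun e => h1 (by simp [e])) b hb (fun e => h2 (by simp [e])) (Subgroup.map_injective hf e)
  simpa using congrArg f this

theorem r1_sub (h : IsRankOnePair A B) :
    IsRankOneGroup ↥(A ⊔ B) (A.subgroupOf (A ⊔ B)) (B.subgroupOf (A ⊔ B)) := by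
  refine ⟨?_, r1_of_map (A ⊔ B).subtype_injective ?_⟩
  · rw [← Subgroup.subgroupOf_sup le_sup_left le_sup_right, Subgroup.subgroupOf_self]
  · rwa [Subgroup.map_subgroupOf_eq_of_le le_sup_left, Subgroup.map_subgroupOf_eq_of_le le_sup_right]

theorem r1g_not_nilp {X : Type*} [Group X] {A B : Subgroup X} (h : IsRankOneGroup X A B) : ¬ Group.IsNilpotent X := by
  intro hn
  have h1 : Subgroup.upperCentralSeries X 1 = ⊤ :=
    Subgroup.upperCentralSeries.eq_top (b := 2) (by norm_num) (by rw [r1g_Z2 h, Subgroup.upperCentralSeries_one])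
  rw [Subgroup.upperCentralSeries_one] at h1
  refine r1_comm_ne h.2 (comm_bot_iff.2 fun a _ b _ => ?_)
  exact Subgroup.mem_center_iff.1 (h1 ▸ Subgroup.mem_top b) a

theorem r1_not_nilp (h : IsRankOnePair A B) {R : Subgroup G} (hR : A ⊔ B ≤ R) : ¬ Group.IsNilpotent R := by
  intro hn
  refine r1g_not_nilp (r1_sub h) ?_
  have : Group.IsNilpotent ((A ⊔ B).subgroupOf R) := inferInstance
  exact Group.nilpotent_of_mulEquiv (Subgroup.subgroupOfEquivOfLe hR)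

theorem r1_elt_ne (h : IsRankOnePair A B) {a b : G} (ha : a ∈ A) (hb : b ∈ B) (h1 : a ≠ 1) (e : a * b = b * a) :
    b = 1 := by
  refine r1_norm (r1_symm h) hb (unip_inf h (unip_cb A_mem_unip (Subgroup.mem_sup_right hb)) A_mem_unip h1 ?_ ha)
  rw [mem_cb, mul_assoc, e]; simpa using ha

theorem r1_gen (h : IsRankOnePair A B) {a : G} (ha : a ∈ A) (h1 : a ≠ 1) {R : Subgroup G} (h2 : a ∈ R) (h3 : B ≤ R) :
    A ⊔ B ≤ R := by
  rw [← unip_sup h (B_mem_unip h) (unip_cb (B_mem_unip h) (Subgroup.mem_sup_left ha))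
    (fun e => h1 (r1_norm h ha e.symm))]
  exact sup_le h3 (cb_le h3 h2)

end r1more

/-- the commutator case, elementwise -/
structure C3 (S : Set (Subgroup G)) (A B : Subgroup G) : Prop where
  mem : ⁅A, B⁆ ∈ S
  cl : ∀ c ∈ ⁅A, B⁆, ∀ a ∈ A, c * a = a * c
  cr : ∀ c ∈ ⁅A, B⁆, ∀ b ∈ B, c * b = b * c
  left : ∀ a ∈ A, a ≠ 1 → ∀ c ∈ ⁅A, B⁆, ∃ b ∈ B, c = a * b * a⁻¹ * b⁻¹
  right : ∀ b ∈ B, b ≠ 1 → ∀ c ∈ ⁅A, B⁆, ∃ a ∈ A, c = a * b * a⁻¹ * b⁻¹

theorem cm_mem {A B : Subgroup G} {a b : G} (ha : a ∈ A) (hb : b ∈ B) : a * b * a⁻¹ * b⁻¹ ∈ ⁅A, B⁆ :=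
  Subgroup.commutator_mem_commutator ha hb

theorem cm_mem' {A B : Subgroup G} {a b : G} (ha : a ∈ A) (hb : b ∈ B) : b * a * b⁻¹ * a⁻¹ ∈ ⁅A, B⁆ := by
  rw [Subgroup.commutator_comm]; exact cm_mem hb ha

theorem cm_mul_right {a b b' : G} (h : (a * b' * a⁻¹ * b'⁻¹) * b = b * (a * b' * a⁻¹ * b'⁻¹)) :
    (a * b * a⁻¹ * b⁻¹) * (a * b' * a⁻¹ * b'⁻¹) = a * (b * b') * a⁻¹ * (b * b')⁻¹ := by
  calc _ = a * b * a⁻¹ * b⁻¹ * ((a * b' * a⁻¹ * b'⁻¹) * b) * b⁻¹ := by group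
    _ = _ := by rw [h]; group

theorem cm_mul_left {a a' b : G} (h : (a * b * a⁻¹ * b⁻¹) * a' = a' * (a * b * a⁻¹ * b⁻¹)) :
    (a * b * a⁻¹ * b⁻¹) * (a' * b * a'⁻¹ * b⁻¹) = (a' * a) * b * (a' * a)⁻¹ * b⁻¹ := by
  calc _ = ((a * b * a⁻¹ * b⁻¹) * a') * b * a'⁻¹ * b⁻¹ := by group
    _ = _ := by rw [h]; group

theorem C3.symm {S : Set (Subgroup G)} {A B : Subgroup G} (h : C3 S A B) : C3 S B A := by
  refine ⟨by rw [Subgroup.commutator_comm]; exact h.mem, by rw [Subgroup.commutator_comm]; exact h.cr,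
    by rw [Subgroup.commutator_comm]; exact h.cl, ?_, ?_⟩
  · intro b hb h1 c hc
    rw [Subgroup.commutator_comm] at hc
    obtain ⟨a, ha, e⟩ := h.right b hb h1 _ (Subgroup.inv_mem _ hc)
    exact ⟨a, ha, by rw [← inv_inv c, e]; group⟩
  · intro b hb h1 c hc
    rw [Subgroup.commutator_comm] at hc
    obtain ⟨a, ha, e⟩ := h.left b hb h1 _ (Subgroup.inv_mem _ hc)
    exact ⟨a, ha, by rw [← inv_inv c, e]; group⟩

theorem C3_iff {S : Set (Subgroup G)} {A B : Subgroup G} : C3 S A B ↔ RootCommutatorCase S A B := by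
  constructor
  · intro h
    refine ⟨h.mem, fun c hc x hx => ?_, fun a ha h1 => ?_, fun b hb h1 => ?_⟩
    · refine sup_ind (p := fun x => c * x = x * c) (h.cl c hc) (h.cr c hc) ?_ hx
      intro x y hx hy; rw [← mul_assoc, hx, mul_assoc, hy, mul_assoc]
    · apply le_antisymm
      · rw [Subgroup.closure_le]; rintro _ ⟨b, hb, rfl⟩; exact cm_mem ha hb
      · intro c hc; obtain ⟨b, hb, rfl⟩ := h.left a ha h1 c hc; exact Subgroup.subset_closure ⟨b, hb, rfl⟩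
    · apply le_antisymm
      · rw [Subgroup.closure_le]; rintro _ ⟨a, ha, rfl⟩; exact cm_mem ha hb
      · intro c hc; obtain ⟨a, ha, rfl⟩ := h.right b hb h1 c hc; exact Subgroup.subset_closure ⟨a, ha, rfl⟩
  · rintro ⟨h1, h2, h3, h4⟩
    refine ⟨h1, fun c hc a ha => h2 c hc a (Subgroup.mem_sup_left ha), fun c hc a ha => h2 c hc a (Subgroup.mem_sup_right ha),
      fun a ha ha1 c hc => ?_, fun b hb hb1 c hc => ?_⟩
    · rw [← h3 a ha ha1] at hc
      induction hc using Subgroup.closure_induction with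
      | mem x hx => obtain ⟨b, hb, rfl⟩ := hx; exact ⟨b, hb, rfl⟩
      | one => exact ⟨1, B.one_mem, by simp⟩
      | mul x y _ _ hx hy =>
        obtain ⟨b, hb, rfl⟩ := hx; obtain ⟨b', hb', rfl⟩ := hy
        exact ⟨b * b', B.mul_mem hb hb',
          cm_mul_right (h2 _ (cm_mem ha hb') b (Subgroup.mem_sup_right hb))⟩
      | inv x _ hx =>
        obtain ⟨b, hb, rfl⟩ := hx
        refine ⟨b⁻¹, B.inv_mem hb, ?_⟩
        rw [inv_eq_iff_mul_eq_one, cm_mul_right (h2 _ (cm_mem ha (B.inv_mem hb)) b (Subgroup.mem_sup_right hb))]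
        simp
    · rw [← h4 b hb hb1] at hc
      induction hc using Subgroup.closure_induction with
      | mem x hx => obtain ⟨b, hb, rfl⟩ := hx; exact ⟨b, hb, rfl⟩
      | one => exact ⟨1, A.one_mem, by simp⟩
      | mul x y _ _ hx hy =>
        obtain ⟨a, ha, rfl⟩ := hx; obtain ⟨a', ha', rfl⟩ := hy
        exact ⟨a' * a, A.mul_mem ha' ha,
          cm_mul_left (h2 _ (cm_mem ha hb) a' (Subgroup.mem_sup_left ha'))⟩
      | inv x _ hx =>
        obtain ⟨a, ha, rfl⟩ := hx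
        refine ⟨a⁻¹, A.inv_mem ha, ?_⟩
        rw [inv_eq_iff_mul_eq_one, cm_mul_left (h2 _ (cm_mem ha hb) a⁻¹ (Subgroup.mem_sup_left (A.inv_mem ha)))]
        simp

section C3
variable {S : Set (Subgroup G)} {A B : Subgroup G}

theorem C3.cb_le (h : C3 S A B) {b : G} (hb : b ∈ B) : conjBy A b ≤ A ⊔ ⁅A, B⁆ := by
  rintro _ ⟨a, ha, rfl⟩
  change b * a * b⁻¹ ∈ _
  have : b * a * b⁻¹ = (b * a * b⁻¹ * a⁻¹) * a := by group
  rw [this]
  exact Subgroup.mul_mem _ (Subgroup.mem_sup_right (cm_mem' ha hb)) (Subgroup.mem_sup_left ha)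

theorem C3.comm_l (h : C3 S A B) : ⁅A, ⁅A, B⁆⁆ = ⊥ := comm_bot_iff.2 fun a ha c hc => (h.cl c hc a ha).symm
theorem C3.comm_r (h : C3 S A B) : ⁅B, ⁅A, B⁆⁆ = ⊥ := comm_bot_iff.2 fun a ha c hc => (h.cr c hc a ha).symm

theorem C3.cb_C (h : C3 S A B) {b : G} (hb : b ∈ B) : conjBy ⁅A, B⁆ b = ⁅A, B⁆ :=
  cb_of_cent fun c hc => (h.cr c hc b hb).symm

theorem C3.ex_cb (h : C3 S A B) {a c : G} (ha : a ∈ A) (h1 : a ≠ 1) (hc : c ∈ ⁅A, B⁆) :
    ∃ b ∈ B, b * a * b⁻¹ = c * a := by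
  obtain ⟨b, hb, e⟩ := h.left a ha h1 _ (Subgroup.inv_mem _ hc)
  refine ⟨b, hb, ?_⟩
  rw [← inv_inv c, e]; group

end C3

theorem mem_sup_comm {A C : Subgroup G} (h : ⁅A, C⁆ = ⊥) {x : G} : x ∈ A ⊔ C ↔ ∃ a ∈ A, ∃ c ∈ C, x = c * a := by
  constructor
  · intro hx
    refine sup_ind (p := fun x => ∃ a ∈ A, ∃ c ∈ C, x = c * a) (fun a ha => ⟨a, ha, 1, C.one_mem, by simp⟩)
      (fun c hc => ⟨1, A.one_mem, c, hc, by simp⟩) ?_ hx
    rintro _ _ ⟨a, ha, c, hc, rfl⟩ ⟨a', ha', c', hc', rfl⟩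
    refine ⟨a * a', A.mul_mem ha ha', c * c', C.mul_mem hc hc', ?_⟩
    rw [mul_assoc, ← mul_assoc a, comm_bot_iff.1 h a ha c' hc']; group
  · rintro ⟨a, ha, c, hc, rfl⟩
    exact Subgroup.mul_mem _ (Subgroup.mem_sup_right hc) (Subgroup.mem_sup_left ha)

theorem comm_sup {x : G} {A B : Subgroup G} (h1 : ∀ a ∈ A, x * a = a * x) (h2 : ∀ a ∈ B, x * a = a * x) :
    ∀ y ∈ A ⊔ B, x * y = y * x := by
  intro y hy
  refine sup_ind (p := fun y => x * y = y * x) h1 h2 ?_ hy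
  intro y z hy hz; rw [← mul_assoc, hy, mul_assoc, hz, mul_assoc]

theorem comm_bot_sup {A B C : Subgroup G} (h1 : ⁅A, B⁆ = ⊥) (h2 : ⁅A, C⁆ = ⊥) : ⁅A, B ⊔ C⁆ = ⊥ := by
  rw [comm_bot_iff] at *
  exact fun a ha => comm_sup (h1 a ha) (h2 a ha)

theorem comm_bot_symm {A B : Subgroup G} (h1 : ⁅A, B⁆ = ⊥) : ⁅B, A⁆ = ⊥ := by
  rwa [Subgroup.commutator_comm]

theorem comm_bot_mono {A B A' B' : Subgroup G} (h : ⁅A, B⁆ = ⊥) (h1 : A' ≤ A) (h2 : B' ≤ B) : ⁅A', B'⁆ = ⊥ :=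
  eq_bot_iff.2 (h ▸ Subgroup.commutator_mono h1 h2)

theorem comm_self {A : Subgroup G} (h : IsMulCommutative A) : ⁅A, A⁆ = ⊥ := comm_bot_iff.2 fun _ ha _ hb => comm_of h ha hb

theorem cb_of_comm {A B : Subgroup G} (h : ⁅A, B⁆ = ⊥) {b : G} (hb : b ∈ B) : conjBy A b = A :=
  cb_of_cent fun a ha => (comm_bot_iff.1 h a ha b hb).symm

theorem comm_bot_cb {A B : Subgroup G} (h : ⁅A, B⁆ = ⊥) (g : G) : ⁅conjBy A g, conjBy B g⁆ = ⊥ := by
  rw [← cb_comm, h, cb_bot]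

section RS
variable {S : Set (Subgroup G)} (hS : IsRootSubgroupSet S)
include hS

theorem tri {A B : Subgroup G} (hA : A ∈ S) (hB : B ∈ S) : ⁅A, B⁆ = ⊥ ∨ IsRankOnePair A B ∨ C3 S A B := by
  rw [C3_iff]; exact hS.pair A hA B hB

theorem unip_S {A B C : Subgroup G} (hA : A ∈ S) (hC : C ∈ unipotentSubgroups A B) : C ∈ S := by
  obtain ⟨x, -, rfl⟩ := hC; exact hS.conj_mem A hA x

theorem self_comm {A : Subgroup G} (hA : A ∈ S) : ⁅A, A⁆ = ⊥ := comm_self (hS.commutative A hA)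

theorem C3.ne_bot {A B : Subgroup G} (h : C3 S A B) : ⁅A, B⁆ ≠ ⊥ := hS.ne_bot _ h.mem

theorem C3.norm {A B : Subgroup G} (hB : B ∈ S) (h : C3 S A B) {a b : G} (ha : a ∈ A) (hb : b ∈ B) :
    conjBy B (a * b * a⁻¹) = B := by
  have : a * b * a⁻¹ = (a * b * a⁻¹ * b⁻¹) * b := by group
  rw [this, ← cb_cb, cb_self hb]
  exact cb_of_cent fun y hy => h.cr _ (cm_mem ha hb) y hy

theorem L1 {A B E : Subgroup G} (hA : A ∈ S) (h : IsRankOnePair A B) (hE : E ∈ S) (hle : E ≤ A ⊔ B) :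
    ⁅E, A ⊔ B⁆ = ⊥ ∨ E ∈ unipotentSubgroups A B := by
  by_cases hc : ∃ C ∈ unipotentSubgroups A B, IsRankOnePair E C
  · right
    obtain ⟨C, hC, h2⟩ := hc
    obtain ⟨e, he, he1⟩ := ex_ne_one (hS.ne_bot E hE)
    obtain ⟨c, hc, -, e1⟩ := r1_ex h2 he he1
    rw [cb_move e1]
    exact unip_cb (unip_cb hC (hle he)) (Subgroup.inv_mem _ (unip_le hC hc))
  · left
    push Not at hc
    refine comm_bot_iff.2 fun e he => r1_fix_all h fun C hC => ?_
    rcases tri hS hE (unip_S hS hA hC) with h1 | h1 | h1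
    · exact cb_of_comm (comm_bot_symm h1) he
    · exact absurd h1 (hc C hC)
    · exact r1_nil2 h hC (hle he) fun c hc => h1.norm hS (unip_S hS hA hC) he hc

theorem L2 {A B : Subgroup G} (hA : A ∈ S) (hB : B ∈ S) (hC : ⁅A, B⁆ ∈ S) : C3 S A B := by
  rcases tri hS hA hB with h | h | h
  · exact absurd h (hS.ne_bot _ hC)
  · exfalso
    have hle : ⁅A, B⁆ ≤ A ⊔ B := by
      rw [Subgroup.commutator_le]
      intro a ha b hb
      have ha' : a ∈ A ⊔ B := Subgroup.mem_sup_left ha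
      have hb' : b ∈ A ⊔ B := Subgroup.mem_sup_right hb
      exact Subgroup.mul_mem _ (Subgroup.mul_mem _ (Subgroup.mul_mem _ ha' hb') (Subgroup.inv_mem _ ha'))
        (Subgroup.inv_mem _ hb')
    rcases L1 hS hA h hC hle with h1 | h1
    · refine r1_not_norm h fun b hb => r1_nil2 h A_mem_unip (Subgroup.mem_sup_right hb) fun a ha => ?_
      have : b * a * b⁻¹ = (b * a * b⁻¹ * a⁻¹) * a := by group
      rw [this, ← cb_cb, cb_self ha]
      exact cb_of_cent fun y hy => comm_bot_iff.1 h1 _ (cm_mem' ha hb) y (Subgroup.mem_sup_left hy)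
    · obtain ⟨a, ha, ha1⟩ := ex_ne_one (hS.ne_bot A hA)
      obtain ⟨b, hb, hb1⟩ := ex_ne_one (hS.ne_bot B hB)
      have h2 : conjBy ⁅A, B⁆ a = ⁅A, B⁆ := cb_eq_iff.2 (Subgroup.normalizer_commutator_ge_left A B ha)
      have h3 : conjBy ⁅A, B⁆ b = ⁅A, B⁆ := cb_eq_iff.2 (Subgroup.normalizer_commutator_ge_right A B hb)
      have e1 : A = ⁅A, B⁆ := by
        by_contra hne; exact ha1 (unip_fix h A_mem_unip h1 hne ha h2)
      have e2 : B = ⁅A, B⁆ := by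
        by_contra hne; exact hb1 (unip_fix h (B_mem_unip h) h1 hne hb h3)
      exact h.ne (e1.trans e2.symm)
  · exact h

theorem C3.not_r1 {A B : Subgroup G} (hB : B ∈ S) (h : C3 S A B) : ¬ IsRankOnePair A B := by
  intro h'
  refine r1_not_norm (r1_symm h') fun a ha => r1_nil2 h' (B_mem_unip h') (Subgroup.mem_sup_left ha) fun b hb => ?_
  exact h.norm hS hB ha hb

theorem ti {A D B : Subgroup G} (hD : D ∈ S) (h : IsRankOnePair A D) (hB : B ∈ S) {x : G} (h1 : x ≠ 1)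
    (hxA : x ∈ A) (hxB : x ∈ B) : A = B := by
  rcases tri hS hB hD with h2 | h2 | h2
  · exact absurd (r1_not_comm h hxA (comm_bot_iff.1 h2 x hxB)) h1
  · obtain ⟨d, hd, -, e⟩ := r1_ex h2 hxB h1
    refine unip_inf h A_mem_unip ?_ h1 hxA hxB
    rw [cb_move e]
    exact unip_cb (unip_cb (B_mem_unip h) (Subgroup.mem_sup_left hxA)) (Subgroup.mem_sup_right (D.inv_mem hd))
  · exact absurd (r1_norm h hxA (r1_nil2 h (B_mem_unip h) (Subgroup.mem_sup_left hxA)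
      fun b hb => h2.norm hS hD hxB hb)) h1

theorem zlem {A B E : Subgroup G} (hB : B ∈ S) (h : IsRankOnePair A B) {z a : G}
    (hzA : ∀ x ∈ A, z * x = x * z) (hzB : ∀ x ∈ B, z * x = x * z) (ha : a ∈ A) (h1 : a ≠ 1) (hE : E ∈ S)
    (hz : z * a ∈ E) : z = 1 := by
  have e0 : conjBy B (z * a) = conjBy B a := by
    rw [hzA a ha, ← cb_cb, cb_of_cent hzB]
  have hne : conjBy B (z * a) ≠ B := fun e => h1 (r1_norm h ha (e0.symm.trans e))
  rcases tri hS hE hB with h2 | h2 | h2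
  · exact absurd (cb_of_comm (comm_bot_symm h2) hz) hne
  · have hza : z * a ≠ 1 := by rintro e; rw [e] at hne; simp at hne
    obtain ⟨d, hd, -, e⟩ := r1_ex h2 hz hza
    have hE' : E ∈ unipotentSubgroups A B := by
      rw [cb_move e, e0]
      exact unip_cb (unip_cb (B_mem_unip h) (Subgroup.mem_sup_left ha)) (Subgroup.mem_sup_right (B.inv_mem hd))
    by_cases hEA : E = A
    · rw [hEA] at hz
      exact r1_not_comm h (by simpa using A.mul_mem hz (A.inv_mem ha)) hzB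
    · exact absurd (unip_fix h hE' A_mem_unip hEA hz (by rw [← cb_cb, cb_self ha, cb_of_cent hzA])) hza
  · exfalso
    refine h1 (r1_norm h ha (r1_nil2 h (B_mem_unip h) (Subgroup.mem_sup_left ha) fun b hb => ?_))
    have := h2.norm hS hB hz hb
    have e : z * a * b * (z * a)⁻¹ = a * b * a⁻¹ := by
      rw [hzA a ha, mul_assoc a z b, hzB b hb]; group
    rwa [e] at this

end RS

end Rk
end CfsgH6
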