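import Cfsg.Agent.H6.Rs1

set_option autoImplicit false
set_option linter.unusedSectionVars false

namespace CfsgH6
namespace Rk
open Cfsg

variable {G : Type*} [Group G]

/-- upper central series of a subgroup, in the ambient group -/
def ZZ (R : Subgroup G) (n : ℕ) : Subgroup G := (Subgroup.upperCentralSeries R n).map R.subtype

theorem ZZ_zero (R : Subgroup G) : ZZ R 0 = ⊥ := by simp [ZZ]

theorem mem_ZZ {R : Subgroup G} {n : ℕ} {x : G} (hx : x ∈ R) : x ∈ ZZ R n ↔ (⟨x, hx⟩ : R) ∈ Subgroup.upperCentralSeries R n := by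
  constructor
  · rintro ⟨y, hy, rfl⟩; exact hy
  · intro h; exact ⟨_, h, rfl⟩

theorem ZZ_le (R : Subgroup G) (n : ℕ) : ZZ R n ≤ R := Subgroup.map_subtype_le _

theorem ZZ_conj {R : Subgroup G} {n : ℕ} {x y : G} (hx : x ∈ ZZ R n) (hy : y ∈ R) : y * x * y⁻¹ ∈ ZZ R n := by
  obtain ⟨x, hx, rfl⟩ := hx
  exact ⟨_, (inferInstance : (Subgroup.upperCentralSeries R n).Normal).conj_mem x hx ⟨y, hy⟩, rfl⟩

theorem ZZ_succ {R : Subgroup G} {n : ℕ} {x : G} (hx : x ∈ R) (h : ∀ y ∈ R, x * y * x⁻¹ * y⁻¹ ∈ ZZ R n) :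
    x ∈ ZZ R (n + 1) := by
  rw [mem_ZZ hx, Subgroup.mem_upperCentralSeries_succ_iff]
  intro y
  exact (mem_ZZ _).1 (h y y.2)

theorem ZZ_succ3 {A B C : Subgroup G} {n : ℕ} {x : G} (hx : x ∈ A ⊔ B ⊔ C)
    (h1 : ∀ y ∈ A, x * y * x⁻¹ * y⁻¹ ∈ ZZ (A ⊔ B ⊔ C) n) (h2 : ∀ y ∈ B, x * y * x⁻¹ * y⁻¹ ∈ ZZ (A ⊔ B ⊔ C) n)
    (h3 : ∀ y ∈ C, x * y * x⁻¹ * y⁻¹ ∈ ZZ (A ⊔ B ⊔ C) n) : x ∈ ZZ (A ⊔ B ⊔ C) (n + 1) := by
  refine ZZ_succ hx fun y hy => ?_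
  have hm : ∀ y z, (y ∈ A ⊔ B ⊔ C ∧ x * y * x⁻¹ * y⁻¹ ∈ ZZ (A ⊔ B ⊔ C) n) → (z ∈ A ⊔ B ⊔ C ∧ x * z * x⁻¹ * z⁻¹ ∈ ZZ (A ⊔ B ⊔ C) n) →
      (y * z ∈ A ⊔ B ⊔ C ∧ x * (y * z) * x⁻¹ * (y * z)⁻¹ ∈ ZZ (A ⊔ B ⊔ C) n) := by
    intro y z hy hz
    refine ⟨Subgroup.mul_mem _ hy.1 hz.1, ?_⟩
    have := Subgroup.mul_mem _ hy.2 (ZZ_conj hz.2 hy.1)
    convert this using 1; group
  refine (sup_ind (p := fun y => y ∈ A ⊔ B ⊔ C ∧ x * y * x⁻¹ * y⁻¹ ∈ ZZ (A ⊔ B ⊔ C) n) (fun y hy => ?_)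
    (fun y hy => ⟨Subgroup.mem_sup_right hy, h3 y hy⟩) hm hy).2
  exact sup_ind (p := fun y => y ∈ A ⊔ B ⊔ C ∧ x * y * x⁻¹ * y⁻¹ ∈ ZZ (A ⊔ B ⊔ C) n)
    (fun y hy => ⟨Subgroup.mem_sup_left (Subgroup.mem_sup_left hy), h1 y hy⟩)
    (fun y hy => ⟨Subgroup.mem_sup_left (Subgroup.mem_sup_right hy), h2 y hy⟩) hm hy

theorem nilp_of_ZZ {R : Subgroup G} {n : ℕ} (h : R ≤ ZZ R n) : Group.IsNilpotent R :=
  ⟨⟨n, eq_top_iff.2 fun x _ => (mem_ZZ x.2).1 (h x.2)⟩⟩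

theorem cm_one {R : Subgroup G} {x y : G} (h : x * y = y * x) : x * y * x⁻¹ * y⁻¹ ∈ R := by
  rw [h]; simp

theorem cm_inv {R : Subgroup G} {x y : G} (h : x * y * x⁻¹ * y⁻¹ ∈ R) : y * x * y⁻¹ * x⁻¹ ∈ R := by
  have := R.inv_mem h; simpa [mul_assoc] using this

theorem class2 {A D : Subgroup G} (hA : ⁅A, A⁆ = ⊥) (hD : ⁅D, D⁆ = ⊥) (h : ⁅⁅A, D⁆, A ⊔ D⁆ = ⊥) :
    ⁅⁅A ⊔ D, A ⊔ D⁆, A ⊔ D⁆ = ⊥ := by
  refine comm_bot_mono h ?_ le_rfl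
  rw [comm_bot_iff] at hA hD h
  have k1 : ∀ x ∈ A ⊔ D, (∀ y ∈ A, x * y * x⁻¹ * y⁻¹ ∈ ⁅A, D⁆) → (∀ y ∈ D, x * y * x⁻¹ * y⁻¹ ∈ ⁅A, D⁆) →
      ∀ y ∈ A ⊔ D, x * y * x⁻¹ * y⁻¹ ∈ ⁅A, D⁆ := by
    intro x hx h1 h2 y hy
    refine (sup_ind (p := fun y => y ∈ A ⊔ D ∧ x * y * x⁻¹ * y⁻¹ ∈ ⁅A, D⁆) (fun y hy => ⟨Subgroup.mem_sup_left hy, h1 y hy⟩)
      (fun y hy => ⟨Subgroup.mem_sup_right hy, h2 y hy⟩) ?_ hy).2
    intro y z hy hz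
    refine ⟨Subgroup.mul_mem _ hy.1 hz.1, ?_⟩
    rw [← cm_mul_right (h _ hz.2 y hy.1)]
    exact Subgroup.mul_mem _ hy.2 hz.2
  rw [Subgroup.commutator_le]
  intro x hx y hy
  refine k1 x hx (fun a ha => cm_inv (k1 a (Subgroup.mem_sup_left ha) (fun y hy => cm_one (hA a ha y hy))
    (fun y hy => cm_mem ha hy) x hx)) (fun a ha => cm_inv (k1 a (Subgroup.mem_sup_right ha) (fun y hy => cm_mem' hy ha)
    (fun y hy => cm_one (hD a ha y hy)) x hx)) y hy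

section RS
variable {S : Set (Subgroup G)} (hS : IsRootSubgroupSet S)
include hS

theorem C3.cb_comm {A B : Subgroup G} (hA : A ∈ S) (h : C3 S A B) {b : G} (hb : b ∈ B) : ⁅A, conjBy A b⁆ = ⊥ :=
  comm_bot_mono (comm_bot_sup (self_comm hS hA) h.comm_l) le_rfl (h.cb_le hb)

theorem n30_r1 {A B C : Subgroup G} (hA : A ∈ S) (hC : C ∈ S) (h2 : C3 S C B) (hAC : ⁅A, C⁆ = ⊥)
    {b : G} (hb : b ∈ B) (hb1 : b ≠ 1) : ¬ IsRankOnePair A (conjBy C b) := by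
  intro h
  obtain ⟨f, hf, hf1⟩ := ex_ne_one (h2.ne_bot hS)
  obtain ⟨c, hc, e⟩ := h2.right b hb hb1 f hf
  have hc1 : c ≠ 1 := by rintro rfl; simp at e; exact hf1 e
  refine hc1 (zlem hS hA (r1_symm h) (z := c) (a := b * c⁻¹ * b⁻¹) (comm_bot_iff.1 (h2.cb_comm hS hC hb) c hc)
    (comm_bot_iff.1 (comm_bot_symm hAC) c hc) (cb_mem (C.inv_mem hc) b) (by simpa using hc1) h2.mem ?_)
  rw [e] at hf; simpa [mul_assoc] using hf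

theorem n30_K {A B C : Subgroup G} (hA : A ∈ S) (hC : C ∈ S) (h2 : C3 S C B) (hAC : ⁅A, C⁆ = ⊥)
    {b : G} (hb : b ∈ B) (hb1 : b ≠ 1) : ⁅⁅A, conjBy C b⁆, A ⊔ conjBy C b⁆ = ⊥ := by
  rcases tri hS hA (hS.conj_mem C hC b) with h | h | h
  · rw [h]; simp
  · exact absurd h (n30_r1 hS hA hC h2 hAC hb hb1)
  · exact comm_bot_sup (comm_bot_symm h.comm_l) (comm_bot_symm h.comm_r)

theorem n30_XY {A B C : Subgroup G} (hA : A ∈ S) (hC : C ∈ S) (h1 : C3 S A B) (h2 : C3 S C B) (hAC : ⁅A, C⁆ = ⊥)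
    {b : G} (hb : b ∈ B) : ⁅A ⊔ conjBy C b, conjBy A b ⊔ C⁆ = ⊥ :=
  comm_bot_symm (comm_bot_sup (comm_bot_symm (comm_bot_sup (h1.cb_comm hS hA hb) hAC))
    (comm_bot_symm (comm_bot_sup (comm_bot_cb (comm_bot_symm hAC) b) (comm_bot_symm (h2.cb_comm hS hC hb)))))

theorem C3.le_sup_cb {A B : Subgroup G} (h : C3 S A B) {b : G} (hb : b ∈ B) (hb1 : b ≠ 1) :
    ⁅A, B⁆ ≤ A ⊔ conjBy A b := by
  intro c hc
  obtain ⟨a, ha, rfl⟩ := h.right b hb hb1 c hc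
  have := Subgroup.mul_mem _ (Subgroup.mem_sup_left (T := conjBy A b) ha) (Subgroup.mem_sup_right (cb_mem (A.inv_mem ha) b))
  simpa [mul_assoc] using this

theorem comm_le_sup (A B : Subgroup G) : ⁅A, B⁆ ≤ A ⊔ B := by
  rw [Subgroup.commutator_le]
  intro a ha b hb
  have ha' : a ∈ A ⊔ B := Subgroup.mem_sup_left ha
  have hb' : b ∈ A ⊔ B := Subgroup.mem_sup_right hb
  exact Subgroup.mul_mem _ (Subgroup.mul_mem _ (Subgroup.mul_mem _ ha' hb') (Subgroup.inv_mem _ ha'))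
    (Subgroup.inv_mem _ hb')

theorem n30_KN {A B C : Subgroup G} (hA : A ∈ S) (hC : C ∈ S) (h1 : C3 S A B) (h2 : C3 S C B) (hAC : ⁅A, C⁆ = ⊥)
    {b : G} (hb : b ∈ B) (hb1 : b ≠ 1) : ⁅⁅A, conjBy C b⁆, (A ⊔ conjBy C b) ⊔ (conjBy A b ⊔ C)⁆ = ⊥ :=
  comm_bot_sup (n30_K hS hA hC h2 hAC hb hb1) (comm_bot_mono (n30_XY hS hA hC h1 h2 hAC hb) (comm_le_sup hS _ _) le_rfl)

theorem n30_af {A B C : Subgroup G} (h2 : C3 S C B) (hAC : ⁅A, C⁆ = ⊥)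
    {b : G} (hb : b ∈ B) (hb1 : b ≠ 1) {a f : G} (ha : a ∈ A) (hf : f ∈ ⁅C, B⁆) :
    a * f * a⁻¹ * f⁻¹ ∈ ⁅A, conjBy C b⁆ := by
  obtain ⟨c, hc, e⟩ := h2.right b hb hb1 f hf
  have h3 := cm_mem ha (cb_mem (C.inv_mem hc) b)
  have h4 := comm_bot_iff.1 hAC a ha c hc
  have h5 := h2.cl f hf c hc
  have e2 : b * c⁻¹ * b⁻¹ = f * c⁻¹ := by
    rw [eq_mul_inv_iff_mul_eq, eq_comm, ← mul_left_inj c⁻¹, ← mul_right_inj c, ← mul_assoc, ← h5, e]; group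
  rw [e2] at h3
  convert h3 using 1
  calc a * f * a⁻¹ * f⁻¹ = a * f * c⁻¹ * (c * a⁻¹) * f⁻¹ := by group
    _ = a * f * c⁻¹ * (a⁻¹ * c) * f⁻¹ := by
      rw [show c * a⁻¹ = a⁻¹ * c by rw [mul_inv_eq_iff_eq_mul, mul_assoc, ← h4]; group]
    _ = _ := by group

theorem n30_nilp {A B C : Subgroup G} (hA : A ∈ S) (hB : B ∈ S) (hC : C ∈ S) (h1 : C3 S A B) (h2 : C3 S C B)
    (hAC : ⁅A, C⁆ = ⊥) : Group.IsNilpotent ↥(A ⊔ B ⊔ C) := by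
  obtain ⟨b, hb, hb1⟩ := ex_ne_one (hS.ne_bot B hB)
  have key : ∀ {A C : Subgroup G}, A ∈ S → C ∈ S → C3 S A B → C3 S C B → ⁅A, C⁆ = ⊥ →
      (∀ a ∈ A, ∀ f ∈ ⁅C, B⁆, ∀ y ∈ (A ⊔ conjBy C b) ⊔ (conjBy A b ⊔ C), (a * f * a⁻¹ * f⁻¹) * y = y * (a * f * a⁻¹ * f⁻¹)) :=
    fun hA hC h1 h2 hAC a ha f hf => comm_bot_iff.1 (n30_KN hS hA hC h1 h2 hAC hb hb1) _ (n30_af hS h2 hAC hb hb1 ha hf)
  have lA : A ≤ A ⊔ B ⊔ C := le_sup_left.trans le_sup_left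
  have lB : B ≤ A ⊔ B ⊔ C := le_sup_right.trans le_sup_left
  have lC : C ≤ A ⊔ B ⊔ C := le_sup_right
  have lE : ⁅A, B⁆ ≤ A ⊔ B ⊔ C := (comm_le_sup hS _ _).trans (sup_le lA lB)
  have lF : ⁅C, B⁆ ≤ A ⊔ B ⊔ C := (comm_le_sup hS _ _).trans (sup_le lC lB)
  have cm : ∀ x ∈ A ⊔ B ⊔ C, ∀ y ∈ A ⊔ B ⊔ C, x * y * x⁻¹ * y⁻¹ ∈ A ⊔ B ⊔ C := fun x hx y hy =>
    Subgroup.mul_mem _ (Subgroup.mul_mem _ (Subgroup.mul_mem _ hx hy) (Subgroup.inv_mem _ hx)) (Subgroup.inv_mem _ hy)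
  -- `[e, f]` is central
  have z1 : ∀ e ∈ ⁅A, B⁆, ∀ f ∈ ⁅C, B⁆, e * f * e⁻¹ * f⁻¹ ∈ ZZ (A ⊔ B ⊔ C) 1 := by
    intro e he f hf
    obtain ⟨a, ha, rfl⟩ := h1.right b hb hb1 e he
    have k1 := key hA hC h1 h2 hAC a ha f hf
    have k2 := key hA hC h1 h2 hAC a⁻¹ (A.inv_mem ha) f hf
    have hbf := h2.cr f hf b hb
    have k3 : ∀ y ∈ conjBy ((A ⊔ conjBy C b) ⊔ (conjBy A b ⊔ C)) b,
        (b * a⁻¹ * b⁻¹ * f * (b * a⁻¹ * b⁻¹)⁻¹ * f⁻¹) * y = y * (b * a⁻¹ * b⁻¹ * f * (b * a⁻¹ * b⁻¹)⁻¹ * f⁻¹) := by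
      rintro _ ⟨y, hy, rfl⟩
      change _ * (b * y * b⁻¹) = (b * y * b⁻¹) * _
      have e1 : b * a⁻¹ * b⁻¹ * f * (b * a⁻¹ * b⁻¹)⁻¹ * f⁻¹ = b * (a⁻¹ * f * a⁻¹⁻¹ * f⁻¹) * b⁻¹ := by
        calc _ = b * a⁻¹ * b⁻¹ * (f * b) * a * (f * b)⁻¹ := by group
          _ = _ := by rw [hbf]; group
      rw [e1]
      calc _ = b * ((a⁻¹ * f * a⁻¹⁻¹ * f⁻¹) * y) * b⁻¹ := by group
        _ = _ := by rw [k2 y hy]; group
    have lN : (A ⊔ conjBy C b) ⊔ (conjBy A b ⊔ C) ≤ conjBy ((A ⊔ conjBy C b) ⊔ (conjBy A b ⊔ C)) b := by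
      have t1 : A ⊔ conjBy A b ≤ conjBy ((A ⊔ conjBy C b) ⊔ (conjBy A b ⊔ C)) b := by
        have : A ⊔ ⁅A, B⁆ ≤ (A ⊔ conjBy C b) ⊔ (conjBy A b ⊔ C) :=
          sup_le (le_sup_left.trans le_sup_left) ((h1.le_sup_cb hS hb hb1).trans
            (sup_le (le_sup_left.trans le_sup_left) (le_sup_left.trans le_sup_right)))
        refine sup_le ?_ (cb_mono (le_sup_left.trans le_sup_left) b)
        have t := cb_mono ((h1.cb_le (B.inv_mem hb)).trans this) b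
        rwa [cb_cb_inv] at t
      have t2 : C ⊔ conjBy C b ≤ conjBy ((A ⊔ conjBy C b) ⊔ (conjBy A b ⊔ C)) b := by
        have : C ⊔ ⁅C, B⁆ ≤ (A ⊔ conjBy C b) ⊔ (conjBy A b ⊔ C) :=
          sup_le (le_sup_right.trans le_sup_right) ((h2.le_sup_cb hS hb hb1).trans
            (sup_le (le_sup_right.trans le_sup_right) (le_sup_right.trans le_sup_left)))
        refine sup_le ?_ (cb_mono (le_sup_right.trans le_sup_right) b)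
        have t := cb_mono ((h2.cb_le (B.inv_mem hb)).trans this) b
        rwa [cb_cb_inv] at t
      exact sup_le (sup_le (le_sup_left.trans t1) (le_sup_right.trans t2)) (sup_le (le_sup_right.trans t1) (le_sup_left.trans t2))
    have e3 : a * b * a⁻¹ * b⁻¹ * f * (a * b * a⁻¹ * b⁻¹)⁻¹ * f⁻¹ =
        (b * a⁻¹ * b⁻¹ * f * (b * a⁻¹ * b⁻¹)⁻¹ * f⁻¹) * (a * f * a⁻¹ * f⁻¹) := by
      rw [cm_mul_left (k3 a (lN (Subgroup.mem_sup_left (Subgroup.mem_sup_left ha))))]; group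
    refine ZZ_succ3 (cm _ (lE he) _ (lF hf)) (fun y hy => cm_one ?_) (fun y hy => cm_one ?_) (fun y hy => cm_one ?_)
    · have hy' : y ∈ (A ⊔ conjBy C b) ⊔ (conjBy A b ⊔ C) := Subgroup.mem_sup_left (Subgroup.mem_sup_left hy)
      rw [e3, mul_assoc _ _ y, k1 y hy', ← mul_assoc, k3 y (lN hy'), mul_assoc]
    · have c1 : Commute (a * b * a⁻¹ * b⁻¹) y := h1.cr _ he y hy
      have c2 : Commute f y := h2.cr _ hf y hy
      exact ((c1.mul_left c2).mul_left c1.inv_left).mul_left c2.inv_left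
    · have hy' : y ∈ (A ⊔ conjBy C b) ⊔ (conjBy A b ⊔ C) := Subgroup.mem_sup_right (Subgroup.mem_sup_right hy)
      rw [e3, mul_assoc _ _ y, k1 y hy', ← mul_assoc, k3 y (lN hy'), mul_assoc]
  have z2 : ∀ {A' C' : Subgroup G}, A' ∈ S → C' ∈ S → C3 S A' B → C3 S C' B → ⁅A', C'⁆ = ⊥ → A ⊔ C ≤ A' ⊔ C' →
      A' ≤ A ⊔ B ⊔ C → C' ≤ A ⊔ B ⊔ C →
      (∀ e ∈ ⁅A', B⁆, ∀ f ∈ ⁅C', B⁆, e * f * e⁻¹ * f⁻¹ ∈ ZZ (A ⊔ B ⊔ C) 1) →
      ∀ a ∈ A', ∀ f ∈ ⁅C', B⁆, a * f * a⁻¹ * f⁻¹ ∈ ZZ (A ⊔ B ⊔ C) 2 := by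
    intro A' C' hA hC h1 h2 hAC l0 lA lC z1 a ha f hf
    have k1 := key hA hC h1 h2 hAC a ha f hf
    have l1 : A' ⊔ C' ≤ (A' ⊔ conjBy C' b) ⊔ (conjBy A' b ⊔ C') :=
      sup_le (le_sup_left.trans le_sup_left) (le_sup_right.trans le_sup_right)
    refine ZZ_succ3 (cm _ (lA ha) _ ((comm_le_sup hS _ _).trans (sup_le lC lB) hf))
      (fun y hy => cm_one (k1 y (l1 (l0 (Subgroup.mem_sup_left hy))))) (fun y hy => ?_)
      (fun y hy => cm_one (k1 y (l1 (l0 (Subgroup.mem_sup_right hy)))))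
    have he := cm_mem' ha hy
    have t1 := k1 _ ((h1.le_sup_cb hS hb hb1).trans
            (sup_le (le_sup_left.trans le_sup_left) (le_sup_left.trans le_sup_right)) he)
    have t2 := ZZ_conj (cm_inv (z1 _ he f hf)) (cm _ (lA ha) _ ((comm_le_sup hS _ _).trans (sup_le lC lB) hf))
    have t3 := h2.cr f hf y hy
    convert t2 using 1
    have e1 : y * (a * f * a⁻¹ * f⁻¹)⁻¹ * y⁻¹ = f * (y * a * y⁻¹) * f⁻¹ * (y * a * y⁻¹)⁻¹ := by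
      calc _ = (y * f) * a * (y * f)⁻¹ * y * a⁻¹ * y⁻¹ := by group
        _ = _ := by rw [← t3]; group
    set e := y * a * y⁻¹ * a⁻¹
    have e2 : y * a * y⁻¹ = e * a := by simp [e]
    calc _ = (a * f * a⁻¹ * f⁻¹) * (y * (a * f * a⁻¹ * f⁻¹)⁻¹ * y⁻¹) := by group
      _ = (a * f * a⁻¹ * f⁻¹) * (f * e * f⁻¹ * (e * (a * f * a⁻¹ * f⁻¹))⁻¹) := by rw [e1, e2]; group
      _ = _ := by rw [← t1]; group
  have z2a := z2 hA hC h1 h2 hAC le_rfl lA lC z1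
  have z2c := z2 hC hA h2 h1 (comm_bot_symm hAC) (by rw [sup_comm]) lC lA (fun e he f hf => cm_inv (z1 f hf e he))
  have z3e : ∀ e ∈ ⁅A, B⁆, e ∈ ZZ (A ⊔ B ⊔ C) 3 := fun e he =>
    ZZ_succ3 (lE he) (fun y hy => cm_one (h1.cl e he y hy)) (fun y hy => cm_one (h1.cr e he y hy))
      (fun y hy => cm_inv (z2c y hy e he))
  have z3f : ∀ e ∈ ⁅C, B⁆, e ∈ ZZ (A ⊔ B ⊔ C) 3 := fun e he =>
    ZZ_succ3 (lF he) (fun y hy => cm_inv (z2a y hy e he)) (fun y hy => cm_one (h2.cr e he y hy))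
      (fun y hy => cm_one (h2.cl e he y hy))
  refine nilp_of_ZZ (n := 4) (sup_le (sup_le (fun x hx => ?_) (fun x hx => ?_)) (fun x hx => ?_))
  · exact ZZ_succ3 (lA hx) (fun y hy => cm_one (comm_of (hS.commutative A hA) hx hy))
      (fun y hy => z3e _ (cm_mem hx hy)) (fun y hy => cm_one (comm_bot_iff.1 hAC x hx y hy))
  · exact ZZ_succ3 (lB hx) (fun y hy => z3e _ (cm_mem' hy hx))
      (fun y hy => cm_one (comm_of (hS.commutative B hB) hx hy)) (fun y hy => z3f _ (cm_mem' hy hx))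
  · exact ZZ_succ3 (lC hx) (fun y hy => cm_one (comm_bot_iff.1 hAC y hy x hx).symm)
      (fun y hy => z3f _ (cm_mem hx hy)) (fun y hy => cm_one (comm_of (hS.commutative C hC) hx hy))

theorem C3.inj {A D B : Subgroup G} (hA : A ∈ S) (hD : D ∈ S) (hAD : IsRankOnePair A D) (h : C3 S A B) {a b : G}
    (ha : a ∈ A) (h1 : a ≠ 1) (hb : b ∈ B) (e : a * b = b * a) : b = 1 := by
  by_contra hb1
  have e1 : A = conjBy A b := ti hS hD hAD (hS.conj_mem A hA b) h1 ha (by rw [mem_cb, mul_assoc, e]; simpa using ha)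
  have l1 : ⁅A, B⁆ ≤ A := by
    have := h.le_sup_cb hS hb hb1
    rwa [← e1, sup_idem] at this
  obtain ⟨c, hc, hc1⟩ := ex_ne_one (h.ne_bot hS)
  have e2 : A = ⁅A, B⁆ := ti hS hD hAD h.mem hc1 (l1 hc) hc
  refine h.ne_bot hS ?_
  have := comm_bot_symm h.comm_r
  rwa [← e2] at this

theorem C3.inf {A B : Subgroup G} (h : C3 S A B) {x : G} (h1 : x ∈ A) (h2 : x ∈ ⁅A, B⁆) : x = 1 := by
  by_contra hx
  obtain ⟨c, hc, hc1⟩ := ex_ne_one (h.ne_bot hS)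
  obtain ⟨b, hb, rfl⟩ := h.left x h1 hx c hc
  exact hc1 (by rw [h.cr x h2 b hb]; group)

theorem C3.ne {A B : Subgroup G} (hA : A ∈ S) (h : C3 S A B) : A ≠ ⁅A, B⁆ := by
  intro e
  obtain ⟨c, hc, hc1⟩ := ex_ne_one (hS.ne_bot A hA)
  exact hc1 (h.inf hS hc (e ▸ hc))

theorem C3.cb_ne {A B : Subgroup G} (hA : A ∈ S) (h : C3 S A B) {b : G} (hb : b ∈ B) : conjBy A b ≠ ⁅A, B⁆ := by
  intro e
  rw [← h.cb_C hb] at e
  exact h.ne hS hA (cb_inj e)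

theorem C3.root {A B : Subgroup G} (h : C3 S A B) {a c : G} (ha : a ∈ A) (h1 : a ≠ 1) (hc : c ∈ ⁅A, B⁆) :
    ∃ b ∈ B, c * a ∈ conjBy A b := by
  obtain ⟨b, hb, e⟩ := h.ex_cb ha h1 hc
  exact ⟨b, hb, e ▸ cb_mem ha b⟩

theorem C3.sub_eq {A D B E : Subgroup G} (hA : A ∈ S) (hD : D ∈ S) (hAD : IsRankOnePair A D) (h : C3 S A B)
    (hE : E ∈ S) (hle : E ≤ ⁅A, B⁆) : E = ⁅A, B⁆ := by
  obtain ⟨a, ha, ha1⟩ := ex_ne_one (hS.ne_bot A hA)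
  obtain ⟨e, he, he1⟩ := ex_ne_one (hS.ne_bot E hE)
  have nc : ⁅D, E⁆ ≠ ⊥ := by
    intro h2
    obtain ⟨b, hb, hm⟩ := h.root hS ha ha1 (hle he)
    exact he1 (zlem hS hD hAD (h.cl e (hle he)) (comm_bot_iff.1 (comm_bot_symm h2) e he) ha ha1 (hS.conj_mem A hA b) hm)
  rcases tri hS hD hE with h1 | h1 | h1
  · exact absurd h1 nc
  · exact ti hS hD (r1_symm h1) h.mem he1 he (hle he)
  rcases tri hS hD h.mem with h2 | h2 | h2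
  · exact absurd (comm_bot_mono h2 le_rfl hle) nc
  · exact (ti hS hD (r1_symm h2) hE he1 (hle he) he).symm
  refine le_antisymm hle fun c hc => ?_
  obtain ⟨d, hd, hd1⟩ := ex_ne_one (hS.ne_bot D hD)
  obtain ⟨d', hd', e1⟩ := h2.right e (hle he) he1 _ (cm_mem hd hc)
  obtain ⟨e', he', e2⟩ := h1.left d hd hd1 _ (cm_mem hd' he)
  have e3 : d * (e'⁻¹ * c) = (e'⁻¹ * c) * d := by
    have e4 := e1.trans e2
    calc d * (e'⁻¹ * c) = e'⁻¹ * (d * e' * d⁻¹ * e'⁻¹)⁻¹ * d * c := by group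
      _ = _ := by rw [← e4]; group
  have := h2.inj hS hD hA (r1_symm hAD) hd hd1 (Subgroup.mul_mem _ (Subgroup.inv_mem _ (hle he')) hc) e3
  rw [inv_mul_eq_one] at this
  exact this ▸ he'

theorem C3.members {A D B E : Subgroup G} (hA : A ∈ S) (hD : D ∈ S) (hAD : IsRankOnePair A D) (h : C3 S A B) :
    E ∈ membersIn S (A ⊔ ⁅A, B⁆) ↔ (∃ b ∈ B, conjBy A b = E) ∨ E = ⁅A, B⁆ := by
  constructor
  · rintro ⟨hE, hle⟩
    by_cases h1 : E ≤ ⁅A, B⁆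
    · exact Or.inr (h.sub_eq hS hA hD hAD hE h1)
    · left
      obtain ⟨x, hx, hx2⟩ := SetLike.not_le_iff_exists.1 h1
      obtain ⟨a, ha, c, hc, rfl⟩ := (mem_sup_comm h.comm_l).1 (hle hx)
      have ha1 : a ≠ 1 := by rintro rfl; exact hx2 (by simpa using hc)
      obtain ⟨b, hb, hm⟩ := h.root hS ha ha1 hc
      exact ⟨b, hb, ti hS (hS.conj_mem D hD b) (r1_cb hAD b) hE (fun e => hx2 (by rw [e]; exact Subgroup.one_mem _)) hm hx⟩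
  · rintro (⟨b, hb, rfl⟩ | rfl)
    · exact ⟨hS.conj_mem A hA b, h.cb_le hb⟩
    · exact ⟨h.mem, le_sup_right⟩

theorem C3.part {A D B : Subgroup G} (hA : A ∈ S) (hD : D ∈ S) (hAD : IsRankOnePair A D) (h : C3 S A B) :
    IsSubgroupPartition (A ⊔ ⁅A, B⁆) (membersIn S (A ⊔ ⁅A, B⁆)) := by
  refine ⟨fun C hC => hC.2, fun x hx h1 => ?_, fun P hP Q hQ hne => ?_⟩
  · obtain ⟨a, ha, c, hc, rfl⟩ := (mem_sup_comm h.comm_l).1 hx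
    by_cases ha1 : a = 1
    · exact ⟨_, ⟨h.mem, le_sup_right⟩, by simpa [ha1] using hc⟩
    · obtain ⟨b, hb, hm⟩ := h.root hS ha ha1 hc
      exact ⟨_, ⟨hS.conj_mem A hA b, h.cb_le hb⟩, hm⟩
  · rw [eq_bot_iff]
    intro x hx
    by_contra h1
    rcases (h.members hS hA hD hAD).1 hP with ⟨b, hb, rfl⟩ | rfl
    · exact hne (ti hS (hS.conj_mem D hD b) (r1_cb hAD b) hQ.1 h1 hx.1 hx.2)
    rcases (h.members hS hA hD hAD).1 hQ with ⟨b, hb, rfl⟩ | rfl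
    · exact hne (ti hS (hS.conj_mem D hD b) (r1_cb hAD b) hP.1 h1 hx.2 hx.1).symm
    · exact hne rfl

theorem C3.line {A D B : Subgroup G} (hA : A ∈ S) (hD : D ∈ S) (hAD : IsRankOnePair A D) (h : C3 S A B) :
    ⁅A, B⁆ ∈ linePartners S A := ⟨⟨h.mem, (h.ne hS hA).symm, h.comm_l⟩, h.part hS hA hD hAD⟩

omit hS in
theorem line_symm {A B : Subgroup G} (hA : A ∈ S) (h : B ∈ linePartners S A) : A ∈ linePartners S B :=
  ⟨⟨hA, h.1.2.1.symm, comm_bot_symm h.1.2.2⟩, by rw [sup_comm]; exact h.2⟩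

omit hS in
theorem noniso {A : Subgroup G} (hA : A ∈ S) (h : ¬ IsIsolatedIn (FAdj S) S A) : ∃ D ∈ S, IsRankOnePair A D := by
  by_contra hc
  push Not at hc
  exact h ⟨hA, fun B => ⟨fun h => hc B h.2.1 h.2.2, fun h => hc B h.1 (r1_symm h.2.2)⟩⟩

/-- two commuting members in `Ψ_D` cannot span an element of a member of `Ω_D` -/
theorem LL {A D P Q : Subgroup G} (hD : D ∈ S) (hAD : IsRankOnePair A D) (hP : P ∈ S) (hQ : Q ∈ S)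
    (hPQ : ⁅P, Q⁆ = ⊥) (h1 : C3 S P D) (h2 : C3 S Q D) {a : G} (ha : a ∈ A) (ha1 : a ≠ 1) (hm : a ∈ P ⊔ Q) : False :=
  r1_not_nilp hAD (r1_gen hAD ha ha1 ((sup_le (le_sup_left.trans le_sup_left) le_sup_right : P ⊔ Q ≤ P ⊔ D ⊔ Q) hm)
    (le_sup_right.trans le_sup_left)) (n30_nilp hS hP hD hQ h1 h2 hPQ)

omit hS in
theorem FAdj_symm {A B : Subgroup G} (h : FAdj S A B) : FAdj S B A := ⟨h.2.1, h.1, r1_symm h.2.2⟩

omit hS in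
theorem reach_symm {A B : Subgroup G} (h : Relation.ReflTransGen (FAdj S) A B) : Relation.ReflTransGen (FAdj S) B A := by
  induction h with
  | refl => exact .refl
  | tail _ h2 ih => exact .head (FAdj_symm h2) ih

theorem gen_ind {p : G → Prop} (h1 : ∀ E ∈ S, ∀ e ∈ E, p e) (h0 : p 1) (hm : ∀ x y, p x → p y → p (x * y)) (g : G) : p g := by
  have hg : g ∈ ⨆ A ∈ S, A := by rw [hS.generates]; trivial
  rw [iSup_subtype'] at hg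
  exact Subgroup.iSup_induction _ (C := p) hg (fun E => h1 E.1 E.2) h0 hm

theorem comp_conj {A D : Subgroup G} (hA : A ∈ S) (hD : D ∈ S) (hAD : IsRankOnePair A D) (g : G) :
    Relation.ReflTransGen (FAdj S) A (conjBy A g) := by
  revert A D
  refine gen_ind hS (p := fun g => ∀ {A D : Subgroup G}, A ∈ S → D ∈ S → IsRankOnePair A D →
    Relation.ReflTransGen (FAdj S) A (conjBy A g)) ?_ ?_ ?_ g
  · intro E hE e he A D hA hD hAD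
    have hA' := hS.conj_mem A hA e
    rcases tri hS hA hE with h | h | h
    · rw [cb_of_comm h he]
    · have := r1_cb h e
      rw [cb_self he] at this
      exact .head ⟨hA, hE, h⟩ (.single ⟨hE, hA', r1_symm this⟩)
    obtain ⟨a, ha, ha1⟩ := ex_ne_one (hS.ne_bot A hA)
    obtain ⟨c, hc, hc1⟩ := ex_ne_one (h.ne_bot hS)
    rcases tri hS h.mem hD with h1 | h1 | h1
    · obtain ⟨b, hb, hm⟩ := h.root hS ha ha1 hc
      exact absurd (zlem hS hD hAD (h.cl c hc) (comm_bot_iff.1 h1 c hc) ha ha1 (hS.conj_mem A hA b) hm) hc1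
    · have := r1_cb h1 e
      rw [h.cb_C he] at this
      exact .head ⟨hA, hD, hAD⟩ (.head ⟨hD, h.mem, r1_symm h1⟩ (.head ⟨h.mem, hS.conj_mem D hD e, this⟩
        (.single ⟨hS.conj_mem D hD e, hA', r1_symm (r1_cb hAD e)⟩)))
    by_cases he1 : e = 1
    · rw [he1, cb_one]
    rcases tri hS hA' hD with h2 | h2 | h2
    · exfalso
      have h3 := zlem hS hD hAD (z := e * a * e⁻¹) (a := a⁻¹)
        (fun x hx => (comm_bot_iff.1 (h.cb_comm hS hA he) x hx _ (cb_mem ha e)).symm)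
        (comm_bot_iff.1 h2 _ (cb_mem ha e)) (A.inv_mem ha) (by simpa) h.mem (cm_mem' ha he)
      exact ha1 (by simpa using h3)
    · exact .head ⟨hA, hD, hAD⟩ (.single ⟨hD, hA', r1_symm h2⟩)
    · exfalso
      refine LL hS hD hAD hA' h.mem ?_ h2 h1 ha ha1 ?_
      · have := comm_bot_cb h.comm_l e
        rwa [h.cb_C he] at this
      · have := cb_mono (h.cb_le (E.inv_mem he)) e
        rw [cb_cb_inv, cb_sup, h.cb_C he] at this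
        exact this ha
  · intro A D _ _ _; rw [cb_one]
  · intro x y hx hy A D hA hD hAD
    rw [← cb_cb]
    exact (hy hA hD hAD).trans (hx (hS.conj_mem A hA y) (hS.conj_mem D hD y) (r1_cb hAD y))

end RS

end Rk
end CfsgH6
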