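import Cfsg.Agent.H6.Rs2

set_option autoImplicit false
set_option linter.unusedSectionVars false

namespace CfsgH6
namespace Rk
open Cfsg

variable {G : Type*} [Group G]

open scoped IsMulCommutative in
/-- conjugation action on an abelian normalized subgroup -/
def conjRep (X N : Subgroup G) [IsMulCommutative N] (h : ∀ x ∈ X, ∀ n ∈ N, x * n * x⁻¹ ∈ N) :
    X →* AddMonoid.End (Additive N) where
  toFun x := AddMonoidHom.mk' (fun n => Additive.ofMul ⟨x * (Additive.toMul n : N) * x⁻¹, h x x.2 _ (Additive.toMul n).2⟩)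
    fun a b => by
      rw [← ofMul_mul]; congr 1; apply Subtype.ext; simp
  map_one' := AddMonoidHom.ext fun n => Additive.toMul.injective (Subtype.ext (by
    change ((1 : X) : G) * _ * ((1 : X) : G)⁻¹ = _
    simp; rfl))
  map_mul' x y := AddMonoidHom.ext fun n => Additive.toMul.injective (Subtype.ext (by
    change ((x * y : X) : G) * _ * ((x * y : X) : G)⁻¹ = (x : G) * ((y : G) * _ * (y : G)⁻¹) * (x : G)⁻¹
    simp [mul_assoc]))

theorem special_of_act {A B N : Subgroup G} (h : IsRankOnePair A B) (hN : IsMulCommutative N)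
    (hn : ∀ x ∈ A ⊔ B, ∀ n ∈ N, x * n * x⁻¹ ∈ N)
    (hq : ∀ a ∈ A, ∀ a' ∈ A, ∀ n ∈ N, a' * (a * n * a⁻¹ * n⁻¹) = (a * n * a⁻¹ * n⁻¹) * a')
    (hX : ∃ x ∈ A ⊔ B, ∃ y ∈ A ⊔ B, ∃ n ∈ N, x * (y * n * y⁻¹ * n⁻¹) ≠ (y * n * y⁻¹ * n⁻¹) * x) :
    IsSpecialRankOnePair A B := by
  open scoped IsMulCommutative in
  have key : ∀ (x y : ↥(A ⊔ B)) (n : N), (conjRep (A ⊔ B) N hn x * (conjRep (A ⊔ B) N hn y - 1)) (Additive.ofMul n) =
      (conjRep (A ⊔ B) N hn y - 1) (Additive.ofMul n) ↔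
      (x : G) * (y * n * (y : G)⁻¹ * (n : G)⁻¹) = (y * n * (y : G)⁻¹ * (n : G)⁻¹) * x := by
    intro x y n
    rw [← mul_inv_eq_iff_eq_mul]
    have e1 : (((Additive.toMul ((conjRep (A ⊔ B) N hn y - 1) (Additive.ofMul n))) : N) : G) =
        y * n * (y : G)⁻¹ * (n : G)⁻¹ := by
      rw [← div_eq_mul_inv]; rfl
    have e2 : (((Additive.toMul ((conjRep (A ⊔ B) N hn x * (conjRep (A ⊔ B) N hn y - 1)) (Additive.ofMul n))) : N) : G) =
        x * (y * n * (y : G)⁻¹ * (n : G)⁻¹) * (x : G)⁻¹ := by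
      rw [← e1]; rfl
    rw [← e2, ← e1]
    exact ⟨fun e => by rw [e], fun e => Additive.toMul.injective (Subtype.ext e)⟩
  have hs : IsSpecialRankOnePair (A.subgroupOf (A ⊔ B)) (B.subgroupOf (A ⊔ B)) := by
    open scoped IsMulCommutative in
    refine quad_special (ρ := conjRep (A ⊔ B) N hn) (r1_sub h) (fun a ha a' ha' => ?_) ?_
    · rw [sub_mul, one_mul, sub_eq_zero]
      refine AddMonoidHom.ext fun n => ?_
      exact (key a' a (Additive.toMul n)).2 (hq a ha a' ha' _ (Additive.toMul n).2)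
    · obtain ⟨x, hx, y, hy, n, hn', hne⟩ := hX
      refine ⟨⟨x, hx⟩, ⟨y, hy⟩, fun e => hne ((key ⟨x, hx⟩ ⟨y, hy⟩ ⟨n, hn'⟩).1 ?_)⟩
      rw [e]
  have := special_map (A ⊔ B).subtype_injective (by
    rwa [Subgroup.map_subgroupOf_eq_of_le le_sup_left, Subgroup.map_subgroupOf_eq_of_le le_sup_right]) hs
  rwa [Subgroup.map_subgroupOf_eq_of_le le_sup_left, Subgroup.map_subgroupOf_eq_of_le le_sup_right] at this

theorem cb_cent_inf (N E : Subgroup G) (g : G) :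
    conjBy (N ⊓ Subgroup.centralizer (E : Set G)) g = conjBy N g ⊓ Subgroup.centralizer (conjBy E g : Set G) := by
  rw [cb_inf]; congr 1
  ext x
  rw [mem_cb, Subgroup.mem_centralizer_iff, Subgroup.mem_centralizer_iff]
  constructor
  · rintro h _ ⟨e, he, rfl⟩
    change g * e * g⁻¹ * x = x * (g * e * g⁻¹)
    calc _ = g * (e * (g⁻¹ * x * g)) * g⁻¹ := by group
      _ = _ := by rw [h e he]; group
  · intro h e he
    have := h _ (cb_mem he g)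
    calc _ = g⁻¹ * (g * e * g⁻¹ * x) * g := by group
      _ = _ := by rw [this]; group

theorem norm_sup {N A B : Subgroup G} (h1 : ∀ a ∈ A, conjBy N a = N) (h2 : ∀ a ∈ B, conjBy N a = N) :
    ∀ x ∈ A ⊔ B, conjBy N x = N := fun _ hx =>
  sup_ind (p := fun x => conjBy N x = N) h1 h2 (fun x y hx hy => by rw [← cb_cb, hy, hx]) hx

theorem norm_of_le {N A : Subgroup G} (h1 : ∀ a ∈ A, conjBy N a ≤ N) : ∀ a ∈ A, conjBy N a = N := by
  intro a ha
  refine le_antisymm (h1 a ha) ?_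
  have := cb_mono (h1 _ (A.inv_mem ha)) a
  rwa [cb_cb_inv] at this

section RS
variable {S : Set (Subgroup G)} (hS : IsRootSubgroupSet S)
include hS

theorem C3.cb {A B : Subgroup G} (hA : A ∈ S) (hB : B ∈ S) (h : C3 S A B) (g : G) : C3 S (conjBy A g) (conjBy B g) :=
  L2 hS (hS.conj_mem A hA g) (hS.conj_mem B hB g) (by rw [← Rk.cb_comm]; exact hS.conj_mem _ h.mem g)

theorem C3.cent {A B : Subgroup G} (h : C3 S A B) {a : G} (ha : a ∈ A) (hc : ∀ b ∈ B, a * b = b * a) : a = 1 := by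
  by_contra h1
  obtain ⟨c, hc', hc1⟩ := ex_ne_one (h.ne_bot hS)
  obtain ⟨b, hb, rfl⟩ := h.left a ha h1 c hc'
  exact hc1 (by rw [hc b hb]; group)

theorem C3.norm_line {A B : Subgroup G} (h : C3 S A B) : ∀ b ∈ B, conjBy (A ⊔ ⁅A, B⁆) b = A ⊔ ⁅A, B⁆ :=
  norm_of_le fun b hb => by rw [cb_sup, h.cb_C hb]; exact sup_le (h.cb_le hb) le_sup_right

theorem C3.cent_eq {A B : Subgroup G} (h : C3 S A B) :
    (A ⊔ ⁅A, B⁆) ⊓ Subgroup.centralizer (B : Set G) = ⁅A, B⁆ := by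
  apply le_antisymm
  · rintro x ⟨hx, hx2⟩
    obtain ⟨a, ha, c, hc, rfl⟩ := (mem_sup_comm h.comm_l).1 hx
    have : a = 1 := h.cent hS ha fun b hb => by
      have := Subgroup.mem_centralizer_iff.1 hx2 b hb
      rw [← mul_assoc, ← h.cr c hc b hb, mul_assoc, mul_assoc] at this
      exact (mul_left_cancel this).symm
    simpa [this] using hc
  · exact le_inf le_sup_right fun c hc => Subgroup.mem_centralizer_iff.2 fun b hb => (h.cr c hc b hb).symm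

theorem r1_of_two {A B D : Subgroup G} (hA : A ∈ S) (hB : B ∈ S) (hD : D ∈ S) (h : C3 S A B) (hDC : ⁅D, ⁅A, B⁆⁆ = A) :
    IsRankOnePair B D := by
  have h2 : C3 S D ⁅A, B⁆ := L2 hS hD h.mem (by rwa [hDC])
  have hDA : ⁅D, A⁆ = ⊥ := by have := h2.comm_l; rwa [hDC] at this
  rcases tri hS hB hD with h1 | h1 | h1
  · exfalso
    refine h2.ne_bot hS (comm_bot_mono (comm_bot_sup hDA (comm_bot_symm h1)) le_rfl (comm_le_sup hS _ _))
  · exact h1
  · exfalso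
    obtain ⟨n, hn⟩ := (Subgroup.isNilpotent_iff_lowerCentralSeries _).1
      (n30_nilp hS hA hB hD h h1.symm (comm_bot_symm hDA))
    have key : ∀ n, A ⊔ ⁅A, B⁆ ≤ (A ⊔ B ⊔ D).lowerCentralSeries n := by
      intro n
      induction n with
      | zero => exact sup_le (le_sup_left.trans le_sup_left) ((comm_le_sup hS _ _).trans le_sup_left)
      | succ n ih =>
        rw [Subgroup.lowerCentralSeries_succ]
        refine sup_le ?_ (Subgroup.commutator_mono (le_sup_left.trans ih) (le_sup_right.trans le_sup_left))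
        conv_lhs => rw [← hDC, Subgroup.commutator_comm]
        exact Subgroup.commutator_mono (le_sup_right.trans ih) le_sup_right
    exact hS.ne_bot A hA (eq_bot_iff.2 (le_sup_left.trans ((key n).trans hn.le)))

theorem KEY {A D B E P : Subgroup G} (hA : A ∈ S) (hD : D ∈ S) (hAD : IsRankOnePair A D)
    (hE : E ∈ S) (hBE : IsRankOnePair B E) (hAB : ⁅A, B⁆ = ⊥) (h : C3 S B D) {a0 b0 : G} (ha0 : a0 ∈ A) (ha1 : a0 ≠ 1)
    (hb0 : b0 ∈ B) (hb1 : b0 ≠ 1) (hP : P ∈ S) (hm : b0 * a0 ∈ P) : ⁅A, ⁅B, D⁆⁆ = B := by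
  obtain ⟨d, hd, -, e⟩ := r1_ex hAD ha0 ha1
  have hf : d * b0 * d⁻¹ * b0⁻¹ ∈ ⁅B, D⁆ := cm_mem' hb0 hd
  set f := d * b0 * d⁻¹ * b0⁻¹ with hfdef
  have hba := comm_bot_iff.1 (comm_bot_symm hAB) b0 hb0
  have k1 : ∀ y ∈ D, (f⁻¹ * a0⁻¹ * f * a0 * b0) * y = y * (f⁻¹ * a0⁻¹ * f * a0 * b0) := by
    intro y hy
    have h1 := comm_bot_iff.1 (comm_bot_cb hAB d) _ (e ▸ cb_mem hy a0) _ (cb_mem hb0 d)
    have h2 : Commute f y := h.cr f hf y hy
    have e1 : f⁻¹ * a0⁻¹ * f * a0 * b0 = f⁻¹ * (a0⁻¹ * (d * b0 * d⁻¹) * a0) := by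
      rw [mul_assoc _ a0 b0, ← hba a0 ha0, hfdef]; group
    rw [e1]
    refine Commute.mul_left h2.inv_left ?_
    change _ * y = y * _
    calc _ = a0⁻¹ * (d * b0 * d⁻¹ * (a0 * y * a0⁻¹)) * a0 := by group
      _ = _ := by rw [← h1]; group
  rcases tri hS hA h.mem with h1 | h1 | h1
  · exfalso
    have e1 : f⁻¹ * a0⁻¹ * f * a0 = 1 := by
      rw [mul_assoc, ← comm_bot_iff.1 h1 a0 ha0 f hf]; group
    rw [e1, one_mul] at k1
    exact hb1 (h.cent hS hb0 k1)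
  · exact absurd (zlem hS h.mem h1 hba (fun x hx => (h.cl x hx b0 hb0).symm) ha0 ha1 hP hm) hb1
  · have hc : f⁻¹ * a0⁻¹ * f * a0 ∈ ⁅A, ⁅B, D⁆⁆ := by
      simpa using cm_mem' (A.inv_mem ha0) (Subgroup.inv_mem _ hf)
    set c := f⁻¹ * a0⁻¹ * f * a0 with hcdef
    obtain ⟨f', hf', e2⟩ := h1.ex_cb ha0 ha1 hc
    have hcb : c * b0 = b0 * c := by
      have t1 : Commute f b0 := h.cl f hf b0 hb0
      have t2 : Commute a0 b0 := (hba a0 ha0).symm
      exact ((t1.inv_left.mul_left t2.inv_left).mul_left t1).mul_left t2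
    have hz := zlem hS hD hAD (z := c * b0) (fun x hx => by
      rw [mul_assoc, hba x hx, ← mul_assoc, h1.cl c hc x hx, mul_assoc]) k1 ha0 ha1 (hS.conj_mem P hP f') (by
      have := cb_mem hm f'
      rw [← mul_assoc, h.cl f' hf' b0 hb0, mul_assoc b0, mul_assoc b0, e2, ← mul_assoc, ← hcb] at this
      exact this)
    rw [mul_eq_one_iff_inv_eq] at hz
    exact (ti hS hE hBE h1.mem hb1 hb0 (hz ▸ Subgroup.inv_mem _ hc)).symm

omit hS in
theorem line_inf {A B P : Subgroup G} (hA : A ∈ S) (hL : B ∈ linePartners S A) (hP : P ∈ membersIn S (A ⊔ B))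
    (hne : P ≠ A) {x : G} (h1 : x ∈ P) (h2 : x ∈ A) : x = 1 := by
  have := hL.2.2.2 P hP A ⟨hA, le_sup_left⟩ hne
  have h3 : x ∈ P ⊓ A := ⟨h1, h2⟩
  rwa [this] at h3

theorem line_comm {A B : Subgroup G} (hA : A ∈ S) (hL : B ∈ linePartners S A) : ⁅A ⊔ B, A ⊔ B⁆ = ⊥ :=
  comm_bot_sup (comm_bot_symm (comm_bot_sup (self_comm hS hA) hL.1.2.2))
    (comm_bot_symm (comm_bot_sup (comm_bot_symm hL.1.2.2) (self_comm hS hL.1.1)))

theorem line_root {A B P : Subgroup G} (hA : A ∈ S) (hL : B ∈ linePartners S A) (hP : P ∈ membersIn S (A ⊔ B))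
    (hne : P ≠ A) {p a : G} (hp : p ∈ P) (h1 : p ≠ 1) (ha : a ∈ A) : ∃ Q ∈ membersIn S (A ⊔ B), p * a ∈ Q := by
  refine hL.2.2.1 _ (Subgroup.mul_mem _ (hP.2 hp) (Subgroup.mem_sup_left ha)) fun e => h1 ?_
  rw [mul_eq_one_iff_eq_inv] at e
  exact line_inf hA hL hP hne hp (e ▸ A.inv_mem ha)

theorem line_nc {A B D P : Subgroup G} (hA : A ∈ S) (hD : D ∈ S) (hAD : IsRankOnePair A D) (hL : B ∈ linePartners S A)
    (hP : P ∈ membersIn S (A ⊔ B)) : ⁅P, D⁆ ≠ ⊥ := by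
  intro h
  by_cases hne : P = A
  · exact r1_comm_ne hAD (hne ▸ h)
  obtain ⟨a, ha, ha1⟩ := ex_ne_one (hS.ne_bot A hA)
  obtain ⟨p, hp, hp1⟩ := ex_ne_one (hS.ne_bot P hP.1)
  obtain ⟨Q, hQ, hm⟩ := line_root hS hA hL hP hne hp hp1 ha
  exact hp1 (zlem hS hD hAD (fun x hx => comm_bot_iff.1 (line_comm hS hA hL) p (hP.2 hp) x (Subgroup.mem_sup_left hx))
    (comm_bot_iff.1 h p hp) ha ha1 hQ.1 hm)

variable (hF : ∀ A ∈ S, ∃ D ∈ S, IsRankOnePair A D)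
include hF

theorem LINE {A B D : Subgroup G} (hA : A ∈ S) (hD : D ∈ S) (hAD : IsRankOnePair A D) (hL : B ∈ linePartners S A) :
    ∃ P ∈ S, C3 S P D ∧ ⁅A, ⁅P, D⁆⁆ = P ∧ A ⊔ P = A ⊔ B := by
  have hB := hL.1.1
  have hBm : B ∈ membersIn S (A ⊔ B) := ⟨hB, le_sup_right⟩
  obtain ⟨b, hb, hb1⟩ := ex_ne_one (hS.ne_bot B hB)
  rcases tri hS hB hD with h | h | h
  · exact absurd h (line_nc hS hA hD hAD hL hBm)
  · obtain ⟨d, hd, hd1, e1⟩ := r1_ex h hb hb1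
    obtain ⟨a, ha, ha1, e2⟩ := r1_ex' hAD hd hd1
    obtain ⟨P, hP, hm⟩ := line_root hS hA hL hBm hL.1.2.1 hb hb1 (A.inv_mem ha)
    have hab := comm_bot_iff.1 hL.1.2.2 a ha b hb
    have hm1 : b * a⁻¹ ≠ 1 := fun e => hb1 (line_inf hA hL hBm hL.1.2.1 hb (by rw [mul_inv_eq_one] at e; rwa [e]))
    have h3 : C3 S P D := by
      rcases tri hS hP.1 hD with h1 | h1 | h1
      · exact absurd h1 (line_nc hS hA hD hAD hL hP)
      · exfalso
        have t1 := comm_bot_cb (comm_bot_cb hL.1.2.2 d) a⁻¹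
        rw [e1, e2, cb_inv_cb, cb_cb, show a⁻¹ * b = b * a⁻¹ by rw [inv_mul_eq_iff_eq_mul, ← mul_assoc, hab]; group] at t1
        exact r1_comm_ne (unip_r1 h1 (B_mem_unip h1) (unip_cb (B_mem_unip h1) (Subgroup.mem_sup_left hm))
          (fun e => hm1 (r1_norm h1 hm e.symm))) t1
      · exact h1
    obtain ⟨E, hE, hPE⟩ := hF P hP.1
    have hk := KEY hS hA hD hAD hE hPE (comm_bot_mono (line_comm hS hA hL) le_sup_left hP.2) h3 ha ha1 hm hm1 hB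
      (by simpa using hb)
    refine ⟨P, hP.1, h3, hk, le_antisymm (sup_le le_sup_left hP.2) (sup_le le_sup_left ?_)⟩
    have h4 : C3 S A ⁅P, D⁆ := L2 hS hA h3.mem (by rw [hk]; exact hP.1)
    have h5 := h4.part hS hA hD hAD
    rw [hk] at h5
    obtain ⟨Q, hQ, hbQ⟩ := h5.2.1 b (by
      have := Subgroup.mul_mem _ (Subgroup.mem_sup_right (S := A) hm) (Subgroup.mem_sup_left ha)
      simpa using this) hb1
    rw [ti hS hD h hQ.1 hb1 hb hbQ]; exact hQ.2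
  · obtain ⟨a, ha, ha1⟩ := ex_ne_one (hS.ne_bot A hA)
    obtain ⟨Q, hQ, hm⟩ := line_root hS hA hL hBm hL.1.2.1 hb hb1 ha
    obtain ⟨E, hE, hPE⟩ := hF B hB
    exact ⟨B, hB, h, KEY hS hA hD hAD hE hPE hL.1.2.2 h ha ha1 hb hb1 hQ.1 hm, rfl⟩

theorem exK {A B : Subgroup G} (hA : A ∈ S) (hL : B ∈ linePartners S A) : ∃ K ∈ S, C3 S A K ∧ ⁅A, K⁆ = B := by
  obtain ⟨D, hD, hAD⟩ := hF A hA
  obtain ⟨P, hP, h1, h2, h3⟩ := LINE hS hF hA hD hAD hL
  have h4 : C3 S A ⁅P, D⁆ := L2 hS hA h1.mem (by rwa [h2])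
  have hPA : P ∈ linePartners S A := by have := h4.line hS hA hD hAD; rwa [h2] at this
  obtain ⟨D', hD', hPD'⟩ := hF P hP
  obtain ⟨R, hR, h5, h6, h7⟩ := LINE hS hF hP hD' hPD' (line_symm hA hPA)
  have h8 : C3 S P ⁅R, D'⁆ := L2 hS hP h5.mem (by rwa [h6])
  have hRm : R ∈ membersIn S (A ⊔ ⁅A, ⁅P, D⁆⁆) := ⟨hR, by rw [h2, sup_comm, ← h7]; exact le_sup_right⟩
  rcases (h4.members hS hA hD hAD).1 hRm with ⟨f, hf, e⟩ | e
  swap
  · exact absurd (by rw [h6, e, h2]) (h8.ne hS hP)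
  have hfP : conjBy P f⁻¹ = P := by have := h4.cb_C (Subgroup.inv_mem _ hf); rwa [h2] at this
  have h9 := h8.cb hS hP h5.mem f⁻¹
  rw [hfP] at h9
  have h10 : ⁅P, conjBy ⁅R, D'⁆ f⁻¹⁆ = A := by
    conv_lhs => rw [← hfP]
    rw [← cb_comm, h6, ← e, cb_inv_cb]
  have hBm : B ∈ membersIn S (P ⊔ ⁅P, conjBy ⁅R, D'⁆ f⁻¹⁆) := ⟨hL.1.1, by rw [h10, sup_comm, h3]; exact le_sup_right⟩
  rcases (h9.members hS hP hD' hPD').1 hBm with ⟨f', hf', e'⟩ | e'
  swap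
  · exact absurd (e'.trans h10) hL.1.2.1
  have hfA : conjBy A f' = A := by have := h9.cb_C hf'; rwa [h10] at this
  have h11 := h4.cb hS hA h1.mem f'
  rw [hfA] at h11
  refine ⟨_, hS.conj_mem _ h1.mem f', h11, ?_⟩
  conv_lhs => rw [← hfA]
  rw [← cb_comm, h2, e']

end RS

end Rk
end CfsgH6
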