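import Cfsg.Agent.H6.Rs3

set_option autoImplicit false
set_option linter.unusedSectionVars false

namespace CfsgH6
namespace Rk
open Cfsg

variable {G : Type*} [Group G]

theorem part_cb {N : Subgroup G} {S : Set (Subgroup G)} (hS : ∀ A ∈ S, ∀ g, conjBy A g ∈ S)
    (h : IsSubgroupPartition N (membersIn S N)) (g : G) :
    IsSubgroupPartition (conjBy N g) (membersIn S (conjBy N g)) := by
  refine ⟨fun C hC => hC.2, fun x hx h1 => ?_, fun P hP Q hQ hne => ?_⟩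
  · obtain ⟨C, hC, hm⟩ := h.2.1 _ (mem_cb.1 hx) (fun e => h1 (by
      have : g * (g⁻¹ * x * g) * g⁻¹ = 1 := by rw [e]; simp
      simpa [mul_assoc] using this))
    exact ⟨conjBy C g, ⟨hS C hC.1 g, cb_mono hC.2 g⟩, mem_cb.2 hm⟩
  · have h1 : ∀ P ∈ membersIn S (conjBy N g), conjBy P g⁻¹ ∈ membersIn S N := fun P hP =>
      ⟨hS P hP.1 _, by have := cb_mono hP.2 g⁻¹; rwa [cb_inv_cb] at this⟩
    have := h.2.2 _ (h1 P hP) _ (h1 Q hQ) (fun e => hne (cb_inj e))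
    rwa [← cb_inf, cb_eq_bot] at this

section RS
variable {S : Set (Subgroup G)}

theorem line_cb (hS : IsRootSubgroupSet S) {A B : Subgroup G} (h : B ∈ linePartners S A) (g : G) :
    conjBy B g ∈ linePartners S (conjBy A g) :=
  ⟨⟨hS.conj_mem B h.1.1 g, fun e => h.1.2.1 (cb_inj e), comm_bot_cb h.1.2.2 g⟩,
    by rw [← cb_sup]; exact part_cb hS.conj_mem h.2 g⟩

theorem cls_hF (hS : IsRootSubgroupClass S) {A B : Subgroup G} (hA : A ∈ S) (hB : B ∈ S) (h : IsRankOnePair A B) :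
    ∀ A ∈ S, ∃ D ∈ S, IsRankOnePair A D := by
  intro C hC
  obtain ⟨g, rfl⟩ := hS.2.2 A hA C hC
  exact ⟨_, hS.1.conj_mem B hB g, r1_cb h g⟩

theorem nd_hF (hS : IsRootSubgroupClass S) (hnd : IsNondegenerateRootSet S) : ∀ A ∈ S, ∃ D ∈ S, IsRankOnePair A D := by
  obtain ⟨A, hA, B, hB, h⟩ := hnd.2.1
  exact cls_hF hS hA hB h

theorem cls_line (hS : IsRootSubgroupClass S) (hF : ∀ A ∈ S, ∃ D ∈ S, IsRankOnePair A D) {A B : Subgroup G} (hA : A ∈ S)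
    (h : C3 S A B) : ∀ E ∈ S, ∃ K, K ∈ linePartners S E := by
  intro E hE
  obtain ⟨D, hD, hAD⟩ := hF A hA
  obtain ⟨g, rfl⟩ := hS.2.2 A hA E hE
  exact ⟨_, line_cb hS.1 (h.line hS.1 hA hD hAD) g⟩

theorem nd_line (hS : IsRootSubgroupClass S) (hnd : IsNondegenerateRootSet S) : ∀ E ∈ S, ∃ K, K ∈ linePartners S E := by
  obtain ⟨A, hA, B, hB, h⟩ := hnd.2.2
  exact cls_line hS (nd_hF hS hnd) hA (C3_iff.2 h)

variable (hS : IsRootSubgroupSet S)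
include hS

theorem line_special (hF : ∀ A ∈ S, ∃ D ∈ S, IsRankOnePair A D) {A B D : Subgroup G} (hA : A ∈ S) (hD : D ∈ S)
    (hAD : IsRankOnePair A D) (hL : B ∈ linePartners S A) : IsSpecialRankOnePair A D := by
  obtain ⟨P, hP, h1, h2, h3⟩ := LINE hS hF hA hD hAD hL
  have h4 : C3 S A ⁅P, D⁆ := L2 hS hA h1.mem (by rwa [h2])
  have hN : ⁅P ⊔ ⁅P, D⁆, P ⊔ ⁅P, D⁆⁆ = ⊥ :=
    comm_bot_sup (comm_bot_symm (comm_bot_sup (self_comm hS hP) h1.comm_l))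
      (comm_bot_symm (comm_bot_sup (comm_bot_symm h1.comm_l) (self_comm hS h1.mem)))
  have hAP : ⁅A, P⁆ = ⊥ := by have := h4.comm_l; rwa [h2] at this
  have n1 : ∀ a ∈ A, conjBy (P ⊔ ⁅P, D⁆) a = P ⊔ ⁅P, D⁆ := by
    have := h4.symm.norm_line hS
    rwa [Subgroup.commutator_comm ⁅P, D⁆ A, h2, sup_comm] at this
  refine special_of_act (N := P ⊔ ⁅P, D⁆) hAD (isComm_of (comm_bot_iff.1 hN)) (fun x hx n hn => ?_) (fun a ha a' ha' n hn => ?_) ?_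
  · rw [← norm_sup n1 (h1.norm_line hS) x hx]; exact cb_mem hn x
  · obtain ⟨p, hp, f, hf, rfl⟩ := (mem_sup_comm h1.comm_l).1 hn
    have e : a * (f * p) * a⁻¹ * (f * p)⁻¹ = a * f * a⁻¹ * f⁻¹ := by
      calc _ = a * f * (p * a⁻¹ * p⁻¹) * f⁻¹ := by group
        _ = _ := by rw [← comm_bot_iff.1 hAP _ (A.inv_mem ha) p hp]; group
    rw [e]
    exact (h4.cl _ (cm_mem ha hf) a' ha').symm
  · obtain ⟨p, hp, hp1⟩ := ex_ne_one (hS.ne_bot P hP)
    obtain ⟨a, ha, ha1⟩ := ex_ne_one (hS.ne_bot A hA)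
    obtain ⟨f, hf, e⟩ := h4.left a ha ha1 p (by rwa [h2])
    by_contra hc
    push Not at hc
    refine hp1 (h1.cent hS hp fun d hd => ?_)
    rw [e]
    exact (hc d (Subgroup.mem_sup_right hd) a (Subgroup.mem_sup_left ha) f (Subgroup.mem_sup_right hf)).symm

section two
variable {A B D : Subgroup G} (hA : A ∈ S) (hB : B ∈ S) (hD : D ∈ S) (h : C3 S A B) (hDC : ⁅D, ⁅A, B⁆⁆ = A)
include hA hB hD h hDC

theorem two_C3 : C3 S ⁅A, B⁆ D := (L2 hS hD h.mem (by rwa [hDC])).symm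

theorem two_eq : ⁅⁅A, B⁆, D⁆ = A := by rw [Subgroup.commutator_comm, hDC]

theorem two_norm : ∀ x ∈ B ⊔ D, conjBy (A ⊔ ⁅A, B⁆) x = A ⊔ ⁅A, B⁆ := by
  refine norm_sup (h.norm_line hS) ?_
  have := (two_C3 hS hA hB hD h hDC).norm_line hS
  rwa [two_eq hS hA hB hD h hDC, sup_comm] at this

theorem two_cD : (A ⊔ ⁅A, B⁆) ⊓ Subgroup.centralizer (D : Set G) = A := by
  have := (two_C3 hS hA hB hD h hDC).cent_eq hS
  rwa [two_eq hS hA hB hD h hDC, sup_comm] at this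

theorem two_cb {x : G} (hx : x ∈ B ⊔ D) :
    conjBy A x = (A ⊔ ⁅A, B⁆) ⊓ Subgroup.centralizer (conjBy D x : Set G) := by
  conv_lhs => rw [← two_cD hS hA hB hD h hDC]
  rw [cb_cent_inf, two_norm hS hA hB hD h hDC x hx]

theorem two_cb' {x : G} (hx : x ∈ B ⊔ D) :
    conjBy ⁅A, B⁆ x = (A ⊔ ⁅A, B⁆) ⊓ Subgroup.centralizer (conjBy B x : Set G) := by
  conv_lhs => rw [← h.cent_eq hS]
  rw [cb_cent_inf, two_norm hS hA hB hD h hDC x hx]

theorem two_orb {E : Subgroup G} : (∃ x ∈ B ⊔ D, E = conjBy A x) ↔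
    ∃ U ∈ unipotentSubgroups B D, E = (A ⊔ ⁅A, B⁆) ⊓ Subgroup.centralizer (U : Set G) := by
  have r := r1_of_two hS hA hB hD h hDC
  constructor
  · rintro ⟨x, hx, rfl⟩
    exact ⟨_, unip_cb (B_mem_unip r) hx, two_cb hS hA hB hD h hDC hx⟩
  · rintro ⟨U, hU, rfl⟩
    rw [← unip_symm r] at hU
    obtain ⟨x, hx, rfl⟩ := hU
    rw [sup_comm] at hx
    exact ⟨x, hx, (two_cb hS hA hB hD h hDC hx).symm⟩

theorem two_orb' {E : Subgroup G} : (∃ x ∈ B ⊔ D, E = conjBy ⁅A, B⁆ x) ↔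
    ∃ U ∈ unipotentSubgroups B D, E = (A ⊔ ⁅A, B⁆) ⊓ Subgroup.centralizer (U : Set G) := by
  constructor
  · rintro ⟨x, hx, rfl⟩
    exact ⟨_, unip_cb A_mem_unip hx, two_cb' hS hA hB hD h hDC hx⟩
  · rintro ⟨U, ⟨x, hx, rfl⟩, rfl⟩
    exact ⟨x, hx, (two_cb' hS hA hB hD h hDC hx).symm⟩

theorem two_pts {E : Subgroup G} : (∃ U ∈ unipotentSubgroups B D, E = (A ⊔ ⁅A, B⁆) ⊓ Subgroup.centralizer (U : Set G)) ↔
    ((∃ b ∈ B, conjBy A b = E) ∨ E = ⁅A, B⁆) := by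
  have r := r1_of_two hS hA hB hD h hDC
  constructor
  · rintro ⟨U, hU, rfl⟩
    rcases (mem_unip r).1 hU with rfl | ⟨b, hb, rfl⟩
    · exact Or.inr (h.cent_eq hS)
    · exact Or.inl ⟨b, hb, two_cb hS hA hB hD h hDC (Subgroup.mem_sup_left hb)⟩
  · rintro (⟨b, hb, rfl⟩ | rfl)
    · exact ⟨_, unip_cb (B_mem_unip r) (Subgroup.mem_sup_left hb), two_cb hS hA hB hD h hDC (Subgroup.mem_sup_left hb)⟩
    · exact ⟨B, A_mem_unip, (h.cent_eq hS).symm⟩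

theorem two_pts' {E : Subgroup G} : (∃ U ∈ unipotentSubgroups B D, E = (A ⊔ ⁅A, B⁆) ⊓ Subgroup.centralizer (U : Set G)) ↔
    ((∃ d ∈ D, conjBy ⁅A, B⁆ d = E) ∨ E = A) := by
  have r := r1_of_two hS hA hB hD h hDC
  constructor
  · rintro ⟨U, hU, rfl⟩
    rcases (mem_unip' r).1 hU with rfl | ⟨b, hb, rfl⟩
    · exact Or.inr (two_cD hS hA hB hD h hDC)
    · exact Or.inl ⟨b, hb, two_cb' hS hA hB hD h hDC (Subgroup.mem_sup_right hb)⟩
  · rintro (⟨b, hb, rfl⟩ | rfl)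
    · exact ⟨_, unip_cb A_mem_unip (Subgroup.mem_sup_right hb), two_cb' hS hA hB hD h hDC (Subgroup.mem_sup_right hb)⟩
    · exact ⟨D, B_mem_unip r, (two_cD hS hA hB hD h hDC).symm⟩

end two

omit hS in
theorem EAdj_symm {A B : Subgroup G} (h : EAdj S S A B) : EAdj S S B A := ⟨h.2.1, h.1, line_symm h.1 h.2.2⟩

omit hS in
theorem ereach_symm {A B : Subgroup G} (h : Relation.ReflTransGen (EAdj S S) A B) :
    Relation.ReflTransGen (EAdj S S) B A := by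
  induction h with
  | refl => exact .refl
  | tail _ h2 ih => exact .head (EAdj_symm h2) ih

theorem C3.epath {A B D : Subgroup G} (hA : A ∈ S) (hD : D ∈ S) (hAD : IsRankOnePair A D) (h : C3 S A B) {b : G}
    (hb : b ∈ B) : Relation.ReflTransGen (EAdj S S) A (conjBy A b) := by
  have h1 := h.line hS hA hD hAD
  have h2 := line_cb hS h1 b
  rw [h.cb_C hb] at h2
  exact .head ⟨hA, h.mem, h1⟩ (.single (EAdj_symm ⟨hS.conj_mem A hA b, h.mem, h2⟩))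

theorem e_conn (hF : ∀ A ∈ S, ∃ D ∈ S, IsRankOnePair A D) (hL : ∀ E ∈ S, ∃ K, K ∈ linePartners S E) (g : G) :
    ∀ A ∈ S, Relation.ReflTransGen (EAdj S S) A (conjBy A g) := by
  refine gen_ind hS (p := fun g => ∀ A ∈ S, Relation.ReflTransGen (EAdj S S) A (conjBy A g)) ?_ ?_ ?_ g
  · intro E hE e he A hA
    obtain ⟨D, hD, hAD⟩ := hF A hA
    rcases tri hS hA hE with h | h | h
    · rw [cb_of_comm h he]
    · obtain ⟨K, hK⟩ := hL A hA
      obtain ⟨P, hP, h1, h2, h3⟩ := LINE hS hF hA hE h hK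
      have h4 : C3 S A ⁅P, E⁆ := L2 hS hA h1.mem (by rwa [h2])
      have hPA : P ∈ linePartners S A := by have := h4.line hS hA hD hAD; rwa [h2] at this
      obtain ⟨D', hD', hPD⟩ := hF P hP
      exact .head ⟨hA, hP, hPA⟩ ((h1.epath hS hP hD' hPD he).tail
        (EAdj_symm ⟨hS.conj_mem A hA e, hS.conj_mem P hP e, line_cb hS hPA e⟩))
    · exact h.epath hS hA hD hAD he
  · intro A _; rw [cb_one]
  · intro x y hx hy A hA
    rw [← cb_cb]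
    exact (hy A hA).trans (hx _ (hS.conj_mem A hA y))

theorem line_gen (hF : ∀ A ∈ S, ∃ D ∈ S, IsRankOnePair A D) (hL : ∀ E ∈ S, ∃ K, K ∈ linePartners S E)
    (hc : IsConjClassOfSubgroups S) {A B U : Subgroup G} (hA : A ∈ S) (hB : B ∈ S) (h : IsRankOnePair A B)
    (h1 : ∀ C ∈ linePartners S A, C ≤ U) (h2 : B ≤ U) : U = ⊤ := by
  have k0 : ∀ Q ∈ linePartners S A, ∃ u ∈ U, conjBy A u = Q := by
    intro Q hQ
    obtain ⟨P, hP, h3, h4, h5⟩ := LINE hS hF hA hB h hQ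
    have h6 : C3 S A ⁅P, B⁆ := L2 hS hA h3.mem (by rwa [h4])
    have hPA : P ∈ linePartners S A := by have := h6.line hS hA hB h; rwa [h4] at this
    have hFU : ⁅P, B⁆ ≤ U := (comm_le_sup hS _ _).trans (sup_le (h1 P hPA) h2)
    have k1 : ∀ Q ∈ membersIn S (A ⊔ P), Q ≠ P → ∃ u ∈ U, conjBy A u = Q := by
      intro Q hQ hne
      rw [← h4] at hQ
      rcases (h6.members hS hA hB h).1 hQ with ⟨f, hf, e⟩ | e
      · exact ⟨f, hFU hf, e⟩
      · exact absurd (e.trans h4) hne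
    by_cases hne : Q = P
    swap
    · exact k1 Q ⟨hQ.1.1, by rw [h5]; exact le_sup_right⟩ hne
    subst hne
    obtain ⟨K, hK, h7, h8⟩ := exK hS hF hP (line_symm hA hPA)
    obtain ⟨D, hD, hKD⟩ := hF K hK
    have hKA : K ∈ linePartners S A := by
      have := line_symm hK (h7.symm.line hS hK hD hKD)
      rwa [Subgroup.commutator_comm, h8] at this
    obtain ⟨k, hk, hk1⟩ := ex_ne_one (hS.ne_bot K hK)
    obtain ⟨D', hD', hQD⟩ := hF Q hP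
    obtain ⟨u, hu, e⟩ := k1 (conjBy Q k) ⟨hS.conj_mem Q hP k, by have := h7.cb_le hk; rwa [h8, sup_comm] at this⟩ (by
      intro e
      obtain ⟨q, hq, hq1⟩ := ex_ne_one (hS.ne_bot Q hP)
      have h9 : k * q * k⁻¹ * q⁻¹ ∈ Q := Q.mul_mem (e ▸ cb_mem hq k) (Q.inv_mem hq)
      have h10 := h7.inf hS h9 (cm_mem' hq hk)
      refine hk1 (h7.inj hS hP hD' hQD hq hq1 hk ?_)
      calc q * k = (k * q * k⁻¹ * q⁻¹)⁻¹ * (k * q) := by group
        _ = _ := by rw [h10]; simp)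
    exact ⟨k⁻¹ * u, U.mul_mem (U.inv_mem (h1 K hKA hk)) hu, by rw [← cb_cb, e, cb_inv_cb]⟩
  have hAU : A ≤ U := by
    obtain ⟨Q, hQ⟩ := hL A hA
    obtain ⟨u, hu, e⟩ := k0 Q hQ
    rw [cb_move e]
    exact cb_le (h1 Q hQ) (U.inv_mem hu)
  have k2 : ∀ E, Relation.ReflTransGen (EAdj S S) A E → ∃ u ∈ U, conjBy A u = E := by
    intro E hE
    induction hE with
    | refl => exact ⟨1, U.one_mem, by simp⟩
    | tail _ h2 ih =>
      obtain ⟨u, hu, rfl⟩ := ih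
      have := line_cb hS h2.2.2 u⁻¹
      rw [cb_inv_cb] at this
      obtain ⟨v, hv, e⟩ := k0 _ this
      exact ⟨u * v, U.mul_mem hu hv, by rw [← cb_cb, e, cb_cb_inv]⟩
  rw [eq_top_iff, ← hS.generates]
  refine iSup₂_le fun E hE => ?_
  obtain ⟨g, rfl⟩ := hc.2 A hA E hE
  obtain ⟨u, hu, e⟩ := k2 _ (e_conn hS hF hL g A hA)
  rw [← e]; exact cb_le hAU hu

end RS

end Rk
end CfsgH6
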