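import Cfsg.Agent.H6.Opp
import Cfsg.Agent.H3.Perm
import Cfsg.Prelude.Def_ParabolicCharacters

/-! The Steinberg character of a group with a Steinberg system. -/

namespace CfsgH6

open Finset Cfsg CfsgH3

theorem card_mul_eq {Γ : Type*} [Group Γ] {A P : Subgroup Γ} (hAP : A ≤ P) {S T : Set Γ}
    (hS : ∀ s ∈ S, ∀ a ∈ A, s * a ∈ S) (hT : ∀ s ∈ S, ∀ p ∈ P, s * p ∈ T)
    (h1 : ∀ t ∈ T, ∃ s ∈ S, s⁻¹ * t ∈ P) (h2 : ∀ s ∈ S, ∀ s' ∈ S, s⁻¹ * s' ∈ P → s⁻¹ * s' ∈ A) :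
    Nat.card T * Nat.card A = Nat.card S * Nat.card P := by
  choose f hf hf' using h1
  rw [← Nat.card_prod, ← Nat.card_prod]
  refine Nat.card_congr (Equiv.ofBijective (fun x : T × A => ((⟨f x.1 x.1.2 * x.2, hS _ (hf _ _) _ x.2.2⟩,
    ⟨(x.2 : Γ)⁻¹ * ((f x.1 x.1.2)⁻¹ * x.1), mul_mem (hAP (inv_mem x.2.2)) (hf' _ _)⟩) : S × P)) ⟨?_, ?_⟩)
  · rintro ⟨⟨t, ht⟩, a, ha⟩ ⟨⟨t', ht'⟩, a', ha'⟩ e
    simp only [Prod.mk.injEq, Subtype.mk.injEq] at e ⊢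
    obtain rfl : t = t' := by simpa [mul_assoc] using congrArg₂ (· * ·) e.1 e.2
    exact ⟨rfl, mul_left_cancel e.1⟩
  · rintro ⟨⟨s, hs⟩, p, hp⟩
    have h := hT s hs p hp
    refine ⟨(⟨_, h⟩, ⟨_, h2 _ (hf _ h) s hs ?_⟩), ?_⟩
    · simpa [mul_assoc] using mul_mem (hf' _ h) (inv_mem hp)
    · simp [mul_assoc]

open Classical in
theorem alt_sum {I W : Type*} (J : Finset I) (s : Finset W) (p : W → I → Prop) (f : W → ℂ) :
    ∑ K ∈ J.powerset, (-1 : ℂ) ^ #K * ∑ w ∈ s with ∀ k ∈ K, p w k, f w = ∑ w ∈ s with ∀ j ∈ J, ¬ p w j, f w := by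
  simp only [mul_sum, sum_filter]
  rw [sum_comm]
  refine sum_congr rfl fun w _ => ?_
  have h : ∑ K ∈ (J.filter (p w)).powerset, (-1 : ℂ) ^ #K = if J.filter (p w) = ∅ then 1 else 0 := by
    exact_mod_cast congrArg (Int.cast : ℤ → ℂ) (sum_powerset_neg_one_pow_card (x := J.filter (p w)))
  have e : (J.filter (p w)).powerset = J.powerset.filter fun K => ∀ k ∈ K, p w k := by
    ext K; simp only [mem_powerset, mem_filter, subset_iff]; exact ⟨fun h => ⟨fun x hx => (h hx).1, fun x hx => (h hx).2⟩,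
      fun h x hx => ⟨h.1 hx, h.2 x hx⟩⟩
  simp only [filter_eq_empty_iff] at h
  rw [e, sum_filter] at h
  have := congrArg (· * f w) h
  simpa [sum_mul] using this

theorem fpc_eq {Γ : Type*} [Group Γ] [Fintype Γ] (P : Subgroup Γ) : fixedPointCharacter P = indFun P fun _ => 1 := by
  rw [indFun_one_eq_permChar]; rfl

theorem indFun_sub_apply {Γ : Type*} [Group Γ] {P Q : Subgroup Γ} [Fintype Q] (h : P ≤ Q) (y : Q) :
    indFun (P.subgroupOf Q) (fun _ => 1) y =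
      (Nat.card P : ℂ)⁻¹ * Nat.card {x : Γ | x ∈ Q ∧ x⁻¹ * y * x ∈ P} := by
  rw [indFun_one_apply, Nat.card_congr (Subgroup.subgroupOfEquivOfLe h).toEquiv]
  congr 2
  exact Nat.card_congr ⟨fun x => ⟨x.1, x.1.2, x.2⟩, fun x => ⟨⟨x.1, x.2.1⟩, x.2.2⟩, fun _ => rfl, fun _ => rfl⟩

namespace RS

variable {I R : Type} [Fintype I] [DecidableEq I] {Φ : RS I R}

theorem deodhar {J K : Set I} {d u : Φ.W} (hd : d ∈ Φ.DS K Set.univ) (hu : (u : Equiv.Perm R) ∈ Φ.WJ J) :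
    ∃ u' : Φ.W, (u' : Equiv.Perm R) ∈ Φ.WJ J ∧ u' * d ∈ Φ.DS K Set.univ ∧
      (((u' * d)⁻¹ * (u * d) : Φ.W) : Equiv.Perm R) ∈ Φ.WJ K := by
  obtain ⟨u, hW⟩ := u
  refine WJ_induction (p := fun u => ∀ hW : u ∈ Φ.W, ∃ u' : Φ.W, (u' : Equiv.Perm R) ∈ Φ.WJ J ∧
    u' * d ∈ Φ.DS K Set.univ ∧ (((u' * d)⁻¹ * (⟨u, hW⟩ * d) : Φ.W) : Equiv.Perm R) ∈ Φ.WJ K)
    (fun _ => ⟨1, one_mem _, by simpa using hd, by simpa using one_mem _⟩) (fun i hi σ hσ ih _ => ?_) hu hW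
  obtain ⟨u', h1, h2, h3⟩ := ih (Φ.WJ_le_W J hσ)
  by_cases h : ∃ k ∈ K, ((u' * d : Φ.W) : Equiv.Perm R) (Φ.sim k) = Φ.sim i
  · obtain ⟨k, hk, e⟩ := h
    refine ⟨u', h1, h2, ?_⟩
    have := Φ.refl_conj (u' * d).2 (Φ.sim k)
    rw [e, refl_sim, refl_sim] at this
    convert mul_mem (Φ.sw_mem_WJ hk) h3 using 1
    simp only [Subgroup.coe_mul, InvMemClass.coe_inv] at this ⊢
    rw [this]; group
  · push Not at h
    refine ⟨Φ.sW i * u', mul_mem (Φ.sw_mem_WJ hi) h1, ⟨(_ : Φ.W).2, fun k hk => ?_⟩, ?_⟩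
    · rw [mul_assoc, Subgroup.coe_mul, Equiv.Perm.mul_apply]
      exact Φ.pos_w i _ (h2.2 k hk) (h k hk)
    · convert h3 using 1
      simp only [Subgroup.coe_mul, InvMemClass.coe_inv, coe_sW]; group

theorem dd_unique {J K : Set I} {d d' u : Φ.W} (hd : d ∈ Φ.DS K Set.univ) (hd' : d' ∈ Φ.DS K Set.univ)
    (he : d⁻¹ ∈ Φ.DS J Set.univ) (he' : d'⁻¹ ∈ Φ.DS J Set.univ) (hu : (u : Equiv.Perm R) ∈ Φ.WJ J)
    (h : (((u * d)⁻¹ * d' : Φ.W) : Equiv.Perm R) ∈ Φ.WJ K) : d = d' := by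
  obtain ⟨u', h1, h2, h3⟩ := deodhar hd hu
  have e := DS_unique h2 hd' (by convert mul_mem h3 h using 1; simp only [Subgroup.coe_mul, InvMemClass.coe_inv]; group)
  refine inv_injective (DS_unique he he' ?_)
  rw [← e]; simpa using h1

theorem exists_dd (J K : Set I) (w : Φ.W) : ∃ d ∈ Φ.DS K Set.univ, d⁻¹ ∈ Φ.DS J Set.univ ∧
    ∃ u v : Φ.W, (u : Equiv.Perm R) ∈ Φ.WJ J ∧ (v : Equiv.Perm R) ∈ Φ.WJ K ∧ w = u * d * v := by
  induction' hn : Φ.EW.len w using Nat.strong_induction_on with n ih generalizing w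
  by_cases h1 : ∀ k ∈ K, Φ.Pos ((w : Equiv.Perm R) (Φ.sim k))
  · by_cases h2 : ∀ j ∈ J, Φ.EW.P j w
    · exact ⟨w, ⟨w.2, h1⟩, ⟨w⁻¹.2, h2⟩, 1, 1, one_mem _, one_mem _, by simp⟩
    push Not at h2
    obtain ⟨j, hj, h2⟩ := h2
    obtain ⟨d, a, b, u, v, hu, hv, e⟩ := ih _ (hn ▸ Φ.EW.len_lt_of_not_P h2) _ rfl
    refine ⟨d, a, b, Φ.sW j * u, v, mul_mem (Φ.sw_mem_WJ hj) hu, hv, ?_⟩
    rw [mul_assoc, mul_assoc, ← mul_assoc u, ← e]; exact (Φ.EW.s_mul_s_mul j w).symm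
  · push Not at h1
    obtain ⟨k, hk, h1⟩ := h1
    obtain ⟨d, a, b, u, v, hu, hv, e⟩ := ih _ (by have := Φ.len_mul_sW' w k h1; omega) (w * Φ.sW k) rfl
    refine ⟨d, a, b, u, v * Φ.sW k, hu, mul_mem hv (Φ.sw_mem_WJ hk), ?_⟩
    rw [← mul_assoc, ← e]; exact (Φ.EW.mul_s_mul_s k w).symm

end RS

namespace PreSt

variable {I R : Type} [Fintype I] [DecidableEq I] {Φ : CD I R} {F : Type*} [Field F]
  {Γ : Type*} [Group Γ] {X : PreSt Φ F Γ} [Finite R]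

namespace IsSt

variable (hX : X.IsSt)
include hX

theorem cell_mul' {K : Set I} {v d : Equiv.Perm R} {a g : Γ} (hv : v ∈ Φ.WJ K)
    (hd : ∀ k ∈ K, Φ.Pos (d (Φ.sim k))) (hg : X.Cell d g) (ha : X.Cell v a) : X.Cell (d * v) (g * a) := by
  simpa using (hX.cell_mul (inv_mem hv) (w := d⁻¹) (by simpa using hd) ha.inv hg.inv).inv

theorem cell_split {w d : Equiv.Perm R} {K : Set I} (hd : d ∈ Φ.W) (h : d⁻¹ * w ∈ Φ.WJ K) {x : Γ}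
    (hx : X.Cell w x) : ∃ s, X.Cell d s ∧ s⁻¹ * x ∈ X.PJ K := by
  obtain ⟨n, hn, ha, b, hb, b', hb', rfl⟩ := hx
  obtain ⟨m, hm, ha'⟩ := hX.exists_N hd
  refine ⟨b * m, (Cell.of_N hm ha').mul_left hb, hX.mem_PJ_of_cell h ?_⟩
  convert (Cell.of_N (mul_mem (inv_mem hm) hn) (ha'.inv.mul ha)).mul_right hb' using 1
  group

theorem cell_key {K J J' : Set I} {d d' : Φ.W} (hd : d ∈ Φ.DS K J) (hd' : d' ∈ Φ.DS K J') {x x' : Γ}
    (hx : X.Cell d x) (hx' : X.Cell d' x') (h : x⁻¹ * x' ∈ X.PJ K) : x⁻¹ * x' ∈ X.B := by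
  obtain ⟨v, hv, hc⟩ := hX.cell_of_mem_PJ h
  have e := hX.cell_unique (hX.cell_mul' hv hd.2 hx hc) (by simpa using hx')
  have e' := RS.DS_unique hd hd' (by simpa [← e] using hv)
  subst e'
  rw [mul_eq_left.1 e] at hc
  exact hX.cell_one.1 hc

theorem cell_mul_PJ {K : Set I} {w : Equiv.Perm R} {x y : Γ} (hx : X.Cell w x) (hy : y ∈ X.PJ K) :
    ∃ v ∈ Φ.WJ K, X.Cell (w * v) (x * y) := by
  obtain ⟨d, hd, v, hv, e⟩ := RS.exists_DS (Set.subset_univ K) (w := ⟨w, hX.cell_mem_W hx⟩) (hX.cell_mem_W hx)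
  obtain rfl : w = d * v := congrArg Subtype.val e
  obtain ⟨s, hs, h⟩ := hX.cell_split d.2 (K := K) (by simpa using hv) hx
  obtain ⟨v', hv', hc⟩ := hX.cell_of_mem_PJ (mul_mem h hy)
  refine ⟨v⁻¹ * v', mul_mem (inv_mem hv) hv', ?_⟩
  simpa [mul_assoc] using hX.cell_mul' hv' hd.2 hs hc

theorem PJ_mul_cell {J : Set I} {w : Equiv.Perm R} {x y : Γ} (hx : X.Cell w x) (hy : y ∈ X.PJ J) :
    ∃ u ∈ Φ.WJ J, X.Cell (u * w) (y * x) := by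
  obtain ⟨v, hv, h⟩ := hX.cell_mul_PJ hx.inv (inv_mem hy)
  exact ⟨v⁻¹, inv_mem hv, by simpa using h.inv⟩

omit hX [Finite R] in
/-- number of fixed points on a Bruhat cell -/
noncomputable def mc (X : PreSt Φ F Γ) (b : Γ) (w : Φ.W) : ℂ :=
  (Nat.card X.B : ℂ)⁻¹ * Nat.card {x : Γ | X.Cell w x ∧ x⁻¹ * b * x ∈ X.B}

open Classical in
theorem cnt_eq [Finite Γ] [Fintype Φ.W] {J K : Set I} (hK : K ⊆ J) {b : Γ} (hb : b ∈ X.B) :
    (Nat.card (X.PJ K) : ℂ)⁻¹ * Nat.card {x : Γ | x ∈ X.PJ J ∧ x⁻¹ * b * x ∈ X.PJ K} =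
      ∑ d with d ∈ Φ.DS K J, mc X b d := by
  have hJ := hX.PJ_le_iff.2 hK
  have h := card_mul_eq (X.B_le_PJ K) (S := {x | ∃ d ∈ Φ.DS K J, X.Cell d x ∧ x⁻¹ * b * x ∈ X.B})
    (T := {x : Γ | x ∈ X.PJ J ∧ x⁻¹ * b * x ∈ X.PJ K}) ?_ ?_ ?_ ?_
  · have := Fintype.ofFinite Γ
    have e : Nat.card {x | ∃ d ∈ Φ.DS K J, X.Cell d x ∧ x⁻¹ * b * x ∈ X.B} =
        ∑ d with d ∈ Φ.DS K J, Nat.card {x : Γ | X.Cell d x ∧ x⁻¹ * b * x ∈ X.B} := by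
      simp only [Nat.card_eq_card_toFinset]
      rw [← card_biUnion]
      · congr 1; ext x; simp
      · intro d _ d' _ hne
        refine disjoint_left.2 fun x h1 h2 => hne (Subtype.ext ?_)
        simp only [Set.mem_toFinset, Set.mem_setOf_eq] at h1 h2
        exact hX.cell_unique h1.1 h2.1
    simp only [mc, ← mul_sum]
    rw [e] at h
    have h' := congrArg (Nat.cast : ℕ → ℂ) h
    have h1 := card_ne_zero_complex X.B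
    have h2 := card_ne_zero_complex (X.PJ K)
    push_cast at h'
    field_simp
    linear_combination h'
  · rintro s ⟨d, hd, hc, h⟩ a ha
    exact ⟨d, hd, hc.mul_right ha, by simpa [mul_assoc] using mul_mem (mul_mem (inv_mem ha) h) ha⟩
  · rintro s ⟨d, hd, hc, h⟩ a ha
    exact ⟨mul_mem (hX.mem_PJ_of_cell hd.1 hc) (hJ ha),
      by simpa [mul_assoc] using mul_mem (mul_mem (inv_mem ha) (X.B_le_PJ K h)) ha⟩
  · rintro t ⟨h1, h2⟩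
    obtain ⟨w, hw, hc⟩ := hX.cell_of_mem_PJ h1
    obtain ⟨d, hd, v, hv, e⟩ := RS.exists_DS hK (w := ⟨w, hX.cell_mem_W hc⟩) hw
    obtain rfl : w = d * v := congrArg Subtype.val e
    obtain ⟨s, hs, h⟩ := hX.cell_split d.2 (K := K) (by simpa using hv) hc
    refine ⟨s, ⟨d, hd, hs, ?_⟩, h⟩
    rw [mul_assoc]
    refine hX.cell_key hd hd hs (hs.mul_left hb) ?_
    convert mul_mem (mul_mem h h2) (inv_mem h) using 1
    group
  · rintro s ⟨d, hd, hc, -⟩ s' ⟨d', hd', hc', -⟩ h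
    exact hX.cell_key hd hd' hc hc' h

open Classical in
theorem alt_cnt [Finite Γ] (J : Finset I) {b : Γ} (hb : b ∈ X.B) :
    ∑ K ∈ J.powerset, (-1 : ℂ) ^ #K * ((Nat.card (X.PJ K) : ℂ)⁻¹ *
      Nat.card {x : Γ | x ∈ X.PJ J ∧ x⁻¹ * b * x ∈ X.PJ K}) = mc X b ⟨Φ.lg J, Φ.lg_mem_W J⟩ := by
  have := Fintype.ofFinite Φ.W
  rw [sum_congr rfl fun K hK => by rw [hX.cnt_eq (coe_subset.2 (mem_powerset.1 hK)) hb]]
  have := alt_sum J (univ.filter fun w : Φ.W => w.1 ∈ Φ.WJ J) (fun w k => Φ.Pos (w.1 (Φ.sim k))) (mc X b)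
  simp only [filter_filter] at this
  refine (sum_congr rfl fun K _ => ?_).trans (this.trans ?_)
  · congr 2; ext; simp [RS.DS]
  · rw [← sum_singleton (mc X b)]
    congr 1
    ext w
    simp only [mem_filter, mem_univ, true_and, mem_singleton]
    exact ⟨fun h => Subtype.ext (Φ.eq_lg h.1 h.2), by rintro rfl; exact ⟨Φ.lg_mem _, fun j hj => Φ.lg_sim hj⟩⟩

theorem B_inf_conj {J : Set I} {n c : Γ} (hn : n ∈ X.N) (ha : X.Act n (Φ.lg J)) (hc : c ∈ X.B) :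
    n⁻¹ * c * n ∈ X.B ↔ c ∈ X.UJ J ⊔ X.H := by
  have hU : ∀ y ∈ X.UJ J ⊔ X.H, n⁻¹ * y * n ∈ X.B := fun y hy => by
    obtain ⟨u, hu, h, hh, rfl⟩ := hX.mem_XS_sup_H.1 hy
    have h1 : n⁻¹ * u * n⁻¹⁻¹ ∈ X.U := ha.inv.conj_mem (fun r hr => RS.WJ_pos (inv_mem (Φ.lg_mem J)) hr.1 hr.2) hu
    convert mul_mem (X.U_le_B h1) (X.H_le_B (hX.N_conj_mem_H (inv_mem hn) hh)) using 1
    group
  refine ⟨fun h => ?_, hU c⟩
  obtain ⟨u, hu, t, ht, rfl⟩ := hX.mem_B.1 hc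
  obtain ⟨y, hy, z, hz, rfl⟩ := X.U_split {r | Φ.InJ J r} hu
  have h1 : z * t ∈ X.UJ J ⊔ X.H := mul_mem (Subgroup.mem_sup_left hz) (Subgroup.mem_sup_right ht)
  have h2 : n⁻¹ * y * n⁻¹⁻¹ ∈ X.V := ha.inv.conj_mem (fun r hr => by
    rw [Φ.lg_inv]; exact Φ.lg_not_pos hr.1 hr.2) hy
  have h3 := hX.eq_one_of_mem_B_V (by convert mul_mem h (inv_mem (hU _ h1)) using 1; group) h2
  obtain rfl : y = 1 := by rwa [conj_eq_one_iff] at h3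
  simpa using h1

theorem mc_lg [Finite Γ] (J : Set I) {b : Γ} (hb : b ∈ X.B) : mc X b ⟨Φ.lg J, Φ.lg_mem_W J⟩ =
    (Nat.card (X.UJ J ⊔ X.H : Subgroup Γ) : ℂ)⁻¹ * Nat.card {x : Γ | x ∈ X.B ∧ x⁻¹ * b * x ∈ X.UJ J ⊔ X.H} := by
  obtain ⟨n, hn, ha⟩ := hX.exists_N (Φ.lg_mem_W J)
  have hle : X.UJ J ⊔ X.H ≤ X.B := sup_le_sup_right (X.UJ_le_U J) _
  have ha' : X.Act n⁻¹ (Φ.lg J) := by simpa [Φ.lg_inv] using ha.inv
  have h := card_mul_eq hle (S := (· * n) '' {x : Γ | x ∈ X.B ∧ x⁻¹ * b * x ∈ X.UJ J ⊔ X.H})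
    (T := {x : Γ | X.Cell (Φ.lg J) x ∧ x⁻¹ * b * x ∈ X.B}) ?_ ?_ ?_ ?_
  · rw [Nat.card_image_of_injective (mul_left_injective n)] at h
    have h' := congrArg (Nat.cast : ℕ → ℂ) h
    have h1 := card_ne_zero_complex X.B
    have h2 := card_ne_zero_complex (X.UJ J ⊔ X.H : Subgroup Γ)
    push_cast at h'
    rw [mc]
    field_simp
    linear_combination h'
  · rintro _ ⟨s, ⟨h1, h2⟩, rfl⟩ a h
    have h3 := (hX.B_inf_conj (inv_mem hn) ha' (hle h)).2 h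
    have h4 := (hX.B_inf_conj hn ha h3).1 (by simpa [mul_assoc] using hle h)
    refine ⟨s * (n⁻¹⁻¹ * a * n⁻¹), ⟨mul_mem h1 h3, ?_⟩, by simp only; group⟩
    convert mul_mem (mul_mem (inv_mem h4) h2) h4 using 1
    group
  · rintro _ ⟨s, ⟨h1, h2⟩, rfl⟩ a h
    refine ⟨((Cell.of_N hn ha).mul_left h1).mul_right h, ?_⟩
    convert mul_mem (mul_mem (inv_mem h) ((hX.B_inf_conj hn ha (hle h2)).2 h2)) h using 1
    group
  · rintro t ⟨h1, h2⟩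
    obtain ⟨c, hc, c', hc', rfl⟩ := hX.cell_rep h1 hn ha
    refine ⟨_, ⟨c, ⟨hc, (hX.B_inf_conj hn ha (mul_mem (mul_mem (inv_mem hc) hb) hc)).1 ?_⟩, rfl⟩,
      by simpa [mul_assoc] using hc'⟩
    convert mul_mem (mul_mem hc' h2) (inv_mem hc') using 1
    group
  · rintro _ ⟨s, ⟨h1, -⟩, rfl⟩ _ ⟨s', ⟨h1', -⟩, rfl⟩ h
    refine (hX.B_inf_conj (inv_mem hn) ha' h).1 ?_
    convert mul_mem (inv_mem h1) h1' using 1
    group

end IsSt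

end PreSt

end CfsgH6
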