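import Cfsg.Agent.H6.Stb1
import Cfsg.Agent.H6.Misc1

/-! The Steinberg character: irreducibility, degree, number of unipotent elements. -/

namespace CfsgH6

open Finset Cfsg CfsgH3

theorem alt_sum2 {I : Type*} [Fintype I] [DecidableEq I] (f : Finset I → ℂ) :
    ∑ J ∈ (univ : Finset I).powerset, (-1 : ℂ) ^ #J * ∑ K ∈ J.powerset, (-1 : ℂ) ^ #K * f K = f univ := by
  classical
  have := alt_sum univ (univ : Finset (Finset I)) (fun L i => i ∉ L) fun L => (-1 : ℂ) ^ #Lᶜ * f L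
  simp only [mem_univ, forall_const, not_not, powerset_univ] at this ⊢
  rw [← (compl_bijective (α := Finset I)).sum_comp] at this
  have e : (univ.filter fun L : Finset I => ∀ j, j ∈ L) = {univ} := by ext; simp [eq_univ_iff_forall]
  rw [e, sum_singleton, compl_univ, card_empty, pow_zero, one_mul] at this
  rw [← this]
  refine sum_congr rfl fun J _ => ?_
  simp only [mul_sum]
  refine sum_congr (by ext K; simp [subset_iff, not_imp_not]) fun K _ => ?_
  have h (L : Finset I) : (-1 : ℂ) ^ #Lᶜ = (-1) ^ Fintype.card I * (-1) ^ #L := by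
    rw [← card_add_card_compl L, pow_add, mul_right_comm, ← mul_pow]; simp
  have : (-1 : ℂ) ^ Fintype.card I * (-1) ^ Fintype.card I = 1 := by rw [← mul_pow]; simp
  rw [h, h]
  linear_combination (-(-1) ^ #J * (-1) ^ #K * f K) * this

theorem inner_fpc {Γ : Type*} [Group Γ] [Fintype Γ] (P Q : Subgroup Γ) :
    classInner (fixedPointCharacter Q) (fixedPointCharacter P) = Nat.card (MulAction.orbitRel.Quotient P (Γ ⧸ Q)) := by
  have := Fintype.ofFinite P
  rw [fpc_eq P, inner_indFun_right _ _ (fpc_eq Q ▸ indFun_classFun _ _), ← ip_permChar_one]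
  rfl

namespace PreSt

variable {I R : Type} [Fintype I] [DecidableEq I] {Φ : CD I R} {F : Type*} [Field F]
  {Γ : Type*} [Group Γ] {X : PreSt Φ F Γ}

/-- the Steinberg character -/
noncomputable def St (X : PreSt Φ F Γ) : Γ → ℂ :=
  fun g => ∑ J ∈ (univ : Finset I).powerset, (-1 : ℂ) ^ #J * fixedPointCharacter (X.PJ J) g

theorem St_eq : X.St = ∑ J ∈ (univ : Finset I).powerset, (-1 : ℂ) ^ #J • fixedPointCharacter (X.PJ J) := by
  ext g; simp [St]

theorem isGen_St [Finite Γ] : IsGeneralizedCharacter Γ X.St := by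
  rw [St_eq]
  refine isGen_sum _ fun J _ => ?_
  have := (isChar_permChar (G := Γ) (X := Γ ⧸ X.PJ J)).isGen.intCast_smul ((-1) ^ #J)
  push_cast at this
  exact this

theorem UJ_univ : X.UJ Set.univ = ⊥ := by
  rw [UJ, ← X.XS_empty]; congr 1; ext r; simp [RS.InJ]

namespace IsSt

variable [Finite R] [Finite Γ] (hX : X.IsSt) (hG : X.G = ⊤)
include hX hG

theorem St_B {b : Γ} (hb : b ∈ X.B) :
    X.St b = (Nat.card X.H : ℂ)⁻¹ * Nat.card {x : Γ | x ∈ X.B ∧ x⁻¹ * b * x ∈ X.H} := by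
  have := Fintype.ofFinite Γ
  have h := (hX.alt_cnt univ hb).trans (hX.mc_lg _ hb)
  rw [coe_univ, UJ_univ, bot_sup_eq, hX.PJ_univ, hG] at h
  rw [← h, St]
  simp only [fpc_eq, indFun_one_apply, Subgroup.mem_top, true_and]
  rfl

theorem St_one : X.St 1 = Nat.card X.U := by
  rw [hX.St_B hG (one_mem _)]
  have h1 := card_ne_zero_complex X.H
  simp only [mul_one, inv_mul_cancel, one_mem, and_true, SetLike.setOf_mem_eq, SetLike.coe_sort_coe, hX.card_B]
  push_cast; field_simp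

theorem card_orbits (J K : Set I) : Nat.card (MulAction.orbitRel.Quotient (X.PJ J) (Γ ⧸ X.PJ K)) =
    Nat.card {d : Φ.W // d ∈ Φ.DS K Set.univ ∧ d⁻¹ ∈ Φ.DS J Set.univ} := by
  choose n hn ha using fun d : Φ.W => hX.exists_N d.2
  refine (Nat.card_congr (Equiv.ofBijective (fun d => Quotient.mk'' (n d.1 : Γ ⧸ X.PJ K)) ⟨?_, ?_⟩)).symm
  · rintro ⟨d, h1, h2⟩ ⟨d', h1', h2'⟩ e
    obtain ⟨⟨p, hp⟩, e⟩ := MulAction.orbitRel_apply.1 (Quotient.exact' e.symm)
    have e' : (p * n d)⁻¹ * n d' ∈ X.PJ K := QuotientGroup.eq.1 e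
    obtain ⟨u, hu, hc⟩ := hX.PJ_mul_cell (Cell.of_N (hn d) (ha d)) hp
    obtain ⟨v, hv, hc'⟩ := hX.cell_mul_PJ hc e'
    have := hX.cell_unique hc' (by simpa [mul_assoc] using Cell.of_N (hn d') (ha d'))
    exact Subtype.ext (RS.dd_unique (u := ⟨u, Φ.WJ_le_W J hu⟩) h1 h1' h2 h2' hu (by simpa [← this, mul_assoc] using hv))
  · intro ω
    induction' ω using Quotient.inductionOn' with y
    induction' y using QuotientGroup.induction_on with y
    obtain ⟨w, hw, hc⟩ := hX.exists_cell (g := y) (hG ▸ Subgroup.mem_top y)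
    obtain ⟨d, h1, h2, u, v, hu, hv, e⟩ := RS.exists_dd J K ⟨w, hw⟩
    obtain rfl : w = u * d * v := congrArg Subtype.val e
    obtain ⟨s, hs, h⟩ := hX.cell_split (u * d).2 (K := K) (by simpa [mul_assoc] using hv) hc
    obtain ⟨b, hb, b', hb', rfl⟩ := hX.cell_rep hs (mul_mem (hn u) (hn d)) ((ha u).mul (ha d))
    refine ⟨⟨d, h1, h2⟩, (Quotient.sound' (MulAction.orbitRel_apply.2 ⟨⟨b * n u, hX.mem_PJ_of_cell hu
      ((Cell.of_N (hn u) (ha u)).mul_left hb)⟩, QuotientGroup.eq.2 ?_⟩)).symm⟩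
    convert mul_mem (X.B_le_PJ K hb') h using 1
    simp [mul_assoc]

theorem inner_St_fpc [Fintype Γ] (J : Finset I) :
    classInner X.St (fixedPointCharacter (X.PJ J)) = if J = ∅ then 1 else 0 := by
  classical
  have := Fintype.ofFinite Φ.W
  have h := alt_sum univ (univ.filter fun w : Φ.W => w⁻¹ ∈ Φ.DS J Set.univ) (fun w k => Φ.Pos (w.1 (Φ.sim k)))
    fun _ => 1
  simp only [St_eq, inner_sum_left, CfsgH3.inner_smul_left, inner_fpc, hX.card_orbits hG]
  refine (sum_congr rfl fun K _ => ?_).trans (h.trans ?_)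
  · rw [sum_const, filter_filter, nsmul_one, Nat.card_eq_fintype_card, Fintype.card_subtype]
    congr 3; ext w; simp only [mem_filter, mem_univ, true_and]
    exact ⟨fun h => ⟨h.2, h.1.2⟩, fun h => ⟨⟨w.2, h.2⟩, h.1⟩⟩
  · have e (w : Φ.W) : (∀ j ∈ univ, ¬ Φ.Pos (w.1 (Φ.sim j))) ↔ w = ⟨Φ.lg Set.univ, Φ.lg_mem_W _⟩ :=
      ⟨fun h => Subtype.ext (Φ.eq_lg w.2 fun j _ => h j (mem_univ j)), by rintro rfl j -; exact Φ.lg_sim trivial⟩
    simp only [e]
    simp only [filter_eq', mem_filter, mem_univ, true_and]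
    rw [apply_ite (∑ _ ∈ ·, (1 : ℂ)), sum_singleton, sum_empty]
    refine if_congr ⟨fun h => eq_empty_of_forall_notMem fun j hj => Φ.lg_sim (J := Set.univ) (j := j) trivial ?_,
      by rintro rfl; exact ⟨(_ : Φ.W).2, by simp⟩⟩ rfl rfl
    simpa [Φ.lg_inv] using h.2 j hj

theorem inner_St [Fintype Γ] : classInner X.St X.St = 1 := by
  nth_rw 2 [St_eq]
  simp [inner_sum_right, CfsgH3.inner_smul_right, hX.inner_St_fpc hG]

theorem irr_St : IsIrrCharacter Γ X.St := by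
  have := Fintype.ofFinite Γ
  exact isGen_St.irr_of_inner_eq_one (hX.inner_St hG) (by rw [hX.St_one hG]; simp)

omit hG in
/-- the relative Steinberg character at elements of `U` -/
theorem rel_U (J : Finset I) [Fintype (X.PJ J)] {u : X.PJ J} (hu : u.1 ∈ X.U) [Decidable (u.1 ∈ X.UJ J)] :
    ∑ K ∈ J.powerset, (-1 : ℂ) ^ #K * indFun ((X.PJ K).subgroupOf (X.PJ J)) (fun _ => 1) u =
      if u.1 ∈ X.UJ J then (Nat.card X.U : ℂ) / Nat.card (X.UJ J) else 0 := by
  rw [sum_congr rfl fun K hK => by rw [indFun_sub_apply (hX.PJ_le_iff.2 (coe_subset.2 (mem_powerset.1 hK)))],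
    hX.alt_cnt J (X.U_le_B hu), hX.mc_lg _ (X.U_le_B hu)]
  have hN {x y : Γ} (hx : x ∈ X.B) (hy : y ∈ X.UJ J) : x * y * x⁻¹ ∈ X.UJ J :=
    (Subgroup.mem_normalizer_iff.1 (hX.PJ_le_normalizer J (X.B_le_PJ J hx)) y).1 hy
  split_ifs with h
  · have e : {x : Γ | x ∈ X.B ∧ x⁻¹ * u * x ∈ X.UJ J ⊔ X.H} = X.B := by
      ext x; exact ⟨fun h => h.1, fun hx => ⟨hx, Subgroup.mem_sup_left (by simpa using hN (inv_mem hx) h)⟩⟩
    have e2 : Nat.card (X.UJ J ⊔ X.H : Subgroup Γ) = Nat.card (X.UJ J) * Nat.card X.H := by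
      rw [← Nat.card_prod]
      refine (Nat.card_congr (Equiv.ofBijective (fun x : X.UJ J × X.H => ⟨x.1 * x.2, mul_mem
        (Subgroup.mem_sup_left x.1.2) (Subgroup.mem_sup_right x.2.2)⟩) ⟨?_, ?_⟩)).symm
      · rintro ⟨⟨a, ha⟩, b, hb⟩ ⟨⟨c, hc⟩, d, hd⟩ e
        have e : a * b = c * d := congrArg Subtype.val e
        have := hX.eq_one_of_mem_U_H (X.UJ_le_U J (mul_mem (inv_mem hc) ha)) (by
          rw [show c⁻¹ * a = d * b⁻¹ by rw [eq_mul_inv_iff_mul_eq, mul_assoc, e]; group]; exact mul_mem hd (inv_mem hb))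
        obtain rfl : c = a := inv_mul_eq_one.1 this
        simpa using e
      · rintro ⟨y, hy⟩
        obtain ⟨a, ha, b, hb, rfl⟩ := hX.mem_XS_sup_H.1 hy
        exact ⟨(⟨a, ha⟩, ⟨b, hb⟩), rfl⟩
    rw [e, e2, SetLike.coe_sort_coe, hX.card_B]
    have h1 := card_ne_zero_complex X.H
    have h2 := card_ne_zero_complex (X.UJ J)
    push_cast; field_simp
  · have e : {x : Γ | x ∈ X.B ∧ x⁻¹ * u * x ∈ X.UJ J ⊔ X.H} = ∅ := by
      refine Set.eq_empty_of_forall_notMem fun x ⟨hx, h'⟩ => h ?_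
      obtain ⟨a, ha, b, hb, e⟩ := hX.mem_XS_sup_H.1 h'
      have h1 : x⁻¹ * u * x⁻¹⁻¹ ∈ X.U := hX.B_conj_mem_U (inv_mem hx) hu
      have := hX.eq_one_of_mem_U_H (g := b) (by
        convert mul_mem (inv_mem (X.UJ_le_U J ha)) h1 using 1; rw [inv_inv, e]; group) hb
      rw [this, mul_one] at e
      simpa [← e, mul_assoc] using hN hx ha
    simp [e]

omit hG [Finite Γ] in
theorem exists_conj_U_PJ [Finite F] (hM : X.Mult) (p : ℕ) [Fact p.Prime] [CharP F p] (hG : X.G = ⊤) {Q : Subgroup Γ}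
    (hQ : X.U ≤ Q) {y : Γ} (hy : y ∈ Q) (h : ∃ k, orderOf y = p ^ k) : ∃ z ∈ Q, z * y * z⁻¹ ∈ X.U := by
  have := hX.finite_G hM
  have : Finite Γ := Finite.of_equiv _ ((MulEquiv.subgroupCongr hG).trans Subgroup.topEquiv).toEquiv
  obtain ⟨P, hP⟩ := hX.exists_sylow hM hG p
  obtain ⟨k, hk⟩ := h
  have h1 : IsPGroup p (Subgroup.zpowers (⟨y, hy⟩ : Q)) :=
    IsPGroup.of_card (n := k) (by rw [Nat.card_zpowers, ← hk, Subgroup.orderOf_mk])
  obtain ⟨S, hS⟩ := h1.exists_le_sylow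
  obtain ⟨z, hz⟩ := MulAction.exists_smul_eq Q S (P.subtype (hP ▸ hQ))
  refine ⟨z, z.2, ?_⟩
  have : z * ⟨y, hy⟩ * z⁻¹ ∈ ((z • S : Sylow p Q) : Subgroup Q) :=
    Subgroup.smul_mem_pointwise_smul _ (MulAut.conj z) _ (hS (Subgroup.mem_zpowers _))
  rw [hz, Sylow.coe_subtype, hP] at this
  exact this

theorem card_unip [Finite F] (hM : X.Mult) (p : ℕ) [Fact p.Prime] [CharP F p] :
    Nat.card {g : Γ // ∃ k, orderOf g = p ^ k} = Nat.card X.U ^ 2 := by
  classical
  have := Fintype.ofFinite Γ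
  obtain ⟨P, hP⟩ := hX.exists_sylow hM hG p
  have hp {u : Γ} (hu : u ∈ X.U) : ∃ k, orderOf u = p ^ k := by
    obtain ⟨k, hk⟩ := (IsPGroup.iff_orderOf.1 P.isPGroup') ⟨u, hP ▸ hu⟩
    exact ⟨k, by rw [← hk, Subgroup.orderOf_mk]⟩
  set θ : ∀ J : Finset I, X.PJ J → ℂ := fun J u => if u.1 ∈ X.UJ J then (Nat.card X.U : ℂ) / Nat.card (X.UJ J) else 0
  have key (g : Γ) : ∑ J ∈ (univ : Finset I).powerset, (-1 : ℂ) ^ #J * indFun (X.PJ J) (θ J) g =
      if ∃ k, orderOf g = p ^ k then 1 else 0 := by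
    split_ifs with h
    · have h1 := alt_sum2 fun K : Finset I => indFun (X.PJ K) (fun _ => 1) g
      rw [coe_univ, hX.PJ_univ, hG, indFun_top _ (isClassFunction_const 1)] at h1
      refine Eq.trans (sum_congr rfl fun J _ => ?_) h1
      congr 1
      have e : ∑ K ∈ J.powerset, (-1 : ℂ) ^ #K * indFun (X.PJ K) (fun _ => 1) g = indFun (X.PJ J)
          (∑ K ∈ J.powerset, (-1 : ℂ) ^ #K • indFun ((X.PJ K).subgroupOf (X.PJ J)) fun _ => 1) g := by
        rw [indFun_sum, Finset.sum_apply]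
        refine sum_congr rfl fun K hK => ?_
        rw [indFun_smul, ← indFun_indFun _ _ (hX.PJ_le_iff.2 (coe_subset.2 (mem_powerset.1 hK)))]
        rfl
      rw [e, eq_comm, ← sub_eq_zero, ← Pi.sub_apply, ← indFun_sub]
      refine indFun_eq_zero_of_forall _ _ fun x hx => ?_
      obtain ⟨z, hz, hu⟩ := hX.exists_conj_U_PJ hM p hG (X.U_le_B.trans (X.B_le_PJ J)) hx
        (by rwa [← MulAut.conj_apply, MulEquiv.orderOf_eq])
      have h2 := hX.rel_U J (u := ⟨z, hz⟩ * ⟨_, hx⟩ * ⟨z, hz⟩⁻¹) hu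
      simp only [indFun_classFun _ _ _ _] at h2
      simp only [Pi.sub_apply, Finset.sum_apply, Pi.smul_apply, smul_eq_mul, h2, θ, sub_eq_zero]
      exact if_congr (Subgroup.mem_normalizer_iff.1 (hX.PJ_le_normalizer J hz) _).symm rfl rfl
    · refine sum_eq_zero fun J _ => mul_eq_zero_of_right _
        (indFun_eq_zero_of_forall _ _ fun x hx => if_neg fun h' => h ?_)
      have := hp (u := x * g * x⁻¹) (X.UJ_le_U J h')
      rwa [← MulAut.conj_apply, MulEquiv.orderOf_eq] at this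
  have h := sum_congr rfl fun g (_ : g ∈ univ) => key g
  rw [sum_comm, sum_boole] at h
  rw [Nat.card_eq_fintype_card, Fintype.card_subtype]
  apply Nat.cast_injective (R := ℂ)
  rw [← h, Nat.cast_pow, sq]
  nth_rw 2 [← hX.St_one hG]
  rw [St, mul_sum]
  refine sum_congr rfl fun J _ => ?_
  have h1 := sum_indFun_mul (X.PJ J) (θ J) (isClassFunction_const 1)
  have h2 : #(univ.filter fun u : X.PJ J => u.1 ∈ X.UJ J) = Nat.card (X.UJ J) := by
    rw [← Nat.card_congr (Subgroup.subgroupOfEquivOfLe ((X.UJ_le_U J).trans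
      (X.U_le_B.trans (X.B_le_PJ J)))).toEquiv, Nat.card_eq_fintype_card, Fintype.card_subtype]
    rfl
  simp only [mul_one, θ, ← sum_filter, sum_const, h2, nsmul_eq_mul] at h1
  have h3 := card_ne_zero_complex (X.UJ J)
  rw [← mul_sum, h1, fpc_eq, indFun_one]
  field_simp

end IsSt

end PreSt

namespace Chev

namespace Good

open Cfsg.Lie PreSt

variable {D : ChevalleyDatum} (g : Good D) (F : Type*) [Field F]

theorem St_eq : D.steinbergCharacter F = (g.adjG F).St := by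
  ext y
  refine (sum_bij (fun J _ => J.map Fin.valEmbedding) (fun J _ => ?_) (fun J _ K _ h => map_injective _ h)
    (fun J hJ => ?_) fun J _ => ?_).symm
  · simp [subset_iff]
  · refine ⟨univ.filter fun i => i.1 ∈ J, by simp, ?_⟩
    ext i
    simp only [mem_map, mem_filter, mem_univ, true_and, Fin.valEmbedding_apply]
    exact ⟨by rintro ⟨j, h, rfl⟩; exact h, fun h => ⟨⟨i, mem_range.1 (mem_powerset.1 hJ h)⟩, h, rfl⟩⟩
  · rw [card_map, ChevalleyDatum.parabolicIn, ← g.adjG_PJ]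
    congr 3
    ext i; simp [Fin.val_inj]

theorem card_UG [Finite F] : Nat.card (g.adjG F).U = Nat.card F ^ (D.nroots / 2) := by
  rw [← g.card_U F, PreSt.U, g.adjG_XS]
  exact Nat.card_congr (Subgroup.subgroupOfEquivOfLe (g.G_eq F ▸ (g.adj F).XS_le_G _)).toEquiv

end Good

end Chev

end CfsgH6
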