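import Cfsg.Agent.H6.Stb2
import Cfsg.Agent.H6.BT2
import Cfsg.Agent.H4.Cover2

/-! Blocks of Chevalley groups in the defining characteristic. -/

namespace CfsgH6

open Finset Cfsg CfsgH3 CfsgH4 CfsgH2 MonoidAlgebra

theorem hat_mul_hat_compl {k Γ : Type*} [CommRing k] [Group Γ] [Finite Γ] {A B C : Subgroup Γ} (hA : A ≤ C)
    (hB : B ≤ C) (h : ∀ c ∈ C, ∃ a ∈ A, ∃ b ∈ B, c = a * b) (h' : ∀ a ∈ A, a ∈ B → a = 1) :
    hat k (A : Set Γ) * hat k (B : Set Γ) = hat k (C : Set Γ) := by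
  have := Fintype.ofFinite A
  refine ga_ext fun g => ?_
  rw [hat_eq_sum A, sum_mul, coeff_sum_apply]
  simp only [coeff_single_mul_apply, one_mul]
  by_cases hg : g ∈ C
  · obtain ⟨a, ha, b, hb, rfl⟩ := h g hg
    rw [coeff_hat_of_mem hg, sum_eq_single ⟨a, ha⟩, coeff_hat_of_mem (by simpa using hb)]
    · intro c _ hc
      refine coeff_hat_of_notMem fun e => hc (Subtype.ext (inv_mul_eq_one.1 (h' _ (mul_mem (inv_mem c.2) ha) ?_)))
      simpa [mul_assoc] using mul_mem e (inv_mem hb)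
    · simp
  · rw [coeff_hat_of_notMem hg]
    exact sum_eq_zero fun c _ => coeff_hat_of_notMem fun e => hg (by simpa using mul_mem (hA c.2) (hB e))

theorem single_mul_hat_comm {k Γ : Type*} [CommRing k] [Group Γ] [Finite Γ] {A B : Subgroup Γ} {g : Γ}
    (h : ∀ x, x ∈ B ↔ g⁻¹ * x * g ∈ A) : single g (1 : k) * hat k (A : Set Γ) = hat k (B : Set Γ) * single g 1 := by
  classical
  refine ga_ext fun x => ?_
  simp [coeff_hat, h, mul_assoc]

theorem single_mul1 {k Γ : Type*} [CommRing k] [Group Γ] (a b : Γ) :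
    single (a * b) (1 : k) = single a 1 * single b 1 := by rw [single_mul_single, one_mul]

namespace PreSt

variable {I R : Type} [Fintype I] [DecidableEq I] {Φ : CD I R} {F : Type*} [Field F]
  {Γ : Type*} [Group Γ] {X : PreSt Φ F Γ} [Finite Γ] {k : Type*} [Field k]

namespace IsSt

variable (hX : X.IsSt)
include hX

theorem hat_root [Fintype F] (r : R) : hat k (X.XS {r} : Set Γ) = ∑ t, single (X.x r t) 1 := by
  have := Fintype.ofFinite (X.XS {r})
  rw [hat_eq_sum]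
  refine (Fintype.sum_bijective (fun t => (⟨X.x r t, X.x_mem_XS (Set.mem_singleton r) t⟩ : X.XS {r}))
    ⟨fun a b h => X.x_injective hX.sep1 r (congrArg Subtype.val h), fun ⟨y, hy⟩ => ?_⟩ _ _ fun _ => rfl).symm
  obtain ⟨t, rfl⟩ := X.mem_XS_singleton.1 hy
  exact ⟨t, rfl⟩

theorem H_comm_hat (S : Set R) {h : Γ} (hh : h ∈ X.H) :
    single h (1 : k) * hat k (X.XS S : Set Γ) = hat k (X.XS S : Set Γ) * single h 1 :=
  single_mul_comm_of_Fix (hat_mem_Fix_of_normalizer (hX.H_le_normalizer S)) hh 1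

theorem sl2_hat [Finite F] (hM : X.Mult) (hq : (Nat.card F : k) = 0) (r : R) {c : F} (hc : c ≠ 0) :
    single (X.h r c) (1 : k) * (hat k (X.XS {r} : Set Γ) * hat k (X.XS {Φ.neg r} : Set Γ) * hat k (X.XS {r} : Set Γ)) =
      hat k (X.XS {r} : Set Γ) * hat k (X.XS {Φ.neg r} : Set Γ) * hat k (X.XS {r} : Set Γ) := by
  have := Fintype.ofFinite F
  set a := hat k (X.XS {r} : Set Γ) with ha
  have h0 : a * a = 0 := by
    nth_rw 1 [ha, hX.hat_root r]
    rw [sum_mul, sum_congr rfl fun t _ => single_mul_hat (X.x_mem_XS (Set.mem_singleton r) t), sum_const, card_univ,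
      ← Nat.card_eq_fintype_card, ← Nat.cast_smul_eq_nsmul k, hq, zero_smul]
  have e : a * hat k (X.XS {Φ.neg r} : Set Γ) * a = ∑ u : F, a * single (X.n r u) 1 * a := by
    rw [hX.hat_root (Φ.neg r), mul_sum, sum_mul, ← (neg_involutive.bijective.comp inv_involutive.bijective).sum_comp]
    refine sum_congr rfl fun u _ => ?_
    rw [Function.comp_apply, X.x_neg_eq, single_mul1, single_mul1, ← mul_assoc, ← mul_assoc, ha,
      hat_mul_single (X.x_mem_XS (Set.mem_singleton r) _), mul_assoc,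
      single_mul_hat (X.x_mem_XS (Set.mem_singleton r) _)]
  rw [e, mul_sum, ← Equiv.sum_comp (Equiv.mulLeft₀ c hc) fun u => a * single (X.n r u) (1 : k) * a]
  refine sum_congr rfl fun u _ => ?_
  by_cases hu : u = 0
  · simp [hu, PreSt.n, ← one_def, h0]
  rw [← mul_assoc, ← mul_assoc, hX.H_comm_hat _ (X.h_mem_H r hc), mul_assoc a, ← single_mul1, X.n_eq r u,
    ← mul_assoc, hM r c u hc hu, ← X.n_eq, Equiv.mulLeft₀_apply]

variable [Finite R]

theorem hat_U (i : I) : hat k (X.U : Set Γ) = hat k (X.XS {Φ.sim i} : Set Γ) * hat k (X.UJ {i} : Set Γ) := by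
  refine (hat_mul_hat_compl (X.XS_mono (by rintro _ rfl; exact Φ.pos_sim i)) (X.UJ_le_U _) (fun c hc => ?_)
    fun a ha ha' => hX.eq_one_of_UJ_XJ ha' (X.XS_mono (by rintro _ rfl; exact ⟨Φ.pos_sim i, Φ.inJ_sim.2 rfl⟩) ha)).symm
  obtain ⟨a, ha, b, hb, rfl⟩ := X.U_split {Φ.sim i} hc
  exact ⟨a, X.XS_mono (fun _ h => h.2) ha, b, X.UJ_singleton i ▸ hb, rfl⟩

theorem hat_UJ_comm {J : Set I} {K : Subgroup Γ} (h : K ≤ X.PJ J) :
    hat k (X.UJ J : Set Γ) * hat k (K : Set Γ) = hat k (K : Set Γ) * hat k (X.UJ J : Set Γ) :=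
  mul_comm_of_Fix_of_Supp (hat_mem_Fix_of_normalizer (hX.PJ_le_normalizer J)) (Supp_mono h (hat_mem_Supp K))

variable [Finite F] (hM : X.Mult) (hq : (Nat.card F : k) = 0)
include hM hq

theorem H_mul_y {h : Γ} (hh : h ∈ X.H) :
    single h (1 : k) * (hat k (X.U : Set Γ) * hat k (X.V : Set Γ) * hat k (X.U : Set Γ)) =
      hat k (X.U : Set Γ) * hat k (X.V : Set Γ) * hat k (X.U : Set Γ) := by
  rw [hX.H_eq_closure] at hh
  induction hh using Subgroup.closure_induction with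
  | one => rw [← one_def, one_mul]
  | mul a b _ _ ha hb => rw [single_mul1, mul_assoc, hb, ha]
  | inv a _ ha => nth_rw 1 [← ha]; rw [← mul_assoc, single_mul_single, inv_mul_cancel, one_mul, ← one_def, one_mul]
  | mem a ha =>
    obtain ⟨i, t, ht, rfl⟩ := ha
    have h1 : X.XS {Φ.sim i} ≤ X.PJ {i} := X.XS_le.2 fun r hr t =>
      hX.x_neg_mem_PJ (by rw [hr]; exact Φ.inJ_sim.2 (Set.mem_singleton i)) t
    have h2 : X.XS {Φ.sim i} ≤ X.opp.PJ {i} := X.XS_le.2 fun r hr t => by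
      have h : Φ.toRS.opp.InJ {i} r := by rw [RS.opp_inJ, hr]; exact Φ.inJ_sim.2 (Set.mem_singleton i)
      exact IsSt.x_neg_mem_PJ (X := X.opp) hX.opp (J := {i}) (r := r) h t
    have h3 : hat k (X.V : Set Γ) = hat k (X.XS {Φ.neg (Φ.sim i)} : Set Γ) * hat k (X.opp.UJ {i} : Set Γ) :=
      X.opp_U ▸ hX.opp.hat_U i
    have e : hat k (X.U : Set Γ) * hat k (X.V : Set Γ) * hat k (X.U : Set Γ) = hat k (X.UJ {i} : Set Γ) *
        (hat k (X.XS {Φ.sim i} : Set Γ) * hat k (X.XS {Φ.neg (Φ.sim i)} : Set Γ) * hat k (X.XS {Φ.sim i} : Set Γ)) *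
          (hat k (X.opp.UJ {i} : Set Γ) * hat k (X.UJ {i} : Set Γ)) := by
      nth_rw 1 [hX.hat_U i, ← hX.hat_UJ_comm h1]
      rw [h3, hX.hat_U i]
      simp only [mul_assoc]
      rw [← mul_assoc (hat k (X.opp.UJ {i} : Set Γ)), hX.opp.hat_UJ_comm h2, mul_assoc]
    rw [e, ← mul_assoc (single _ _), ← mul_assoc (single _ _), UJ, hX.H_comm_hat _ (X.h_mem_H _ ht), mul_assoc _ (single _ _),
      hX.sl2_hat hM hq _ ht]

omit hM in
theorem hat_n_hat {n : Γ} {w : Equiv.Perm R} (ha : X.Act n w) {i : I} (h : Φ.Pos (w (Φ.sim i))) :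
    hat k (X.U : Set Γ) * single n 1 * hat k (X.U : Set Γ) = 0 := by
  have := Fintype.ofFinite F
  nth_rw 2 [hX.hat_U i]
  obtain ⟨c, -, hc, -⟩ := ha (Φ.sim i)
  rw [← mul_assoc, hX.hat_root, mul_sum, sum_congr rfl fun t _ => show _ = hat k (X.U : Set Γ) * single n 1 by
    rw [mul_assoc, single_mul_single, ← mul_inv_eq_iff_eq_mul.1 (hc t) |>.symm, ← single_mul_single, ← mul_assoc,
      hat_mul_single (X.x_mem_U h _)], sum_const, card_univ, ← Nat.card_eq_fintype_card, ← Nat.cast_smul_eq_nsmul k, hq,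
    zero_smul, zero_mul]

omit hM in
theorem hat_g_hat (hG : X.G = ⊤) (g : Γ) : hat k (X.U : Set Γ) * single g 1 * hat k (X.U : Set Γ) ∈ Submodule.span k
    {z | ∃ n ∈ X.N, X.Act n (Φ.lg Set.univ) ∧ z = hat k (X.U : Set Γ) * single n 1 * hat k (X.U : Set Γ)} := by
  obtain ⟨w, hw, n, hn, ha, b, hb, b', hb', rfl⟩ := hX.exists_cell (g := g) (hG ▸ Subgroup.mem_top g)
  obtain ⟨u, hu, h, hh, rfl⟩ := hX.mem_B.1 hb
  obtain ⟨u', hu', h', hh', rfl⟩ := hX.mem_B.1 hb'
  have e : u * h * n * (u' * h') = u * (h * n * h') * (h'⁻¹ * u' * h'⁻¹⁻¹) := by group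
  rw [e, single_mul1, single_mul1 u, ← mul_assoc, ← mul_assoc,
    hat_mul_single hu, mul_assoc, single_mul_hat (hX.B_conj_mem_U (X.H_le_B (inv_mem hh')) hu')]
  have ha' : X.Act (h * n * h') w := by simpa using ((hX.act_H hh).mul ha).mul (hX.act_H hh')
  by_cases h0 : ∃ i, Φ.Pos (w (Φ.sim i))
  · obtain ⟨i, h0⟩ := h0
    rw [hX.hat_n_hat hq ha' h0]; exact zero_mem _
  · obtain rfl := Φ.eq_lg (J := Set.univ) hw fun j _ h => h0 ⟨j, h⟩
    exact Submodule.subset_span ⟨_, mul_mem (mul_mem (X.H_le_N hh) hn) (X.H_le_N hh'), ha', rfl⟩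

theorem hat_n_n {n n' : Γ} (hn : n ∈ X.N) (ha : X.Act n (Φ.lg Set.univ)) (hn' : n' ∈ X.N)
    (ha' : X.Act n' (Φ.lg Set.univ)) :
    hat k (X.U : Set Γ) * single n 1 * hat k (X.U : Set Γ) * (single n' 1 * hat k (X.U : Set Γ)) =
      hat k (X.U : Set Γ) * hat k (X.V : Set Γ) * hat k (X.U : Set Γ) := by
  have h : n * n' ∈ X.H := hX.mem_H_of_act_one (mul_mem hn hn') (Φ.lg_mul_lg _ ▸ ha.mul ha')
  have e : single n (1 : k) * hat k (X.U : Set Γ) = hat k (X.V : Set Γ) * single n 1 :=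
    single_mul_hat_comm fun x => ⟨fun hx => by
      simpa [U] using ha.inv.conj_mem (S' := {r | Φ.Pos r}) (fun r hr => by rw [Φ.lg_inv]; exact (Φ.lg_univ r).2 hr) hx,
      fun hx => by simpa [mul_assoc, V] using ha.conj_mem (S' := {r | ¬ Φ.Pos r}) (fun r hr h => (Φ.lg_univ r).1 h hr) hx⟩
  rw [mul_assoc _ (single n 1), e, ← hX.H_mul_y hM hq h, ← mul_assoc (single _ _), ← mul_assoc (single _ _), U,
    hX.H_comm_hat _ h, mul_assoc _ (single (n * n') 1), V, hX.H_comm_hat _ h, single_mul1]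
  simp only [mul_assoc]

theorem idem_mul_hat (hG : X.G = ⊤) {e : k[Γ]} (he : e ∈ Fix k ⊤) (hee : e * e = e)
    (h : ∀ x, e.coeff x ≠ 0 → X.U ⊓ Subgroup.centralizer {x} = ⊥) : e * hat k (X.U : Set Γ) ∈
      Submodule.span k {hat k (X.U : Set Γ) * hat k (X.V : Set Γ) * hat k (X.U : Set Γ)} := by
  have := Fintype.ofFinite X.U
  have h1 : e * hat k (X.U : Set Γ) ∈ Submodule.span k {z | ∃ n ∈ X.N, X.Act n (Φ.lg Set.univ) ∧
      z = hat k (X.U : Set Γ) * single n 1 * hat k (X.U : Set Γ)} := by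
    refine Fix_induction (Fix_anti (le_top (a := X.U)) he) (P := fun a => a * hat k (X.U : Set Γ) ∈ _)
      (by simp) (fun b c hb hc => by rw [add_mul]; exact add_mem hb hc) fun x hx => ?_
    rw [smul_mul_assoc]
    refine Submodule.smul_mem _ _ ?_
    have h2 := card_smul_Tr (T := ⊥) (H := X.U) (a := single x (1 : k)) bot_le (fun _ h => by
      rw [Subgroup.mem_bot.1 h, cjA_one])
    rw [Subgroup.card_bot, one_smul] at h2
    rw [← Tr_single, ← Tr_inf, h x hx, h2, sum_mul]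
    convert hX.hat_g_hat hq hG x using 1
    nth_rw 2 [hat_eq_sum]
    rw [sum_mul, sum_mul]
    exact sum_congr rfl fun u _ => by rw [cjA_eq, mul_assoc, single_mul_hat (inv_mem u.2)]
  rw [← hee, mul_assoc e]
  generalize hS : Submodule.span k {hat k (X.U : Set Γ) * hat k (X.V : Set Γ) * hat k (X.U : Set Γ)} = S
  refine Submodule.span_induction (p := fun z _ => e * z ∈ S) ?_ (by simp)
    (fun b c _ _ hb hc => by rw [mul_add]; exact add_mem hb hc)
    (fun c b _ hb => by rw [mul_smul_comm]; exact Submodule.smul_mem _ _ hb) h1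
  rintro _ ⟨n', hn', ha', rfl⟩
  rw [mul_assoc, ← mul_assoc e]
  refine Submodule.span_induction (p := fun z _ => z * (single n' 1 * hat k (X.U : Set Γ)) ∈ S) ?_ (by simp)
    (fun b c _ _ hb hc => by rw [add_mul]; exact add_mem hb hc)
    (fun c b _ hb => by rw [smul_mul_assoc]; exact Submodule.smul_mem _ _ hb) h1
  rintro _ ⟨n, hn, ha, rfl⟩
  rw [hX.hat_n_n hM hq hn ha hn' ha', ← hS]
  exact Submodule.mem_span_singleton_self _

omit hq [Finite Γ] in
theorem U_pgroup (hG : X.G = ⊤) (p : ℕ) [Fact p.Prime] [CharP F p] : IsPGroup p X.U := by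
  obtain ⟨P, hP⟩ := hX.exists_sylow hM hG p
  exact hP ▸ P.isPGroup'

omit hq in
/-- uniqueness of the block of defect zero -/
theorem dz_unique (hG : X.G = ⊤) (p : ℕ) [Fact p.Prime] [CharP F p] [CharP k p] {e f : k[Γ]}
    (he : IsPrim (Zc k ⊤ ⊤) e) (hf : IsPrim (Zc k ⊤ ⊤) f) (h1 : IsDef p ⊤ e ⊥) (h2 : IsDef p ⊤ f ⊥) : e = f := by
  have := Fintype.ofFinite X.U
  have := Fintype.ofFinite F
  have hq : (Nat.card F : k) = 0 := by
    obtain ⟨n, -, hn⟩ := FiniteField.card F p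
    rw [Nat.card_eq_fintype_card, hn, Nat.cast_pow, CharP.cast_eq_zero, zero_pow n.ne_zero]
  have hU := hX.U_pgroup hM hG p
  have key {e : k[Γ]} (he : IsPrim (Zc k ⊤ ⊤) e) (h1 : IsDef p ⊤ e ⊥) : e * hat k (X.U : Set Γ) ≠ 0 ∧ ∃ c : k,
      c • (hat k (X.U : Set Γ) * hat k (X.V : Set Γ) * hat k (X.U : Set Γ)) = e * hat k (X.U : Set Γ) := by
    refine ⟨hat_eq_sum (R := k) X.U ▸ mul_hat_ne_zero_aux hU le_top he.mem he.idem he.ne_zero,
      Submodule.mem_span_singleton.1 (hX.idem_mul_hat hM hq hG he.mem.2 he.idem fun x hx => ?_)⟩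
    obtain ⟨n, -, hn⟩ := h1.max _ le_top (hU.to_inf_left (K := Subgroup.centralizer {x}))
      (Br_ne_zero_iff.2 ⟨x, hx, inf_le_right⟩)
    exact cj_eq_bot_iff.1 (le_bot_iff.1 hn)
  obtain ⟨a, c, hc⟩ := key he h1
  obtain ⟨b, d, hd⟩ := key hf h2
  refine he.eq_of_mul_ne_zero (isComm_Z ⊤) hf fun h => a ?_
  have h3 := congrArg (e * ·) hd
  simp only [← mul_assoc e f, h, zero_mul, mul_smul_comm] at h3
  rw [← he.idem, mul_assoc, ← hc, mul_smul_comm, (smul_eq_zero.1 h3).resolve_left (by rintro rfl; exact b (by simp [← hd])),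
    smul_zero]

end IsSt

end PreSt

namespace Chev

namespace Good

open Cfsg.Lie PreSt

variable {D : ChevalleyDatum} (g : Good D) {F : Type*} [Field F] [Finite F] (p : ℕ) [Fact p.Prime] [CharP F p]
  {M : Ideal AlgInt} [hM : M.IsMaximal] [CharP (Res M) p] [Finite (D.group F)]

theorem eq_principal (hc : Conn g.T) {B : Set (IrrCharacter (D.group F))} (hB : IsPBlock M B) {Q : Subgroup (D.group F)}
    (hQ : IsDef p ⊤ (bId M B) Q) (hne : Q ≠ ⊥) : B = principalBlock M _ := by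
  have hE := isPrim_bId hB
  obtain ⟨y, J, hJ, h1, h2⟩ := g.borel_tits p hQ.pgroup hne
  obtain ⟨i, hi⟩ := (Set.ne_univ_iff_exists_notMem _).1 hJ
  replace hQ := hQ.cj hE.mem.2 (Subgroup.mem_top y⁻¹)
  have hN : ⊤ ⊓ Subgroup.normalizer (cj y⁻¹ Q : Set (D.group F)) ≤ (g.adjG F).PJ J := fun z hz => by
    have := h2 (y * z * y⁻¹) fun u hu => by
      simpa [mem_cj, mul_assoc] using (Subgroup.mem_normalizer_iff.1 hz.2 _).1 (conj_mem_cj y⁻¹ hu)
    simpa [mul_assoc] using this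
  obtain ⟨E, h3, h4⟩ := exists_ind_of_centralizer_le hQ.pgroup (le_inf le_top Subgroup.le_normalizer)
    (le_inf le_top (inf_le_right.trans (Subgroup.centralizer_le_normalizer _))) hN (hE.isPrim_Br' hQ)
    hQ.isDef_Br.ne_zero
  obtain ⟨b, hb, rfl⟩ := exists_block_of_isPrim_S h3
  refine (third_main p ((isInducedBlock_iff' hb hB).2 (Ind.of_trans hN le_top h4 (hQ.ind_Br hE)))).1 ?_
  have hU := ((g.isStG F).U_pgroup (g.multG F) (g.adjG_G F) p).to_le ((g.adjG F).UJ_le_U J)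
  have : (((g.adjG F).UJ J).subgroupOf ((g.adjG F).PJ J)).Normal :=
    Subgroup.normal_subgroupOf_of_le_normalizer ((g.isStG F).PJ_le_normalizer J)
  have key {b : Set (IrrCharacter ((g.adjG F).PJ J))} (hb : IsPBlock M b) : bId M b = 1 := by
    refine block_unique_of_constrained (Q := ((g.adjG F).UJ J).subgroupOf ((g.adjG F).PJ J)) hU.comap_subtype
      (fun x hx h => ?_) hb
    have h5 := (g.isStG F).cent_UJ (g.multG F) (fun h _ e => g.eq_one_of_comm e) hc.sound hi x.2 fun u hu =>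
      (congrArg Subtype.val (hx ⟨u, (g.adjG F).B_le_PJ J ((g.adjG F).U_le_B ((g.adjG F).UJ_le_U J hu))⟩ hu)).symm
    obtain ⟨m, hm⟩ := IsPGroup.iff_orderOf.1 hU ⟨x, h5⟩
    rw [Subgroup.orderOf_mk, Subgroup.orderOf_coe] at hm
    rcases m with _ | m
    · simpa using hm
    · exact absurd (hm ▸ dvd_pow_self p m.succ_ne_zero) h
  exact bId_injective hb isPBlock_principal ((key hb).trans (key isPBlock_principal).symm)

omit g [Finite F] [CharP F p] in
theorem isDef_bot {G : Type*} [Group G] [Finite G] {χ : IrrCharacter G} (h : (Nat.card G).factorization p ≤ nu p χ.1) :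
    blockOf M χ.1 = {χ} ∧ IsDef p ⊤ (bId M (blockOf M χ.1)) ⊥ := by
  have e : blockOf M χ.1 = {χ} := by
    refine blockOf_eq_singleton (eChi_mem_SG ?_)
    rw [← coe_charDegree χ.2.isChar]
    exact (natCast_div_mem_Loc_iff (charDegree_pos χ.2).ne' Nat.card_pos.ne').2 h
  obtain ⟨Q, hQ⟩ := (isPrim_bId (isPBlock_blockOf (M := M) χ)).exists_isDef p le_rfl le_normalizer_top
  have h1 := card_isDef (isPBlock_blockOf χ) hQ
  obtain ⟨ψ, h2, h3⟩ := exists_nu_eq_minNu (p := p) ⟨χ, mem_blockOf_self (M := M) χ⟩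
  rw [e] at h2
  rw [blockDefect_eq, ← h3, h2, Nat.sub_eq_zero_of_le h, pow_zero, Subgroup.card_eq_one] at h1
  exact ⟨e, h1 ▸ hQ⟩

theorem St_dz : (Nat.card (D.group F)).factorization p ≤ nu p (g.adjG F).St := by
  obtain ⟨P, hP⟩ := (g.isStG F).exists_sylow (g.multG F) (g.adjG_G F) p
  rw [nu, charDegree_eq ((g.isStG F).St_one (g.adjG_G F)), ← hP, P.card_eq_multiplicity,
    (Fact.out : p.Prime).factorization_pow, Finsupp.single_eq_same]

theorem eq_St {B : Set (IrrCharacter (D.group F))} (hB : IsPBlock M B) (hQ : IsDef p ⊤ (bId M B) ⊥) :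
    B = {⟨_, (g.isStG F).irr_St (g.adjG_G F)⟩} := by
  obtain ⟨h1, h2⟩ := isDef_bot (M := M) p (χ := ⟨_, (g.isStG F).irr_St (g.adjG_G F)⟩) (g.St_dz p)
  rw [← h1]
  exact bId_injective hB (isPBlock_blockOf _) ((g.isStG F).dz_unique (g.multG F) (g.adjG_G F) p (isPrim_bId hB)
    (isPrim_bId (isPBlock_blockOf _)) hQ h2)

include p in
theorem card_blocks (hc : Conn g.T) (h0 : D.nroots / 2 ≠ 0) :
    Nat.card {B : Set (IrrCharacter (D.group F)) // IsPBlock M B} = 2 := by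
  obtain ⟨h1, -⟩ := isDef_bot (M := M) p (χ := ⟨_, (g.isStG F).irr_St (g.adjG_G F)⟩) (g.St_dz p)
  refine Nat.card_eq_two_iff.2 ⟨⟨_, isPBlock_principal⟩, ⟨_, h1 ▸ isPBlock_blockOf _⟩, fun h => ?_,
    Set.eq_univ_of_forall fun ⟨B, hB⟩ => ?_⟩
  · have h3 := one_mem_principal (M := M) (G := D.group F)
    rw [Subtype.mk.inj h] at h3
    have h2 := congrFun (Subtype.mk.inj h3) 1
    simp only [(g.isStG F).St_one (g.adjG_G F), g.card_UG] at h2
    exact (Nat.one_lt_pow h0 Finite.one_lt_card).ne (by exact_mod_cast h2)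
  · obtain ⟨Q, hQ⟩ := (isPrim_bId hB).exists_isDef p le_rfl le_normalizer_top
    by_cases h : Q = ⊥
    · exact Or.inr (Subtype.ext (g.eq_St p hB (h ▸ hQ)))
    · exact Or.inl (Subtype.ext (g.eq_principal p hc hB hQ h))

end Good

end Chev

end CfsgH6
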