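import Cfsg.Agent.H6.Syl1

/-! Homocyclic Sylow subgroups of Chevalley groups. -/

set_option autoImplicit false

universe u

namespace CfsgH6

open Finset PreSt Cfsg.Lie
open Matrix hiding zpow_mul zpow_add zpow_neg one_zpow zpow_sub inv_zpow

namespace Chev

/-- certificate for a `Φ_d`-torus -/
structure SyC where
  d : ℕ
  l : List ℕ
  S : List ℕ
  N : ℕ
  M : List (List ℤ)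
  B : List (List ℤ)
  V : List (List (List ℤ))

/-- validity of a certificate -/
def SyC.Ok (c : SyC) (T : FT) (n W a : ℕ) : Prop :=
  (∀ x ∈ c.l, x < n) ∧ (∀ e ∈ c.S, 0 < e ∧ e < c.d) ∧ c.N ∣ W ^ 3 ∧
  (∀ i j : Fin n, T.co (actL T c.l (T.sim i)) j = gl c.M i j) ∧
  (∀ j : Fin a, ∀ k < c.d, ∀ s : Fin n,
    ∑ i : Fin n, gl (c.V.getD j []) k i * gl c.M i s = gl (c.V.getD j []) ((k + 1) % c.d) s) ∧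
  ∀ i j : Fin a, ∀ x ∈ pred c.d 4 (pmulS c.S ((List.range c.d).map fun k =>
    ∑ s : Fin n, gl (c.V.getD j []) k s * gl c.B i s - if k = 0 ∧ i = j then (c.N : ℤ) else 0)), x = 0

instance (c : SyC) (T : FT) (n W a : ℕ) : Decidable (c.Ok T n W a) := inferInstanceAs (Decidable (_ ∧ _))

theorem Good.sylow {D : ChevalleyDatum} (g : Good D)
    (hD : D ∈ [chevG2, chevB2, chevD4, chevF4, chevE6, chevE7, chevE8]) (L : List ℕ) (cs : List SyC)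
    (h : 2 ∣ L.prod ∧ (∀ e ∈ L, ∀ d ≤ e, d ∣ e → d ∈ cs.map (·.d)) ∧
      ∀ c ∈ cs, c.Ok g.T D.rank L.prod (L.filter (c.d ∣ ·)).length)
    {F : Type u} [Field F] [Fintype F] {q : ℕ} (hq : Fintype.card F = q) {n N : ℕ}
    (hn : Nat.card ((g.isSt F).hh (g.mult F)).ker = n) (hnL : n ∣ L.prod)
    (hG : n * Nat.card (D.group F) = q ^ N * (L.map (q ^ · - 1)).prod)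
    (r : ℕ) [hr : Fact r.Prime] (hrq : ¬ r ∣ q) (hrW : ¬ r ∣ L.prod) (hrG : r ∣ Nat.card (D.group F))
    (P : Sylow r (D.group F)) :
    Nonempty (P ≃* (Fin (L.filter (fun e => orderOf (q : ZMod r) ∣ e)).length →
      Multiplicative (ZMod (r ^ padicValNat r ((Polynomial.cyclotomic (orderOf (q : ZMod r)) ℤ).eval (q : ℤ)).natAbs)))) := by
  obtain ⟨h2, hc, h⟩ := h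
  have hq1 : 1 < q := hq ▸ Fintype.one_lt_card
  obtain ⟨h3, h4⟩ := padic_prod hq1 hrq (by rintro rfl; exact hrW h2) L hrW
  have hrn : ¬ r ∣ n := fun h => hrW (h.trans hnL)
  have h5 := congrArg (padicValNat r) hG
  have hG0 : Nat.card (D.group F) ≠ 0 := Nat.card_pos.ne'
  rw [padicValNat.mul (fun h => hrn (by simp [h])) hG0, padicValNat.mul (by positivity) h4, h3,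
    padicValNat.eq_zero_of_not_dvd hrn, padicValNat.eq_zero_of_not_dvd (n := q ^ N)
      fun h => hrq (hr.out.dvd_of_dvd_pow h), zero_add, zero_add] at h5
  rw [← padic_cyclotomic hq1 hrq]
  set d := orderOf (q : ZMod r) with hd
  set m := r ^ padicValNat r (q ^ d - 1) with hm
  obtain ⟨e, he⟩ := List.exists_mem_of_length_pos (l := L.filter (d ∣ ·)) (Nat.pos_of_ne_zero fun h0 => by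
    have := one_le_padicValNat_of_dvd hG0 hrG
    rw [h5, h0] at this
    omega)
  simp only [List.mem_filter, decide_eq_true_eq] at he
  have he0 : 0 < e := Nat.pos_of_ne_zero fun h0 => hrW ((h0 ▸ dvd_zero r).trans (List.dvd_prod he.1))
  obtain ⟨c, hc, hcd⟩ := List.mem_map.1 (hc e he.1 d (Nat.le_of_dvd he0 he.2) he.2)
  have := h c hc
  rw [SyC.Ok, hcd] at this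
  obtain ⟨k1, k2, k3, k4, k5, k6⟩ := this
  obtain ⟨p, _⟩ := CharP.exists F
  haveI : Fact p.Prime := ⟨CharP.char_is_prime F p⟩
  obtain ⟨k, -, hk⟩ := FiniteField.card F p
  have hm0 : NeZero m := ⟨pow_ne_zero _ hr.out.ne_zero⟩
  have hm1 : NeZero (m : AlgebraicClosure F) := ⟨fun h0 => hrq (by
    rw [CharP.cast_eq_zero_iff _ p] at h0
    rw [← (Nat.prime_dvd_prime_iff_eq Fact.out hr.out).1 ((Fact.out : p.Prime).dvd_of_dvd_pow h0), ← hq, hk]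
    exact dvd_pow_self p k.2.ne')⟩
  obtain ⟨ζ, hζ⟩ := HasEnoughRootsOfUnity.exists_primitiveRoot (AlgebraicClosure F) m
  have hζ' := hζ.isUnit_unit (NeZero.ne m)
  have hmd : (m : ℤ) ∣ (q : ℤ) ^ d - 1 := by
    rw [← cast_pow_sub_one hq1.le]
    exact Int.natCast_dvd_natCast.2 pow_padicValNat_dvd
  set l : List (Fin D.rank) := c.l.pmap Fin.mk k1 with hl
  have hM : g.wM l id = of fun i j : Fin D.rank => gl c.M i j := by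
    ext i j
    simpa [wM, hl, List.map_pmap] using k4 i j
  have hB : ∀ i j : Fin (L.filter (d ∣ ·)).length, (m : ℤ) ∣ ∑ k ∈ range d, ((fun s : Fin D.rank =>
      gl (c.V.getD j []) k s) ⬝ᵥ fun s => gl c.B i s) * (q : ℤ) ^ k - if i = j then (c.N : ℤ) else 0 := fun i j => by
    have h7 := pev_pred d 4 (pmulS c.S ((List.range d).map fun k =>
      ∑ s : Fin D.rank, gl (c.V.getD j []) k s * gl c.B i s - if k = 0 ∧ i = j then (c.N : ℤ) else 0)) q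
    rw [pev_eq_zero (k6 i j), sub_zero, pev_pmulS, pev_range] at h7
    have h8 : IsCoprime (m : ℤ) (c.S.map ((q : ℤ) ^ · - 1)).prod := by
      refine List.prod_induction _ (fun _ _ => IsCoprime.mul_right) isCoprime_one_right fun x hx => ?_
      obtain ⟨e, he, rfl⟩ := List.mem_map.1 hx
      rw [← cast_pow_sub_one hq1.le, Nat.isCoprime_iff_coprime]
      exact Nat.Coprime.pow_left _ ((Nat.Prime.coprime_iff_not_dvd hr.out).2 fun h =>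
        Nat.not_dvd_of_pos_of_lt (k2 e he).1 (k2 e he).2 ((dvd_pow_sub_one_iff (by omega) e).1 h))
    refine (h8.dvd_of_dvd_mul_left (hmd.trans h7)).trans (dvd_of_eq ?_)
    have : 0 < d := Nat.pos_of_dvd_of_pos he.2 he0
    simp [sub_mul, dotProduct, ite_and, this]
  obtain ⟨φ, hφ, hφ'⟩ := exists_torus_hom (g.wM l id) q (fun j k s => gl (c.V.getD j []) k s)
    (fun i s => gl c.B i s) (fun j k hk => funext fun s => by rw [hM]; exact k5 j k hk s) hmd (N := c.N)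
    (Nat.Coprime.pow_right _ (((Nat.Prime.coprime_iff_not_dvd hr.out).2 fun h =>
      hrW (hr.out.dvd_of_dvd_pow (h.trans k3))).symm)) hB
    ((Subgroup.subtype _).comp (AddEquiv.toMultiplicativeLeft hζ'.zmodEquivZPowers).toMonoidHom)
    (Subtype.val_injective.comp (MulEquiv.injective _)) fun x => by
      simpa using pow_card_eq_one' (x := x)
  obtain ⟨θ, -, -, hθ⟩ := g.rz_fr hD F k.2 hk (((g.fam hD).X _).nw (g.cd.EW.wp l))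
  refine Sylow.equiv_of_card P (θ.comp ((((g.fam hD).hh _).comp φ).codRestrict _ fun x => ?_))
    ((injective_iff_map_eq_one _).2 fun x hx => ?_) (by simp [h5, hm, pow_mul])
  · rw [Fam.SE.mem_TF, MonoidHom.comp_apply, (Fam.isGr_fr k.2).tor]
    refine congrArg _ (Eq.trans ?_ (hφ' x))
    congr 2; ext i j; rw [Matrix.of_apply, wM_eq]; simp [← hq, hk]; exact .inl rfl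
  · have := congrArg (fun y : θ.ker => y.1.1) (pow_card_eq_one' (x := (⟨_, hx⟩ : θ.ker)))
    refine (pow_eq_one_iff_of_coprime (Nat.Coprime.pow_right (padicValNat r (q ^ d - 1))
      ((Nat.Prime.coprime_iff_not_dvd hr.out).2 hrn).symm)).1 ⟨hφ ((g.fam hD).inj _ ?_), funext fun i => by
        simpa using pow_card_eq_one' (x := x i)⟩
    rw [hθ, hn] at this
    simpa using this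

def syG2 : List SyC := [⟨1, [], [], 1, [[1, 0], [0, 1]], [[1, 0], [0, 1]], [[[1, 0]], [[0, 1]]]⟩,
  ⟨2, [1, 0, 1, 0, 1, 0], [1], 2, [[-1, 0], [0, -1]], [[1, 0], [0, 1]], [[[1, 0], [-1, 0]], [[0, 1], [0, -1]]]⟩,
  ⟨3, [0, 1, 0, 1], [1], 3, [[1, 3], [-1, -2]], [[0, 1]], [[[1, 2], [-1, -1], [0, -1]]]⟩,
  ⟨6, [0, 1], [3, 2], 6, [[2, 3], [-1, -1]], [[0, 1]], [[[1, 2], [0, 1], [-1, -1], [-1, -2], [0, -1], [1, 1]]]⟩]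
def syB2 : List SyC := [⟨1, [], [], 1, [[1, 0], [0, 1]], [[1, 0], [0, 1]], [[[1, 0]], [[0, 1]]]⟩,
  ⟨2, [1, 0, 1, 0], [1], 2, [[-1, 0], [0, -1]], [[0, 1], [1, 0]], [[[0, 1], [0, -1]], [[1, 0], [-1, 0]]]⟩,
  ⟨4, [1, 0], [2], 2, [[-1, -2], [1, 1]], [[-1, 1]], [[[0, 1], [1, 1], [0, -1], [-1, -1]]]⟩]
def syD4 : List SyC := [⟨1, [], [], 1, [[1, 0, 0, 0], [0, 1, 0, 0], [0, 0, 1, 0], [0, 0, 0, 1]], [[0, 0, 1, 0], [0, 0, 0, 1], [0, 1, 0, 0], [1, 0, 0, 0]], [[[0, 0, 1, 0]], [[0, 0, 0, 1]], [[0, 1, 0, 0]], [[1, 0, 0, 0]]]⟩,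
  ⟨2, [3, 1, 2, 0, 1, 3, 0, 1, 2, 0, 1, 0], [1], 2, [[-1, 0, 0, 0], [0, -1, 0, 0], [0, 0, -1, 0], [0, 0, 0, -1]], [[0, 0, 1, 0], [0, 0, 0, 1], [1, 0, 0, 0], [0, 1, 0, 0]], [[[0, 0, 1, 0], [0, 0, -1, 0]], [[0, 0, 0, 1], [0, 0, 0, -1]], [[1, 0, 0, 0], [-1, 0, 0, 0]], [[0, 1, 0, 0], [0, -1, 0, 0]]]⟩,
  ⟨3, [1, 0], [1], 1, [[-1, -1, 0, 0], [1, 0, 0, 0], [0, 1, 1, 0], [0, 1, 0, 1]], [[0, 1, 0, 0]], [[[0, 0, -1, 0], [0, -1, -1, 0], [-1, -1, -1, 0]]]⟩,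
  ⟨4, [0, 1, 3, 1, 2, 1], [2], 2, [[1, 2, 1, 1], [-1, -1, -1, 0], [0, 0, 0, -1], [0, 0, 1, 0]], [[-1, 0, 1, 0], [1, -1, 0, 0]], [[[0, 0, 1, 0], [0, 0, 0, -1], [0, 0, -1, 0], [0, 0, 0, 1]], [[0, -1, 0, 0], [1, 1, 1, 0], [0, 1, 0, 0], [-1, -1, -1, 0]]]⟩,
  ⟨6, [2, 1, 3, 0], [3, 2], 2, [[-1, -1, -1, 0], [1, 1, 1, 1], [0, 1, 0, 0], [0, -1, -1, -1]], [[0, 0, 1, 0]], [[[0, 1, 0, 0], [1, 1, 1, 1], [0, 0, -1, 0], [0, -1, 0, 0], [-1, -1, -1, -1], [0, 0, 1, 0]]]⟩]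
def syF4 : List SyC := [⟨1, [], [], 1, [[1, 0, 0, 0], [0, 1, 0, 0], [0, 0, 1, 0], [0, 0, 0, 1]], [[0, 1, 0, 0], [1, 0, 0, 0], [0, 0, 0, 1], [0, 0, 1, 0]], [[[0, 1, 0, 0]], [[1, 0, 0, 0]], [[0, 0, 0, 1]], [[0, 0, 1, 0]]]⟩,
  ⟨2, [3, 2, 1, 2, 0, 1, 2, 3, 2, 1, 2, 0, 1, 2, 3, 2, 1, 2, 0, 1, 2, 0, 1, 0], [1], 2, [[-1, 0, 0, 0], [0, -1, 0, 0], [0, 0, -1, 0], [0, 0, 0, -1]], [[1, 0, 0, 0], [0, 1, 0, 0], [0, 0, 0, 1], [0, 0, 1, 0]], [[[1, 0, 0, 0], [-1, 0, 0, 0]], [[0, 1, 0, 0], [0, -1, 0, 0]], [[0, 0, 0, 1], [0, 0, 0, -1]], [[0, 0, 1, 0], [0, 0, -1, 0]]]⟩,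
  ⟨3, [0, 1, 2, 3, 2, 1, 2, 0, 1, 2, 3, 1, 2, 0, 1, 2], [1], 3, [[0, 1, 2, 2], [1, 1, 2, 0], [-1, -2, -3, -1], [0, 1, 1, 0]], [[0, 1, 0, -1], [1, 0, -1, 1]], [[[1, 1, 0, -1], [1, 1, 3, 2], [-2, -2, -3, -1]], [[1, 0, -1, 0], [1, 3, 5, 3], [-2, -3, -4, -3]]]⟩,
  ⟨4, [3, 1, 2, 0, 1, 2, 3, 2, 0, 1, 2, 0], [2], 2, [[-1, -2, -2, 0], [2, 3, 4, 2], [-1, -2, -3, -2], [0, 1, 2, 1]], [[1, 0, -1, 0], [1, -1, 0, 0]], [[[0, 0, -1, -1], [1, 1, 1, 1], [0, 0, 1, 1], [-1, -1, -1, -1]], [[0, -1, 0, 1], [-2, -2, -2, -1], [0, 1, 0, -1], [2, 2, 2, 1]]]⟩,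
  ⟨6, [0, 1, 2, 3, 2, 0, 1, 2], [3, 2], 6, [[1, 1, 2, 2], [1, 2, 2, 0], [-1, -2, -2, -1], [0, 1, 1, 1]], [[0, 1, 0, 0], [1, 0, 1, 0]], [[[-1, 2, 1, 0], [0, 1, 0, -3], [1, -1, -1, -3], [1, -2, -1, 0], [0, -1, 0, 3], [-1, 1, 1, 3]], [[1, 0, 1, 1], [0, 0, 1, 2], [-1, 0, 0, 1], [-1, 0, -1, -1], [0, 0, -1, -2], [1, 0, 0, -1]]]⟩,
  ⟨8, [3, 1, 2, 0, 1, 2], [4], 2, [[0, 1, 2, 2], [1, 0, 0, 0], [-1, -1, -1, -1], [1, 2, 2, 1]], [[0, -1, 1, 0]], [[[0, 0, 1, 1], [0, 1, 1, 0], [0, -1, -1, -1], [-1, -1, -1, 0], [0, 0, -1, -1], [0, -1, -1, 0], [0, 1, 1, 1], [1, 1, 1, 0]]]⟩,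
  ⟨12, [1, 2, 3, 0], [6, 4], 6, [[-1, -1, 0, 0], [1, 2, 2, 0], [0, 0, 0, 1], [0, -1, -1, -1]], [[0, 1, 1, -1]], [[[0, 0, 1, -1], [0, 1, 1, 2], [1, 0, 0, -1], [-1, 0, 1, 1], [1, 0, -1, 0], [-1, -1, 0, -1], [0, 0, -1, 1], [0, -1, -1, -2], [-1, 0, 0, 1], [1, 0, -1, -1], [-1, 0, 1, 0], [1, 1, 0, 1]]]⟩]
def syE6 : List SyC := [⟨1, [], [], 1, [[1, 0, 0, 0, 0, 0], [0, 1, 0, 0, 0, 0], [0, 0, 1, 0, 0, 0], [0, 0, 0, 1, 0, 0], [0, 0, 0, 0, 1, 0], [0, 0, 0, 0, 0, 1]], [[1, 0, 0, 0, 0, 0], [0, 0, 1, 0, 0, 0], [0, 0, 0, 0, 0, 1], [0, 1, 0, 0, 0, 0], [0, 0, 0, 0, 1, 0], [0, 0, 0, 1, 0, 0]], [[[1, 0, 0, 0, 0, 0]], [[0, 0, 1, 0, 0, 0]], [[0, 0, 0, 0, 0, 1]], [[0, 1, 0, 0, 0, 0]], [[0, 0, 0, 0, 1, 0]], [[0, 0, 0, 1, 0, 0]]]⟩,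
  ⟨2, [4, 3, 2, 1, 3, 4, 3, 2, 1, 3, 2, 1], [1], 2, [[1, 1, 2, 2, 1, 0], [0, -1, 0, 0, 0, 0], [0, 0, -1, 0, 0, 0], [0, 0, 0, -1, 0, 0], [0, 0, 0, 0, -1, 0], [0, 1, 1, 2, 2, 1]], [[0, 0, 0, 1, 0, 0], [0, 0, 1, 0, 0, 0], [0, 0, 0, 0, 1, 0], [0, 1, 0, 0, 0, 0]], [[[0, 0, 0, 1, 0, 0], [0, 0, 0, -1, 0, 0]], [[0, 0, 1, 0, 0, 0], [0, 0, -1, 0, 0, 0]], [[0, 0, 0, 0, 1, 0], [0, 0, 0, 0, -1, 0]], [[0, 1, 0, 0, 0, 0], [0, -1, 0, 0, 0, 0]]]⟩,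
  ⟨3, [4, 5, 1, 3, 4, 2, 3, 0, 2, 1, 3, 4, 5, 3, 2, 1, 3, 4, 2, 3, 0, 2, 1, 3], [1], 3, [[0, 1, 1, 1, 0, 0], [0, 0, 1, 1, 1, 1], [0, 0, 0, 1, 1, 0], [-1, -1, -2, -3, -2, -1], [1, 1, 1, 2, 1, 1], [0, -1, 0, -1, -1, -1]], [[0, 1, 0, 0, 0, 0], [0, 0, 1, 0, 0, 0], [0, 0, 0, 0, 1, 0]], [[[0, 2, 0, 1, 0, 0], [-1, -1, 0, -1, 0, 1], [1, -1, 0, 0, 0, -1]], [[1, 0, 2, 1, 0, 0], [-1, 0, -1, 0, 0, -1], [0, 0, -1, -1, 0, 1]], [[0, 0, 0, 1, 2, 1], [1, 0, 0, 0, -1, 0], [-1, 0, 0, -1, -1, -1]]]⟩,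
  ⟨4, [2, 1, 3, 4, 2, 3], [2], 2, [[1, 1, 1, 1, 0, 0], [0, 1, 1, 2, 1, 0], [0, 0, 0, 0, 1, 0], [0, -1, 0, -1, -1, 0], [0, 0, -1, 0, 0, 0], [0, 1, 1, 1, 1, 1]], [[0, 0, 0, 1, 0, 1], [0, 0, 0, 1, -1, 0]], [[[0, 0, 0, 0, 0, -1], [0, -1, -1, -1, -1, -1], [0, -1, -1, -2, -2, -1], [0, 0, 0, -1, -1, -1]], [[0, 0, 0, 0, -1, 0], [0, 0, 1, 0, 0, 0], [0, 0, 0, 0, 1, 0], [0, 0, -1, 0, 0, 0]]]⟩,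
  ⟨5, [3, 0, 2, 1], [1], 1, [[0, 0, 1, 1, 0, 0], [0, -1, 0, -1, 0, 0], [-1, 0, -1, -1, 0, 0], [1, 1, 1, 1, 0, 0], [0, 0, 0, 1, 1, 0], [0, 0, 0, 0, 0, 1]], [[-1, -1, 0, 1, 0, 0]], [[[0, 0, 0, 1, 1, 0], [1, 1, 1, 2, 1, 0], [1, 1, 2, 2, 1, 0], [0, 1, 1, 1, 1, 0], [0, 0, 0, 0, 1, 0]]]⟩,
  ⟨6, [0, 2, 1, 3, 4, 5, 3, 4, 0, 2, 1, 3], [3, 2], 6, [[0, 1, 0, 1, 1, 0], [0, 1, 1, 1, 1, 1], [1, 0, 1, 1, 1, 1], [-1, -1, -2, -2, -2, -1], [1, 1, 2, 2, 1, 0], [-1, -1, -1, -1, 0, 0]], [[0, 0, 0, 1, 0, 0], [0, 1, 0, 0, 0, 0]], [[[0, 0, 1, 2, 2, 0], [1, 0, 1, 1, -1, -1], [0, 0, -2, -1, -1, 0], [-2, 0, -2, -2, -1, -1], [0, 0, 1, -1, -1, 0], [1, 0, 1, 1, 2, 2]], [[0, 2, 0, 0, -1, 0], [-1, 1, 0, 0, 1, 2], [-1, -1, 1, 0, 1, 1], [1, -2, 1, 0,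 0, 0], [1, -1, -1, 0, 0, -1], [0, 1, -1, 0, -1, -2]]]⟩,
  ⟨8, [5, 2, 1, 3, 4], [4], 2, [[1, 0, 1, 0, 0, 0], [0, 0, 1, 1, 0, 0], [0, 1, 0, 1, 0, 0], [0, 0, 0, 0, 1, 1], [0, -1, -1, -1, -1, -1], [0, 1, 1, 1, 1, 0]], [[0, 0, -1, 1, 0, 0]], [[[0, 0, 0, 1, 0, 0], [0, 0, 0, 0, 1, 1], [0, 0, 0, 0, 0, -1], [0, -1, -1, -1, -1, 0], [0, 0, 0, -1, 0, 0], [0, 0, 0, 0, -1, -1], [0, 0, 0, 0, 0, 1], [0, 1, 1, 1, 1, 0]]]⟩,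
  ⟨9, [2, 1, 3, 4, 5, 1, 3, 0], [3], 3, [[-1, 0, -1, 0, 0, 0], [0, 0, 0, 0, 1, 0], [1, 1, 2, 2, 1, 0], [0, 0, -1, -1, -1, 0], [0, 0, 1, 1, 1, 1], [0, -1, -1, -1, -1, -1]], [[0, 0, 1, -1, -1, 1]], [[[0, -1, 0, -1, -1, 0], [0, 0, 0, 0, -1, -1], [0, 1, 0, 0, 0, 0], [0, 0, 0, 0, 1, 0], [0, 0, 1, 1, 1, 1], [1, 0, 1, 1, 0, 0], [0, 1, 0, 1, 0, 0], [0, 0, -1, -1, 0, 0], [-1, -1, -1, -1, 0, 0]]]⟩,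
  ⟨12, [4, 5, 0, 2, 1, 3], [6, 4], 6, [[0, 0, 1, 0, 0, 0], [1, 0, 1, 1, 1, 0], [0, 1, 0, 1, 1, 0], [-1, -1, -1, -1, -1, 0], [1, 1, 1, 1, 1, 1], [0, 0, 0, 0, -1, -1]], [[0, 1, 0, 0, 1, 0]], [[[0, 2, 0, 1, 0, 0], [1, -1, 1, 1, 1, 0], [-1, 1, 0, 0, 0, 1], [1, 0, 0, 1, 0, -1], [-1, -1, 0, -1, 0, 1], [0, 1, -1, 0, -1, -1], [0, -2, 0, -1, 0, 0], [-1, 1, -1, -1, -1, 0], [1, -1, 0, 0, 0, -1], [-1, 0, 0, -1, 0, 1], [1, 1, 0, 1, 0, -1], [0, -1, 1, 0, 1, 1]]]⟩]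
def syE7 : List SyC := [⟨1, [], [], 1, [[1, 0, 0, 0, 0, 0, 0], [0, 1, 0, 0, 0, 0, 0], [0, 0, 1, 0, 0, 0, 0], [0, 0, 0, 1, 0, 0, 0], [0, 0, 0, 0, 1, 0, 0], [0, 0, 0, 0, 0, 1, 0], [0, 0, 0, 0, 0, 0, 1]], [[0, 0, 0, 0, 0, 1, 0], [0, 0, 1, 0, 0, 0, 0], [1, 0, 0, 0, 0, 0, 0], [0, 0, 0, 1, 0, 0, 0], [0, 0, 0, 0, 1, 0, 0], [0, 0, 0, 0, 0, 0, 1], [0, 1, 0, 0, 0, 0, 0]], [[[0, 0, 0, 0, 0, 1, 0]], [[0, 0, 1, 0, 0, 0, 0]], [[1, 0, 0, 0, 0, 0, 0]], [[0, 0, 0, 1, 0, 0, 0]], [[0, 0, 0, 0, 1, 0, 0]], [[0, 0, 0, 0, 0, 0, 1]], [[0, 1, 0, 0, 0, 0, 0]]]⟩,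
  ⟨2, [6, 5, 4, 3, 2, 1, 3, 4, 5, 6, 0, 2, 3, 4, 5, 1, 3, 4, 2, 3, 0, 2, 1, 3, 4, 5, 6, 0, 2, 3, 4, 5, 1, 3, 4, 2, 3, 0, 2, 1, 3, 4, 5, 1, 3, 4, 2, 3, 0, 2, 1, 3, 4, 2, 3, 0, 2, 1, 3, 0, 2, 1, 0], [1], 2, [[-1, 0, 0, 0, 0, 0, 0], [0, -1, 0, 0, 0, 0, 0], [0, 0, -1, 0, 0, 0, 0], [0, 0, 0, -1, 0, 0, 0], [0, 0, 0, 0, -1, 0, 0], [0, 0, 0, 0, 0, -1, 0], [0, 0, 0, 0, 0, 0, -1]], [[0, 0, 1, 0, 0, 0, 0], [0, 0, 0, 0, 1, 0, 0], [1, 0, 0, 0, 0, 0, 0], [0, 1, 0, 0, 0, 0, 0], [0, 0, 0, 1, 0, 0, 0], [0, 0, 0, 0, 0, 1, 0], [0, 0, 0, 0, 0, 0, 1]], [[[0, 0, 1, 0, 0, 0, 0], [0, 0, -1, 0, 0, 0, 0]], [[0, 0, 0, 0, 1, 0, 0], [0, 0, 0, 0, -1, 0, 0]], [[1, 0, 0, 0, 0, 0, 0], [-1, 0, 0, 0, 0, 0, 0]], [[0, 1, 0, 0, 0, 0, 0], [0, -1, 0, 0, 0,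 0, 0]], [[0, 0, 0, 1, 0, 0, 0], [0, 0, 0, -1, 0, 0, 0]], [[0, 0, 0, 0, 0, 1, 0], [0, 0, 0, 0, 0, -1, 0]], [[0, 0, 0, 0, 0, 0, 1], [0, 0, 0, 0, 0, 0, -1]]]⟩,
  ⟨3, [4, 5, 1, 3, 4, 2, 3, 0, 2, 1, 3, 4, 5, 3, 2, 1, 3, 4, 3, 0, 2, 1, 3, 0], [1], 3, [[-1, -1, -1, -1, 0, 0, 0], [1, 0, 1, 1, 1, 1, 0], [1, 1, 1, 2, 1, 0, 0], [-1, -1, -2, -3, -2, -1, 0], [0, 1, 1, 2, 1, 1, 0], [0, -1, 0, -1, -1, -1, 0], [1, 2, 2, 3, 3, 2, 1]], [[0, 0, 0, 1, 0, 0, 0], [1, 0, 0, 0, 0, 0, 0], [0, 0, 0, 0, 0, 1, 0]], [[[0, 1, 1, 2, 1, 0, 0], [0, 0, -1, -1, -1, 0, 0], [0, -1, 0, -1, 0, 0, 0]], [[2, 0, 1, 0, 0, 0, 0], [-1, -1, -1, 0, 1, 0, 0], [-1, 1, 0, 0, -1, 0, 0]], [[0, 0, 0, 0, 1, 2, 0], [0, -1, 1, 0, -1, -1, 0], [0, 1, -1, 0, 0, -1, 0]]]⟩,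
  ⟨4, [1, 3, 4, 2, 3, 2], [2], 2, [[1, 1, 1, 1, 1, 0, 0], [0, 1, 1, 2, 1, 0, 0], [0, 0, 0, 0, -1, 0, 0], [0, -1, -1, -1, 0, 0, 0], [0, 0, 1, 0, 0, 0, 0], [0, 1, 0, 1, 1, 1, 0], [0, 0, 0, 0, 0, 0, 1]], [[0, 0, 0, 1, 0, 0, -1], [0, -1, 0, 0, 1, -1, 1]], [[[-1, 0, 0, 0, 0, 0, 0], [-1, -1, -1, -1, -1, 0, 0], [-1, -1, -2, -2, -1, 0, 0], [-1, 0, -1, -1, 0, 0, 0]], [[0, 0, 0, 0, 1, 0, 0], [0, 0, 1, 0, 0, 0, 0], [0, 0, 0, 0, -1, 0, 0], [0, 0, -1, 0, 0, 0, 0]]]⟩,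
  ⟨5, [3, 4, 0, 2], [1], 1, [[0, 0, 1, 1, 0, 0, 0], [0, 1, 0, 1, 0, 0, 0], [-1, 0, -1, -1, 0, 0, 0], [1, 0, 1, 1, 1, 0, 0], [0, 0, 0, -1, -1, 0, 0], [0, 0, 0, 1, 1, 1, 0], [0, 0, 0, 0, 0, 0, 1]], [[0, 0, 0, 0, 1, 0, 0]], [[[0, 0, 0, 0, 0, -1, 0], [0, 0, 0, -1, -1, -1, 0], [-1, 0, -1, -1, -1, -1, 0], [0, 0, -1, -1, -1, -1, 0], [0, 0, 0, 0, -1, -1, 0]]]⟩,
  ⟨6, [4, 2, 3, 0, 2, 1, 3, 4, 5, 6, 2, 3, 0, 2, 1, 3, 4, 5, 2, 1, 3], [3, 2], 6, [[1, 0, 1, 1, 0, 0, 0], [1, 1, 1, 1, 1, 1, 0], [0, 1, 1, 2, 2, 1, 0], [-1, -1, -1, -2, -2, -1, 0], [1, 1, 1, 2, 2, 1, 1], [-1, -2, -2, -3, -2, -1, -1], [0, 1, 0, 1, 0, 0, 0]], [[0, 0, 0, 0, 0, 0, 1], [0, 0, 1, 0, 0, 0, 0], [1, 0, 0, 0, 0, 0, 0]], [[[0, 0, 0, 0, 0, 0, 3], [0, 3, 0, 3, 0,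 0, 0], [0, 0, 0, -3, -3, 0, 0], [0, 0, 0, 0, 0, 0, -3], [0, -3, 0, -3, 0, 0, 0], [0, 0, 0, 3, 3, 0, 0]], [[0, 1, 2, 0, 0, 1, 1], [0, 2, 1, 3, 3, 2, -1], [0, -2, -1, -3, 0, 1, 1], [0, -1, -2, 0, 0, -1, -1], [0, -2, -1, -3, -3, -2, 1], [0, 2, 1, 3, 0, -1, -1]], [[2, -1, 0, 0, 1, 1, 0], [1, -2, 0, 0, -1, -1, 0], [-1, -1, 0, 0, -2, -2, 0], [-2, 1, 0, 0, -1, -1, 0], [-1, 2, 0, 0, 1, 1, 0], [1, 1, 0, 0, 2, 2, 0]]]⟩,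
  ⟨7, [4, 5, 6, 2, 3, 0], [1], 1, [[-1, 0, -1, 0, 0, 0, 0], [0, 1, 1, 1, 1, 0, 0], [1, 0, 1, 1, 1, 0, 0], [0, 0, -1, -1, -1, 0, 0], [0, 0, 1, 1, 1, 1, 0], [0, 0, 0, 0, 0, 0, 1], [0, 0, 0, 0, -1, -1, -1]], [[0, 0, 0, 0, 0, 1, 0]], [[[0, -1, -1, -2, -1, 0, 0], [-1, -1, -1, -1, -1, -1, 0], [0, -1, -1, -2, -2, -1, -1], [-1, -1, -2, -2, -1, -1, 0], [-1, -1, -1, -2, -2, -1, -1], [0, -1, -1, -2, -1, -1, 0], [-1, -1, -1, -1, -1, -1, -1]]]⟩,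
  ⟨8, [5, 1, 3, 4, 2], [4], 2, [[1, 1, 1, 1, 0, 0, 0], [0, 0, 0, 1, 0, 0, 0], [0, -1, -1, -1, 0, 0, 0], [0, 1, 1, 1, 1, 1, 0], [0, -1, 0, -1, -1, -1, 0], [0, 1, 0, 1, 1, 0, 0], [0, 0, 0, 0, 0, 1, 1]], [[0, 0, 0, 0, 0, 1, 0]], [[[0, 0, 0, 0, 0, 0, -1], [0, 0, 0, 0, 0, -1, -1], [0, -1, 0, -1, -1, -1, -1], [0, -1, -1, -2, -1, -1, -1], [0, -1, -1, -2, -2, -2, -1], [0, -1, -1, -2, -2, -1, -1], [0, 0, -1, -1, -1, -1, -1], [0, 0, 0, 0, -1, -1, -1]]]⟩,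
  ⟨9, [4, 5, 1, 3, 4, 0, 2, 3], [3], 3, [[0, 1, 1, 1, 1, 0, 0], [1, 1, 1, 2, 2, 1, 0], [0, 0, 0, 0, 0, 1, 0], [-1, -1, -1, -1, -1, -1, 0], [1, 0, 1, 0, 0, 0, 0], [0, 1, 0, 1, 0, 0, 0], [0, 0, 0, 0, 1, 1, 1]], [[1, 0, 0, 0, 0, -1, 0]], [[[1, 0, 0, -1, 0, -1, 0], [1, 1, 2, 1, 2, 1, 0], [2, 2, 3, 3, 2, 2, 0], [1, 3, 3, 5, 3, 2, 0], [1, 1, 2, 4, 2, 1, 0], [-1, -1, 0, 0, -1, -1, 0], [-2, -3, -3, -4, -3, -1, 0], [-2, -2, -4, -5, -4, -2, 0], [-1, -1, -3, -3, -1, -1, 0]]]⟩,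
  ⟨10, [3, 4, 5, 6, 2, 1], [5, 2], 2, [[1, 0, 1, 1, 0, 0, 0], [0, -1, 0, -1, 0, 0, 0], [0, 0, -1, -1, 0, 0, 0], [0, 1, 1, 2, 1, 0, 0], [0, 0, 0, 0, 0, 1, 0], [0, 0, 0, 0, 0, 0, 1], [0, 0, 0, -1, -1, -1, -1]], [[0, -1, 0, 1, 0, -1, 0]], [[[0, 0, 0, 0, 0, -1, 0], [0, 0, 0, 0, 0, 0, -1], [0, 0, 0, 1, 1, 1, 1], [0, 1, 1, 1, 0, 0, 0], [0, 0, 0, 0, 1, 0, 0], [0, 0, 0, 0, 0, 1, 0], [0, 0, 0, 0, 0, 0, 1], [0, 0, 0, -1, -1, -1, -1], [0, -1, -1, -1, 0, 0, 0], [0, 0, 0, 0, -1, 0, 0]]]⟩,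
  ⟨12, [4, 5, 0, 2, 1, 3], [6, 4], 6, [[0, 0, 1, 0, 0, 0, 0], [1, 0, 1, 1, 1, 0, 0], [0, 1, 0, 1, 1, 0, 0], [-1, -1, -1, -1, -1, 0, 0], [1, 1, 1, 1, 1, 1, 0], [0, 0, 0, 0, -1, -1, 0], [0, 0, 0, 0, 1, 1, 1]], [[0, 1, 0, 0, 0, 0, 0]], [[[0, 1, -1, 0, 0, 0, -1], [1, -1, 1, 0, -1, -1, -1], [-2, 0, -1, -1, -1, -1, -1], [0, -1, -2, -1, -1, -1, -1], [-1, -2, -1, -3, -3, -1, -1], [-2, -1, -3, -3, -3, -3, -1], [-1, -3, -3, -4, -2, -1, -1], [-1, -1, -2, -4, -4, -2, -1], [-1, -2, -2, -3, -2, -3, -1], [-1, -1, -2, -3, -1, 0, -1], [1, 0, 0, -1, -2, -2, -1], [-1, -1, 0, -1, 0, -1, -1]]]⟩,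
  ⟨14, [6, 3, 4, 5, 1, 3, 0, 2, 1], [7, 2], 2, [[0, 1, 1, 2, 1, 0, 0], [0, 0, 0, 0, -1, 0, 0], [-1, -1, -1, -2, -1, 0, 0], [1, 0, 1, 1, 1, 0, 0], [0, 1, 0, 1, 1, 1, 1], [0, 0, 0, -1, -1, -1, -1], [0, 0, 0, 1, 1, 1, 0]], [[0, -1, 0, 0, 1, -1, 1]], [[[0, 0, 0, 0, 0, 0, 1], [0, 0, 0, 1, 1, 1, 0], [1, 1, 1, 1, 1, 0, 0], [0, 1, 1, 2, 1, 1, 1], [1, 0, 1, 1, 1, 1, 0], [0, 1, 1, 1, 1, 0, 0], [0, 0, 0, 0, 0, 1, 1], [0, 0, 0, 0, 0, 0, -1], [0, 0, 0, -1, -1, -1, 0], [-1, -1, -1, -1, -1, 0, 0], [0, -1, -1, -2, -1, -1, -1], [-1, 0, -1, -1, -1, -1, 0], [0, -1, -1, -1, -1, 0, 0], [0, 0, 0, 0, 0, -1, -1]]]⟩,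
  ⟨18, [5, 6, 4, 1, 3, 0, 2], [9, 6], 6, [[0, 1, 1, 1, 1, 1, 0], [0, 0, 0, 1, 1, 1, 0], [-1, -1, -1, -1, -1, -1, 0], [1, 0, 1, 0, 0, 0, 0], [0, 1, 0, 1, 0, 0, 0], [0, 0, 0, 0, 1, 1, 1], [0, 0, 0, 0, 0, -1, -1]], [[0, 0, -1, 1, 0, 0, 0]], [[[0, 0, 0, 2, 2, 0, -1], [2, 2, 2, 2, 0, 1, 1], [0, 0, 2, 2, 3, 2, 0], [0, 1, 0, 1, 0, 0, 2], [1, 0, 1, 1, 1, -1, -2], [0, 1, 1, 1, -1, 1, 1], [0, -2, 0, -1, 1, 0, 0], [-1, 1, -1, -1, -2, -2, 0], [0, -2, -1, -1, -1, -1, -2], [0, 0, 0, -2, -2, 0, 1], [-2, -2, -2, -2, 0, -1, -1], [0, 0, -2, -2, -3, -2, 0], [0, -1, 0, -1, 0, 0, -2], [-1, 0, -1, -1, -1, 1, 2], [0, -1, -1, -1, 1, -1, -1], [0, 2, 0, 1, -1, 0, 0], [1, -1, 1, 1, 2, 2, 0], [0, 2, 1, 1, 1, 1, 2]]]⟩]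
def syE8 : List SyC := [⟨1, [], [], 1, [[1, 0, 0, 0, 0, 0, 0, 0], [0, 1, 0, 0, 0, 0, 0, 0], [0, 0, 1, 0, 0, 0, 0, 0], [0, 0, 0, 1, 0, 0, 0, 0], [0, 0, 0, 0, 1, 0, 0, 0], [0, 0, 0, 0, 0, 1, 0, 0], [0, 0, 0, 0, 0, 0, 1, 0], [0, 0, 0, 0, 0, 0, 0, 1]], [[0, 0, 0, 0, 0, 0, 0, 1], [0, 0, 0, 1, 0, 0, 0, 0], [0, 0, 0, 0, 1, 0, 0, 0], [0, 0, 0, 0, 0, 0, 1, 0], [0, 0, 0, 0, 0, 1, 0, 0], [0, 0, 1, 0, 0, 0, 0, 0], [0, 1, 0, 0, 0, 0, 0, 0], [1, 0, 0, 0, 0, 0, 0, 0]], [[[0, 0, 0, 0, 0, 0, 0, 1]], [[0, 0, 0, 1, 0, 0, 0, 0]], [[0, 0, 0, 0, 1, 0, 0, 0]], [[0, 0, 0, 0, 0, 0, 1, 0]], [[0, 0, 0, 0, 0, 1, 0, 0]], [[0, 0, 1, 0, 0, 0, 0, 0]], [[0, 1, 0, 0, 0, 0, 0, 0]], [[1, 0, 0, 0, 0, 0, 0, 0]]]⟩,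
  ⟨2, [7, 6, 5, 4, 3, 2, 1, 3, 4, 5, 6, 0, 2, 3, 4, 5, 1, 3, 4, 2, 3, 0, 2, 1, 3, 4, 5, 6, 7, 6, 5, 4, 3, 2, 1, 3, 4, 5, 6, 0, 2, 3, 4, 5, 1, 3, 4, 2, 3, 0, 2, 1, 3, 4, 5, 6, 7, 6, 5, 4, 3, 2, 1, 3, 4, 5, 6, 0, 2, 3, 4, 5, 1, 3, 4, 2, 3, 0, 2, 1, 3, 4, 5, 6, 0, 2, 3, 4, 5, 1, 3, 4, 2, 3, 0, 2, 1, 3, 4, 5, 1, 3, 4, 2, 3, 0, 2, 1, 3, 4, 2, 3, 0, 2, 1, 3, 0, 2, 1, 0], [1], 2, [[-1, 0, 0, 0, 0, 0, 0, 0], [0, -1, 0, 0, 0, 0, 0, 0], [0, 0, -1, 0, 0, 0, 0, 0], [0, 0, 0, -1, 0, 0, 0, 0], [0, 0, 0, 0, -1, 0, 0, 0], [0, 0, 0, 0, 0, -1, 0, 0], [0, 0, 0, 0, 0, 0, -1, 0], [0, 0, 0, 0, 0, 0, 0, -1]], [[0, 0, 0, 0, 0, 0, 1, 0], [0, 1, 0, 0, 0, 0, 0, 0], [0, 0, 0, 0, 0, 0, 0, 1], [0, 0, 0, 0, 0, 1, 0, 0], [0, 0, 0, 1, 0, 0, 0, 0],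 [0, 0, 1, 0, 0, 0, 0, 0], [0, 0, 0, 0, 1, 0, 0, 0], [1, 0, 0, 0, 0, 0, 0, 0]], [[[0, 0, 0, 0, 0, 0, 1, 0], [0, 0, 0, 0, 0, 0, -1, 0]], [[0, 1, 0, 0, 0, 0, 0, 0], [0, -1, 0, 0, 0, 0, 0, 0]], [[0, 0, 0, 0, 0, 0, 0, 1], [0, 0, 0, 0, 0, 0, 0, -1]], [[0, 0, 0, 0, 0, 1, 0, 0], [0, 0, 0, 0, 0, -1, 0, 0]], [[0, 0, 0, 1, 0, 0, 0, 0], [0, 0, 0, -1, 0, 0, 0, 0]], [[0, 0, 1, 0, 0, 0, 0, 0], [0, 0, -1, 0, 0, 0, 0, 0]], [[0, 0, 0, 0, 1, 0, 0, 0], [0, 0, 0, 0, -1, 0, 0, 0]], [[1, 0, 0, 0, 0, 0, 0, 0], [-1, 0, 0, 0, 0, 0, 0, 0]]]⟩,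
  ⟨3, [3, 2, 1, 3, 4, 5, 6, 7, 6, 5, 4, 3, 2, 1, 3, 4, 5, 6, 0, 2, 3, 4, 5, 1, 3, 4, 2, 3, 0, 2, 1, 3, 4, 5, 6, 7, 2, 3, 4, 5, 6, 0, 2, 3, 4, 5, 1, 3, 4, 2, 3, 0, 2, 1, 3, 4, 5, 6, 4, 2, 3, 0, 2, 1, 3, 4, 5, 4, 2, 3, 0, 2, 1, 3, 4, 3, 0, 2, 1, 0], [1], 3, [[-1, -1, -1, -2, -2, -1, -1, -1], [-1, -2, -2, -3, -2, -1, 0, 0], [-1, -1, -2, -2, -1, -1, -1, 0], [2, 3, 4, 5, 4, 3, 2, 1], [-1, -2, -3, -4, -4, -3, -2, -1], [0, 1, 1, 2, 2, 1, 1, 0], [0, -1, 0, -1, -1, -1, -1, 0], [1, 1, 1, 2, 2, 2, 1, 0]], [[0, 1, 0, 0, 0, 0, 0, 0], [0, 0, 1, 0, 0, 0, 0, 0], [1, 0, 0, 0, 0, 0, 0, 0], [0, 0, 0, 0, 1, 0, 0, 0]], [[[0, 2, 0, 1, 0, 0, 0, 0], [0, -1, 0, -1, 0, 1, 2, 1], [0, -1, 0, 0, 0, -1, -2, -1]], [[0, 0, 2, 1, 0, -1, 0, 0], [0,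 0, -1, -1, 0, 0, -1, 1], [0, 0, -1, 0, 0, 1, 1, -1]], [[2, 0, 0, 0, 0, 1, 0, 1], [-1, 0, 0, 0, 0, 1, 0, -2], [-1, 0, 0, 0, 0, -2, 0, 1]], [[0, 0, 0, 1, 2, 2, 1, 0], [0, 0, 0, 0, -1, -2, -1, -1], [0, 0, 0, -1, -1, 0, 0, 1]]]⟩,
  ⟨4, [6, 7, 5, 6, 4, 5, 1, 3, 4, 2, 3, 0, 2, 1, 3, 4, 5, 6, 7, 5, 6, 3, 4, 5, 1, 3, 4, 2, 3, 0, 2, 1, 3, 4, 5, 6, 4, 5, 1, 3, 4, 2, 3, 0, 2, 1, 3, 4, 5, 4, 3, 0, 2, 1, 3, 4, 0, 2, 1, 3], [2], 2, [[0, 0, 0, 0, 0, 1, 0, 0], [1, 2, 2, 4, 4, 3, 2, 1], [1, 2, 2, 3, 2, 1, 1, 0], [-2, -3, -4, -6, -5, -4, -3, -1], [1, 0, 1, 1, 1, 1, 1, 0], [-1, 0, 0, 0, 0, 0, 0, 0], [1, 1, 1, 2, 1, 1, 1, 1], [1, 1, 2, 2, 2, 1, 0, 0]], [[0, 1, 0, 0, 0, 0, 0, 0], [1, 0, 0, 0, 0, 0, 0, 0], [0, 0, 0, 1, 0, 0, 0, 0], [0, 0,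 1, 0, 0, 0, 0, 0]], [[[0, 1, 0, 0, 0, -1, -2, 0], [0, 0, 0, 0, 2, 1, 0, -1], [0, -1, 0, 0, 0, 1, 2, 0], [0, 0, 0, 0, -2, -1, 0, 1]], [[1, 0, 0, 0, 0, 0, 0, 0], [0, 0, 0, 0, 0, 1, 0, 0], [-1, 0, 0, 0, 0, 0, 0, 0], [0, 0, 0, 0, 0, -1, 0, 0]], [[0, 0, 0, 1, 0, 1, 2, 1], [0, 0, 0, 0, -1, -1, -1, 1], [0, 0, 0, -1, 0, -1, -2, -1], [0, 0, 0, 0, 1, 1, 1, -1]], [[0, 0, 1, 0, 1, 0, -1, -1], [0, 0, 0, 0, 0, 0, 1, -1], [0, 0, -1, 0, -1, 0, 1, 1], [0, 0, 0, 0, 0, 0, -1, 1]]]⟩,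
  ⟨5, [7, 6, 5, 3, 4, 2, 3, 0, 2, 1, 3, 4, 5, 6, 7, 5, 6, 4, 5, 3, 4, 2, 3, 0, 2, 1, 3, 4, 5, 6, 3, 2, 1, 3, 4, 5, 4, 3, 0, 2, 1, 3, 4, 3, 0, 2, 1, 0], [1], 5, [[-1, -1, -2, -2, -1, -1, 0, 0], [-1, -2, -2, -3, -2, -2, -2, -1], [0, -1, -1, -2, -2, -1, -1, -1], [2, 3, 4, 6, 5, 4, 3, 2], [-2, -2, -3, -5, -4, -3, -2, -1], [1, 1, 2, 3, 2, 1, 1, 0], [0, 0, -1, -1, -1, -1, -1, 0], [0, 1, 1, 2, 2, 2, 1, 0]], [[0, 0, 1, 0, 1, 0, 0, 0], [0, 1, 0, -1, 0, 1, -1, 0]], [[[2, -1, 2, 1, 2, 1, -1, 2], [-2, 0, -1, -1, 0, 2, 3, -1], [2, 1, 1, 1, -2, -4, -4, -1], [-1, -3, -2, -3, 1, 3, 3, 2], [-1, 3, 0, 2, -1, -2, -1, -2]], [[-1, 0, 0, -1, 0, 0, -3, 0], [-1, -2, 1, -1, -1, 0, 0, -2], [3, 1, 2, 1, -2, -1, 0, 0], [1, -1, -2, 0, 2, 2, 2,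 1], [-2, 2, -1, 1, 1, -1, 1, 1]]]⟩,
  ⟨6, [3, 2, 1, 3, 4, 5, 6, 7, 6, 4, 5, 3, 4, 2, 3, 0, 2, 1, 3, 4, 5, 6, 0, 2, 1, 3, 4, 5, 4, 3, 0, 2, 1, 3, 4, 3, 0, 2, 1, 0], [3, 2], 6, [[0, -1, -1, -2, -2, -1, -1, -1], [-1, -1, -2, -3, -2, -1, 0, 0], [-1, -1, -1, -2, -1, -1, -1, 0], [2, 3, 4, 6, 4, 3, 2, 1], [-1, -2, -3, -4, -3, -3, -2, -1], [0, 1, 1, 2, 2, 2, 1, 0], [0, -1, 0, -1, -1, -1, 0, 0], [1, 1, 1, 2, 2, 2, 1, 1]], [[0, 0, 0, 0, 1, 0, 0, 0], [0, 1, 0, 0, 0, 0, 0, 0], [0, 0, 1, 0, 0, 0, 0, 0], [1, 0, 0, 0, 0, 0, 0, 0]], [[[0, 0, 0, 1, 2, 2, 1, 0], [0, 0, 0, 1, 1, 0, 0, -1], [0, 0, 0, 0, -1, -2, -1, -1], [0, 0, 0, -1, -2, -2, -1, 0], [0, 0, 0, -1, -1, 0, 0, 1], [0, 0, 0, 0, 1, 2, 1, 1]], [[0, 2, 0, 1, 0, 0, 0, 0], [0, 1,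 0, 0, 0, 1, 2, 1], [0, -1, 0, -1, 0, 1, 2, 1], [0, -2, 0, -1, 0, 0, 0, 0], [0, -1, 0, 0, 0, -1, -2, -1], [0, 1, 0, 1, 0, -1, -2, -1]], [[0, 0, 2, 1, 0, -1, 0, 0], [0, 0, 1, 0, 0, -1, -1, 1], [0, 0, -1, -1, 0, 0, -1, 1], [0, 0, -2, -1, 0, 1, 0, 0], [0, 0, -1, 0, 0, 1, 1, -1], [0, 0, 1, 1, 0, 0, 1, -1]], [[2, 0, 0, 0, 0, 1, 0, 1], [1, 0, 0, 0, 0, 2, 0, -1], [-1, 0, 0, 0, 0, 1, 0, -2], [-2, 0, 0, 0, 0, -1, 0, -1], [-1, 0, 0, 0, 0, -2, 0, 1], [1, 0, 0, 0, 0, -1, 0, 2]]]⟩,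
  ⟨7, [4, 5, 6, 7, 3, 1], [1], 1, [[1, 0, 0, 0, 0, 0, 0, 0], [0, -1, 0, -1, -1, 0, 0, 0], [0, 0, 1, 1, 1, 0, 0, 0], [0, 1, 0, 0, 0, 0, 0, 0], [0, 0, 0, 1, 1, 1, 0, 0], [0, 0, 0, 0, 0, 0, 1, 0], [0, 0, 0, 0, 0, 0, 0, 1], [0, 0, 0, 0, -1, -1, -1, -1]], [[1, 0, -1, 1, 0, -1, 0, 1]], [[[0, 0, -1, -1, -1, -1, 0, 0], [0, -1, -1, -2, -2, -1, -1, 0], [0, -1, -1, -2, -2, -2, -1, -1], [0, -1, -1, -2, -1, -1, -1, 0], [0, -1, -1, -1, -1, -1, -1, -1], [0, 0, -1, -1, 0, 0, 0, 0], [0, -1, -1, -1, -1, 0, 0, 0]]]⟩,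
  ⟨8, [6, 7, 6, 5, 3, 4, 2, 3, 0, 2, 1, 3, 4, 5, 6, 4, 2, 3, 0, 2, 1, 3, 4, 5, 2, 3, 4, 0, 2, 1], [4], 2, [[0, 1, 1, 1, 0, 0, 0, 0], [-1, -1, -1, -1, -1, -1, -1, -1], [-1, -1, -2, -2, -1, 0, 0, 0], [2, 2, 3, 4, 3, 2, 2, 1], [-1, -1, -1, -2, -1, -1, -1, 0], [0, -1, -1, -2, -2, -1, -1, -1], [0, 1, 0, 1, 1, 0, 0, 0], [1, 1, 2, 3, 2, 2, 1, 1]], [[0, 0, 0, 0, 0, 1, 0, 0], [0, 0, 0, 0, 0, 0, 0, 1]], [[[0, 0, 0, 1, 1, 1, 1, 0], [1, 1, 1, 1, 1, 0, 0, 0], [-1, 0, 0, 0, 0, 0, 0, 0], [0, -1, -1, -1, 0, 0, 0, 0], [0, 0, 0, -1, -1, -1, -1, 0], [-1, -1, -1, -1, -1, 0, 0, 0], [1, 0, 0, 0, 0, 0, 0, 0], [0, 1, 1, 1, 0, 0, 0, 0]], [[0, 0, 0, -1, 0, 0, 0, 1], [-1, -1, -1, -1, -1, 0, -1, 0], [1, -1, 0, -1, -1, 0, 0, 0], [0, 1, 0, 0, -1,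 0, 0, 0], [0, 0, 0, 1, 0, 0, 0, -1], [1, 1, 1, 1, 1, 0, 1, 0], [-1, 1, 0, 1, 1, 0, 0, 0], [0, -1, 0, 0, 1, 0, 0, 0]]]⟩,
  ⟨9, [4, 5, 3, 0, 2, 1, 3, 2], [3], 3, [[0, 1, 1, 1, 1, 0, 0, 0], [1, 0, 1, 0, 0, 0, 0, 0], [0, -1, 0, 0, 0, 0, 0, 0], [-1, 0, -1, -1, -1, 0, 0, 0], [1, 1, 1, 2, 2, 1, 0, 0], [0, 0, 0, 0, -1, -1, 0, 0], [0, 0, 0, 0, 1, 1, 1, 0], [0, 0, 0, 0, 0, 0, 0, 1]], [[0, 0, 1, -1, 0, -1, 0, 0]], [[[0, 0, 0, 0, -1, -2, 0, 0], [-1, -1, -1, -2, 0, 1, 0, 0], [1, 0, 0, 1, 0, -1, 0, 0], [-1, 1, 0, 0, 1, 1, 0, 0], [2, 0, 1, 1, 0, 0, 0, 0], [-1, 1, 1, 1, 1, 0, 0, 0], [1, -1, 0, 0, 0, 1, 0, 0], [-1, 1, 0, 1, 0, -1, 0, 0], [0, -1, -1, -2, -1, 1, 0, 0]]]⟩,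
  ⟨10, [5, 6, 7, 3, 2, 1, 3, 4, 5, 6, 3, 4, 5, 4, 3, 0, 2, 1, 3, 4, 0, 2, 1, 0], [5, 2], 10, [[0, 0, -1, -1, -1, -1, 0, 0], [-1, -1, -1, -2, -1, -1, 0, 0], [0, -1, 0, -1, -1, -1, -1, -1], [1, 2, 2, 4, 3, 3, 2, 1], [-1, -1, -2, -3, -2, -2, -2, -1], [1, 1, 2, 2, 1, 1, 1, 1], [0, -1, -1, -1, 0, 0, 0, 0], [0, 1, 1, 2, 1, 0, 0, 0]], [[0, 0, 0, -1, -1, 0, -1, 0], [0, 1, -1, 0, -1, 0, 0, -1]], [[[1, 0, 1, -1, -1, 1, -2, 0], [1, 1, 3, 1, -2, -2, 0, 0], [0, -2, 0, 0, 0, 0, 1, -2], [2, -1, -1, -1, 0, 2, 0, 0], [2, 2, 1, 1, -1, -1, 1, 2], [-1, 0, -1, 1, 1, -1, 2, 0], [-1, -1, -3, -1, 2, 2, 0, 0], [0, 2, 0, 0, 0, 0, -1, 2], [-2, 1, 1, 1, 0, -2, 0, 0], [-2, -2, -1, -1, 1, 1, -1, -2]], [[-1, 0, -4, -1, 0, -1, 1, 0], [-2, 0, -4, -2,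 1, 1, 1, 2], [-2, 1, -1, 0, 1, -1, -1, 2], [-3, 1, 0, 1, 1, -1, -2, -1], [-2, 0, 1, 0, 1, 2, -1, -1], [1, 0, 4, 1, 0, 1, -1, 0], [2, 0, 4, 2, -1, -1, -1, -2], [2, -1, 1, 0, -1, 1, 1, -2], [3, -1, 0, -1, -1, 1, 2, 1], [2, 0, -1, 0, -1, -2, 1, 1]]]⟩,
  ⟨12, [4, 3, 2, 1, 3, 4, 5, 6, 7, 4, 5, 4, 2, 3, 0, 2, 1, 3, 0, 2], [6, 4], 6, [[0, 0, 1, 0, 0, 0, 0, 0], [1, 0, 1, 1, 1, 0, 0, 0], [0, 0, -1, -1, -1, -1, -1, 0], [-1, -1, -1, -1, -1, 0, 0, 0], [1, 2, 2, 3, 3, 2, 1, 0], [0, 0, 0, 0, -1, -1, 0, 0], [0, 0, 0, 0, 1, 1, 1, 1], [0, -1, -1, -2, -2, -1, -1, -1]], [[0, -1, 0, 1, 0, 0, 0, 0], [1, 0, 0, 0, 0, 1, 0, 0]], [[[0, 0, 1, 2, 1, 0, 0, 0], [-1, 0, -1, 0, 0, 1, 0, 0], [0, 0, 0, 1, 0, 0, 1, 0], [-1, -1, -1, -1, 0, 1, 1, 1],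 [0, 0, -1, -1, -1, 0, 1, 0], [0, -1, 0, -1, 0, 0, 1, 1], [0, 0, -1, -2, -1, 0, 0, 0], [1, 0, 1, 0, 0, -1, 0, 0], [0, 0, 0, -1, 0, 0, -1, 0], [1, 1, 1, 1, 0, -1, -1, -1], [0, 0, 1, 1, 1, 0, -1, 0], [0, 1, 0, 1, 0, 0, -1, -1]], [[1, -1, 0, -1, 0, 1, 0, -1], [0, 2, 2, 2, 1, 0, 1, 1], [1, -1, -1, -1, 0, 0, -1, 0], [0, 1, 2, 1, 0, 0, 0, -1], [0, 0, -1, 0, 0, -1, -1, 1], [0, -1, 0, -1, -1, 0, -1, -2], [-1, 1, 0, 1, 0, -1, 0, 1], [0, -2, -2, -2, -1, 0, -1, -1], [-1, 1, 1, 1, 0, 0, 1, 0], [0, -1, -2, -1, 0, 0, 0, 1], [0, 0, 1, 0, 0, 1, 1, -1], [0, 1, 0, 1, 1, 0, 1, 2]]]⟩,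
  ⟨14, [4, 5, 6, 3, 0, 2, 1, 3, 2], [7, 2], 2, [[0, 1, 1, 1, 1, 0, 0, 0], [1, 0, 1, 0, 0, 0, 0, 0], [0, -1, 0, 0, 0, 0, 0, 0], [-1, 0, -1, -1, -1, 0, 0, 0], [1, 1, 1, 2, 2, 1, 0, 0], [0, 0, 0, 0, 0, 0, 1, 0], [0, 0, 0, 0, -1, -1, -1, 0], [0, 0, 0, 0, 1, 1, 1, 1]], [[0, 1, -1, 0, 0, 0, 1, 1]], [[[0, 0, 0, 0, 0, 0, 0, -1], [0, 0, 0, 0, -1, -1, -1, -1], [-1, -1, -1, -2, -2, -1, -1, -1], [-1, -2, -2, -3, -3, -2, -1, -1], [-2, -2, -3, -4, -4, -3, -2, -1], [-2, -3, -4, -6, -5, -3, -2, -1], [-2, -3, -4, -6, -5, -4, -2, -1], [-2, -3, -4, -6, -5, -4, -3, -1], [-2, -3, -4, -6, -4, -3, -2, -1], [-1, -2, -3, -4, -3, -3, -2, -1], [-1, -1, -2, -3, -2, -2, -2, -1], [0, -1, -1, -2, -1, -1, -1, -1], [0, 0, 0, 0, 0, -1, -1, -1], [0,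 0, 0, 0, 0, 0, -1, -1]]]⟩,
  ⟨15, [7, 3, 4, 5, 6, 4, 5, 2, 1, 3, 4, 3, 0, 2, 1, 0], [5, 3], 15, [[0, -1, 0, -1, -1, -1, -1, -1], [0, 0, -1, -1, -1, -1, -1, -1], [-1, 0, -1, -1, 0, 0, 0, 0], [1, 1, 2, 3, 2, 2, 1, 1], [0, -1, -1, -2, -1, -1, 0, 0], [0, 1, 1, 2, 1, 0, 0, 0], [0, 0, 0, -1, -1, 0, 0, 0], [0, 0, 0, 1, 1, 1, 1, 0]], [[1, 0, 0, 0, 1, 0, 0, -1]], [[[2, -1, 0, 3, 2, 1, 0, -4], [3, 0, 6, 2, 0, -1, -2, 2], [-4, -2, -3, -1, 4, 3, 1, -1], [2, 2, 2, 2, 1, -1, 4, 5], [0, -2, -2, -3, -1, 4, 3, -2], [-1, 2, 3, 0, -4, -5, -3, -1], [-3, 0, -6, -4, 0, 2, -2, -1], [2, 1, 0, 2, -2, -6, -2, -1], [2, -4, -1, -4, -2, 2, -2, -1], [-3, -2, 1, 0, -1, -5, -3, -2], [-1, -1, -3, -3, 2, 4, 3, 5], [0, 0, 0, 2, 0, -1, 4, -1], [2, 1,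 3, -1, -2, 3, 1, 2], [-4, 2, -1, 2, 1, -1, -2, -4], [3, 4, 1, 3, 2, 1, 0, 4]]]⟩,
  ⟨18, [6, 4, 5, 1, 3, 2, 0], [9, 6], 6, [[-1, -1, -1, -1, -1, 0, 0, 0], [0, 0, 0, 1, 1, 0, 0, 0], [1, 0, 0, 0, 0, 0, 0, 0], [0, 0, 1, 0, 0, 0, 0, 0], [0, 1, 0, 1, 1, 1, 1, 0], [0, 0, 0, 0, -1, -1, -1, 0], [0, 0, 0, 0, 1, 1, 0, 0], [0, 0, 0, 0, 0, 0, 1, 1]], [[1, 0, 0, 0, 0, 0, 0, 0]], [[[1, 0, 0, -1, -1, -1, 0, -1], [-1, -2, -2, -2, -1, 0, -1, -1], [-1, 0, -1, -2, -3, -2, -2, -1], [0, -2, -1, -2, -2, -3, -2, -1], [-1, -2, -2, -4, -3, -1, 0, -1], [-1, -2, -3, -4, -3, -2, -3, -1], [-2, -2, -3, -4, -5, -4, -2, -1], [-1, -3, -2, -5, -3, -3, -2, -1], [-1, -2, -4, -5, -4, -2, -1, -1], [-3, -3, -4, -5, -4, -3, -3, -1], [-1, -1, -2, -4, -4, -4,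 -2, -1], [-1, -3, -3, -4, -2, -2, -1, -1], [-2, -1, -3, -4, -3, -1, -1, -1], [-1, -1, -2, -2, -2, -3, -3, -1], [-1, -1, -1, -2, -2, -2, 0, -1], [0, -1, -1, -2, 0, 0, -1, -1], [-1, 0, -2, -1, -2, -1, -1, -1], [-1, -1, 0, -1, -1, -2, -2, -1]]]⟩,
  ⟨20, [7, 4, 5, 6, 0, 2, 3, 4, 3, 2, 1, 3], [10, 4], 10, [[0, 0, 1, 1, 1, 1, 0, 0], [0, 0, 0, 1, 1, 0, 0, 0], [1, 1, 1, 1, 1, 0, 0, 0], [-1, -1, -1, -2, -2, -1, 0, 0], [0, 1, 0, 1, 1, 1, 0, 0], [1, 0, 1, 1, 1, 1, 1, 1], [0, 0, 0, 0, -1, -1, -1, -1], [0, 0, 0, 0, 1, 1, 1, 0]], [[-1, 0, 1, 0, 0, 1, 0, 0]], [[[-1, 1, 1, 3, 2, 2, 0, 1], [0, 0, -1, -1, 0, 1, 3, 2], [1, 0, 1, 2, 1, 1, 0, -2], [0, 0, 1, 0, -2, -1, -1, 1], [0, -1, 0, -2, 0, -1, 1, 0], [1, 2, 1, 2, 1, 0, -2, -2], [-1,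 0, 0, 1, 1, 0, 0, 2], [-1, 0, -2, -2, 0, 1, 2, 0], [1, 0, 0, 2, 0, 0, -1, -1], [-2, -2, -1, -3, -3, -1, 0, 1], [1, -1, -1, -3, -2, -2, 0, -1], [0, 0, 1, 1, 0, -1, -3, -2], [-1, 0, -1, -2, -1, -1, 0, 2], [0, 0, -1, 0, 2, 1, 1, -1], [0, 1, 0, 2, 0, 1, -1, 0], [-1, -2, -1, -2, -1, 0, 2, 2], [1, 0, 0, -1, -1, 0, 0, -2], [1, 0, 2, 2, 0, -1, -2, 0], [-1, 0, 0, -2, 0, 0, 1, 1], [2, 2, 1, 3, 3, 1, 0, -1]]]⟩,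
  ⟨24, [7, 5, 6, 0, 2, 3, 4, 2, 3, 1], [12, 8], 6, [[0, 0, 1, 1, 0, 0, 0, 0], [-1, -1, -1, -2, -1, -1, 0, 0], [0, 0, 0, 0, 1, 1, 0, 0], [1, 1, 1, 1, 0, 0, 0, 0], [-1, 0, -1, 0, 0, 0, 0, 0], [1, 0, 1, 1, 1, 1, 1, 1], [0, 0, 0, 0, 0, -1, -1, -1], [0, 0, 0, 0, 0, 1, 1, 0]], [[0, 0, -1, 1, -1, 0, 0, 0]], [[[-1, 0, -1, 0, -1, 0, 0, 0], [1, 0, 0, -1, -1, -1, 0, 0], [-1, -1, 0, -1, -1, -1, -1, -1], [0, 0, -1, -1, 0, 0, -1, 0], [-1, -1, -1, -1, -1, 0, 1, 1], [1, 0, 0, 0, 0, 0, 0, -1], [0, 0, 1, 1, 0, -1, -1, 0], [0, 1, 0, 0, 0, 1, 0, 0], [0, -1, 0, -1, 0, 0, 1, 1], [0, 0, 0, 1, 1, 1, 0, -1], [1, 1, 1, 2, 1, 0, 0, 1], [0, 1, 1, 1, 0, 1, 1, 0], [1, 0, 1, 0, 1, 0, 0, 0], [-1, 0, 0, 1, 1, 1, 0, 0], [1, 1, 0, 1, 1, 1, 1, 1], [0,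 0, 1, 1, 0, 0, 1, 0], [1, 1, 1, 1, 1, 0, -1, -1], [-1, 0, 0, 0, 0, 0, 0, 1], [0, 0, -1, -1, 0, 1, 1, 0], [0, -1, 0, 0, 0, -1, 0, 0], [0, 1, 0, 1, 0, 0, -1, -1], [0, 0, 0, -1, -1, -1, 0, 1], [-1, -1, -1, -2, -1, 0, 0, -1], [0, -1, -1, -1, 0, -1, -1, 0]]]⟩,
  ⟨30, [7, 6, 5, 2, 3, 4, 1, 0], [15, 10, 6], 30, [[-1, 0, -1, 0, 0, 0, 0, 0], [0, -1, -1, -1, 0, 0, 0, 0], [1, 0, 1, 1, 0, 0, 0, 0], [0, 1, 1, 1, 1, 1, 1, 1], [0, 0, -1, -1, -1, -1, -1, -1], [0, 0, 1, 1, 1, 0, 0, 0], [0, 0, 0, 0, 0, 1, 0, 0], [0, 0, 0, 0, 0, 0, 1, 0]], [[-1, 0, 1, 1, -1, 0, 1, 0]], [[[-2, 4, 0, 3, 2, 1, 5, 4], [2, -1, 0, -2, 2, 6, 5, 1], [-2, -1, 1, 3, 2, 1, -3, -4], [3, 4, 6, 4, 2, -2, -3, 1], [3, 0, -1, 2, 0, -1, 3, 2], [-4, 2, -3, 0, 1, 5, 4, 2],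 [1, -2, 3, -1, 4, 3, 1, -1], [2, 1, 2, 3, -2, -4, -6, -5], [0, 2, 0, 2, 1, -1, 0, 5], [0, 0, -2, -2, 0, 1, 6, 1], [-2, -2, -3, -3, -1, 4, -1, -2], [-1, -1, 3, 1, 2, -3, -4, -2], [4, 2, 1, 0, -4, -5, -3, -1], [-3, -2, -6, -2, -1, 1, 3, 4], [-3, 0, -1, -4, 0, 2, 3, -1], [2, -4, 0, -3, -2, -1, -5, -4], [-2, 1, 0, 2, -2, -6, -5, -1], [2, 1, -1, -3, -2, -1, 3, 4], [-3, -4, -6, -4, -2, 2, 3, -1], [-3, 0, 1, -2, 0, 1, -3, -2], [4, -2, 3, 0, -1, -5, -4, -2], [-1, 2, -3, 1, -4, -3, -1, 1], [-2, -1, -2, -3, 2, 4, 6, 5], [0, -2, 0, -2, -1, 1, 0, -5], [0, 0, 2, 2, 0, -1, -6, -1], [2, 2, 3, 3, 1, -4, 1, 2], [1, 1, -3, -1, -2, 3, 4, 2], [-4, -2, -1, 0, 4, 5, 3, 1], [3, 2, 6, 2, 1, -1, -3, -4], [3, 0, 1, 4, 0, -2, -3, 1]]]⟩]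

theorem okG2 : 2 ∣ [2, 6].prod ∧ (∀ e ∈ [2, 6], ∀ d ≤ e, d ∣ e → d ∈ syG2.map (·.d)) ∧
    ∀ c ∈ syG2, c.Ok gG2.T chevG2.rank [2, 6].prod ([2, 6].filter (c.d ∣ ·)).length := by decide +kernel
theorem okB2 : 2 ∣ [2, 4].prod ∧ (∀ e ∈ [2, 4], ∀ d ≤ e, d ∣ e → d ∈ syB2.map (·.d)) ∧
    ∀ c ∈ syB2, c.Ok gB2.T chevB2.rank [2, 4].prod ([2, 4].filter (c.d ∣ ·)).length := by decide +kernel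
theorem okD4 : 2 ∣ [2, 4, 4, 6].prod ∧ (∀ e ∈ [2, 4, 4, 6], ∀ d ≤ e, d ∣ e → d ∈ syD4.map (·.d)) ∧
    ∀ c ∈ syD4, c.Ok gD4.T chevD4.rank [2, 4, 4, 6].prod ([2, 4, 4, 6].filter (c.d ∣ ·)).length := by decide +kernel
theorem okF4 : 2 ∣ [2, 6, 8, 12].prod ∧ (∀ e ∈ [2, 6, 8, 12], ∀ d ≤ e, d ∣ e → d ∈ syF4.map (·.d)) ∧
    ∀ c ∈ syF4, c.Ok gF4.T chevF4.rank [2, 6, 8, 12].prod ([2, 6, 8, 12].filter (c.d ∣ ·)).length := by decide +kernel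
theorem okE6 : 2 ∣ [2, 5, 6, 8, 9, 12].prod ∧ (∀ e ∈ [2, 5, 6, 8, 9, 12], ∀ d ≤ e, d ∣ e → d ∈ syE6.map (·.d)) ∧
    ∀ c ∈ syE6, c.Ok gE6.T chevE6.rank [2, 5, 6, 8, 9, 12].prod ([2, 5, 6, 8, 9, 12].filter (c.d ∣ ·)).length := by
  decide +kernel
theorem okE7 : 2 ∣ [2, 6, 8, 10, 12, 14, 18].prod ∧
    (∀ e ∈ [2, 6, 8, 10, 12, 14, 18], ∀ d ≤ e, d ∣ e → d ∈ syE7.map (·.d)) ∧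
    ∀ c ∈ syE7, c.Ok gE7.T chevE7.rank [2, 6, 8, 10, 12, 14, 18].prod
      ([2, 6, 8, 10, 12, 14, 18].filter (c.d ∣ ·)).length := by decide +kernel
theorem okE8 : 2 ∣ [2, 8, 12, 14, 18, 20, 24, 30].prod ∧
    (∀ e ∈ [2, 8, 12, 14, 18, 20, 24, 30], ∀ d ≤ e, d ∣ e → d ∈ syE8.map (·.d)) ∧
    ∀ c ∈ syE8, c.Ok gE8.T chevE8.rank [2, 8, 12, 14, 18, 20, 24, 30].prod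
      ([2, 8, 12, 14, 18, 20, 24, 30].filter (c.d ∣ ·)).length := by decide +kernel

end Chev

end CfsgH6
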