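import Cfsg.Agent.H6.Lg12

/-! Weakly closed unipotent subgroups. -/

set_option autoImplicit false

universe u

namespace CfsgH6

open Finset PreSt Cfsg.Lie

theorem mem_of_prod_mem {Γ ι R : Type*} [Group Γ] {K : Subgroup Γ} {L : List ι} {ρ : ι → R} (g : ι → Γ)
    (hnd : (L.map ρ).Nodup) {c : ι} (hc : c ∈ L) (h : ∀ d ∈ L, ρ d ≠ ρ c → g d ∈ K) (hp : (L.map g).prod ∈ K) :
    g c ∈ K := by
  obtain ⟨L1, L2, rfl⟩ := List.append_of_mem hc
  simp only [List.map_append, List.map_cons, List.prod_append, List.prod_cons, List.nodup_append, List.nodup_cons,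
    List.mem_map, List.mem_cons, ne_eq, forall_exists_index, and_imp] at hnd hp
  rwa [mul_mem_cancel_left (list_prod_mem fun _ hx => ?_), mul_mem_cancel_right (list_prod_mem fun _ hx => ?_)] at hp
  · obtain ⟨d, hd, rfl⟩ := List.mem_map.1 hx
    exact h d (by simp [hd]) fun e => hnd.2.1.1 ⟨d, hd, e⟩
  · obtain ⟨d, hd, rfl⟩ := List.mem_map.1 hx
    exact h d (by simp [hd]) (hnd.2.2 _ d hd rfl _ (.inl rfl))

theorem prod_div_mem {Γ ι : Type*} [Group Γ] {K Y : Subgroup Γ} (hC : ∀ y ∈ Y, ∀ u ∈ Y, u * y * u⁻¹ * y⁻¹ ∈ K)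
    (L : List ι) (f g : ι → Γ) (hf : ∀ c ∈ L, f c ∈ Y) (hg : ∀ c ∈ L, g c ∈ Y) (h1 : (L.map f).prod ∈ K)
    (h2 : (L.map g).prod ∈ K) : (L.map fun c => f c * (g c)⁻¹).prod ∈ K := by
  classical
  let ψ : Γ → Abelianization Y := fun x => if h : x ∈ Y then Abelianization.of ⟨x, h⟩ else 1
  have m : ∀ x ∈ Y, ∀ y ∈ Y, ψ (x * y) = ψ x * ψ y := fun x hx y hy => by
    simp only [ψ, dif_pos hx, dif_pos hy, dif_pos (mul_mem hx hy), ← map_mul]; rfl
  have mi : ∀ x ∈ Y, ψ x⁻¹ = (ψ x)⁻¹ := fun x hx => by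
    simp only [ψ, dif_pos hx, dif_pos (inv_mem hx), ← map_inv]; rfl
  have mp : ∀ (f : ι → Γ) (L : List ι), (∀ c ∈ L, f c ∈ Y) → (L.map f).prod ∈ Y ∧
      ψ (L.map f).prod = (L.map fun c => ψ (f c)).prod := fun f L h => by
    induction L with
    | nil => exact ⟨one_mem _, by simp only [List.map_nil, List.prod_nil, ψ, dif_pos (one_mem Y)]; exact map_one _⟩
    | cons a L ih =>
      have := ih fun c hc => h c (by simp [hc])
      simp only [List.map_cons, List.prod_cons]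
      exact ⟨mul_mem (h a (by simp)) this.1, by rw [m _ (h a (by simp)) _ this.1, this.2]⟩
  have k : ∀ x ∈ Y, ψ x = 1 → x ∈ K := fun x hx e => by
    simp only [ψ, dif_pos hx, ← MonoidHom.mem_ker, Abelianization.ker_of] at e
    exact (Subgroup.commutator_le (H₃ := K.subgroupOf Y)).2 (fun a _ b _ => hC b b.2 a a.2) e
  have hfg := fun c hc => mul_mem (hf c hc) (inv_mem (hg c hc))
  have := k _ (mul_mem (mul_mem (mp _ L hfg).1 (mp g L hg).1) (inv_mem (mp f L hf).1)) (by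
    rw [m _ (mul_mem (mp _ L hfg).1 (mp g L hg).1) _ (inv_mem (mp f L hf).1), m _ (mp _ L hfg).1 _ (mp g L hg).1,
      mi _ (mp f L hf).1, (mp _ L hfg).2, (mp g L hg).2, (mp f L hf).2, mul_inv_eq_one, ← List.prod_map_mul]
    exact congrArg _ (List.map_congr_left fun c hc => by
      rw [m _ (hf c hc) _ (inv_mem (hg c hc)), mi _ (hg c hc), inv_mul_cancel_right]))
  rwa [mul_mem_cancel_right (inv_mem h1), mul_mem_cancel_right h2] at this

theorem mem_of_sq {F : Type*} [Field F] [Finite F] (K : AddSubgroup F) (h : ∀ s, s ^ 2 ∈ K) (t : F) : t ∈ K := by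
  by_cases h2 : ringChar F = 2
  · obtain ⟨s, rfl⟩ := FiniteField.isSquare_of_char_two h2 t
    exact sq s ▸ h s
  · have := Ring.two_ne_zero h2
    convert sub_mem (h ((t + 1) / 2)) (h ((t - 1) / 2)) using 1
    field_simp
    ring

/-- separation of two roots by the torus -/
def RS.Sep {I R : Type} [Fintype I] [DecidableEq I] (Φ : RS I R) (A : Type*) [CommGroup A] (r s : R) : Prop :=
  ∃ c : I → A, Φ.ch s c = 1 ∧ Φ.ch r c ≠ 1

namespace PreSt.IsSt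
variable {I R : Type} [Fintype I] [DecidableEq I] {Φ : CD I R} {F : Type*} [Field F]
  {Γ : Type*} [Group Γ] {X : PreSt Φ F Γ} (hX : X.IsSt) (hM : X.Mult)
include hX

section
variable {K : Subgroup Γ} {S : Set R} (hH : ∀ c, ∀ k ∈ K, hX.hh hM c * k * (hX.hh hM c)⁻¹ ∈ K)
  (hC : ∀ y ∈ X.XS S, ∀ u ∈ X.XS S, u * y * u⁻¹ * y⁻¹ ∈ K)
include hH hC

theorem kill {ι : Type*} (r : R) (L : List ι) (ρ : ι → R) (hρ : ∀ c ∈ L, ρ c ∈ S) (T : List R)
    (hT : ∀ s ∈ T, Φ.Sep Fˣ r s) : ∃ m : R → F, m r ≠ 0 ∧ (∀ s ∈ T, m s = 0) ∧ ∀ a : ι → F,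
      (L.map fun c => X.x (ρ c) (a c)).prod ∈ K → (L.map fun c => X.x (ρ c) (m (ρ c) * a c)).prod ∈ K := by
  induction T with
  | nil => exact ⟨1, one_ne_zero, by simp, by simp⟩
  | cons s T ih =>
    obtain ⟨m, h1, h2, h3⟩ := ih fun s hs => hT s (by simp [hs])
    obtain ⟨c, h4, h5⟩ := hT s (by simp)
    refine ⟨fun s => (Φ.ch s c - 1) * m s, mul_ne_zero (sub_ne_zero.2 (by simpa using h5)) h1, fun t ht => ?_,
      fun a ha => ?_⟩
    · rcases List.mem_cons.1 ht with rfl | ht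
      · simp [h4]
      · simp [h2 t ht]
    have := hH c _ (h3 a ha)
    rw [← MulAut.conj_apply, map_list_prod, List.map_map] at this
    convert prod_div_mem hC L _ _ (fun d hd => ?_) (fun d hd => X.x_mem_XS (hρ d hd) _) this (h3 a ha) using 4 with d
    · simp only [Function.comp, MulAut.conj_apply, hX.hh_conj', X.x_inv, X.add]
      congr 1; ring
    · simp only [Function.comp, MulAut.conj_apply, hX.hh_conj']
      exact X.x_mem_XS (hρ d hd) _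

theorem kill' {ι : Type*} (L : List ι) (ρ : ι → R) (hρ : ∀ c ∈ L, ρ c ∈ S) (hnd : (L.map ρ).Nodup) {c : ι}
    (hc : c ∈ L) (h : ∀ d ∈ L, ρ d ≠ ρ c → (∀ t, X.x (ρ d) t ∈ K) ∨ Φ.Sep Fˣ (ρ c) (ρ d)) : ∃ e : F, e ≠ 0 ∧
      ∀ a : ι → F, (L.map fun c => X.x (ρ c) (a c)).prod ∈ K → X.x (ρ c) (e * a c) ∈ K := by
  classical
  obtain ⟨m, h1, h2, h3⟩ := hX.kill hM hH hC (ρ c) L ρ hρ ((L.map ρ).filter (Φ.Sep Fˣ (ρ c) ·)) (by simp)
  refine ⟨m (ρ c), h1, fun a ha => mem_of_prod_mem (fun c => X.x (ρ c) (m (ρ c) * a c)) hnd hc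
    (fun d hd e => ?_) (h3 a ha)⟩
  rcases h d hd e with h | h
  · exact h _
  · simp [h2 (ρ d) (by simpa [h] using ⟨d, hd, rfl⟩), one_mem]

end

variable [Finite R] [Finite F] (f : R → ℕ)
  (h1 : ∀ r, Φ.Pos r → (∀ i, r ≠ Φ.sim i) → ∃ a b, Φ.Pos a ∧ Φ.Pos b ∧ b ≠ a ∧ ((Φ.tm a b).map Prod.fst).Nodup ∧
    ∃ c ∈ Φ.tm a b, c.1 = r ∧ (c.2.1 = 1 ∨ c.2.1 = -1) ∧ c.2.2.1 = 1 ∧
      ∀ d ∈ Φ.tm a b, d.1 ≠ r → f r < f d.1 ∨ Φ.Sep Fˣ r d.1)
  (h2 : ∀ i j, j ≠ i → Φ.Sep Fˣ (Φ.sim i) (Φ.sim j))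
include h1 h2 hM

theorem UJ_le {K : Subgroup Γ} {J : Set I} (hH : ∀ c, ∀ k ∈ K, hX.hh hM c * k * (hX.hh hM c)⁻¹ ∈ K)
    (hC : ∀ y ∈ X.UJ J, ∀ u ∈ X.U, u * y * u⁻¹ * y⁻¹ ∈ K) (hA : ∀ i ∉ J, ∃ a ∈ K, a ∈ X.UJ J ∧ a ∉ X.UJ {i}) :
    X.UJ J ≤ K := by
  have hC' := fun y hy u hu => hC y hy u (X.UJ_le_U J hu)
  have key : ∀ r, Φ.Pos r ∧ ¬ Φ.InJ J r → (∀ i, r ≠ Φ.sim i) → ∀ t, X.x r t ∈ K := by
    by_contra! h
    obtain ⟨r, ⟨hr, hr', t, ht⟩, hm⟩ := Set.exists_max_image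
      {r | (Φ.Pos r ∧ ¬ Φ.InJ J r) ∧ (∀ i, r ≠ Φ.sim i) ∧ ∃ t, X.x r t ∉ K} f (Set.toFinite _) h
    obtain ⟨a, b, ha, hb, hab, hnd, c, hc, rfl, h3, h4, h5⟩ := h1 r hr.1 hr'
    have h6 := phi_tm (RS.phiJ J) hc
    have h7 := Φ.phiJ_pos_iff.2 hr
    have h8 := Φ.phiJ_nonneg (J := J) ha
    have h9 := Φ.phiJ_nonneg (J := J) hb
    have h10 : 0 < RS.phiJ J (Φ.rt a) + RS.phiJ J (Φ.rt b) := by
      by_contra h
      rw [h6, show RS.phiJ J (Φ.rt a) = 0 by omega, show RS.phiJ J (Φ.rt b) = 0 by omega] at h7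
      simp at h7
    have hS : ∀ d ∈ Φ.tm a b, Φ.Pos d.1 ∧ ¬ Φ.InJ J d.1 := fun d hd =>
      Φ.phiJ_pos_iff.1 (h10.trans_le (phi_tm_ge _ hd h8 h9))
    obtain ⟨e, he, h11⟩ := hX.kill' hM hH hC' (Φ.tm a b) Prod.fst hS hnd hc fun d hd hd' =>
      (h5 d hd hd').imp_left fun h t => by
        by_contra h'
        refine (hm d.1 ⟨hS d hd, fun i e => ?_, t, h'⟩).not_gt h
        have := phi_tm_ge RS.ht hd (Φ.ht_pos ha).le (Φ.ht_pos hb).le
        have := Φ.ht_pos ha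
        have := Φ.ht_pos hb
        have := Φ.ht_sim i
        rw [e] at *
        omega
    have h12 := fun t => h11 (fun c => (c.2.1 : F) * (-t) ^ c.2.2.1 * 1 ^ c.2.2.2) (by
      have := X.comm a b t 1 hab (ne_neg_of_phi RS.ht (add_pos (Φ.ht_pos ha) (Φ.ht_pos hb)))
      rw [← inv_mul_eq_iff_eq_mul] at this
      rw [← this]
      by_cases h : 0 < RS.phiJ J (Φ.rt a)
      · simpa [mul_assoc] using hC _ (inv_mem (X.x_mem_XS (Φ.phiJ_pos_iff.1 h) t)) _ (inv_mem (X.x_mem_U hb 1))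
      · simpa [mul_assoc] using inv_mem (hC _ (inv_mem (X.x_mem_XS (Φ.phiJ_pos_iff.1 (by omega)) 1)) _
          (inv_mem (X.x_mem_U ha t))))
    refine ht ?_
    convert h12 (-(c.2.1 * t / e)) using 2
    rcases h3 with h3 | h3 <;> simp [h3, h4] <;> field_simp
  refine X.XS_le.2 fun r hr t => ?_
  by_cases h : ∀ i, r ≠ Φ.sim i
  · exact key r hr h t
  simp only [ne_eq, not_forall, not_not] at h
  obtain ⟨i, rfl⟩ := h
  obtain ⟨a, ha, ha', ha''⟩ := hA i fun h => hr.2 (Φ.inJ_sim.2 h)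
  obtain ⟨v, rfl⟩ := X.exists_pl (fun r hr => hr.1) (by
    simpa [← Φ.phiJ_pos_iff, Int.lt_iff_add_one_le] using closed_phi (Φ := Φ) (RS.phiJ J) zero_le_one) ha'
  have hs := Φ.sl_spec {r | Φ.Pos r ∧ ¬ Φ.InJ J r}
  obtain ⟨e, he, h3⟩ := hX.kill' hM hH hC' (Φ.sl _) id (fun c hc => (hs.2.2 c).1 hc) (by simpa using hs.1)
    ((hs.2.2 _).2 hr) fun d hd hd' => by
      by_cases h : ∀ j, d ≠ Φ.sim j
      · exact .inl (key d ((hs.2.2 d).1 hd) h)
      · simp only [ne_eq, not_forall, not_not] at h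
        obtain ⟨j, rfl⟩ := h
        exact .inr (h2 i j fun e => hd' (by rw [e]))
  have h4 := h3 v ha
  have h5 : v (Φ.sim i) ≠ 0 := fun h => ha'' (X.pl_mem' fun r hr => by
    by_cases e : r = Φ.sim i
    · simp [e, h, one_mem]
    · rw [X.UJ_singleton]; exact X.x_mem_XS (by exact ⟨hr.1, e⟩) _)
  have := mem_of_sq ⟨⟨⟨{z | X.x (Φ.sim i) (z * (e * v (Φ.sim i))) ∈ K}, fun ha hb => by
      simpa [X.add, add_mul] using K.mul_mem ha hb⟩, by simp [one_mem]⟩, fun ha => by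
      simpa [X.x_inv] using K.inv_mem ha⟩ (fun s => by
    by_cases hs : s = 0
    · simp [hs, one_mem]
    · have := hH (RS.cv (Φ.co (Φ.sim i)) (Units.mk0 s hs)) _ h4
      rw [← hX.h_eq, hX.hconj _ _ _ (by simpa)] at this
      simpa [zpow_ofNat] using this) (t / (e * v (Φ.sim i)))
  simpa [he, h5] using this

theorem weakly_closed {A : Subgroup Γ} (hA : A ≤ X.U)
    (h : ∀ g ∈ X.G, (∀ a ∈ A, g * a * g⁻¹ ∈ X.U) → g ∈ Subgroup.normalizer (A : Set Γ)) : ∃ J, A = X.UJ J := by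
  have hB : X.B ≤ Subgroup.normalizer (A : Set Γ) := fun b hb =>
    h b (X.B_le_G hb) fun a ha => hX.B_conj_mem_U hb (hA ha)
  have hP := hX.eq_PJ (le_inf hB X.B_le_G) inf_le_right
  set J := {i | X.n (Φ.sim i) 1 ∈ Subgroup.normalizer (A : Set Γ) ⊓ X.G} with hJ
  have hle : A ≤ X.UJ J := fun a ha => by
    have := Fintype.ofFinite R
    obtain ⟨v, hv, hv'⟩ := RS.exists_top (Φ := Φ.toRS) {r | Φ.InJ J r}
    obtain ⟨n, hn, hn'⟩ : ∃ n ∈ X.PJ J, X.Act n v := by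
      clear hv'
      induction hv using Subgroup.closure_induction with
      | mem x hx =>
        obtain ⟨r, hr, rfl⟩ := hx
        exact ⟨_, hX.PJ_eq J ▸ Subgroup.mem_sup_right (X.n_mem_XS (.inr hr) (.inr (Φ.inJ_neg.2 hr)) 1),
          hX.act_n r one_ne_zero⟩
      | one => exact ⟨1, one_mem _, Act.one⟩
      | mul x y _ _ hx hy => exact hx.elim fun a ha => hy.elim fun b hb => ⟨_, mul_mem ha.1 hb.1, ha.2.mul hb.2⟩
      | inv x _ hx => exact hx.elim fun a ha => ⟨_, inv_mem ha.1, ha.2.inv⟩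
    obtain ⟨u, hu, u', hu', rfl⟩ := X.U_split {r | Φ.InJ J r} (hA ha)
    have h3 := hA (((Subgroup.mem_normalizer_iff.1 (hP ▸ hn :).1) _).1 ha)
    have h4 := X.UJ_le_U J (((Subgroup.mem_normalizer_iff.1 (hX.PJ_le_normalizer J hn)) _).1 hu')
    have h5 := hX.eq_one_of_mem_U_V (g := n * u * n⁻¹) (by simpa [mul_assoc] using mul_mem h3 (inv_mem h4))
      (hn'.conj_mem (fun r hr => hv' r hr.2 hr.1) hu)
    rw [conj_eq_one_iff.1 h5, one_mul]
    exact hu'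
  refine ⟨J, hle.antisymm ?_⟩
  have key : ∀ m : ℕ, X.UJ J ≤ A ⊔ X.XS {r | (m + 1 : ℤ) ≤ RS.ht (Φ.rt r)} := fun m => by
    have hU : X.U = X.XS {r | 1 ≤ RS.ht (Φ.rt r)} := X.U_eq
    induction m with
    | zero => exact (X.UJ_le_U J).trans (le_sup_of_le_right (by simp [hU]))
    | succ m ih =>
      refine hX.UJ_le hM f h1 h2 (fun c k hk => ?_) (fun y hy u hu => ?_) fun i hi => ?_
      · exact ((Subgroup.mem_normalizer_iff.1 (Subgroup.normalizer_inf_normalizer_le_normalizer_sup _ _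
          ⟨hB (X.H_le_B (hX.hh_mem hM c)), hX.H_le_normalizer _ (hX.hh_mem hM c)⟩)) _).1 hk
      · have := ih hy
        have h0 : X.U ≤ X.XS {r | 0 ≤ RS.ht (Φ.rt r)} := X.XS_mono fun r hr => (Φ.ht_pos hr).le
        have h0' := X.XS_le_normalizer_phi RS.ht (m := m + 1) (by omega)
        rw [← SetLike.mem_coe, Subgroup.coe_mul_of_left_le_normalizer_right _ _ (hA.trans (h0.trans h0'))] at this
        obtain ⟨a, ha, s, hs, rfl⟩ := this
        have h3 := ((Subgroup.mem_normalizer_iff.1 (hB (X.U_le_B hu))) _).1 ha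
        have h4 := X.comm_mem_phi RS.ht (by omega) one_pos hs (hU.le hu)
        rw [show u * (a * s) * u⁻¹ * (a * s)⁻¹ = u * a * u⁻¹ * (u * s * u⁻¹ * s⁻¹) * a⁻¹ by group]
        exact mul_mem (mul_mem (Subgroup.mem_sup_left h3) (Subgroup.mem_sup_right (by exact_mod_cast h4)))
          (Subgroup.mem_sup_left (inv_mem ha))
      · by_contra! h'
        refine hi ⟨h _ (X.n_mem_G _ _) fun a ha => X.UJ_le_U {i} (((Subgroup.mem_normalizer_iff.1
          (hX.PJ_le_normalizer {i} (Subgroup.mem_sup_right (X.n_mem_NJ rfl)))) _).1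
          (h' a (Subgroup.mem_sup_left ha) (hle ha))), X.n_mem_G _ _⟩
  obtain ⟨m, hm⟩ := (Set.finite_range fun r => RS.ht (Φ.rt r)).bddAbove
  have := key m.toNat
  rwa [show {r | (m.toNat + 1 : ℤ) ≤ RS.ht (Φ.rt r)} = ∅ from Set.eq_empty_of_forall_notMem fun r hr => by
    have := hm ⟨r, rfl⟩
    simp only [Set.mem_setOf_eq] at hr this
    omega, X.XS_empty, sup_bot_eq] at this

end PreSt.IsSt

end CfsgH6
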