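import Cfsg.Agent.H6.Wc1

/-! Weakly closed unipotent subgroups of Chevalley groups. -/

set_option autoImplicit false

universe u

namespace CfsgH6

open Finset PreSt Cfsg.Lie

namespace Chev

/-- separation of roots, from the tables -/
def SepT (T : FT) (n : ℕ) (ys : List (List ℤ)) (ks : List ℤ) (r s : ℕ) : Prop :=
  ∃ y ∈ ys, ∑ i : Fin n, y.getD i 0 * T.car i s = 0 ∧ ∑ i : Fin n, y.getD i 0 * T.car i r ∈ ks

instance (T : FT) (n : ℕ) (ys : List (List ℤ)) (ks : List ℤ) (r s : ℕ) : Decidable (SepT T n ys ks r s) :=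
  inferInstanceAs (Decidable (∃ y ∈ ys, _))

/-- a good commutator relation -/
def PairT (T : FT) (n : ℕ) (ys : List (List ℤ)) (ks : List ℤ) (r a b : ℕ) : Prop :=
  a < T.n ∧ b < T.n ∧ T.n / 2 ≤ a ∧ T.n / 2 ≤ b ∧ b ≠ a ∧ ((T.tm a b).map Prod.fst).Nodup ∧
    ∃ c ∈ T.tm a b, c.1 = r ∧ (c.2.1 = 1 ∨ c.2.1 = -1) ∧ c.2.2.1 = 1 ∧
      ∀ d ∈ T.tm a b, d.1 ≠ r → r < d.1 ∨ SepT T n ys ks r d.1

instance (T : FT) (n : ℕ) (ys : List (List ℤ)) (ks : List ℤ) (r a b : ℕ) : Decidable (PairT T n ys ks r a b) :=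
  inferInstanceAs (Decidable (_ ∧ _))

/-- certificate -/
def WcOk (T : FT) (n : ℕ) (ys : List (List ℤ)) (ks : List ℤ) (pa : List (ℕ × ℕ)) : Prop :=
  (∀ r < T.n, T.n / 2 ≤ r → (∃ i : Fin n, r = T.sim i) ∨
    PairT T n ys ks r (pa.getD (r - T.n / 2) (0, 0)).1 (pa.getD (r - T.n / 2) (0, 0)).2) ∧
  ∀ i j : Fin n, j ≠ i → SepT T n ys ks (T.sim i) (T.sim j)

instance (T : FT) (n : ℕ) (ys : List (List ℤ)) (ks : List ℤ) (pa : List (ℕ × ℕ)) : Decidable (WcOk T n ys ks pa) :=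
  inferInstanceAs (Decidable (_ ∧ _))

theorem Good.weakly_closed {D : ChevalleyDatum} (g : Good D) {F : Type*} [Field F] [Finite F] {ys : List (List ℤ)}
    {ks : List ℤ} {pa : List (ℕ × ℕ)} (h : WcOk g.T D.rank ys ks pa) (hk : ∀ k ∈ ks, ∃ t : Fˣ, t ^ k ≠ 1)
    (A : Subgroup (GL D.Idx F)) (hA : A ≤ D.posUnipotent F)
    (hw : ∀ x ∈ D.group F, A.map (MulAut.conj x).toMonoidHom ≤ D.posUnipotent F →
      A.map (MulAut.conj x).toMonoidHom = A) :
    ∃ J : Set ℕ, (∀ j ∈ J, j < D.rank) ∧ A = D.unipotentRadical F J := by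
  have sep : ∀ r s : Fin D.nroots, SepT g.T D.rank ys ks r s → g.cd.Sep Fˣ r s := fun r s ⟨y, _, h1, h2⟩ => by
    obtain ⟨t, ht⟩ := hk _ h2
    exact ⟨RS.cv (fun i : Fin D.rank => y.getD i 0) t, by rw [g.ch_eq, ca_cv]; exact (congrArg (t ^ ·) h1).trans (zpow_zero t),
      by rw [g.ch_eq, ca_cv]; exact ht⟩
  rw [g.U_eq, g.G_eq] at *
  refine ((g.isSt F).weakly_closed (g.mult F) Fin.val (fun r hr hr' => ?_) (fun i j hij => sep _ _ ?_) hA
    fun x hx h => ?_).elim fun J hJ => ⟨Fin.val '' J, by rintro _ ⟨j, -, rfl⟩; exact j.2, by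
      rw [g.UJ_eq, hJ]; congr 1; ext i; simp [Fin.val_inj]⟩
  · obtain ⟨i, hi⟩ | ⟨ha, hb, h1, h2, h3, h4, c, hc, h5, h6, h7, h8⟩ := h.1 r (g.ln r.2) (g.lh (g.pos_iff.1 hr))
    · exact absurd (Fin.ext (hi.trans (g.ag.sim _ i.2).symm)) (hr' i)
    generalize (pa.getD _ _).1 = a at *
    generalize (pa.getD _ _).2 = b at *
    rw [g.n_eq] at ha hb h1 h2
    rw [← g.commTerms_eq ha hb] at h4 hc h8
    have k : ∀ c ∈ D.commTerms a b, (Good.toF ⟨a, ha⟩ c.1 : ℕ) = c.1 := fun c hc => by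
      obtain ⟨-, -, h, -⟩ := g.commTerms_add (r := ⟨_, ha⟩) (s := ⟨_, hb⟩) hc
      rw [Good.toF_of_lt _ h]
    refine ⟨⟨a, ha⟩, ⟨b, hb⟩, g.pos_iff.2 h1, g.pos_iff.2 h2, fun e => h3 (congrArg Fin.val e), ?_, _,
      List.mem_map.2 ⟨c, hc, rfl⟩, Fin.ext ((k c hc).trans h5), h6, h7, fun d hd hd' => ?_⟩
    · refine List.Nodup.of_map Fin.val ?_
      simp only [Good.cd, List.map_map]
      exact List.map_congr_left k ▸ h4
    · obtain ⟨d, he, rfl⟩ := List.mem_map.1 hd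
      refine (h8 d he fun e => hd' (Fin.ext ((k d he).trans e))).imp (fun h => h.trans_eq (k d he).symm) fun h => ?_
      exact sep _ _ (by rwa [k d he])
  · rw [g.cd_sim, g.cd_sim, g.ag.sim _ i.2, g.ag.sim _ j.2]
    exact h.2 i j hij
  · have := hw x hx (Subgroup.map_le_iff_le_comap.2 h)
    exact Subgroup.mem_normalizer_iff.2 fun a => ⟨fun ha => this ▸ Subgroup.mem_map_of_mem _ ha, fun ha => by
      rw [← this] at ha
      obtain ⟨b, hb, e⟩ := ha
      rwa [← (MulAut.conj x).injective e]⟩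

theorem exists_pow_ne {F : Type*} [Field F] [Fintype F] {k : ℤ} (h : k ≠ 0 ∧ k.natAbs + 1 < Fintype.card F) :
    ∃ t : Fˣ, t ^ k ≠ 1 := by
  classical
  obtain ⟨t, ht⟩ := IsCyclic.exists_ofOrder_eq_natCard (α := Fˣ)
  refine ⟨t, fun e => ?_⟩
  have := Nat.le_of_dvd (by omega) (Int.natCast_dvd.1 (orderOf_dvd_iff_zpow_eq_one.2 e))
  rw [ht, Nat.card_units, Nat.card_eq_fintype_card] at this
  omega

theorem wcG2 : WcOk gG2.T chevG2.rank [[1, 1], [0, 1], [2, 3], [1, 2]] [1, -1, 2, -2]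
    [(0, 0), (0, 0), (6, 7), (6, 7), (6, 7), (10, 6)] := by decide +kernel
theorem wcB2 : WcOk gB2.T chevB2.rank [[1, 0], [1, 2], [1, 1]] [1, -1, 2, -2]
    [(0, 0), (0, 0), (4, 5), (4, 5)] := by decide +kernel
theorem wcD4 : WcOk gD4.T chevD4.rank [[0, 0, 0, 1], [0, 0, 1, 0], [0, 1, 1, 1], [1, 0, 0, 0]] [1, -1, 2, -2]
    [(0, 0), (0, 0), (0, 0), (12, 14), (13, 14), (15, 13), (0, 0), (14, 18), (15, 18), (16, 18), (17, 18), (22, 14)] := by decide +kernel
theorem wcF4 : WcOk gF4.T chevF4.rank [[0, 0, 1, 1], [0, 1, 2, 1], [0, 1, 2, 2], [1, 0, 0, 0]] [1, -1, 2, -2]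
    [(0, 0), (0, 0), (24, 25), (0, 0), (25, 27), (26, 27), (25, 27), (30, 24), (31, 25), (0, 0), (27, 33), (28, 33), (29, 33), (30, 33), (31, 33), (32, 33), (39, 27), (30, 33), (41, 24), (42, 25), (40, 33), (43, 27), (45, 25), (46, 24)] := by decide +kernel
theorem wcE6 : WcOk gE6.T chevE6.rank [[0, 0, 0, 0, 1, 1], [0, 0, 1, 1, 1, 1], [0, 1, 0, 1, 0, 0], [0, 1, 1, 2, 2, 1], [1, 0, 1, 0, 0, 0], [1, 0, 1, 1, 0, 0]] [1, -1]
    [(0, 0), (0, 0), (36, 37), (0, 0), (37, 39), (38, 39), (0, 0), (39, 42), (40, 42), (41, 42), (0, 0), (39, 46), (40, 46), (41, 46), (43, 46), (44, 46), (45, 46), (51, 39), (52, 39), (54, 37), (0, 0), (42, 56), (43, 56), (44, 56), (45, 56), (50, 56), (51, 56), (52, 56), (53, 56), (54, 56), (55, 56), (64, 42), (65, 42), (66, 42), (69, 39), (70, 46)] := by decide +kernel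
theorem wcE7 : WcOk gE7.T chevE7.rank [[0, 0, 0, 0, 0, 1, 1], [1, 0, 1, 0, 0, 0, 0], [0, 1, 0, 1, 1, 1, 1], [1, 0, 1, 1, 0, 0, 0], [0, 1, 1, 2, 2, 2, 1], [0, 0, 0, 0, 1, 0, 0]] [1, -1]
    [(0, 0), (0, 0), (63, 64), (0, 0), (64, 66), (65, 66), (0, 0), (66, 69), (67, 69), (68, 69), (0, 0), (69, 73), (70, 73), (71, 73), (72, 73), (0, 0), (69, 78), (70, 78), (71, 78), (72, 78), (74, 78), (75, 78), (76, 78), (77, 78), (84, 69), (85, 69), (86, 69), (88, 66), (89, 66), (91, 64), (0, 0), (73, 93), (74, 93), (75, 93), (76, 93), (77, 93), (83, 93), (84, 93), (85, 93), (86, 93), (87, 93), (88, 93), (89, 93), (90, 93), (91, 93), (92, 93), (103, 73), (104, 73), (105, 73), (106, 73), (107, 73), (108, 73), (112, 69), (113, 69), (114, 69), (117, 66), (115, 78), (116, 78), (117, 78), (118, 78), (122, 69), (123, 73), (124, 93)] := by decide +kernel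
theorem wcE8 : WcOk gE8.T chevE8.rank [[0, 0, 0, 0, 0, 1, 1, 0], [2, 2, 3, 5, 4, 3, 2, 1], [0, 1, 0, 1, 1, 0, 0, 0], [0, 1, 1, 2, 1, 1, 1, 0], [1, 0, 1, 1, 1, 1, 0, 0], [1, 1, 2, 2, 2, 2, 1, 0]] [1, -1]
    [(0, 0), (0, 0), (120, 121), (0, 0), (121, 123), (122, 123), (0, 0), (123, 126), (124, 126), (125, 126), (0, 0), (126, 130), (127, 130), (128, 130), (129, 130), (0, 0), (130, 135), (131, 135), (132, 135), (133, 135), (134, 135), (0, 0), (130, 141), (131, 141), (132, 141), (133, 141), (134, 141), (136, 141), (137, 141), (138, 141), (139, 141), (140, 141), (148, 130), (149, 130), (150, 130), (151, 130), (153, 126), (154, 126), (155, 126), (157, 123), (158, 123), (160, 121), (0, 0), (135, 162), (136, 162), (137, 162), (138, 162), (139, 162), (140, 162), (147, 162), (148, 162), (149, 162), (150, 162), (151, 162), (152, 162), (153, 162), (154, 162), (155, 162), (156, 162), (157, 162), (158, 162), (159, 162), (160,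 162), (161, 162), (174, 135), (175, 135), (176, 135), (177, 135), (178, 135), (179, 135), (180, 135), (181, 135), (182, 135), (183, 135), (188, 130), (189, 130), (190, 130), (191, 130), (192, 130), (193, 130), (197, 126), (198, 126), (199, 126), (202, 123), (194, 141), (195, 141), (196, 141), (197, 141), (198, 141), (199, 141), (200, 141), (201, 141), (202, 141), (203, 141), (210, 130), (211, 130), (212, 130), (213, 130), (217, 126), (214, 135), (215, 135), (216, 135), (217, 135), (218, 135), (223, 130), (224, 141), (219, 162), (220, 162), (221, 162), (222, 162), (223, 162), (224, 162), (231, 135), (225, 162), (232, 141), (234, 130), (235, 126), (236, 123), (237, 121), (238, 120)] := by decide +kernel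

end Chev

end CfsgH6
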